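import Cfsg.Agent.Lib.HeUnique.Rep

/-!
Elementary consequences of having coordinates on the centralizer of an involution.
-/

set_option autoImplicit false

namespace CfsgLib.HeUnique

variable {G : Type*} [Group G] {z : G} {ι : ℕ → G}

theorem fA_cmul {x y : ℕ} (hx : x < 65536) (hy : y < 65536) : fA (cmul x y) = mm (fA x) (fA y) :=
  (fields (xor_lt (fR_lt y) (vm_lt (fR_lt x) (fA_lt hy)))
    (xor_lt (fS_lt x) (mv_lt (fS_lt y) (fA_lt hx))) (Nat.mod_lt _ (by norm_num))).1

theorem fR_cmul {x y : ℕ} (hx : x < 65536) (hy : y < 65536) :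
    fR (cmul x y) = (fR y).xor (vm (fR x) (fA y)) :=
  (fields (xor_lt (fR_lt y) (vm_lt (fR_lt x) (fA_lt hy)))
    (xor_lt (fS_lt x) (mv_lt (fS_lt y) (fA_lt hx))) (Nat.mod_lt _ (by norm_num))).2.1

theorem fS_cmul {x y : ℕ} (hx : x < 65536) (hy : y < 65536) :
    fS (cmul x y) = (fS x).xor (mv (fA x) (fS y)) :=
  (fields (xor_lt (fR_lt y) (vm_lt (fR_lt x) (fA_lt hy)))
    (xor_lt (fS_lt x) (mv_lt (fS_lt y) (fA_lt hx))) (Nat.mod_lt _ (by norm_num))).2.2.1

theorem okA_of {x : ℕ} (hx : ok x = true) : okA (fA x) = true := by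
  simp only [ok, Bool.and_eq_true] at hx
  exact hx.2

theorem cmul_assoc {x y w : ℕ} (hx : ok x = true) (hy : ok y = true) (hw : ok w = true) :
    cmul (cmul x y) w = cmul x (cmul y w) := by
  have a := ok_lt hx; have b := ok_lt hy; have c := ok_lt hw
  refine mat_inj (cmul_lt (cmul_lt a b) c) (cmul_lt a (cmul_lt b c)) ?_
  rw [mat_mul (cmul_lt a b) c, mat_mul a b, mat_mul a (cmul_lt b c), mat_mul b c, mul_assoc]

theorem cmul_one {x : ℕ} (hx : ok x = true) : cmul x one = x ∧ cmul one x = x := by
  have a := ok_lt hx; have b := ok_lt ok_one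
  exact ⟨mat_inj (cmul_lt a b) a (by rw [mat_mul a b, mat_one, mul_one]),
    mat_inj (cmul_lt b a) a (by rw [mat_mul b a, mat_one, one_mul])⟩

theorem ok_conj {c x : ℕ} (hc : ok c = true) (hx : ok x = true) : ok (conj c x) = true :=
  ok_cmul (ok_cmul hc hx) (inv_facts hc).1

theorem theta_bij {x : ℕ} (hx : ok x = true) : ∃ y, ok y = true ∧ theta y = x := by
  have hi := (inv_facts hx).1
  refine ⟨tau (cinv x), ok_tau hi, ?_⟩
  have ht := tau_facts (ok_lt hi)
  have htt : tau (tau (cinv x)) = cinv x := by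
    refine mat_inj (tau_facts ht.1).1 (ok_lt hi) ?_
    rw [(tau_facts ht.1).2, ht.2]
    simp only [Matrix.transpose_submatrix, Matrix.transpose_transpose, Matrix.submatrix_submatrix,
      show flipI ∘ flipI = id from by decide, Matrix.submatrix_id_id]
  show cinv (tau (tau (cinv x))) = x
  rw [htt]
  refine mat_inj (ok_lt (inv_facts hi).1) (ok_lt hx) ?_
  calc mat (cinv (cinv x)) = (mat x * mat (cinv x)) * mat (cinv (cinv x)) := by
        rw [mat_inv hx, one_mul]
    _ = mat x := by rw [mul_assoc, mat_inv hi, mul_one]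

theorem theta_inj {x y : ℕ} (hx : ok x = true) (hy : ok y = true) (h : theta x = theta y) :
    x = y := by
  have hinv : ∀ {a b : ℕ}, ok a = true → ok b = true → cinv a = cinv b → a = b := by
    intro a b ha hb hab
    refine mat_inj (ok_lt ha) (ok_lt hb) ?_
    calc mat a = mat a * (mat (cinv b) * mat b) := by
          rw [mul_eq_one_comm.mp (mat_inv hb), mul_one]
      _ = mat b := by rw [← mul_assoc, ← hab, mat_inv ha, one_mul]
  have ht := hinv (ok_tau hx) (ok_tau hy) h
  refine mat_inj (ok_lt hx) (ok_lt hy) ?_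
  have e := congrArg (fun t => ((mat t).transpose).submatrix flipI flipI) ht
  simp only [(tau_facts (ok_lt hx)).2, (tau_facts (ok_lt hy)).2, Matrix.transpose_transpose,
    Matrix.submatrix_submatrix, show flipI ∘ flipI = id from by decide, Matrix.submatrix_id_id] at e
  exact e

namespace Rep

theorem theta' (R : Rep z ι) : Rep z (fun x => ι (theta x)) := by
  refine ⟨fun x y hx hy => ?_, ?_, fun x y hx hy h => ?_, ?_, fun g hg => ?_⟩
  · show ι (theta (cmul x y)) = _
    rw [(theta_cmul hx hy).2, R.hmul _ _ (theta_cmul hx hy).1 (theta_cmul hy hy).1]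
  · show ι (theta one) = 1
    rw [show theta one = one from by decide +kernel, R.hone]
  · exact theta_inj hx hy (R.inj _ _ (theta_cmul hx hx).1 (theta_cmul hy hy).1 h)
  · show ι (theta zc) = z
    rw [show theta zc = zc from by decide +kernel, R.z_eq]
  · obtain ⟨x, hx, rfl⟩ := R.surj g hg
    obtain ⟨y, hy, rfl⟩ := theta_bij hx
    exact ⟨y, hy, rfl⟩

theorem comm (R : Rep z ι) {x : ℕ} (hx : ok x = true) : ι x * z = z * ι x := by
  rw [← R.z_eq, ← R.hmul _ _ hx ok_zc, ← R.hmul _ _ ok_zc hx, zc_comm hx]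

theorem inv (R : Rep z ι) {x : ℕ} (hx : ok x = true) : ι (cinv x) = (ι x)⁻¹ := by
  refine eq_inv_of_mul_eq_one_right ?_
  rw [← R.hmul _ _ hx (inv_facts hx).1, (inv_facts hx).2, R.hone]

theorem conj_eq (R : Rep z ι) {c x : ℕ} (hc : ok c = true) (hx : ok x = true) :
    ι (conj c x) = ι c * ι x * (ι c)⁻¹ := by
  unfold conj
  rw [R.hmul _ _ (ok_cmul hc hx) (inv_facts hc).1, R.hmul _ _ hc hx, R.inv hc]

theorem commute_iff (R : Rep z ι) {x y : ℕ} (hx : ok x = true) (hy : ok y = true) :
    cmul x y = cmul y x ↔ ι x * ι y = ι y * ι x := by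
  rw [← R.hmul _ _ hx hy, ← R.hmul _ _ hy hx]
  exact ⟨congrArg ι, R.inj _ _ (ok_cmul hx hy) (ok_cmul hy hx)⟩

theorem isConj_conj (R : Rep z ι) {c x : ℕ} (hc : ok c = true) (hx : ok x = true)
    (h : IsConj z (ι x)) : IsConj z (ι (conj c x)) := by
  rw [R.conj_eq hc hx]
  exact h.trans (isConj_iff.mpr ⟨ι c, rfl⟩)

end Rep

theorem evW_ok {t : List ℕ} (ht : ∀ g ∈ t, ok g = true) (w : List ℕ) : ok (evW w t) = true := by
  induction w using List.reverseRecOn with
  | nil => exact ok_one
  | append_singleton w i ih =>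
    rw [evW, List.foldl_append]
    refine ok_cmul ih ?_
    rw [List.getD_eq_getElem?_getD]
    rcases hi : t[i]? with _ | a
    · exact ok_one
    · exact ht a (List.mem_of_getElem? hi)

theorem evW_congr {t u : List ℕ} {w : List ℕ} (h : ∀ i ∈ w, t.getD i one = u.getD i one) :
    evW w t = evW w u := by
  induction w using List.reverseRecOn with
  | nil => rfl
  | append_singleton w i ih =>
    simp only [evW, List.foldl_append, List.foldl_cons, List.foldl_nil]
    rw [h i (by simp)]
    exact congrArg (fun r => cmul r _) (ih fun j hj => h j (by simp [hj]))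

/-- Evaluation commutes with a multiplicative map. -/
theorem evW_map (R : Rep z ι) {s : G} {t u : List ℕ} (hlen : t.length = u.length)
    (ht : ∀ g ∈ t, ok g = true) (hu : ∀ g ∈ u, ok g = true)
    (h : ∀ i < t.length, s * ι (t.getD i one) * s⁻¹ = ι (u.getD i one)) (w : List ℕ) :
    s * ι (evW w t) * s⁻¹ = ι (evW w u) := by
  induction w using List.reverseRecOn with
  | nil => simp [evW, R.hone]
  | append_singleton w i ih =>
    have e : ∀ v : List ℕ, evW (w ++ [i]) v = cmul (evW w v) (v.getD i one) := fun v => by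
      simp [evW, List.foldl_append]
    have hget : ∀ v : List ℕ, (∀ g ∈ v, ok g = true) → ok (v.getD i one) = true := fun v hv => by
      rw [List.getD_eq_getElem?_getD]
      rcases hi : v[i]? with _ | a
      · exact ok_one
      · exact hv a (List.mem_of_getElem? hi)
    rw [e, e, R.hmul _ _ (evW_ok ht w) (hget t ht), R.hmul _ _ (evW_ok hu w) (hget u hu), ← ih]
    have hi : s * ι (t.getD i one) * s⁻¹ = ι (u.getD i one) := by
      by_cases hi : i < t.length
      · exact h i hi
      · rw [List.getD_eq_default _ _ (by omega), List.getD_eq_default _ _ (by omega), R.hone]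
        simp
    rw [← hi]
    group

theorem mem_all {α : Type*} {l : List α} {f : α → Bool} (h : l.all f = true) {a : α} (ha : a ∈ l) :
    f a = true :=
  List.all_eq_true.mp h a ha

theorem range_all {n : ℕ} {f : ℕ → Bool} (h : (List.range n).all f = true) {i : ℕ} (hi : i < n) :
    f i = true :=
  List.all_eq_true.mp h i (List.mem_range.mpr hi)

theorem up_spec {f : ℕ → Bool} {n k : ℕ}
    (h : CosetEnum.allUp (fun m => bif decide (m < n) then f m else true) k 0 = true) (hn : n ≤ 2 ^ k)
    {m : ℕ} (hm : m < n) : f m = true := by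
  have := CosetEnum.allUp_spec h m (Nat.zero_le _) (by omega)
  simpa [hm] using this

end CfsgLib.HeUnique
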