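import Cfsg.Agent.Lib.HeUnique.Model

/-!
Derivations of equations between products of coded elements and two involutions.

An edge fact says `W i * c * σ k = g * W j * d`, a stabiliser fact says `W i * c = g * W i`; here
`W` lists the representatives of the double cosets met during the derivation.
-/

set_option autoImplicit false

namespace CfsgLib.HeUnique

/-- A binary tree indexed by low bits. -/
inductive Tree (α : Type) where
  | leaf (a : α)
  | node (l r : Tree α)

/-- Entry of a tree. -/
def Tree.get {α : Type} : Tree α → ℕ → α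
  | .leaf a, _ => a
  | .node l r, i => bif i % 2 == 0 then l.get (i / 2) else r.get (i / 2)

/-- A fact: `tag` is `0` for an edge and `1` for a stabiliser. -/
structure Fct where
  /-- the kind -/
  tag : ℕ
  /-- the node -/
  i : ℕ
  /-- the element after the node -/
  c : ℕ
  /-- the involution -/
  k : ℕ
  /-- the element in front -/
  g : ℕ
  /-- the target node -/
  j : ℕ
  /-- the element after the target -/
  d : ℕ

/-- Witness of a step: stabiliser fact, edge fact and table index. -/
structure Wit where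
  /-- stabiliser fact -/
  s : ℕ
  /-- edge fact -/
  e : ℕ
  /-- table entry -/
  kk : ℕ

/-- Reasons for facts. -/
inductive Why where
  | base
  | unit
  | dfn
  | mul (a b : ℕ)
  | inv (e : ℕ)
  | sync (w : Wit)
  | fill (r rot pos : ℕ) (back : List ℕ) (i0 c0 : ℕ) (w1 w2 : List Wit)
  | close (r rot c0 : ℕ) (w : List Wit)

/-- A derivation. -/
structure Cert where
  /-- the facts -/
  facts : Tree (Fct × Why)
  /-- their number -/
  n : ℕ
  /-- definitions of the representatives -/
  defs : List (ℕ × ℕ × ℕ)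
  /-- the table of the first involution -/
  tab0 : Tree (ℕ × ℕ)
  /-- the table of the second involution -/
  tab1 : Tree (ℕ × ℕ)
  /-- the length of the tables -/
  tn : ℕ
  /-- the relators -/
  rels : List (List ℕ)

/-- A state: front element, node, element after it. -/
abbrev St := ℕ × ℕ × ℕ

namespace Cert

variable (C : Cert)

/-- Fact `i`. -/
def fct (i : ℕ) : Fct := (C.facts.get i).1

/-- Table entry. -/
def ent (k m : ℕ) : ℕ × ℕ := bif k == 0 then C.tab0.get m else C.tab1.get m

/-- Conditions on the witness of a step. -/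
def witOK (bound i k : ℕ) (w : Wit) : Bool :=
  decide (w.s < bound) && decide (w.e < bound) && decide (w.kk < C.tn) && (C.fct w.s).tag == 1 &&
    (C.fct w.e).tag == 0 && (C.fct w.s).i == i && (C.fct w.e).i == i && (C.fct w.e).k == k &&
    ok (C.ent k w.kk).1 && ok (C.ent k w.kk).2

/-- One step by an involution. -/
def stepE (bound k : ℕ) (st : St) (w : Wit) : Option St :=
  bif C.witOK bound st.2.1 k w &&
      st.2.2 == cmul (cmul (C.fct w.s).c (C.fct w.e).c) (C.ent k w.kk).1 then
    some (cmul (cmul st.1 (C.fct w.s).g) (C.fct w.e).g, (C.fct w.e).j,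
      cmul (C.fct w.e).d (C.ent k w.kk).2)
  else none

/-- A walk along a word. -/
def walk (bound : ℕ) : List ℕ → List Wit → St → Option St
  | [], [], st => some st
  | [], _ :: _, _ => none
  | t :: ts, ws, st =>
    bif decide (t < 65536) then
      (bif ok t then walk bound ts ws (st.1, st.2.1, cmul st.2.2 t) else none)
    else
      match ws with
      | [] => none
      | w :: ws =>
        bif decide (t - 65536 < 2) then
          match C.stepE bound (t - 65536) st w with
          | none => none
          | some st' => walk bound ts ws st'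
        else none

/-- The entries of `b` are the inverses of those of `a`. -/
def invOK : List ℕ → List ℕ → Bool
  | [], [] => true
  | x :: xs, y :: ys =>
    (bif decide (x < 65536) then ok x && decide (y < 65536) && ok y && cmul x y == one
      else decide (x - 65536 < 2) && y == x) && invOK xs ys
  | _, _ => false

/-- The fields are codes. -/
def okF (f : Fct) : Bool := ok f.c && ok f.g && ok f.d && decide (f.k < 2) && decide (f.tag < 2)

/-- The check of one fact. -/
def factOK (idx : ℕ) : Bool :=
  let f := (C.facts.get idx).1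
  okF f &&
  match (C.facts.get idx).2 with
  | .base => f.tag == 1 && f.i == 0 && f.g == f.c
  | .unit => f.tag == 1 && f.c == one && f.g == one
  | .dfn => f.tag == 0 && f.g == one && f.d == one && decide (f.i < f.j) &&
      decide (f.j ≤ C.defs.length) && decide (C.defs.getD (f.j - 1) (0, 0, 0) = (f.i, f.c, f.k))
  | .mul a b => f.tag == 1 && decide (a < idx) && decide (b < idx) && (C.fct a).tag == 1 &&
      (C.fct b).tag == 1 && (C.fct a).i == f.i && (C.fct b).i == f.i &&
      f.c == cmul (C.fct a).c (C.fct b).c && f.g == cmul (C.fct a).g (C.fct b).g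
  | .inv e => f.tag == 0 && decide (e < idx) && (C.fct e).tag == 0 && f.i == (C.fct e).j &&
      f.c == (C.fct e).d && f.k == (C.fct e).k && f.j == (C.fct e).i && f.d == (C.fct e).c &&
      cmul (C.fct e).g f.g == one
  | .sync w => f.tag == 1 && C.witOK idx (C.fct w.e).i (C.fct w.e).k w && f.i == (C.fct w.e).j &&
      cmul (C.fct w.s).c (C.fct w.e).c ==
        cmul (C.fct w.e).c (C.ent (C.fct w.e).k w.kk).1 &&
      cmul f.c (C.fct w.e).d == cmul (C.fct w.e).d (C.ent (C.fct w.e).k w.kk).2 &&
      cmul (C.fct w.e).g f.g == cmul (C.fct w.s).g (C.fct w.e).g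
  | .fill r rot pos back i0 c0 w1 w2 => f.tag == 0 && ok c0 && decide (r < C.rels.length) &&
      (match C.walk idx (((C.rels.getD r []).rotate rot).take pos) w1 (one, i0, c0),
          C.walk idx back w2 (one, i0, c0) with
      | some (gf, u, cu), some (gb, v, cv) =>
        decide (((C.rels.getD r []).rotate rot).drop pos =
            (65536 + f.k) :: ((C.rels.getD r []).rotate rot).drop (pos + 1)) &&
          invOK (((C.rels.getD r []).rotate rot).drop (pos + 1)).reverse back &&
          u == f.i && cu == f.c && v == f.j && cv == f.d && cmul gf f.g == gb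
      | _, _ => false)
  | .close r rot c0 w => f.tag == 1 && ok c0 && decide (r < C.rels.length) &&
      (match C.walk idx ((C.rels.getD r []).rotate rot) w (one, f.i, c0) with
      | some (gf, u, cu) => u == f.i && cu == cmul f.c c0 && cmul gf f.g == one
      | none => false)

/-- The check of all facts. -/
def factsOK : Bool := (List.range C.n).all C.factOK

/-- A word is equal to a coded element. -/
def evalOK (steps : List ℕ) (w : List Wit) (c : ℕ) : Bool :=
  match C.walk C.n steps w (one, 0, one) with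
  | some (g, u, cu) => u == 0 && cmul g cu == c
  | none => false

/-- Two facts contradicting each other. -/
def contraOK (a b : ℕ) : Bool :=
  decide (a < C.n) && decide (b < C.n) && (C.fct a).tag == 1 &&
    (((C.fct a).i == 0 && !((C.fct a).c == (C.fct a).g)) ||
      ((C.fct a).c == one && !((C.fct a).g == one)) ||
      ((C.fct b).tag == 1 && (C.fct a).i == (C.fct b).i && (C.fct a).c == (C.fct b).c &&
        !((C.fct a).g == (C.fct b).g)))

end Cert

/-! ### Soundness -/

variable {G : Type*} [Group G] (ι : ℕ → G) (σ : ℕ → G)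

/-- Value of a letter. -/
def val (t : ℕ) : G := if t < 65536 then ι t else σ (t - 65536)

/-- Value of a word. -/
def wval (w : List ℕ) : G := (w.map (val ι σ)).prod

/-- The representatives. -/
def wl (defs : List (ℕ × ℕ × ℕ)) : List G :=
  defs.foldl (fun l d => l ++ [l.getD d.1 1 * ι d.2.1 * σ d.2.2]) [1]

theorem wl_concat (defs : List (ℕ × ℕ × ℕ)) (d : ℕ × ℕ × ℕ) :
    wl ι σ (defs ++ [d]) = wl ι σ defs ++ [(wl ι σ defs).getD d.1 1 * ι d.2.1 * σ d.2.2] := by
  simp [wl]

theorem wl_length (defs : List (ℕ × ℕ × ℕ)) : (wl ι σ defs).length = defs.length + 1 := by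
  induction defs using List.reverseRecOn with
  | nil => rfl
  | append_singleton l d ih => simp [wl_concat, ih]

theorem wl_zero (defs : List (ℕ × ℕ × ℕ)) : (wl ι σ defs).getD 0 1 = 1 := by
  induction defs using List.reverseRecOn with
  | nil => rfl
  | append_singleton l d ih =>
    rw [wl_concat, List.getD_append _ _ _ _ (by rw [wl_length]; omega), ih]

theorem wl_spec (defs : List (ℕ × ℕ × ℕ)) {j i c k : ℕ} (hj : j < defs.length)
    (hd : defs.getD j (0, 0, 0) = (i, c, k)) (hi : i ≤ j) :
    (wl ι σ defs).getD i 1 * ι c * σ k = (wl ι σ defs).getD (j + 1) 1 := by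
  induction defs using List.reverseRecOn with
  | nil => simp at hj
  | append_singleton l d ih =>
    have hl := wl_length ι σ l
    rw [wl_concat]
    rcases Nat.lt_or_ge j l.length with h | h
    · rw [List.getD_append _ _ _ _ h] at hd
      rw [List.getD_append _ _ _ _ (by omega), List.getD_append _ _ _ _ (by omega)]
      exact ih h hd
    · have hjl : j = l.length := by simp at hj; omega
      subst hjl
      rw [List.getD_append_right _ _ _ _ (le_refl _)] at hd
      simp at hd
      subst hd
      rw [List.getD_append _ _ _ _ (by omega), List.getD_append_right _ _ _ _ (by omega)]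
      simp [hl]

/-- The hypotheses under which a derivation is sound. -/
structure Sound (C : Cert) : Prop where
  hmul : ∀ x y, ok x = true → ok y = true → ι (cmul x y) = ι x * ι y
  hone : ι one = 1
  hsq : ∀ k < 2, σ k * σ k = 1
  htab : ∀ k < 2, ∀ m < C.tn, ι (C.ent k m).1 * σ k = σ k * ι (C.ent k m).2
  hrel : ∀ r < C.rels.length, wval ι σ (C.rels.getD r []) = 1

variable {ι σ} {C : Cert}

/-- The meaning of a fact. -/
def Holds (C : Cert) (ι σ : ℕ → G) (f : Fct) : Prop :=
  if f.tag = 0 then
    (wl ι σ C.defs).getD f.i 1 * ι f.c * σ f.k = ι f.g * (wl ι σ C.defs).getD f.j 1 * ι f.d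
  else (wl ι σ C.defs).getD f.i 1 * ι f.c = ι f.g * (wl ι σ C.defs).getD f.i 1

/-- The element of a state. -/
def stVal (C : Cert) (ι σ : ℕ → G) (st : St) : G :=
  ι st.1 * (wl ι σ C.defs).getD st.2.1 1 * ι st.2.2

/-- A state made of codes. -/
def StOK (st : St) : Prop := ok st.1 = true ∧ ok st.2.2 = true

theorem wit_spec {bound i k : ℕ} {w : Wit} (h : C.witOK bound i k w = true) :
    w.s < bound ∧ w.e < bound ∧ w.kk < C.tn ∧ (C.fct w.s).tag = 1 ∧ (C.fct w.e).tag = 0 ∧
      (C.fct w.s).i = i ∧ (C.fct w.e).i = i ∧ (C.fct w.e).k = k ∧ ok (C.ent k w.kk).1 = true ∧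
      ok (C.ent k w.kk).2 = true := by
  simpa [Cert.witOK, and_assoc] using h

theorem stepE_spec (S : Sound ι σ C) {bound : ℕ} (hF : ∀ m < bound, Cert.okF (C.fct m) = true ∧
    Holds C ι σ (C.fct m)) {k : ℕ} (hk : k < 2) {st st' : St} (hst : StOK st) {w : Wit}
    (h : C.stepE bound k st w = some st') :
    StOK st' ∧ stVal C ι σ st * σ k = stVal C ι σ st' := by
  unfold Cert.stepE at h
  cases hc : (C.witOK bound st.2.1 k w &&
      st.2.2 == cmul (cmul (C.fct w.s).c (C.fct w.e).c) (C.ent k w.kk).1) with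
  | false => simp [hc] at h
  | true =>
    rw [hc] at h
    simp only [cond_true, Option.some.injEq] at h
    subst h
    rw [Bool.and_eq_true, beq_iff_eq] at hc
    obtain ⟨hs, he, hm, hts, hte, hsi, hei, hek, oa, ob⟩ := wit_spec hc.1
    obtain ⟨os, Hs⟩ := hF _ hs
    obtain ⟨oe, He⟩ := hF _ he
    simp only [Cert.okF, Bool.and_eq_true, decide_eq_true_eq] at os oe
    simp only [Holds, hts, hte, hsi, hei, hek, if_true, one_ne_zero, if_false] at Hs He
    refine ⟨⟨ok_cmul (ok_cmul hst.1 os.1.1.1.2) oe.1.1.1.2, ok_cmul oe.1.1.2 ob⟩, ?_⟩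
    simp only [stVal]
    rw [hc.2, S.hmul _ _ (ok_cmul os.1.1.1.1 oe.1.1.1.1) oa, S.hmul _ _ os.1.1.1.1 oe.1.1.1.1,
      S.hmul _ _ (ok_cmul hst.1 os.1.1.1.2) oe.1.1.1.2, S.hmul _ _ hst.1 os.1.1.1.2,
      S.hmul _ _ oe.1.1.2 ob]
    calc ι st.1 * (wl ι σ C.defs).getD st.2.1 1 *
          (ι (C.fct w.s).c * ι (C.fct w.e).c * ι (C.ent k w.kk).1) * σ k
        = ι st.1 * ((wl ι σ C.defs).getD st.2.1 1 * ι (C.fct w.s).c) *
          ι (C.fct w.e).c * (ι (C.ent k w.kk).1 * σ k) := by group
      _ = ι st.1 * ι (C.fct w.s).g * ((wl ι σ C.defs).getD st.2.1 1 * ι (C.fct w.e).c * σ k) *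
          ι (C.ent k w.kk).2 := by rw [Hs, S.htab k hk _ hm]; group
      _ = _ := by rw [He]; group

theorem walk_spec (S : Sound ι σ C) {bound : ℕ} (hF : ∀ m < bound, Cert.okF (C.fct m) = true ∧
    Holds C ι σ (C.fct m)) : ∀ (ts : List ℕ) (ws : List Wit) {st st' : St}, StOK st →
    C.walk bound ts ws st = some st' → StOK st' ∧ stVal C ι σ st * wval ι σ ts = stVal C ι σ st'
  | [], [], st, st', hst, h => by
    simp only [Cert.walk, Option.some.injEq] at h
    subst h
    exact ⟨hst, by simp [wval]⟩
  | [], _ :: _, st, st', _, h => by simp [Cert.walk] at h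
  | t :: ts, ws, st, st', hst, h => by
    rw [Cert.walk.eq_def] at h
    simp only at h
    by_cases ht : t < 65536
    · rw [decide_eq_true ht, cond_true] at h
      cases hot : ok t with
      | false => simp [hot] at h
      | true =>
        rw [hot, cond_true] at h
        have hst1 : StOK (st.1, st.2.1, cmul st.2.2 t) := ⟨hst.1, ok_cmul hst.2 hot⟩
        obtain ⟨h1, h2⟩ := walk_spec S hF ts ws hst1 h
        refine ⟨h1, ?_⟩
        rw [← h2]
        simp [stVal, wval, val, ht, S.hmul _ _ hst.2 hot, mul_assoc]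
    · rw [decide_eq_false ht, cond_false] at h
      cases ws with
      | nil => simp at h
      | cons w ws =>
        simp only at h
        by_cases ht2 : t - 65536 < 2
        · rw [decide_eq_true ht2, cond_true] at h
          cases hs : C.stepE bound (t - 65536) st w with
          | none => simp [hs] at h
          | some st1 =>
            rw [hs] at h
            obtain ⟨o1, e1⟩ := stepE_spec S hF ht2 hst hs
            obtain ⟨h1, h2⟩ := walk_spec S hF ts ws o1 h
            refine ⟨h1, ?_⟩
            rw [← h2, ← e1]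
            simp [wval, val, ht, mul_assoc]
        · rw [decide_eq_false ht2, cond_false] at h
          simp at h

theorem invOK_spec (S : Sound ι σ C) : ∀ {a b : List ℕ}, Cert.invOK a b = true →
    wval ι σ a.reverse * wval ι σ b = 1
  | [], [], _ => by simp [wval]
  | x :: xs, y :: ys, h => by
    simp only [Cert.invOK, Bool.and_eq_true] at h
    obtain ⟨hxy, hr⟩ := h
    have ih := invOK_spec S hr
    have e : val ι σ x * val ι σ y = 1 := by
      by_cases hx : x < 65536
      · rw [decide_eq_true hx, cond_true] at hxy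
        simp only [Bool.and_eq_true, decide_eq_true_eq, beq_iff_eq] at hxy
        simp [val, hx, hxy.1.1.2, ← S.hmul _ _ hxy.1.1.1 hxy.1.2, hxy.2, S.hone]
      · rw [decide_eq_false hx, cond_false] at hxy
        simp only [Bool.and_eq_true, decide_eq_true_eq, beq_iff_eq] at hxy
        obtain ⟨hk, rfl⟩ := hxy
        simp [val, hx, S.hsq _ hk]
    simp only [wval, List.reverse_cons, List.map_append, List.map_cons, List.map_nil,
      List.prod_append, List.prod_cons, List.prod_nil, mul_one] at ih ⊢
    calc _ = ((xs.reverse.map (val ι σ)).prod * (val ι σ x * val ι σ y)) *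
          (ys.map (val ι σ)).prod := by group
      _ = 1 := by rw [e, mul_one, ih]
  | [], _ :: _, h => by simp [Cert.invOK] at h
  | _ :: _, [], h => by simp [Cert.invOK] at h

theorem wval_rotate {w : List ℕ} (h : wval ι σ w = 1) (n : ℕ) : wval ι σ (w.rotate n) = 1 := by
  unfold wval at *
  rw [List.map_rotate]
  exact List.prod_rotate_eq_one_of_prod_eq_one h n

theorem facts_hold (S : Sound ι σ C) (h : C.factsOK = true) :
    ∀ idx < C.n, Cert.okF (C.fct idx) = true ∧ Holds C ι σ (C.fct idx) := by
  intro idx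
  induction idx using Nat.strong_induction_on with
  | _ idx ih =>
    intro hidx
    have hchk : C.factOK idx = true := List.all_eq_true.mp h idx (List.mem_range.mpr hidx)
    have hF : ∀ m < idx, Cert.okF (C.fct m) = true ∧ Holds C ι σ (C.fct m) :=
      fun m hm => ih m hm (hm.trans hidx)
    unfold Cert.factOK at hchk
    simp only [Bool.and_eq_true] at hchk
    obtain ⟨hof, hchk⟩ := hchk
    refine ⟨hof, ?_⟩
    have hfo : ok (C.fct idx).c = true ∧ ok (C.fct idx).g = true ∧ ok (C.fct idx).d = true ∧
        (C.fct idx).k < 2 := by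
      simp only [Cert.okF, Bool.and_eq_true, decide_eq_true_eq] at hof
      exact ⟨hof.1.1.1.1, hof.1.1.1.2, hof.1.1.2, hof.1.2⟩
    obtain ⟨oc, og, od, hk⟩ := hfo
    have hdata : C.facts.get idx = (C.fct idx, (C.facts.get idx).2) := rfl
    generalize hwhy : (C.facts.get idx).2 = why at hchk hdata
    rw [show (C.facts.get idx).1 = C.fct idx from rfl] at hchk
    generalize hf : C.fct idx = f at hchk oc og od hk ⊢
    cases why with
    | base =>
      simp only [Bool.and_eq_true, beq_iff_eq] at hchk
      simp [Holds, hchk.1.1, hchk.1.2, hchk.2, wl_zero, -List.getD_eq_getElem?_getD]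
    | unit =>
      simp only [Bool.and_eq_true, beq_iff_eq] at hchk
      simp [Holds, hchk.1.1, hchk.1.2, hchk.2, S.hone]
    | dfn =>
      simp only [Bool.and_eq_true, beq_iff_eq, decide_eq_true_eq] at hchk
      obtain ⟨⟨⟨⟨⟨ht, hg⟩, hd⟩, hij⟩, hj⟩, hdef⟩ := hchk
      have := wl_spec ι σ C.defs (j := f.j - 1) (by omega) hdef (by omega)
      rw [show f.j - 1 + 1 = f.j by omega] at this
      simp [Holds, ht, hg, hd, S.hone, this, -List.getD_eq_getElem?_getD]
    | mul a b =>
      simp only [Bool.and_eq_true, beq_iff_eq, decide_eq_true_eq] at hchk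
      obtain ⟨⟨⟨⟨⟨⟨⟨⟨ht, ha⟩, hb⟩, hta⟩, htb⟩, hai⟩, hbi⟩, hc⟩, hg⟩ := hchk
      obtain ⟨oa, Ha⟩ := hF a ha
      obtain ⟨ob, Hb⟩ := hF b hb
      simp only [Cert.okF, Bool.and_eq_true, decide_eq_true_eq] at oa ob
      simp only [Holds, hta, htb, one_ne_zero, if_false, hai, hbi] at Ha Hb
      simp only [Holds, ht, one_ne_zero, if_false, hc, hg, S.hmul _ _ oa.1.1.1.1 ob.1.1.1.1,
        S.hmul _ _ oa.1.1.1.2 ob.1.1.1.2]
      rw [← mul_assoc, Ha, mul_assoc, Hb, ← mul_assoc]
    | inv e =>
      simp only [Bool.and_eq_true, beq_iff_eq, decide_eq_true_eq] at hchk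
      obtain ⟨⟨⟨⟨⟨⟨⟨⟨ht, he⟩, hte⟩, hi⟩, hc⟩, hkk⟩, hj⟩, hd⟩, hg⟩ := hchk
      obtain ⟨oe, He⟩ := hF e he
      simp only [Cert.okF, Bool.and_eq_true, decide_eq_true_eq] at oe
      simp only [Holds, hte, if_true] at He
      have hgg := congrArg ι hg
      rw [S.hmul _ _ oe.1.1.1.2 og, S.hone] at hgg
      simp only [Holds, ht, if_true, hi, hc, hkk, hj, hd, eq_inv_of_mul_eq_one_right hgg]
      rw [mul_assoc (ι (C.fct e).g)⁻¹, eq_inv_mul_iff_mul_eq, ← mul_assoc, ← mul_assoc, ← He,
        mul_assoc, S.hsq _ oe.1.2, mul_one]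
    | sync w =>
      simp only [Bool.and_eq_true, beq_iff_eq] at hchk
      obtain ⟨⟨⟨⟨⟨ht, hw⟩, hi⟩, h1⟩, h2⟩, h3⟩ := hchk
      obtain ⟨hs, he, hm, hts, hte, hsi, -, -, oa, ob⟩ := wit_spec hw
      obtain ⟨os, Hs⟩ := hF _ hs
      obtain ⟨oe, He⟩ := hF _ he
      simp only [Cert.okF, Bool.and_eq_true, decide_eq_true_eq] at os oe
      simp only [Holds, hts, hte, one_ne_zero, if_false, if_true, hsi] at Hs He
      have E1 := congrArg ι h1
      rw [S.hmul _ _ os.1.1.1.1 oe.1.1.1.1, S.hmul _ _ oe.1.1.1.1 oa] at E1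
      have E2 := congrArg ι h2
      rw [S.hmul _ _ oc oe.1.1.2, S.hmul _ _ oe.1.1.2 ob] at E2
      have E3 := congrArg ι h3
      rw [S.hmul _ _ oe.1.1.1.2 og, S.hmul _ _ os.1.1.1.2 oe.1.1.1.2] at E3
      simp only [Holds, ht, one_ne_zero, if_false, hi]
      generalize (wl ι σ C.defs).getD (C.fct w.e).i 1 = Wi at Hs He
      generalize (wl ι σ C.defs).getD (C.fct w.e).j 1 = Wj at He ⊢
      have T := S.htab _ oe.1.2 _ hm
      apply mul_left_cancel (a := ι (C.fct w.e).g)
      apply mul_right_cancel (b := ι (C.fct w.e).d)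
      calc ι (C.fct w.e).g * (Wj * ι f.c) * ι (C.fct w.e).d
          = ι (C.fct w.e).g * Wj * (ι f.c * ι (C.fct w.e).d) := by group
        _ = (ι (C.fct w.e).g * Wj * ι (C.fct w.e).d) * ι (C.ent (C.fct w.e).k w.kk).2 := by
            rw [E2]; group
        _ = Wi * ι (C.fct w.e).c * (σ (C.fct w.e).k * ι (C.ent (C.fct w.e).k w.kk).2) := by
            rw [← He]; group
        _ = Wi * (ι (C.fct w.e).c * ι (C.ent (C.fct w.e).k w.kk).1) * σ (C.fct w.e).k := by
            rw [← T]; group
        _ = ι (C.fct w.s).g * (Wi * ι (C.fct w.e).c * σ (C.fct w.e).k) := by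
            rw [← E1, ← mul_assoc, Hs]; group
        _ = (ι (C.fct w.s).g * ι (C.fct w.e).g) * Wj * ι (C.fct w.e).d := by rw [He]; group
        _ = _ := by rw [← E3]; group
    | fill r rot pos back i0 c0 w1 w2 =>
      simp only [Bool.and_eq_true, beq_iff_eq, decide_eq_true_eq] at hchk
      obtain ⟨⟨⟨ht, oc0⟩, hr⟩, hm⟩ := hchk
      have hw := wval_rotate (S.hrel r hr) rot
      generalize (C.rels.getD r []).rotate rot = w at hm hw
      have hst : StOK (one, i0, c0) := ⟨ok_one, oc0⟩
      split at hm
      · rename_i gf u cu gb v cv hw1 hw2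
        simp only [Bool.and_eq_true, beq_iff_eq, decide_eq_true_eq] at hm
        obtain ⟨⟨⟨⟨⟨⟨hdrop, hinv⟩, rfl⟩, rfl⟩, rfl⟩, rfl⟩, hg⟩ := hm
        obtain ⟨o1, e1⟩ := walk_spec S hF _ _ hst hw1
        obtain ⟨o2, e2⟩ := walk_spec S hF _ _ hst hw2
        have hi := invOK_spec S hinv
        rw [List.reverse_reverse] at hi
        rw [← List.take_append_drop pos w, hdrop] at hw
        simp only [wval, List.map_append, List.map_cons, List.prod_append, List.prod_cons] at hw hi e1 e2
        rw [show val ι σ (65536 + f.k) = σ f.k by simp [val]] at hw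
        simp only [stVal, S.hone, one_mul] at e1 e2
        rw [← hg, S.hmul _ _ o1.1 og] at e2
        simp only [Holds, ht, if_true]
        generalize (w.take pos |>.map (val ι σ)).prod = P at hw e1
        generalize ((w.drop (pos + 1)).map (val ι σ)).prod = R at hw hi
        generalize (back.map (val ι σ)).prod = B at hi e2
        have hP : P * σ f.k = B := by
          rw [← mul_assoc] at hw
          rw [eq_inv_of_mul_eq_one_left hw, inv_eq_of_mul_eq_one_right hi]
        apply mul_left_cancel (a := ι gf)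
        rw [← mul_assoc, ← mul_assoc, ← mul_assoc, ← mul_assoc, ← e2, ← hP, ← mul_assoc, ← e1]
      · simp at hm
    | close r rot c0 w =>
      simp only [Bool.and_eq_true, beq_iff_eq, decide_eq_true_eq] at hchk
      obtain ⟨⟨⟨ht, oc0⟩, hr⟩, hm⟩ := hchk
      split at hm
      · rename_i gf u cu hw1
        simp only [Bool.and_eq_true, beq_iff_eq] at hm
        obtain ⟨⟨rfl, hcu⟩, hg⟩ := hm
        obtain ⟨o1, e1⟩ := walk_spec S hF _ _ (st := (one, f.i, c0)) ⟨ok_one, oc0⟩ hw1
        rw [wval_rotate (S.hrel r hr) rot] at e1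
        simp only [stVal, S.hone, one_mul, mul_one, hcu, S.hmul _ _ oc oc0] at e1
        have hgg := congrArg ι hg
        rw [S.hmul _ _ o1.1 og, S.hone] at hgg
        simp only [Holds, ht, one_ne_zero, if_false, eq_inv_of_mul_eq_one_right hgg]
        rw [eq_inv_mul_iff_mul_eq]
        exact (mul_right_cancel (b := ι c0) (by rw [e1]; group)).symm
      · simp at hm

theorem eval_spec (S : Sound ι σ C) (h : C.factsOK = true) {steps : List ℕ} {w : List Wit} {c : ℕ}
    (he : C.evalOK steps w c = true) : wval ι σ steps = ι c := by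
  unfold Cert.evalOK at he
  split at he
  · rename_i g u cu hw
    simp only [Bool.and_eq_true, beq_iff_eq] at he
    obtain ⟨rfl, rfl⟩ := he
    obtain ⟨o1, e1⟩ := walk_spec S (facts_hold S h) _ _ (st := (one, 0, one)) ⟨ok_one, ok_one⟩ hw
    simp only [stVal, S.hone, wl_zero, one_mul, mul_one] at e1
    rw [e1, S.hmul _ _ o1.1 o1.2]
  · simp at he

theorem contra_spec (S : Sound ι σ C) (h : C.factsOK = true) {a b : ℕ} (hc : C.contraOK a b = true)
    (hinj : ∀ x y, ok x = true → ok y = true → ι x = ι y → x = y) : False := by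
  simp only [Cert.contraOK, Bool.and_eq_true, Bool.or_eq_true, decide_eq_true_eq, beq_iff_eq,
    Bool.not_eq_true', beq_eq_false_iff_ne] at hc
  obtain ⟨⟨⟨ha, hb⟩, hta⟩, hc⟩ := hc
  obtain ⟨oa, Ha⟩ := facts_hold S h a ha
  obtain ⟨ob, Hb⟩ := facts_hold S h b hb
  simp only [Cert.okF, Bool.and_eq_true, decide_eq_true_eq] at oa ob
  simp only [Holds, hta, one_ne_zero, if_false] at Ha
  rcases hc with (⟨hi, hne⟩ | ⟨hcc, hne⟩) | ⟨⟨⟨htb, hii⟩, hcc⟩, hne⟩
  · rw [hi, wl_zero, one_mul, mul_one] at Ha
    exact hne (hinj _ _ oa.1.1.1.1 oa.1.1.1.2 Ha)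
  · rw [hcc, S.hone, mul_one] at Ha
    have : ι (C.fct a).g = ι one := by rw [S.hone]; exact mul_eq_right.mp Ha.symm
    exact hne (hinj _ _ oa.1.1.1.2 ok_one this)
  · simp only [Holds, htb, one_ne_zero, if_false, ← hii, ← hcc] at Hb
    exact hne (hinj _ _ oa.1.1.1.2 ob.1.1.1.2 (mul_right_cancel (Ha.symm.trans Hb)))

end CfsgLib.HeUnique
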