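import Cfsg.Agent.Lib.HeUnique.Cert

/-!
Derivations of contradictions from the other values of the loop.
-/

set_option autoImplicit false
set_option linter.style.longLine false
set_option maxRecDepth 100000

namespace CfsgLib.HeUnique

/-- the facts -/
def factsBad0 : Tree (Fct × Why) :=
  (.node (.node (.node (.node (.node (.node (.leaf (⟨0, 0, 34944, 0, 34944, 1, 34944⟩, .dfn)) (.leaf (⟨1, 1, 44196, 0, 44169, 1, 34944⟩, .close 4 9 34946 [⟨16, 15, 0⟩, ⟨24, 18, 408⟩, ⟨27, 29, 1066⟩, ⟨27, 26, 624⟩, ⟨27, 19, 401⟩]))) (.node (.leaf (⟨1, 1, 34944, 0, 34944, 1, 34944⟩, .unit)) (.leaf (⟨0, 0, 34944, 0, 34944, 1, 34944⟩, .dfn)))) (.node (.node (.leaf (⟨1, 1, 35056, 0, 44269, 1, 34944⟩, .mul 2 2)) (.leaf (⟨0, 0, 34944, 0, 34944, 1, 34944⟩, .dfn))) (.node (.leaf (⟨1, 1, 20673, 0, 28857, 1,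 34944⟩, .mul 23 2)) (.leaf (⟨0, 0, 34944, 0, 34944, 1, 34944⟩, .dfn))))) (.node (.node (.node (.leaf (⟨1, 1, 62617, 0, 30869, 1, 34944⟩, .sync ⟨3, 0, 761⟩)) (.leaf (⟨0, 0, 34944, 0, 34944, 1, 34944⟩, .dfn))) (.node (.leaf (⟨1, 3, 36052, 0, 44269, 3, 34944⟩, .sync ⟨8, 18, 741⟩)) (.leaf (⟨0, 0, 34944, 0, 34944, 1, 34944⟩, .dfn)))) (.node (.node (.leaf (⟨1, 1, 43164, 0, 44165, 1, 34944⟩, .mul 2 6)) (.leaf (⟨0, 0, 34944, 0, 34944, 1, 34944⟩, .dfn))) (.node (.leaf (⟨1, 1, 54428, 0, 22657, 1, 34944⟩, .mul 7 2)) (.leaf (⟨0, 0, 34944, 0, 34944, 1, 34944⟩, .dfn)))))) (.node (.node (.node (.node (.leaf (⟨1, 1, 29872, 0, 21721, 1, 34944⟩, .sync ⟨1, 0, 1154⟩)) (.leaf (⟨0, 0, 34944, 0, 34944, 1, 34944⟩, .dfn))) (.node (.leaf (⟨0, 1, 34659, 0, 34944, 3, 34944⟩, .dfn)) (.leaf (⟨0, 0, 34944, 0, 34944,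 1, 34944⟩, .dfn)))) (.node (.node (.leaf (⟨1, 1, 31981, 0, 62708, 1, 34944⟩, .mul 9 6)) (.leaf (⟨0, 0, 34944, 0, 34944, 1, 34944⟩, .dfn))) (.node (.leaf (⟨0, 3, 11785, 1, 43533, 3, 12112⟩, .fill 4 1 4 [34944, 10794, 34944, 65536, 54904, 65536, 62212] 0 34944 [⟨13, 0, 0⟩, ⟨23, 18, 243⟩] [⟨17, 0, 1410⟩, ⟨25, 18, 106⟩])) (.leaf (⟨0, 0, 34944, 0, 34944, 1, 34944⟩, .dfn))))) (.node (.node (.node (.leaf (⟨1, 1, 28877, 0, 21693, 1, 34944⟩, .sync ⟨5, 0, 172⟩)) (.leaf (⟨0, 0, 34944, 0, 34944, 1, 34944⟩, .dfn))) (.node (.leaf (⟨1, 1, 21676, 0, 28892, 1, 34944⟩, .mul 12 2)) (.leaf (⟨0, 0, 34944, 0, 34944, 1, 34944⟩, .dfn)))) (.node (.node (.leaf (⟨1, 0, 31898, 0, 31898, 0, 34944⟩, .base)) (.leaf (⟨0, 0, 34944, 0, 34944, 1, 34944⟩, .dfn))) (.node (.leaf (⟨1, 1, 28921, 0, 21732, 1, 34944⟩, .mul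 11 2)) (.leaf (⟨0, 0, 34944, 0, 34944, 1, 34944⟩, .dfn))))))) (.node (.node (.node (.node (.node (.leaf (⟨1, 0, 21721, 0, 21721, 0, 34944⟩, .base)) (.leaf (⟨0, 0, 34944, 0, 34944, 1, 34944⟩, .dfn))) (.node (.leaf (⟨1, 0, 11087, 0, 11087, 0, 34944⟩, .base)) (.leaf (⟨0, 0, 34944, 0, 34944, 1, 34944⟩, .dfn)))) (.node (.node (.leaf (⟨1, 1, 39125, 0, 51376, 1, 34944⟩, .mul 2 4)) (.leaf (⟨0, 0, 34944, 0, 34944, 1, 34944⟩, .dfn))) (.node (.leaf (⟨1, 1, 53389, 0, 22680, 1, 34944⟩, .mul 21 6)) (.leaf (⟨0, 0, 34944, 0, 34944, 1, 34944⟩, .dfn))))) (.node (.node (.node (.leaf (⟨1, 0, 21693, 0, 21693, 0, 34944⟩, .base)) (.leaf (⟨0, 0, 34944, 0, 34944, 1, 34944⟩, .dfn))) (.node (.leaf (⟨1, 1, 59561, 0, 40128, 1, 34944⟩, .mul 4 2)) (.leaf (⟨0, 0, 34944, 0, 34944, 1, 34944⟩, .dfn)))) (.node (.node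 (.leaf (⟨1, 0, 34944, 0, 34944, 0, 34944⟩, .base)) (.leaf (⟨0, 0, 34944, 0, 34944, 1, 34944⟩, .dfn))) (.node (.leaf (⟨0, 3, 47451, 0, 15081, 3, 19973⟩, .fill 4 1 6 [34944, 10794, 34944, 65536, 54904] 1 34946 [⟨16, 15, 0⟩, ⟨28, 18, 119⟩, ⟨20, 26, 1297⟩] [⟨22, 18, 1175⟩])) (.leaf (⟨0, 0, 34944, 0, 34944, 1, 34944⟩, .dfn)))))) (.node (.node (.node (.node (.leaf (⟨1, 0, 30869, 0, 30869, 0, 34944⟩, .base)) (.leaf (⟨0, 0, 34944, 0, 34944, 1, 34944⟩, .dfn))) (.node (.leaf (⟨0, 3, 34944, 0, 34944, 1, 34659⟩, .inv 18)) (.leaf (⟨0, 0, 34944, 0, 34944, 1, 34944⟩, .dfn)))) (.node (.node (.leaf (⟨1, 1, 36025, 0, 35036, 1, 34944⟩, .mul 10 4)) (.leaf (⟨0, 0, 34944, 0, 34944, 1, 34944⟩, .dfn))) (.node (.leaf (⟨1, 3, 34944, 0, 34944, 3, 34944⟩, .unit)) (.leaf (⟨0, 0, 34944, 0, 34944, 1, 34944⟩, .dfn)))))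 (.node (.node (.node (.leaf (⟨1, 1, 51420, 0, 40108, 1, 34944⟩, .mul 4 6)) (.leaf (⟨0, 0, 34944, 0, 34944, 1, 34944⟩, .dfn))) (.node (.leaf (⟨1, 1, 44273, 0, 44273, 1, 34944⟩, .mul 6 6)) (.leaf (⟨0, 0, 34944, 0, 34944, 1, 34944⟩, .dfn)))) (.node (.node (.leaf (⟨0, 1, 34946, 0, 31898, 1, 39050⟩, .fill 0 0 2 [20621, 34946, 65536, 34946] 0 34944 [⟨13, 0, 0⟩] [⟨14, 0, 512⟩])) (.leaf (⟨0, 0, 34944, 0, 34944, 1, 34944⟩, .dfn))) (.node (.leaf (⟨1, 1, 44196, 0, 44233, 1, 34944⟩, .mul 30 6)) (.leaf (⟨0, 0, 34944, 0, 34944, 1, 34944⟩, .dfn))))))))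

/-- definitions -/
def defsBad0 : List (ℕ × ℕ × ℕ) := [(0, 34944, 0), (0, 34944, 1), (1, 34659, 0)]

/-- the facts -/
def factsBad1 : Tree (Fct × Why) :=
  (.node (.node (.node (.node (.node (.leaf (⟨0, 0, 34944, 0, 34944, 1, 34944⟩, .dfn)) (.leaf (⟨0, 3, 11785, 1, 43533, 3, 26429⟩, .fill 4 1 4 [34944, 10799, 34944, 65536, 54904, 65536, 62212] 0 34944 [⟨8, 0, 0⟩, ⟨14, 11, 243⟩] [⟨10, 0, 1479⟩, ⟨15, 11, 345⟩]))) (.node (.leaf (⟨1, 0, 34944, 0, 34944, 0, 34944⟩, .base)) (.leaf (⟨0, 0, 34944, 0, 34944, 1, 34944⟩, .dfn)))) (.node (.node (.leaf (⟨1, 0, 30869, 0, 30869, 0, 34944⟩, .base)) (.leaf (⟨0, 0, 34944, 0, 34944, 1, 34944⟩, .dfn))) (.node (.leaf (⟨0, 3, 34944, 0, 34944, 1, 34659⟩, .inv 11)) (.leaf (⟨0, 0, 34944, 0, 34944, 1, 34944⟩, .dfn))))) (.node (.node (.node (.leaf (⟨1, 0,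 21721, 0, 21721, 0, 34944⟩, .base)) (.leaf (⟨1, 0, 11895, 0, 11894, 0, 34944⟩, .close 5 2 34944 [⟨8, 0, 0⟩, ⟨14, 11, 243⟩, ⟨17, 16, 1025⟩, ⟨17, 12, 478⟩, ⟨9, 1, 915⟩]))) (.node (.leaf (⟨1, 0, 11087, 0, 11087, 0, 34944⟩, .base)) (.leaf (⟨0, 0, 34944, 0, 34944, 1, 34944⟩, .dfn)))) (.node (.node (.leaf (⟨1, 0, 21693, 0, 21693, 0, 34944⟩, .base)) (.leaf (⟨0, 0, 34944, 0, 34944, 1, 34944⟩, .dfn))) (.node (.leaf (⟨1, 1, 44273, 0, 44273, 1, 34944⟩, .mul 7 7)) (.leaf (⟨0, 0, 34944, 0, 34944, 1, 34944⟩, .dfn)))))) (.node (.node (.node (.node (.leaf (⟨0, 1, 34944, 0, 34944, 0, 34944⟩, .inv 0)) (.leaf (⟨1, 3, 34944, 0, 34944, 3, 34944⟩, .unit))) (.node (.leaf (⟨1, 1, 34944, 0, 34944, 1, 34944⟩, .unit)) (.leaf (⟨0, 0, 34944, 0, 34944, 1, 34944⟩, .dfn)))) (.node (.node (.leaf (⟨1, 1, 62617, 0,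 30869, 1, 34944⟩, .sync ⟨4, 0, 761⟩)) (.leaf (⟨0, 0, 34944, 0, 34944, 1, 34944⟩, .dfn))) (.node (.leaf (⟨1, 1, 59561, 0, 40128, 1, 34944⟩, .mul 5 3)) (.leaf (⟨0, 0, 34944, 0, 34944, 1, 34944⟩, .dfn))))) (.node (.node (.node (.leaf (⟨1, 1, 29872, 0, 21721, 1, 34944⟩, .sync ⟨2, 0, 1154⟩)) (.leaf (⟨0, 0, 34944, 0, 34944, 1, 34944⟩, .dfn))) (.node (.leaf (⟨0, 1, 34659, 0, 34944, 3, 34944⟩, .dfn)) (.leaf (⟨0, 0, 34944, 0, 34944, 1, 34944⟩, .dfn)))) (.node (.node (.leaf (⟨1, 1, 28877, 0, 21693, 1, 34944⟩, .sync ⟨6, 0, 172⟩)) (.leaf (⟨0, 0, 34944, 0, 34944, 1, 34944⟩, .dfn))) (.node (.leaf (⟨1, 1, 53389, 0, 22680, 1, 34944⟩, .mul 13 7)) (.leaf (⟨0, 0, 34944, 0, 34944, 1, 34944⟩, .dfn)))))))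

/-- definitions -/
def defsBad1 : List (ℕ × ℕ × ℕ) := [(0, 34944, 0), (0, 34944, 1), (1, 34659, 0)]

/-- the facts -/
def factsBad2 : Tree (Fct × Why) :=
  (.node (.node (.node (.node (.node (.leaf (⟨0, 0, 34944, 0, 34944, 1, 34944⟩, .dfn)) (.leaf (⟨0, 3, 11785, 1, 43533, 3, 49009⟩, .fill 4 1 4 [34944, 10798, 34944, 65536, 54904, 65536, 62212] 0 34944 [⟨8, 0, 0⟩, ⟨14, 11, 243⟩] [⟨10, 0, 1271⟩, ⟨15, 11, 1065⟩]))) (.node (.leaf (⟨1, 0, 34944, 0, 34944, 0, 34944⟩, .base)) (.leaf (⟨0, 0, 34944, 0, 34944, 1, 34944⟩, .dfn)))) (.node (.node (.leaf (⟨1, 0, 30869, 0, 30869, 0, 34944⟩, .base)) (.leaf (⟨0, 0, 34944, 0, 34944, 1, 34944⟩, .dfn))) (.node (.leaf (⟨0, 3, 34944, 0, 34944, 1, 34659⟩, .inv 11)) (.leaf (⟨0, 0, 34944, 0, 34944, 1, 34944⟩, .dfn))))) (.node (.node (.node (.leaf (⟨1, 0,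 21721, 0, 21721, 0, 34944⟩, .base)) (.leaf (⟨1, 0, 11895, 0, 11894, 0, 34944⟩, .close 5 2 34944 [⟨8, 0, 0⟩, ⟨14, 11, 243⟩, ⟨17, 16, 1025⟩, ⟨17, 12, 1493⟩, ⟨9, 1, 1198⟩]))) (.node (.leaf (⟨1, 0, 11087, 0, 11087, 0, 34944⟩, .base)) (.leaf (⟨0, 0, 34944, 0, 34944, 1, 34944⟩, .dfn)))) (.node (.node (.leaf (⟨1, 0, 21693, 0, 21693, 0, 34944⟩, .base)) (.leaf (⟨0, 0, 34944, 0, 34944, 1, 34944⟩, .dfn))) (.node (.leaf (⟨1, 1, 44273, 0, 44273, 1, 34944⟩, .mul 7 7)) (.leaf (⟨0, 0, 34944, 0, 34944, 1, 34944⟩, .dfn)))))) (.node (.node (.node (.node (.leaf (⟨0, 1, 34944, 0, 34944, 0, 34944⟩, .inv 0)) (.leaf (⟨1, 3, 34944, 0, 34944, 3, 34944⟩, .unit))) (.node (.leaf (⟨1, 1, 34944, 0, 34944, 1, 34944⟩, .unit)) (.leaf (⟨0, 0, 34944, 0, 34944, 1, 34944⟩, .dfn)))) (.node (.node (.leaf (⟨1, 1, 62617,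 0, 30869, 1, 34944⟩, .sync ⟨4, 0, 761⟩)) (.leaf (⟨0, 0, 34944, 0, 34944, 1, 34944⟩, .dfn))) (.node (.leaf (⟨1, 1, 59561, 0, 40128, 1, 34944⟩, .mul 5 3)) (.leaf (⟨0, 0, 34944, 0, 34944, 1, 34944⟩, .dfn))))) (.node (.node (.node (.leaf (⟨1, 1, 29872, 0, 21721, 1, 34944⟩, .sync ⟨2, 0, 1154⟩)) (.leaf (⟨0, 0, 34944, 0, 34944, 1, 34944⟩, .dfn))) (.node (.leaf (⟨0, 1, 34659, 0, 34944, 3, 34944⟩, .dfn)) (.leaf (⟨0, 0, 34944, 0, 34944, 1, 34944⟩, .dfn)))) (.node (.node (.leaf (⟨1, 1, 28877, 0, 21693, 1, 34944⟩, .sync ⟨6, 0, 172⟩)) (.leaf (⟨0, 0, 34944, 0, 34944, 1, 34944⟩, .dfn))) (.node (.leaf (⟨1, 1, 53389, 0, 22680, 1, 34944⟩, .mul 13 7)) (.leaf (⟨0, 0, 34944, 0, 34944, 1, 34944⟩, .dfn)))))))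

/-- definitions -/
def defsBad2 : List (ℕ × ℕ × ℕ) := [(0, 34944, 0), (0, 34944, 1), (1, 34659, 0)]

/-- the facts -/
def factsBad3 : Tree (Fct × Why) :=
  (.node (.node (.node (.node (.node (.leaf (⟨0, 0, 34944, 0, 34944, 1, 34944⟩, .dfn)) (.leaf (⟨0, 3, 11785, 1, 43533, 3, 48956⟩, .fill 4 1 4 [34944, 10858, 34944, 65536, 54904, 65536, 62212] 0 34944 [⟨8, 0, 0⟩, ⟨14, 11, 243⟩] [⟨10, 0, 1477⟩, ⟨15, 11, 659⟩]))) (.node (.leaf (⟨1, 0, 34944, 0, 34944, 0, 34944⟩, .base)) (.leaf (⟨0, 0, 34944, 0, 34944, 1, 34944⟩, .dfn)))) (.node (.node (.leaf (⟨1, 0, 30869, 0, 30869, 0, 34944⟩, .base)) (.leaf (⟨0, 0, 34944, 0, 34944, 1, 34944⟩, .dfn))) (.node (.leaf (⟨0, 3, 34944, 0, 34944, 1, 34659⟩, .inv 11)) (.leaf (⟨0, 0, 34944, 0, 34944, 1, 34944⟩, .dfn))))) (.node (.node (.node (.leaf (⟨1, 0,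 21721, 0, 21721, 0, 34944⟩, .base)) (.leaf (⟨1, 0, 11815, 0, 11894, 0, 34944⟩, .close 5 2 34944 [⟨8, 0, 0⟩, ⟨14, 11, 243⟩, ⟨17, 16, 1025⟩, ⟨17, 12, 1302⟩, ⟨9, 1, 1297⟩]))) (.node (.leaf (⟨1, 0, 11087, 0, 11087, 0, 34944⟩, .base)) (.leaf (⟨0, 0, 34944, 0, 34944, 1, 34944⟩, .dfn)))) (.node (.node (.leaf (⟨1, 0, 21693, 0, 21693, 0, 34944⟩, .base)) (.leaf (⟨0, 0, 34944, 0, 34944, 1, 34944⟩, .dfn))) (.node (.leaf (⟨1, 1, 44273, 0, 44273, 1, 34944⟩, .mul 7 7)) (.leaf (⟨0, 0, 34944, 0, 34944, 1, 34944⟩, .dfn)))))) (.node (.node (.node (.node (.leaf (⟨0, 1, 34944, 0, 34944, 0, 34944⟩, .inv 0)) (.leaf (⟨1, 3, 34944, 0, 34944, 3, 34944⟩, .unit))) (.node (.leaf (⟨1, 1, 34944, 0, 34944, 1, 34944⟩, .unit)) (.leaf (⟨0, 0, 34944, 0, 34944, 1, 34944⟩, .dfn)))) (.node (.node (.leaf (⟨1, 1, 62617,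 0, 30869, 1, 34944⟩, .sync ⟨4, 0, 761⟩)) (.leaf (⟨0, 0, 34944, 0, 34944, 1, 34944⟩, .dfn))) (.node (.leaf (⟨1, 1, 59561, 0, 40128, 1, 34944⟩, .mul 5 3)) (.leaf (⟨0, 0, 34944, 0, 34944, 1, 34944⟩, .dfn))))) (.node (.node (.node (.leaf (⟨1, 1, 29872, 0, 21721, 1, 34944⟩, .sync ⟨2, 0, 1154⟩)) (.leaf (⟨0, 0, 34944, 0, 34944, 1, 34944⟩, .dfn))) (.node (.leaf (⟨0, 1, 34659, 0, 34944, 3, 34944⟩, .dfn)) (.leaf (⟨0, 0, 34944, 0, 34944, 1, 34944⟩, .dfn)))) (.node (.node (.leaf (⟨1, 1, 28877, 0, 21693, 1, 34944⟩, .sync ⟨6, 0, 172⟩)) (.leaf (⟨0, 0, 34944, 0, 34944, 1, 34944⟩, .dfn))) (.node (.leaf (⟨1, 1, 53389, 0, 22680, 1, 34944⟩, .mul 13 7)) (.leaf (⟨0, 0, 34944, 0, 34944, 1, 34944⟩, .dfn)))))))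

/-- definitions -/
def defsBad3 : List (ℕ × ℕ × ℕ) := [(0, 34944, 0), (0, 34944, 1), (1, 34659, 0)]

/-- the facts -/
def factsBad4 : Tree (Fct × Why) :=
  (.node (.node (.node (.node (.node (.leaf (⟨0, 0, 34944, 0, 34944, 1, 34944⟩, .dfn)) (.leaf (⟨0, 3, 11785, 1, 43533, 3, 26480⟩, .fill 4 1 4 [34944, 10859, 34944, 65536, 54904, 65536, 62212] 0 34944 [⟨8, 0, 0⟩, ⟨14, 11, 243⟩] [⟨10, 0, 1258⟩, ⟨15, 11, 775⟩]))) (.node (.leaf (⟨1, 0, 34944, 0, 34944, 0, 34944⟩, .base)) (.leaf (⟨0, 0, 34944, 0, 34944, 1, 34944⟩, .dfn)))) (.node (.node (.leaf (⟨1, 0, 30869, 0, 30869, 0, 34944⟩, .base)) (.leaf (⟨0, 0, 34944, 0, 34944, 1, 34944⟩, .dfn))) (.node (.leaf (⟨0, 3, 34944, 0, 34944, 1, 34659⟩, .inv 11)) (.leaf (⟨0, 0, 34944, 0, 34944, 1, 34944⟩, .dfn))))) (.node (.node (.node (.leaf (⟨1, 0,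 21721, 0, 21721, 0, 34944⟩, .base)) (.leaf (⟨1, 0, 11815, 0, 11894, 0, 34944⟩, .close 5 2 34944 [⟨8, 0, 0⟩, ⟨14, 11, 243⟩, ⟨17, 16, 1025⟩, ⟨17, 12, 592⟩, ⟨9, 1, 1360⟩]))) (.node (.leaf (⟨1, 0, 11087, 0, 11087, 0, 34944⟩, .base)) (.leaf (⟨0, 0, 34944, 0, 34944, 1, 34944⟩, .dfn)))) (.node (.node (.leaf (⟨1, 0, 21693, 0, 21693, 0, 34944⟩, .base)) (.leaf (⟨0, 0, 34944, 0, 34944, 1, 34944⟩, .dfn))) (.node (.leaf (⟨1, 1, 44273, 0, 44273, 1, 34944⟩, .mul 7 7)) (.leaf (⟨0, 0, 34944, 0, 34944, 1, 34944⟩, .dfn)))))) (.node (.node (.node (.node (.leaf (⟨0, 1, 34944, 0, 34944, 0, 34944⟩, .inv 0)) (.leaf (⟨1, 3, 34944, 0, 34944, 3, 34944⟩, .unit))) (.node (.leaf (⟨1, 1, 34944, 0, 34944, 1, 34944⟩, .unit)) (.leaf (⟨0, 0, 34944, 0, 34944, 1, 34944⟩, .dfn)))) (.node (.node (.leaf (⟨1, 1, 62617, 0,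 30869, 1, 34944⟩, .sync ⟨4, 0, 761⟩)) (.leaf (⟨0, 0, 34944, 0, 34944, 1, 34944⟩, .dfn))) (.node (.leaf (⟨1, 1, 59561, 0, 40128, 1, 34944⟩, .mul 5 3)) (.leaf (⟨0, 0, 34944, 0, 34944, 1, 34944⟩, .dfn))))) (.node (.node (.node (.leaf (⟨1, 1, 29872, 0, 21721, 1, 34944⟩, .sync ⟨2, 0, 1154⟩)) (.leaf (⟨0, 0, 34944, 0, 34944, 1, 34944⟩, .dfn))) (.node (.leaf (⟨0, 1, 34659, 0, 34944, 3, 34944⟩, .dfn)) (.leaf (⟨0, 0, 34944, 0, 34944, 1, 34944⟩, .dfn)))) (.node (.node (.leaf (⟨1, 1, 28877, 0, 21693, 1, 34944⟩, .sync ⟨6, 0, 172⟩)) (.leaf (⟨0, 0, 34944, 0, 34944, 1, 34944⟩, .dfn))) (.node (.leaf (⟨1, 1, 53389, 0, 22680, 1, 34944⟩, .mul 13 7)) (.leaf (⟨0, 0, 34944, 0, 34944, 1, 34944⟩, .dfn)))))))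

/-- definitions -/
def defsBad4 : List (ℕ × ℕ × ℕ) := [(0, 34944, 0), (0, 34944, 1), (1, 34659, 0)]

/-- the facts -/
def factsBad5 : Tree (Fct × Why) :=
  (.node (.node (.node (.node (.node (.leaf (⟨0, 0, 34944, 0, 34944, 1, 34944⟩, .dfn)) (.leaf (⟨0, 3, 11785, 1, 43533, 3, 12061⟩, .fill 4 1 4 [34944, 10862, 34944, 65536, 54904, 65536, 62212] 0 34944 [⟨8, 0, 0⟩, ⟨14, 11, 243⟩] [⟨10, 0, 1225⟩, ⟨15, 11, 231⟩]))) (.node (.leaf (⟨1, 0, 34944, 0, 34944, 0, 34944⟩, .base)) (.leaf (⟨0, 0, 34944, 0, 34944, 1, 34944⟩, .dfn)))) (.node (.node (.leaf (⟨1, 0, 30869, 0, 30869, 0, 34944⟩, .base)) (.leaf (⟨0, 0, 34944, 0, 34944, 1, 34944⟩, .dfn))) (.node (.leaf (⟨0, 3, 34944, 0, 34944, 1, 34659⟩, .inv 11)) (.leaf (⟨0, 0, 34944, 0, 34944, 1, 34944⟩, .dfn))))) (.node (.node (.node (.leaf (⟨1, 0,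 21721, 0, 21721, 0, 34944⟩, .base)) (.leaf (⟨1, 0, 11814, 0, 11894, 0, 34944⟩, .close 5 2 34944 [⟨8, 0, 0⟩, ⟨14, 11, 243⟩, ⟨17, 16, 1025⟩, ⟨17, 12, 281⟩, ⟨9, 1, 1118⟩]))) (.node (.leaf (⟨1, 0, 11087, 0, 11087, 0, 34944⟩, .base)) (.leaf (⟨0, 0, 34944, 0, 34944, 1, 34944⟩, .dfn)))) (.node (.node (.leaf (⟨1, 0, 21693, 0, 21693, 0, 34944⟩, .base)) (.leaf (⟨0, 0, 34944, 0, 34944, 1, 34944⟩, .dfn))) (.node (.leaf (⟨1, 1, 44273, 0, 44273, 1, 34944⟩, .mul 7 7)) (.leaf (⟨0, 0, 34944, 0, 34944, 1, 34944⟩, .dfn)))))) (.node (.node (.node (.node (.leaf (⟨0, 1, 34944, 0, 34944, 0, 34944⟩, .inv 0)) (.leaf (⟨1, 3, 34944, 0, 34944, 3, 34944⟩, .unit))) (.node (.leaf (⟨1, 1, 34944, 0, 34944, 1, 34944⟩, .unit)) (.leaf (⟨0, 0, 34944, 0, 34944, 1, 34944⟩, .dfn)))) (.node (.node (.leaf (⟨1, 1, 62617, 0,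 30869, 1, 34944⟩, .sync ⟨4, 0, 761⟩)) (.leaf (⟨0, 0, 34944, 0, 34944, 1, 34944⟩, .dfn))) (.node (.leaf (⟨1, 1, 59561, 0, 40128, 1, 34944⟩, .mul 5 3)) (.leaf (⟨0, 0, 34944, 0, 34944, 1, 34944⟩, .dfn))))) (.node (.node (.node (.leaf (⟨1, 1, 29872, 0, 21721, 1, 34944⟩, .sync ⟨2, 0, 1154⟩)) (.leaf (⟨0, 0, 34944, 0, 34944, 1, 34944⟩, .dfn))) (.node (.leaf (⟨0, 1, 34659, 0, 34944, 3, 34944⟩, .dfn)) (.leaf (⟨0, 0, 34944, 0, 34944, 1, 34944⟩, .dfn)))) (.node (.node (.leaf (⟨1, 1, 28877, 0, 21693, 1, 34944⟩, .sync ⟨6, 0, 172⟩)) (.leaf (⟨0, 0, 34944, 0, 34944, 1, 34944⟩, .dfn))) (.node (.leaf (⟨1, 1, 53389, 0, 22680, 1, 34944⟩, .mul 13 7)) (.leaf (⟨0, 0, 34944, 0, 34944, 1, 34944⟩, .dfn)))))))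

/-- definitions -/
def defsBad5 : List (ℕ × ℕ × ℕ) := [(0, 34944, 0), (0, 34944, 1), (1, 34659, 0)]

/-- the facts -/
def factsBad6 : Tree (Fct × Why) :=
  (.node (.node (.node (.node (.node (.leaf (⟨0, 0, 34944, 0, 34944, 1, 34944⟩, .dfn)) (.leaf (⟨0, 3, 11785, 1, 43533, 3, 63313⟩, .fill 4 1 4 [34944, 10863, 34944, 65536, 54904, 65536, 62212] 0 34944 [⟨8, 0, 0⟩, ⟨14, 11, 243⟩] [⟨10, 0, 470⟩, ⟨15, 11, 691⟩]))) (.node (.leaf (⟨1, 0, 34944, 0, 34944, 0, 34944⟩, .base)) (.leaf (⟨0, 0, 34944, 0, 34944, 1, 34944⟩, .dfn)))) (.node (.node (.leaf (⟨1, 0, 30869, 0, 30869, 0, 34944⟩, .base)) (.leaf (⟨0, 0, 34944, 0, 34944, 1, 34944⟩, .dfn))) (.node (.leaf (⟨0, 3, 34944, 0, 34944, 1, 34659⟩, .inv 11)) (.leaf (⟨0, 0, 34944, 0, 34944, 1, 34944⟩, .dfn))))) (.node (.node (.node (.leaf (⟨1, 0, 21721,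 0, 21721, 0, 34944⟩, .base)) (.leaf (⟨1, 0, 11814, 0, 11894, 0, 34944⟩, .close 5 2 34944 [⟨8, 0, 0⟩, ⟨14, 11, 243⟩, ⟨17, 16, 1025⟩, ⟨17, 12, 197⟩, ⟨9, 1, 530⟩]))) (.node (.leaf (⟨1, 0, 11087, 0, 11087, 0, 34944⟩, .base)) (.leaf (⟨0, 0, 34944, 0, 34944, 1, 34944⟩, .dfn)))) (.node (.node (.leaf (⟨1, 0, 21693, 0, 21693, 0, 34944⟩, .base)) (.leaf (⟨0, 0, 34944, 0, 34944, 1, 34944⟩, .dfn))) (.node (.leaf (⟨1, 1, 44273, 0, 44273, 1, 34944⟩, .mul 7 7)) (.leaf (⟨0, 0, 34944, 0, 34944, 1, 34944⟩, .dfn)))))) (.node (.node (.node (.node (.leaf (⟨0, 1, 34944, 0, 34944, 0, 34944⟩, .inv 0)) (.leaf (⟨1, 3, 34944, 0, 34944, 3, 34944⟩, .unit))) (.node (.leaf (⟨1, 1, 34944, 0, 34944, 1, 34944⟩, .unit)) (.leaf (⟨0, 0, 34944, 0, 34944, 1, 34944⟩, .dfn)))) (.node (.node (.leaf (⟨1, 1, 62617, 0, 30869,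 1, 34944⟩, .sync ⟨4, 0, 761⟩)) (.leaf (⟨0, 0, 34944, 0, 34944, 1, 34944⟩, .dfn))) (.node (.leaf (⟨1, 1, 59561, 0, 40128, 1, 34944⟩, .mul 5 3)) (.leaf (⟨0, 0, 34944, 0, 34944, 1, 34944⟩, .dfn))))) (.node (.node (.node (.leaf (⟨1, 1, 29872, 0, 21721, 1, 34944⟩, .sync ⟨2, 0, 1154⟩)) (.leaf (⟨0, 0, 34944, 0, 34944, 1, 34944⟩, .dfn))) (.node (.leaf (⟨0, 1, 34659, 0, 34944, 3, 34944⟩, .dfn)) (.leaf (⟨0, 0, 34944, 0, 34944, 1, 34944⟩, .dfn)))) (.node (.node (.leaf (⟨1, 1, 28877, 0, 21693, 1, 34944⟩, .sync ⟨6, 0, 172⟩)) (.leaf (⟨0, 0, 34944, 0, 34944, 1, 34944⟩, .dfn))) (.node (.leaf (⟨1, 1, 53389, 0, 22680, 1, 34944⟩, .mul 13 7)) (.leaf (⟨0, 0, 34944, 0, 34944, 1, 34944⟩, .dfn)))))))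

/-- definitions -/
def defsBad6 : List (ℕ × ℕ × ℕ) := [(0, 34944, 0), (0, 34944, 1), (1, 34659, 0)]

/-- the facts -/
def factsBad7 : Tree (Fct × Why) :=
  (.node (.node (.node (.node (.node (.leaf (⟨0, 0, 34944, 0, 34944, 1, 34944⟩, .dfn)) (.leaf (⟨0, 3, 11785, 1, 43533, 3, 12080⟩, .fill 4 1 4 [34944, 10810, 34944, 65536, 54904, 65536, 62212] 0 34944 [⟨8, 0, 0⟩, ⟨14, 11, 243⟩] [⟨10, 0, 1263⟩, ⟨15, 11, 443⟩]))) (.node (.leaf (⟨1, 0, 34944, 0, 34944, 0, 34944⟩, .base)) (.leaf (⟨0, 0, 34944, 0, 34944, 1, 34944⟩, .dfn)))) (.node (.node (.leaf (⟨1, 0, 30869, 0, 30869, 0, 34944⟩, .base)) (.leaf (⟨0, 0, 34944, 0, 34944, 1, 34944⟩, .dfn))) (.node (.leaf (⟨0, 3, 34944, 0, 34944, 1, 34659⟩, .inv 11)) (.leaf (⟨0, 0, 34944, 0, 34944, 1, 34944⟩, .dfn))))) (.node (.node (.node (.leaf (⟨1, 0,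 21721, 0, 21721, 0, 34944⟩, .base)) (.leaf (⟨1, 0, 11815, 0, 11894, 0, 34944⟩, .close 5 2 34944 [⟨8, 0, 0⟩, ⟨14, 11, 243⟩, ⟨17, 16, 1025⟩, ⟨17, 12, 615⟩, ⟨9, 1, 831⟩]))) (.node (.leaf (⟨1, 0, 11087, 0, 11087, 0, 34944⟩, .base)) (.leaf (⟨0, 0, 34944, 0, 34944, 1, 34944⟩, .dfn)))) (.node (.node (.leaf (⟨1, 0, 21693, 0, 21693, 0, 34944⟩, .base)) (.leaf (⟨0, 0, 34944, 0, 34944, 1, 34944⟩, .dfn))) (.node (.leaf (⟨1, 1, 44273, 0, 44273, 1, 34944⟩, .mul 7 7)) (.leaf (⟨0, 0, 34944, 0, 34944, 1, 34944⟩, .dfn)))))) (.node (.node (.node (.node (.leaf (⟨0, 1, 34944, 0, 34944, 0, 34944⟩, .inv 0)) (.leaf (⟨1, 3, 34944, 0, 34944, 3, 34944⟩, .unit))) (.node (.leaf (⟨1, 1, 34944, 0, 34944, 1, 34944⟩, .unit)) (.leaf (⟨0, 0, 34944, 0, 34944, 1, 34944⟩, .dfn)))) (.node (.node (.leaf (⟨1, 1, 62617, 0,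 30869, 1, 34944⟩, .sync ⟨4, 0, 761⟩)) (.leaf (⟨0, 0, 34944, 0, 34944, 1, 34944⟩, .dfn))) (.node (.leaf (⟨1, 1, 59561, 0, 40128, 1, 34944⟩, .mul 5 3)) (.leaf (⟨0, 0, 34944, 0, 34944, 1, 34944⟩, .dfn))))) (.node (.node (.node (.leaf (⟨1, 1, 29872, 0, 21721, 1, 34944⟩, .sync ⟨2, 0, 1154⟩)) (.leaf (⟨0, 0, 34944, 0, 34944, 1, 34944⟩, .dfn))) (.node (.leaf (⟨0, 1, 34659, 0, 34944, 3, 34944⟩, .dfn)) (.leaf (⟨0, 0, 34944, 0, 34944, 1, 34944⟩, .dfn)))) (.node (.node (.leaf (⟨1, 1, 28877, 0, 21693, 1, 34944⟩, .sync ⟨6, 0, 172⟩)) (.leaf (⟨0, 0, 34944, 0, 34944, 1, 34944⟩, .dfn))) (.node (.leaf (⟨1, 1, 53389, 0, 22680, 1, 34944⟩, .mul 13 7)) (.leaf (⟨0, 0, 34944, 0, 34944, 1, 34944⟩, .dfn)))))))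

/-- definitions -/
def defsBad7 : List (ℕ × ℕ × ℕ) := [(0, 34944, 0), (0, 34944, 1), (1, 34659, 0)]

/-- the facts -/
def factsBad8 : Tree (Fct × Why) :=
  (.node (.node (.node (.node (.node (.leaf (⟨0, 0, 34944, 0, 34944, 1, 34944⟩, .dfn)) (.leaf (⟨0, 3, 11785, 1, 43533, 3, 63356⟩, .fill 4 1 4 [34944, 10811, 34944, 65536, 54904, 65536, 62212] 0 34944 [⟨8, 0, 0⟩, ⟨14, 11, 243⟩] [⟨10, 0, 1522⟩, ⟨15, 11, 940⟩]))) (.node (.leaf (⟨1, 0, 34944, 0, 34944, 0, 34944⟩, .base)) (.leaf (⟨0, 0, 34944, 0, 34944, 1, 34944⟩, .dfn)))) (.node (.node (.leaf (⟨1, 0, 30869, 0, 30869, 0, 34944⟩, .base)) (.leaf (⟨0, 0, 34944, 0, 34944, 1, 34944⟩, .dfn))) (.node (.leaf (⟨0, 3, 34944, 0, 34944, 1, 34659⟩, .inv 11)) (.leaf (⟨0, 0, 34944, 0, 34944, 1, 34944⟩, .dfn))))) (.node (.node (.node (.leaf (⟨1, 0,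 21721, 0, 21721, 0, 34944⟩, .base)) (.leaf (⟨1, 0, 11815, 0, 11894, 0, 34944⟩, .close 5 2 34944 [⟨8, 0, 0⟩, ⟨14, 11, 243⟩, ⟨17, 16, 1025⟩, ⟨17, 12, 1084⟩, ⟨9, 1, 218⟩]))) (.node (.leaf (⟨1, 0, 11087, 0, 11087, 0, 34944⟩, .base)) (.leaf (⟨0, 0, 34944, 0, 34944, 1, 34944⟩, .dfn)))) (.node (.node (.leaf (⟨1, 0, 21693, 0, 21693, 0, 34944⟩, .base)) (.leaf (⟨0, 0, 34944, 0, 34944, 1, 34944⟩, .dfn))) (.node (.leaf (⟨1, 1, 44273, 0, 44273, 1, 34944⟩, .mul 7 7)) (.leaf (⟨0, 0, 34944, 0, 34944, 1, 34944⟩, .dfn)))))) (.node (.node (.node (.node (.leaf (⟨0, 1, 34944, 0, 34944, 0, 34944⟩, .inv 0)) (.leaf (⟨1, 3, 34944, 0, 34944, 3, 34944⟩, .unit))) (.node (.leaf (⟨1, 1, 34944, 0, 34944, 1, 34944⟩, .unit)) (.leaf (⟨0, 0, 34944, 0, 34944, 1, 34944⟩, .dfn)))) (.node (.node (.leaf (⟨1, 1, 62617, 0,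 30869, 1, 34944⟩, .sync ⟨4, 0, 761⟩)) (.leaf (⟨0, 0, 34944, 0, 34944, 1, 34944⟩, .dfn))) (.node (.leaf (⟨1, 1, 59561, 0, 40128, 1, 34944⟩, .mul 5 3)) (.leaf (⟨0, 0, 34944, 0, 34944, 1, 34944⟩, .dfn))))) (.node (.node (.node (.leaf (⟨1, 1, 29872, 0, 21721, 1, 34944⟩, .sync ⟨2, 0, 1154⟩)) (.leaf (⟨0, 0, 34944, 0, 34944, 1, 34944⟩, .dfn))) (.node (.leaf (⟨0, 1, 34659, 0, 34944, 3, 34944⟩, .dfn)) (.leaf (⟨0, 0, 34944, 0, 34944, 1, 34944⟩, .dfn)))) (.node (.node (.leaf (⟨1, 1, 28877, 0, 21693, 1, 34944⟩, .sync ⟨6, 0, 172⟩)) (.leaf (⟨0, 0, 34944, 0, 34944, 1, 34944⟩, .dfn))) (.node (.leaf (⟨1, 1, 53389, 0, 22680, 1, 34944⟩, .mul 13 7)) (.leaf (⟨0, 0, 34944, 0, 34944, 1, 34944⟩, .dfn)))))))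

/-- definitions -/
def defsBad8 : List (ℕ × ℕ × ℕ) := [(0, 34944, 0), (0, 34944, 1), (1, 34659, 0)]

/-- the facts -/
def factsBad9 : Tree (Fct × Why) :=
  (.node (.node (.node (.node (.node (.leaf (⟨0, 0, 34944, 0, 34944, 1, 34944⟩, .dfn)) (.leaf (⟨0, 3, 11785, 1, 43533, 3, 48913⟩, .fill 4 1 4 [34944, 10814, 34944, 65536, 54904, 65536, 62212] 0 34944 [⟨8, 0, 0⟩, ⟨14, 11, 243⟩] [⟨10, 0, 1268⟩, ⟨15, 11, 1096⟩]))) (.node (.leaf (⟨1, 0, 34944, 0, 34944, 0, 34944⟩, .base)) (.leaf (⟨0, 0, 34944, 0, 34944, 1, 34944⟩, .dfn)))) (.node (.node (.leaf (⟨1, 0, 30869, 0, 30869, 0, 34944⟩, .base)) (.leaf (⟨0, 0, 34944, 0, 34944, 1, 34944⟩, .dfn))) (.node (.leaf (⟨0, 3, 34944, 0, 34944, 1, 34659⟩, .inv 11)) (.leaf (⟨0, 0, 34944, 0, 34944, 1, 34944⟩, .dfn))))) (.node (.node (.node (.leaf (⟨1, 0,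 21721, 0, 21721, 0, 34944⟩, .base)) (.leaf (⟨1, 0, 11814, 0, 11894, 0, 34944⟩, .close 5 2 34944 [⟨8, 0, 0⟩, ⟨14, 11, 243⟩, ⟨17, 16, 1025⟩, ⟨17, 12, 1140⟩, ⟨9, 1, 428⟩]))) (.node (.leaf (⟨1, 0, 11087, 0, 11087, 0, 34944⟩, .base)) (.leaf (⟨0, 0, 34944, 0, 34944, 1, 34944⟩, .dfn)))) (.node (.node (.leaf (⟨1, 0, 21693, 0, 21693, 0, 34944⟩, .base)) (.leaf (⟨0, 0, 34944, 0, 34944, 1, 34944⟩, .dfn))) (.node (.leaf (⟨1, 1, 44273, 0, 44273, 1, 34944⟩, .mul 7 7)) (.leaf (⟨0, 0, 34944, 0, 34944, 1, 34944⟩, .dfn)))))) (.node (.node (.node (.node (.leaf (⟨0, 1, 34944, 0, 34944, 0, 34944⟩, .inv 0)) (.leaf (⟨1, 3, 34944, 0, 34944, 3, 34944⟩, .unit))) (.node (.leaf (⟨1, 1, 34944, 0, 34944, 1, 34944⟩, .unit)) (.leaf (⟨0, 0, 34944, 0, 34944, 1, 34944⟩, .dfn)))) (.node (.node (.leaf (⟨1, 1, 62617, 0,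 30869, 1, 34944⟩, .sync ⟨4, 0, 761⟩)) (.leaf (⟨0, 0, 34944, 0, 34944, 1, 34944⟩, .dfn))) (.node (.leaf (⟨1, 1, 59561, 0, 40128, 1, 34944⟩, .mul 5 3)) (.leaf (⟨0, 0, 34944, 0, 34944, 1, 34944⟩, .dfn))))) (.node (.node (.node (.leaf (⟨1, 1, 29872, 0, 21721, 1, 34944⟩, .sync ⟨2, 0, 1154⟩)) (.leaf (⟨0, 0, 34944, 0, 34944, 1, 34944⟩, .dfn))) (.node (.leaf (⟨0, 1, 34659, 0, 34944, 3, 34944⟩, .dfn)) (.leaf (⟨0, 0, 34944, 0, 34944, 1, 34944⟩, .dfn)))) (.node (.node (.leaf (⟨1, 1, 28877, 0, 21693, 1, 34944⟩, .sync ⟨6, 0, 172⟩)) (.leaf (⟨0, 0, 34944, 0, 34944, 1, 34944⟩, .dfn))) (.node (.leaf (⟨1, 1, 53389, 0, 22680, 1, 34944⟩, .mul 13 7)) (.leaf (⟨0, 0, 34944, 0, 34944, 1, 34944⟩, .dfn)))))))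

/-- definitions -/
def defsBad9 : List (ℕ × ℕ × ℕ) := [(0, 34944, 0), (0, 34944, 1), (1, 34659, 0)]

/-- the facts -/
def factsBad10 : Tree (Fct × Why) :=
  (.node (.node (.node (.node (.node (.leaf (⟨0, 0, 34944, 0, 34944, 1, 34944⟩, .dfn)) (.leaf (⟨0, 3, 11785, 1, 43533, 3, 26461⟩, .fill 4 1 4 [34944, 10815, 34944, 65536, 54904, 65536, 62212] 0 34944 [⟨8, 0, 0⟩, ⟨14, 11, 243⟩] [⟨10, 0, 1478⟩, ⟨15, 11, 1015⟩]))) (.node (.leaf (⟨1, 0, 34944, 0, 34944, 0, 34944⟩, .base)) (.leaf (⟨0, 0, 34944, 0, 34944, 1, 34944⟩, .dfn)))) (.node (.node (.leaf (⟨1, 0, 30869, 0, 30869, 0, 34944⟩, .base)) (.leaf (⟨0, 0, 34944, 0, 34944, 1, 34944⟩, .dfn))) (.node (.leaf (⟨0, 3, 34944, 0, 34944, 1, 34659⟩, .inv 11)) (.leaf (⟨0, 0, 34944, 0, 34944, 1, 34944⟩, .dfn))))) (.node (.node (.node (.leaf (⟨1, 0,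 21721, 0, 21721, 0, 34944⟩, .base)) (.leaf (⟨1, 0, 11814, 0, 11894, 0, 34944⟩, .close 5 2 34944 [⟨8, 0, 0⟩, ⟨14, 11, 243⟩, ⟨17, 16, 1025⟩, ⟨17, 12, 341⟩, ⟨9, 1, 797⟩]))) (.node (.leaf (⟨1, 0, 11087, 0, 11087, 0, 34944⟩, .base)) (.leaf (⟨0, 0, 34944, 0, 34944, 1, 34944⟩, .dfn)))) (.node (.node (.leaf (⟨1, 0, 21693, 0, 21693, 0, 34944⟩, .base)) (.leaf (⟨0, 0, 34944, 0, 34944, 1, 34944⟩, .dfn))) (.node (.leaf (⟨1, 1, 44273, 0, 44273, 1, 34944⟩, .mul 7 7)) (.leaf (⟨0, 0, 34944, 0, 34944, 1, 34944⟩, .dfn)))))) (.node (.node (.node (.node (.leaf (⟨0, 1, 34944, 0, 34944, 0, 34944⟩, .inv 0)) (.leaf (⟨1, 3, 34944, 0, 34944, 3, 34944⟩, .unit))) (.node (.leaf (⟨1, 1, 34944, 0, 34944, 1, 34944⟩, .unit)) (.leaf (⟨0, 0, 34944, 0, 34944, 1, 34944⟩, .dfn)))) (.node (.node (.leaf (⟨1, 1, 62617, 0,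 30869, 1, 34944⟩, .sync ⟨4, 0, 761⟩)) (.leaf (⟨0, 0, 34944, 0, 34944, 1, 34944⟩, .dfn))) (.node (.leaf (⟨1, 1, 59561, 0, 40128, 1, 34944⟩, .mul 5 3)) (.leaf (⟨0, 0, 34944, 0, 34944, 1, 34944⟩, .dfn))))) (.node (.node (.node (.leaf (⟨1, 1, 29872, 0, 21721, 1, 34944⟩, .sync ⟨2, 0, 1154⟩)) (.leaf (⟨0, 0, 34944, 0, 34944, 1, 34944⟩, .dfn))) (.node (.leaf (⟨0, 1, 34659, 0, 34944, 3, 34944⟩, .dfn)) (.leaf (⟨0, 0, 34944, 0, 34944, 1, 34944⟩, .dfn)))) (.node (.node (.leaf (⟨1, 1, 28877, 0, 21693, 1, 34944⟩, .sync ⟨6, 0, 172⟩)) (.leaf (⟨0, 0, 34944, 0, 34944, 1, 34944⟩, .dfn))) (.node (.leaf (⟨1, 1, 53389, 0, 22680, 1, 34944⟩, .mul 13 7)) (.leaf (⟨0, 0, 34944, 0, 34944, 1, 34944⟩, .dfn)))))))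

/-- definitions -/
def defsBad10 : List (ℕ × ℕ × ℕ) := [(0, 34944, 0), (0, 34944, 1), (1, 34659, 0)]

/-- the facts -/
def factsBad11 : Tree (Fct × Why) :=
  (.node (.node (.node (.node (.node (.leaf (⟨0, 0, 34944, 0, 34944, 1, 34944⟩, .dfn)) (.leaf (⟨0, 3, 34944, 0, 34944, 1, 34659⟩, .inv 15))) (.node (.leaf (⟨1, 1, 35056, 0, 44269, 1, 34944⟩, .mul 2 2)) (.leaf (⟨0, 3, 11785, 1, 43533, 3, 26384⟩, .fill 4 1 4 [34944, 10875, 34944, 65536, 54904, 65536, 62212] 0 34944 [⟨10, 0, 0⟩, ⟨20, 15, 243⟩] [⟨14, 0, 1464⟩, ⟨23, 15, 307⟩])))) (.node (.node (.leaf (⟨1, 1, 62617, 0, 30869, 1, 34944⟩, .sync ⟨3, 0, 761⟩)) (.leaf (⟨1, 1, 44273, 0, 44273, 1, 34944⟩, .mul 6 6))) (.node (.leaf (⟨0, 1, 34946, 0, 31898, 1, 39050⟩, .fill 0 0 2 [20621, 34946, 65536, 34946] 0 34944 [⟨10, 0, 0⟩] [⟨11, 0, 512⟩]))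 (.leaf (⟨1, 1, 30896, 0, 62656, 1, 34944⟩, .mul 22 6))))) (.node (.node (.node (.leaf (⟨1, 1, 29872, 0, 21721, 1, 34944⟩, .sync ⟨1, 0, 1154⟩)) (.leaf (⟨1, 1, 59561, 0, 40128, 1, 34944⟩, .mul 4 2))) (.node (.leaf (⟨1, 0, 34944, 0, 34944, 0, 34944⟩, .base)) (.leaf (⟨1, 1, 54428, 0, 22657, 1, 34944⟩, .mul 7 2)))) (.node (.node (.leaf (⟨1, 1, 28877, 0, 21693, 1, 34944⟩, .sync ⟨5, 0, 172⟩)) (.leaf (⟨1, 1, 40169, 0, 51429, 1, 34944⟩, .mul 6 4))) (.node (.leaf (⟨1, 0, 11087, 0, 11087, 0, 34944⟩, .base)) (.leaf (⟨1, 1, 52357, 0, 48265, 1, 34944⟩, .mul 29 4)))))) (.node (.node (.node (.node (.leaf (⟨1, 0, 21721, 0, 21721, 0, 34944⟩, .base)) (.leaf (⟨1, 3, 36052, 0, 44269, 3, 34944⟩, .sync ⟨8, 15, 741⟩))) (.node (.leaf (⟨1, 1, 43164, 0, 44165, 1, 34944⟩, .mul 2 6)) (.leaf (⟨1, 3, 34944, 0,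 34944, 3, 34944⟩, .unit)))) (.node (.node (.leaf (⟨1, 0, 21693, 0, 21693, 0, 34944⟩, .base)) (.leaf (⟨1, 1, 20673, 0, 28857, 1, 34944⟩, .mul 20 2))) (.node (.leaf (⟨1, 1, 34944, 0, 34944, 1, 34944⟩, .unit)) (.leaf (⟨1, 1, 48280, 0, 52372, 1, 34944⟩, .mul 28 6))))) (.node (.node (.node (.leaf (⟨1, 0, 30869, 0, 30869, 0, 34944⟩, .base)) (.leaf (⟨1, 1, 21676, 0, 28892, 1, 34944⟩, .mul 9 2))) (.node (.leaf (⟨1, 0, 31898, 0, 31898, 0, 34944⟩, .base)) (.leaf (⟨0, 3, 54599, 0, 15081, 3, 56857⟩, .fill 4 1 6 [34944, 10875, 34944, 65536, 54904] 1 34946 [⟨13, 12, 0⟩, ⟨26, 15, 119⟩, ⟨17, 24, 1297⟩] [⟨19, 15, 1529⟩])))) (.node (.node (.leaf (⟨1, 1, 51420, 0, 40108, 1, 34944⟩, .mul 4 6)) (.leaf (⟨1, 1, 53389, 0, 22680, 1, 34944⟩, .mul 18 6))) (.node (.leaf (⟨0, 1, 34659, 0, 34944, 3, 34944⟩, .dfn))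 (.leaf (⟨1, 1, 52357, 0, 44169, 1, 34944⟩, .close 4 9 34946 [⟨13, 12, 0⟩, ⟨21, 15, 141⟩, ⟨25, 27, 933⟩, ⟨25, 24, 489⟩, ⟨25, 16, 702⟩])))))))

/-- definitions -/
def defsBad11 : List (ℕ × ℕ × ℕ) := [(0, 34944, 0), (0, 34944, 1), (1, 34659, 0)]

/-- the facts -/
def factsBad12 : Tree (Fct × Why) :=
  (.node (.node (.node (.node (.node (.node (.leaf (⟨0, 0, 34944, 0, 34944, 1, 34944⟩, .dfn)) (.leaf (⟨1, 1, 60605, 0, 48329, 1, 34944⟩, .mul 31 6))) (.node (.leaf (⟨0, 3, 34944, 0, 34944, 1, 34659⟩, .inv 15)) (.leaf (⟨0, 0, 34944, 0, 34944, 1, 34944⟩, .dfn)))) (.node (.node (.leaf (⟨1, 1, 35056, 0, 44269, 1, 34944⟩, .mul 2 2)) (.leaf (⟨0, 0, 34944, 0, 34944, 1, 34944⟩, .dfn))) (.node (.leaf (⟨1, 1, 44273, 0, 44273, 1, 34944⟩, .mul 6 6)) (.leaf (⟨0, 0, 34944, 0, 34944, 1, 34944⟩, .dfn)))))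 (.node (.node (.node (.leaf (⟨1, 1, 62617, 0, 30869, 1, 34944⟩, .sync ⟨3, 0, 761⟩)) (.leaf (⟨0, 0, 34944, 0, 34944, 1, 34944⟩, .dfn))) (.node (.leaf (⟨1, 1, 44161, 0, 34972, 1, 34944⟩, .mul 19 6)) (.leaf (⟨0, 0, 34944, 0, 34944, 1, 34944⟩, .dfn)))) (.node (.node (.leaf (⟨0, 1, 34946, 0, 31898, 1, 39050⟩, .fill 0 0 2 [20621, 34946, 65536, 34946] 0 34944 [⟨10, 0, 0⟩] [⟨11, 0, 512⟩])) (.leaf (⟨0, 0, 34944, 0, 34944, 1, 34944⟩, .dfn))) (.node (.leaf (⟨1, 3, 34944, 0, 34944, 3, 34944⟩, .unit)) (.leaf (⟨0, 0, 34944, 0, 34944, 1, 34944⟩, .dfn)))))) (.node (.node (.node (.node (.leaf (⟨1, 1, 29872, 0, 21721, 1, 34944⟩, .sync ⟨1, 0, 1154⟩)) (.leaf (⟨0, 0, 34944, 0, 34944, 1, 34944⟩, .dfn))) (.node (.leaf (⟨1, 1, 59561, 0, 40128, 1, 34944⟩, .mul 4 2)) (.leaf (⟨0, 0, 34944, 0, 34944, 1, 34944⟩,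 .dfn)))) (.node (.node (.leaf (⟨1, 0, 34944, 0, 34944, 0, 34944⟩, .base)) (.leaf (⟨0, 0, 34944, 0, 34944, 1, 34944⟩, .dfn))) (.node (.leaf (⟨1, 1, 53389, 0, 22680, 1, 34944⟩, .mul 18 6)) (.leaf (⟨0, 0, 34944, 0, 34944, 1, 34944⟩, .dfn))))) (.node (.node (.node (.leaf (⟨1, 1, 28877, 0, 21693, 1, 34944⟩, .sync ⟨5, 0, 172⟩)) (.leaf (⟨0, 0, 34944, 0, 34944, 1, 34944⟩, .dfn))) (.node (.leaf (⟨1, 1, 52392, 0, 40156, 1, 34944⟩, .mul 21 2)) (.leaf (⟨0, 0, 34944, 0, 34944, 1, 34944⟩, .dfn)))) (.node (.node (.leaf (⟨1, 0, 11087, 0, 11087, 0, 34944⟩, .base)) (.leaf (⟨0, 0, 34944, 0, 34944, 1, 34944⟩, .dfn))) (.node (.leaf (⟨0, 3, 40279, 0, 15081, 3, 56921⟩, .fill 4 1 6 [34944, 10874, 34944, 65536, 54904] 1 34946 [⟨13, 12, 0⟩, ⟨29, 15, 119⟩, ⟨17, 27, 1297⟩] [⟨23, 15, 1447⟩])) (.leaf (⟨0, 0, 34944,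 0, 34944, 1, 34944⟩, .dfn))))))) (.node (.node (.node (.node (.node (.leaf (⟨1, 0, 21721, 0, 21721, 0, 34944⟩, .base)) (.leaf (⟨1, 1, 60605, 0, 44169, 1, 34944⟩, .close 4 9 34946 [⟨13, 12, 0⟩, ⟨25, 15, 566⟩, ⟨28, 30, 29⟩, ⟨28, 27, 1340⟩, ⟨28, 16, 488⟩]))) (.node (.leaf (⟨1, 3, 36052, 0, 44269, 3, 34944⟩, .sync ⟨8, 15, 741⟩)) (.leaf (⟨0, 0, 34944, 0, 34944, 1, 34944⟩, .dfn)))) (.node (.node (.leaf (⟨1, 1, 43164, 0, 44165, 1, 34944⟩, .mul 2 6)) (.leaf (⟨0, 0, 34944, 0, 34944, 1, 34944⟩, .dfn))) (.node (.leaf (⟨1, 1, 20673, 0, 28857, 1, 34944⟩, .mul 24 2)) (.leaf (⟨0, 0, 34944, 0, 34944, 1, 34944⟩, .dfn))))) (.node (.node (.node (.leaf (⟨1, 0, 21693, 0, 21693, 0, 34944⟩, .base)) (.leaf (⟨0, 0, 34944, 0, 34944, 1, 34944⟩, .dfn))) (.node (.leaf (⟨1, 1, 53400, 0, 30857, 1, 34944⟩, .mul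 20 4)) (.leaf (⟨0, 0, 34944, 0, 34944, 1, 34944⟩, .dfn)))) (.node (.node (.leaf (⟨1, 1, 34944, 0, 34944, 1, 34944⟩, .unit)) (.leaf (⟨0, 0, 34944, 0, 34944, 1, 34944⟩, .dfn))) (.node (.leaf (⟨1, 1, 54428, 0, 22657, 1, 34944⟩, .mul 7 2)) (.leaf (⟨0, 0, 34944, 0, 34944, 1, 34944⟩, .dfn)))))) (.node (.node (.node (.node (.leaf (⟨1, 0, 30869, 0, 30869, 0, 34944⟩, .base)) (.leaf (⟨0, 0, 34944, 0, 34944, 1, 34944⟩, .dfn))) (.node (.leaf (⟨1, 1, 28845, 0, 28864, 1, 34944⟩, .mul 8 6)) (.leaf (⟨0, 0, 34944, 0, 34944, 1, 34944⟩, .dfn)))) (.node (.node (.leaf (⟨1, 0, 31898, 0, 31898, 0, 34944⟩, .base)) (.leaf (⟨0, 0, 34944, 0, 34944, 1, 34944⟩, .dfn))) (.node (.leaf (⟨0, 3, 11785, 1, 43533, 3, 48988⟩, .fill 4 1 4 [34944, 10874, 34944, 65536, 54904, 65536, 62212] 0 34944 [⟨10, 0, 0⟩, ⟨24, 15,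 243⟩] [⟨14, 0, 1531⟩, ⟨26, 15, 1292⟩])) (.leaf (⟨0, 0, 34944, 0, 34944, 1, 34944⟩, .dfn))))) (.node (.node (.node (.leaf (⟨1, 1, 51420, 0, 40108, 1, 34944⟩, .mul 4 6)) (.leaf (⟨0, 0, 34944, 0, 34944, 1, 34944⟩, .dfn))) (.node (.leaf (⟨1, 1, 21676, 0, 28892, 1, 34944⟩, .mul 9 2)) (.leaf (⟨0, 0, 34944, 0, 34944, 1, 34944⟩, .dfn)))) (.node (.node (.leaf (⟨0, 1, 34659, 0, 34944, 3, 34944⟩, .dfn)) (.leaf (⟨0, 0, 34944, 0, 34944, 1, 34944⟩, .dfn))) (.node (.leaf (⟨1, 1, 53480, 0, 22752, 1, 34944⟩, .mul 22 2)) (.leaf (⟨0, 0, 34944, 0, 34944, 1, 34944⟩, .dfn))))))))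

/-- definitions -/
def defsBad12 : List (ℕ × ℕ × ℕ) := [(0, 34944, 0), (0, 34944, 1), (1, 34659, 0)]

/-- the facts -/
def factsBad13 : Tree (Fct × Why) :=
  (.node (.node (.node (.node (.node (.leaf (⟨0, 0, 34944, 0, 34944, 1, 34944⟩, .dfn)) (.leaf (⟨0, 3, 11785, 1, 43533, 3, 63281⟩, .fill 4 1 4 [34944, 10879, 34944, 65536, 54904, 65536, 62212] 0 34944 [⟨8, 0, 0⟩, ⟨14, 11, 243⟩] [⟨10, 0, 1533⟩, ⟨15, 11, 1255⟩]))) (.node (.leaf (⟨1, 0, 34944, 0, 34944, 0, 34944⟩, .base)) (.leaf (⟨0, 0, 34944, 0, 34944, 1, 34944⟩, .dfn)))) (.node (.node (.leaf (⟨1, 0, 30869, 0, 30869, 0, 34944⟩, .base)) (.leaf (⟨0, 0, 34944, 0, 34944, 1, 34944⟩, .dfn))) (.node (.leaf (⟨0, 3, 34944, 0, 34944, 1, 34659⟩, .inv 11)) (.leaf (⟨0, 0, 34944, 0, 34944, 1, 34944⟩, .dfn))))) (.node (.node (.node (.leaf (⟨1,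 0, 21721, 0, 21721, 0, 34944⟩, .base)) (.leaf (⟨1, 0, 11895, 0, 11894, 0, 34944⟩, .close 5 2 34944 [⟨8, 0, 0⟩, ⟨14, 11, 243⟩, ⟨17, 16, 1025⟩, ⟨17, 12, 112⟩, ⟨9, 1, 122⟩]))) (.node (.leaf (⟨1, 0, 11087, 0, 11087, 0, 34944⟩, .base)) (.leaf (⟨0, 0, 34944, 0, 34944, 1, 34944⟩, .dfn)))) (.node (.node (.leaf (⟨1, 0, 21693, 0, 21693, 0, 34944⟩, .base)) (.leaf (⟨0, 0, 34944, 0, 34944, 1, 34944⟩, .dfn))) (.node (.leaf (⟨1, 1, 44273, 0, 44273, 1, 34944⟩, .mul 7 7)) (.leaf (⟨0, 0, 34944, 0, 34944, 1, 34944⟩, .dfn)))))) (.node (.node (.node (.node (.leaf (⟨0, 1, 34944, 0, 34944, 0, 34944⟩, .inv 0)) (.leaf (⟨1, 3, 34944, 0, 34944, 3, 34944⟩, .unit))) (.node (.leaf (⟨1, 1, 34944, 0, 34944, 1, 34944⟩, .unit)) (.leaf (⟨0, 0, 34944, 0, 34944, 1, 34944⟩, .dfn)))) (.node (.node (.leaf (⟨1, 1, 62617,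 0, 30869, 1, 34944⟩, .sync ⟨4, 0, 761⟩)) (.leaf (⟨0, 0, 34944, 0, 34944, 1, 34944⟩, .dfn))) (.node (.leaf (⟨1, 1, 59561, 0, 40128, 1, 34944⟩, .mul 5 3)) (.leaf (⟨0, 0, 34944, 0, 34944, 1, 34944⟩, .dfn))))) (.node (.node (.node (.leaf (⟨1, 1, 29872, 0, 21721, 1, 34944⟩, .sync ⟨2, 0, 1154⟩)) (.leaf (⟨0, 0, 34944, 0, 34944, 1, 34944⟩, .dfn))) (.node (.leaf (⟨0, 1, 34659, 0, 34944, 3, 34944⟩, .dfn)) (.leaf (⟨0, 0, 34944, 0, 34944, 1, 34944⟩, .dfn)))) (.node (.node (.leaf (⟨1, 1, 28877, 0, 21693, 1, 34944⟩, .sync ⟨6, 0, 172⟩)) (.leaf (⟨0, 0, 34944, 0, 34944, 1, 34944⟩, .dfn))) (.node (.leaf (⟨1, 1, 53389, 0, 22680, 1, 34944⟩, .mul 13 7)) (.leaf (⟨0, 0, 34944, 0, 34944, 1, 34944⟩, .dfn)))))))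

/-- definitions -/
def defsBad13 : List (ℕ × ℕ × ℕ) := [(0, 34944, 0), (0, 34944, 1), (1, 34659, 0)]

/-- the facts -/
def factsBad14 : Tree (Fct × Why) :=
  (.node (.node (.node (.node (.node (.leaf (⟨0, 0, 34944, 0, 34944, 1, 34944⟩, .dfn)) (.leaf (⟨0, 3, 11785, 1, 43533, 3, 12157⟩, .fill 4 1 4 [34944, 10878, 34944, 65536, 54904, 65536, 62212] 0 34944 [⟨8, 0, 0⟩, ⟨14, 11, 243⟩] [⟨10, 0, 1270⟩, ⟨15, 11, 697⟩]))) (.node (.leaf (⟨1, 0, 34944, 0, 34944, 0, 34944⟩, .base)) (.leaf (⟨0, 0, 34944, 0, 34944, 1, 34944⟩, .dfn)))) (.node (.node (.leaf (⟨1, 0, 30869, 0, 30869, 0, 34944⟩, .base)) (.leaf (⟨0, 0, 34944, 0, 34944, 1, 34944⟩, .dfn))) (.node (.leaf (⟨0, 3, 34944, 0, 34944, 1, 34659⟩, .inv 11)) (.leaf (⟨0, 0, 34944, 0, 34944, 1, 34944⟩, .dfn))))) (.node (.node (.node (.leaf (⟨1, 0,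 21721, 0, 21721, 0, 34944⟩, .base)) (.leaf (⟨1, 0, 11895, 0, 11894, 0, 34944⟩, .close 5 2 34944 [⟨8, 0, 0⟩, ⟨14, 11, 243⟩, ⟨17, 16, 1025⟩, ⟨17, 12, 156⟩, ⟨9, 1, 479⟩]))) (.node (.leaf (⟨1, 0, 11087, 0, 11087, 0, 34944⟩, .base)) (.leaf (⟨0, 0, 34944, 0, 34944, 1, 34944⟩, .dfn)))) (.node (.node (.leaf (⟨1, 0, 21693, 0, 21693, 0, 34944⟩, .base)) (.leaf (⟨0, 0, 34944, 0, 34944, 1, 34944⟩, .dfn))) (.node (.leaf (⟨1, 1, 44273, 0, 44273, 1, 34944⟩, .mul 7 7)) (.leaf (⟨0, 0, 34944, 0, 34944, 1, 34944⟩, .dfn)))))) (.node (.node (.node (.node (.leaf (⟨0, 1, 34944, 0, 34944, 0, 34944⟩, .inv 0)) (.leaf (⟨1, 3, 34944, 0, 34944, 3, 34944⟩, .unit))) (.node (.leaf (⟨1, 1, 34944, 0, 34944, 1, 34944⟩, .unit)) (.leaf (⟨0, 0, 34944, 0, 34944, 1, 34944⟩, .dfn)))) (.node (.node (.leaf (⟨1, 1, 62617, 0,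 30869, 1, 34944⟩, .sync ⟨4, 0, 761⟩)) (.leaf (⟨0, 0, 34944, 0, 34944, 1, 34944⟩, .dfn))) (.node (.leaf (⟨1, 1, 59561, 0, 40128, 1, 34944⟩, .mul 5 3)) (.leaf (⟨0, 0, 34944, 0, 34944, 1, 34944⟩, .dfn))))) (.node (.node (.node (.leaf (⟨1, 1, 29872, 0, 21721, 1, 34944⟩, .sync ⟨2, 0, 1154⟩)) (.leaf (⟨0, 0, 34944, 0, 34944, 1, 34944⟩, .dfn))) (.node (.leaf (⟨0, 1, 34659, 0, 34944, 3, 34944⟩, .dfn)) (.leaf (⟨0, 0, 34944, 0, 34944, 1, 34944⟩, .dfn)))) (.node (.node (.leaf (⟨1, 1, 28877, 0, 21693, 1, 34944⟩, .sync ⟨6, 0, 172⟩)) (.leaf (⟨0, 0, 34944, 0, 34944, 1, 34944⟩, .dfn))) (.node (.leaf (⟨1, 1, 53389, 0, 22680, 1, 34944⟩, .mul 13 7)) (.leaf (⟨0, 0, 34944, 0, 34944, 1, 34944⟩, .dfn)))))))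

/-- definitions -/
def defsBad14 : List (ℕ × ℕ × ℕ) := [(0, 34944, 0), (0, 34944, 1), (1, 34659, 0)]

/-- the facts -/
def factsBad15 : Tree (Fct × Why) :=
  (.node (.node (.node (.node (.node (.leaf (⟨0, 0, 34944, 0, 34944, 1, 34944⟩, .dfn)) (.leaf (⟨0, 3, 11785, 1, 43533, 3, 48924⟩, .fill 4 1 4 [34944, 14895, 34944, 65536, 54904, 65536, 62212] 0 34944 [⟨8, 0, 0⟩, ⟨14, 11, 243⟩] [⟨10, 0, 4⟩, ⟨15, 11, 377⟩]))) (.node (.leaf (⟨1, 0, 34944, 0, 34944, 0, 34944⟩, .base)) (.leaf (⟨0, 0, 34944, 0, 34944, 1, 34944⟩, .dfn)))) (.node (.node (.leaf (⟨1, 0, 30869, 0, 30869, 0, 34944⟩, .base)) (.leaf (⟨0, 0, 34944, 0, 34944, 1, 34944⟩, .dfn))) (.node (.leaf (⟨0, 3, 34944, 0, 34944, 1, 34659⟩, .inv 11)) (.leaf (⟨0, 0, 34944, 0, 34944, 1, 34944⟩, .dfn))))) (.node (.node (.node (.leaf (⟨1, 0, 21721,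 0, 21721, 0, 34944⟩, .base)) (.leaf (⟨1, 0, 14946, 0, 11894, 0, 34944⟩, .close 5 2 34944 [⟨8, 0, 0⟩, ⟨14, 11, 243⟩, ⟨17, 16, 1025⟩, ⟨17, 12, 249⟩, ⟨9, 1, 283⟩]))) (.node (.leaf (⟨1, 0, 11087, 0, 11087, 0, 34944⟩, .base)) (.leaf (⟨0, 0, 34944, 0, 34944, 1, 34944⟩, .dfn)))) (.node (.node (.leaf (⟨1, 0, 21693, 0, 21693, 0, 34944⟩, .base)) (.leaf (⟨0, 0, 34944, 0, 34944, 1, 34944⟩, .dfn))) (.node (.leaf (⟨1, 1, 44273, 0, 44273, 1, 34944⟩, .mul 7 7)) (.leaf (⟨0, 0, 34944, 0, 34944, 1, 34944⟩, .dfn)))))) (.node (.node (.node (.node (.leaf (⟨0, 1, 34944, 0, 34944, 0, 34944⟩, .inv 0)) (.leaf (⟨1, 3, 34944, 0, 34944, 3, 34944⟩, .unit))) (.node (.leaf (⟨1, 1, 34944, 0, 34944, 1, 34944⟩, .unit)) (.leaf (⟨0, 0, 34944, 0, 34944, 1, 34944⟩, .dfn)))) (.node (.node (.leaf (⟨1, 1, 62617, 0, 30869,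 1, 34944⟩, .sync ⟨4, 0, 761⟩)) (.leaf (⟨0, 0, 34944, 0, 34944, 1, 34944⟩, .dfn))) (.node (.leaf (⟨1, 1, 59561, 0, 40128, 1, 34944⟩, .mul 5 3)) (.leaf (⟨0, 0, 34944, 0, 34944, 1, 34944⟩, .dfn))))) (.node (.node (.node (.leaf (⟨1, 1, 29872, 0, 21721, 1, 34944⟩, .sync ⟨2, 0, 1154⟩)) (.leaf (⟨0, 0, 34944, 0, 34944, 1, 34944⟩, .dfn))) (.node (.leaf (⟨0, 1, 34659, 0, 34944, 3, 34944⟩, .dfn)) (.leaf (⟨0, 0, 34944, 0, 34944, 1, 34944⟩, .dfn)))) (.node (.node (.leaf (⟨1, 1, 28877, 0, 21693, 1, 34944⟩, .sync ⟨6, 0, 172⟩)) (.leaf (⟨0, 0, 34944, 0, 34944, 1, 34944⟩, .dfn))) (.node (.leaf (⟨1, 1, 53389, 0, 22680, 1, 34944⟩, .mul 13 7)) (.leaf (⟨0, 0, 34944, 0, 34944, 1, 34944⟩, .dfn)))))))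

/-- definitions -/
def defsBad15 : List (ℕ × ℕ × ℕ) := [(0, 34944, 0), (0, 34944, 1), (1, 34659, 0)]

/-- the facts -/
def factsBad16 : Tree (Fct × Why) :=
  (.node (.node (.node (.node (.node (.leaf (⟨0, 0, 34944, 0, 34944, 1, 34944⟩, .dfn)) (.leaf (⟨0, 3, 11785, 1, 43533, 3, 26448⟩, .fill 4 1 4 [34944, 14894, 34944, 65536, 54904, 65536, 62212] 0 34944 [⟨8, 0, 0⟩, ⟨14, 11, 243⟩] [⟨10, 0, 32⟩, ⟨15, 11, 1322⟩]))) (.node (.leaf (⟨1, 0, 34944, 0, 34944, 0, 34944⟩, .base)) (.leaf (⟨0, 0, 34944, 0, 34944, 1, 34944⟩, .dfn)))) (.node (.node (.leaf (⟨1, 0, 30869, 0, 30869, 0, 34944⟩, .base)) (.leaf (⟨0, 0, 34944, 0, 34944, 1, 34944⟩, .dfn))) (.node (.leaf (⟨0, 3, 34944, 0, 34944, 1, 34659⟩, .inv 11)) (.leaf (⟨0, 0, 34944, 0, 34944, 1, 34944⟩, .dfn))))) (.node (.node (.node (.leaf (⟨1, 0,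 21721, 0, 21721, 0, 34944⟩, .base)) (.leaf (⟨1, 0, 14946, 0, 11894, 0, 34944⟩, .close 5 2 34944 [⟨8, 0, 0⟩, ⟨14, 11, 243⟩, ⟨17, 16, 1025⟩, ⟨17, 12, 339⟩, ⟨9, 1, 299⟩]))) (.node (.leaf (⟨1, 0, 11087, 0, 11087, 0, 34944⟩, .base)) (.leaf (⟨0, 0, 34944, 0, 34944, 1, 34944⟩, .dfn)))) (.node (.node (.leaf (⟨1, 0, 21693, 0, 21693, 0, 34944⟩, .base)) (.leaf (⟨0, 0, 34944, 0, 34944, 1, 34944⟩, .dfn))) (.node (.leaf (⟨1, 1, 44273, 0, 44273, 1, 34944⟩, .mul 7 7)) (.leaf (⟨0, 0, 34944, 0, 34944, 1, 34944⟩, .dfn)))))) (.node (.node (.node (.node (.leaf (⟨0, 1, 34944, 0, 34944, 0, 34944⟩, .inv 0)) (.leaf (⟨1, 3, 34944, 0, 34944, 3, 34944⟩, .unit))) (.node (.leaf (⟨1, 1, 34944, 0, 34944, 1, 34944⟩, .unit)) (.leaf (⟨0, 0, 34944, 0, 34944, 1, 34944⟩, .dfn)))) (.node (.node (.leaf (⟨1, 1, 62617, 0,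 30869, 1, 34944⟩, .sync ⟨4, 0, 761⟩)) (.leaf (⟨0, 0, 34944, 0, 34944, 1, 34944⟩, .dfn))) (.node (.leaf (⟨1, 1, 59561, 0, 40128, 1, 34944⟩, .mul 5 3)) (.leaf (⟨0, 0, 34944, 0, 34944, 1, 34944⟩, .dfn))))) (.node (.node (.node (.leaf (⟨1, 1, 29872, 0, 21721, 1, 34944⟩, .sync ⟨2, 0, 1154⟩)) (.leaf (⟨0, 0, 34944, 0, 34944, 1, 34944⟩, .dfn))) (.node (.leaf (⟨0, 1, 34659, 0, 34944, 3, 34944⟩, .dfn)) (.leaf (⟨0, 0, 34944, 0, 34944, 1, 34944⟩, .dfn)))) (.node (.node (.leaf (⟨1, 1, 28877, 0, 21693, 1, 34944⟩, .sync ⟨6, 0, 172⟩)) (.leaf (⟨0, 0, 34944, 0, 34944, 1, 34944⟩, .dfn))) (.node (.leaf (⟨1, 1, 53389, 0, 22680, 1, 34944⟩, .mul 13 7)) (.leaf (⟨0, 0, 34944, 0, 34944, 1, 34944⟩, .dfn)))))))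

/-- definitions -/
def defsBad16 : List (ℕ × ℕ × ℕ) := [(0, 34944, 0), (0, 34944, 1), (1, 34659, 0)]

/-- the facts -/
def factsBad17 : Tree (Fct × Why) :=
  (.node (.node (.node (.node (.node (.leaf (⟨0, 0, 34944, 0, 34944, 1, 34944⟩, .dfn)) (.leaf (⟨0, 3, 11785, 1, 43533, 3, 12093⟩, .fill 4 1 4 [34944, 14891, 34944, 65536, 54904, 65536, 62212] 0 34944 [⟨8, 0, 0⟩, ⟨14, 11, 243⟩] [⟨10, 0, 220⟩, ⟨15, 11, 1519⟩]))) (.node (.leaf (⟨1, 0, 34944, 0, 34944, 0, 34944⟩, .base)) (.leaf (⟨0, 0, 34944, 0, 34944, 1, 34944⟩, .dfn)))) (.node (.node (.leaf (⟨1, 0, 30869, 0, 30869, 0, 34944⟩, .base)) (.leaf (⟨0, 0, 34944, 0, 34944, 1, 34944⟩, .dfn))) (.node (.leaf (⟨0, 3, 34944, 0, 34944, 1, 34659⟩, .inv 11)) (.leaf (⟨0, 0, 34944, 0, 34944, 1, 34944⟩, .dfn))))) (.node (.node (.node (.leaf (⟨1, 0,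 21721, 0, 21721, 0, 34944⟩, .base)) (.leaf (⟨1, 0, 14947, 0, 11894, 0, 34944⟩, .close 5 2 34944 [⟨8, 0, 0⟩, ⟨14, 11, 243⟩, ⟨17, 16, 1025⟩, ⟨17, 12, 667⟩, ⟨9, 1, 269⟩]))) (.node (.leaf (⟨1, 0, 11087, 0, 11087, 0, 34944⟩, .base)) (.leaf (⟨0, 0, 34944, 0, 34944, 1, 34944⟩, .dfn)))) (.node (.node (.leaf (⟨1, 0, 21693, 0, 21693, 0, 34944⟩, .base)) (.leaf (⟨0, 0, 34944, 0, 34944, 1, 34944⟩, .dfn))) (.node (.leaf (⟨1, 1, 44273, 0, 44273, 1, 34944⟩, .mul 7 7)) (.leaf (⟨0, 0, 34944, 0, 34944, 1, 34944⟩, .dfn)))))) (.node (.node (.node (.node (.leaf (⟨0, 1, 34944, 0, 34944, 0, 34944⟩, .inv 0)) (.leaf (⟨1, 3, 34944, 0, 34944, 3, 34944⟩, .unit))) (.node (.leaf (⟨1, 1, 34944, 0, 34944, 1, 34944⟩, .unit)) (.leaf (⟨0, 0, 34944, 0, 34944, 1, 34944⟩, .dfn)))) (.node (.node (.leaf (⟨1, 1, 62617, 0,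 30869, 1, 34944⟩, .sync ⟨4, 0, 761⟩)) (.leaf (⟨0, 0, 34944, 0, 34944, 1, 34944⟩, .dfn))) (.node (.leaf (⟨1, 1, 59561, 0, 40128, 1, 34944⟩, .mul 5 3)) (.leaf (⟨0, 0, 34944, 0, 34944, 1, 34944⟩, .dfn))))) (.node (.node (.node (.leaf (⟨1, 1, 29872, 0, 21721, 1, 34944⟩, .sync ⟨2, 0, 1154⟩)) (.leaf (⟨0, 0, 34944, 0, 34944, 1, 34944⟩, .dfn))) (.node (.leaf (⟨0, 1, 34659, 0, 34944, 3, 34944⟩, .dfn)) (.leaf (⟨0, 0, 34944, 0, 34944, 1, 34944⟩, .dfn)))) (.node (.node (.leaf (⟨1, 1, 28877, 0, 21693, 1, 34944⟩, .sync ⟨6, 0, 172⟩)) (.leaf (⟨0, 0, 34944, 0, 34944, 1, 34944⟩, .dfn))) (.node (.leaf (⟨1, 1, 53389, 0, 22680, 1, 34944⟩, .mul 13 7)) (.leaf (⟨0, 0, 34944, 0, 34944, 1, 34944⟩, .dfn)))))))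

/-- definitions -/
def defsBad17 : List (ℕ × ℕ × ℕ) := [(0, 34944, 0), (0, 34944, 1), (1, 34659, 0)]

/-- the facts -/
def factsBad18 : Tree (Fct × Why) :=
  (.node (.node (.node (.node (.node (.leaf (⟨0, 0, 34944, 0, 34944, 1, 34944⟩, .dfn)) (.leaf (⟨0, 3, 11785, 1, 43533, 3, 63345⟩, .fill 4 1 4 [34944, 14890, 34944, 65536, 54904, 65536, 62212] 0 34944 [⟨8, 0, 0⟩, ⟨14, 11, 243⟩] [⟨10, 0, 815⟩, ⟨15, 11, 1484⟩]))) (.node (.leaf (⟨1, 0, 34944, 0, 34944, 0, 34944⟩, .base)) (.leaf (⟨0, 0, 34944, 0, 34944, 1, 34944⟩, .dfn)))) (.node (.node (.leaf (⟨1, 0, 30869, 0, 30869, 0, 34944⟩, .base)) (.leaf (⟨0, 0, 34944, 0, 34944, 1, 34944⟩, .dfn))) (.node (.leaf (⟨0, 3, 34944, 0, 34944, 1, 34659⟩, .inv 11)) (.leaf (⟨0, 0, 34944, 0, 34944, 1, 34944⟩, .dfn))))) (.node (.node (.node (.leaf (⟨1, 0,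 21721, 0, 21721, 0, 34944⟩, .base)) (.leaf (⟨1, 0, 14947, 0, 11894, 0, 34944⟩, .close 5 2 34944 [⟨8, 0, 0⟩, ⟨14, 11, 243⟩, ⟨17, 16, 1025⟩, ⟨17, 12, 1199⟩, ⟨9, 1, 208⟩]))) (.node (.leaf (⟨1, 0, 11087, 0, 11087, 0, 34944⟩, .base)) (.leaf (⟨0, 0, 34944, 0, 34944, 1, 34944⟩, .dfn)))) (.node (.node (.leaf (⟨1, 0, 21693, 0, 21693, 0, 34944⟩, .base)) (.leaf (⟨0, 0, 34944, 0, 34944, 1, 34944⟩, .dfn))) (.node (.leaf (⟨1, 1, 44273, 0, 44273, 1, 34944⟩, .mul 7 7)) (.leaf (⟨0, 0, 34944, 0, 34944, 1, 34944⟩, .dfn)))))) (.node (.node (.node (.node (.leaf (⟨0, 1, 34944, 0, 34944, 0, 34944⟩, .inv 0)) (.leaf (⟨1, 3, 34944, 0, 34944, 3, 34944⟩, .unit))) (.node (.leaf (⟨1, 1, 34944, 0, 34944, 1, 34944⟩, .unit)) (.leaf (⟨0, 0, 34944, 0, 34944, 1, 34944⟩, .dfn)))) (.node (.node (.leaf (⟨1, 1, 62617, 0,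 30869, 1, 34944⟩, .sync ⟨4, 0, 761⟩)) (.leaf (⟨0, 0, 34944, 0, 34944, 1, 34944⟩, .dfn))) (.node (.leaf (⟨1, 1, 59561, 0, 40128, 1, 34944⟩, .mul 5 3)) (.leaf (⟨0, 0, 34944, 0, 34944, 1, 34944⟩, .dfn))))) (.node (.node (.node (.leaf (⟨1, 1, 29872, 0, 21721, 1, 34944⟩, .sync ⟨2, 0, 1154⟩)) (.leaf (⟨0, 0, 34944, 0, 34944, 1, 34944⟩, .dfn))) (.node (.leaf (⟨0, 1, 34659, 0, 34944, 3, 34944⟩, .dfn)) (.leaf (⟨0, 0, 34944, 0, 34944, 1, 34944⟩, .dfn)))) (.node (.node (.leaf (⟨1, 1, 28877, 0, 21693, 1, 34944⟩, .sync ⟨6, 0, 172⟩)) (.leaf (⟨0, 0, 34944, 0, 34944, 1, 34944⟩, .dfn))) (.node (.leaf (⟨1, 1, 53389, 0, 22680, 1, 34944⟩, .mul 13 7)) (.leaf (⟨0, 0, 34944, 0, 34944, 1, 34944⟩, .dfn)))))))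

/-- definitions -/
def defsBad18 : List (ℕ × ℕ × ℕ) := [(0, 34944, 0), (0, 34944, 1), (1, 34659, 0)]

/-- the facts -/
def factsBad19 : Tree (Fct × Why) :=
  (.node (.node (.node (.node (.node (.leaf (⟨0, 0, 34944, 0, 34944, 1, 34944⟩, .dfn)) (.leaf (⟨0, 3, 11785, 1, 43533, 3, 63292⟩, .fill 4 1 4 [34944, 14958, 34944, 65536, 54904, 65536, 62212] 0 34944 [⟨8, 0, 0⟩, ⟨14, 11, 243⟩] [⟨10, 0, 351⟩, ⟨15, 11, 1483⟩]))) (.node (.leaf (⟨1, 0, 34944, 0, 34944, 0, 34944⟩, .base)) (.leaf (⟨0, 0, 34944, 0, 34944, 1, 34944⟩, .dfn)))) (.node (.node (.leaf (⟨1, 0, 30869, 0, 30869, 0, 34944⟩, .base)) (.leaf (⟨0, 0, 34944, 0, 34944, 1, 34944⟩, .dfn))) (.node (.leaf (⟨0, 3, 34944, 0, 34944, 1, 34659⟩, .inv 11)) (.leaf (⟨0, 0, 34944, 0, 34944, 1, 34944⟩, .dfn))))) (.node (.node (.node (.leaf (⟨1, 0,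 21721, 0, 21721, 0, 34944⟩, .base)) (.leaf (⟨1, 0, 14899, 0, 11894, 0, 34944⟩, .close 5 2 34944 [⟨8, 0, 0⟩, ⟨14, 11, 243⟩, ⟨17, 16, 1025⟩, ⟨17, 12, 721⟩, ⟨9, 1, 1321⟩]))) (.node (.leaf (⟨1, 0, 11087, 0, 11087, 0, 34944⟩, .base)) (.leaf (⟨0, 0, 34944, 0, 34944, 1, 34944⟩, .dfn)))) (.node (.node (.leaf (⟨1, 0, 21693, 0, 21693, 0, 34944⟩, .base)) (.leaf (⟨0, 0, 34944, 0, 34944, 1, 34944⟩, .dfn))) (.node (.leaf (⟨1, 1, 44273, 0, 44273, 1, 34944⟩, .mul 7 7)) (.leaf (⟨0, 0, 34944, 0, 34944, 1, 34944⟩, .dfn)))))) (.node (.node (.node (.node (.leaf (⟨0, 1, 34944, 0, 34944, 0, 34944⟩, .inv 0)) (.leaf (⟨1, 3, 34944, 0, 34944, 3, 34944⟩, .unit))) (.node (.leaf (⟨1, 1, 34944, 0, 34944, 1, 34944⟩, .unit)) (.leaf (⟨0, 0, 34944, 0, 34944, 1, 34944⟩, .dfn)))) (.node (.node (.leaf (⟨1, 1, 62617, 0,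 30869, 1, 34944⟩, .sync ⟨4, 0, 761⟩)) (.leaf (⟨0, 0, 34944, 0, 34944, 1, 34944⟩, .dfn))) (.node (.leaf (⟨1, 1, 59561, 0, 40128, 1, 34944⟩, .mul 5 3)) (.leaf (⟨0, 0, 34944, 0, 34944, 1, 34944⟩, .dfn))))) (.node (.node (.node (.leaf (⟨1, 1, 29872, 0, 21721, 1, 34944⟩, .sync ⟨2, 0, 1154⟩)) (.leaf (⟨0, 0, 34944, 0, 34944, 1, 34944⟩, .dfn))) (.node (.leaf (⟨0, 1, 34659, 0, 34944, 3, 34944⟩, .dfn)) (.leaf (⟨0, 0, 34944, 0, 34944, 1, 34944⟩, .dfn)))) (.node (.node (.leaf (⟨1, 1, 28877, 0, 21693, 1, 34944⟩, .sync ⟨6, 0, 172⟩)) (.leaf (⟨0, 0, 34944, 0, 34944, 1, 34944⟩, .dfn))) (.node (.leaf (⟨1, 1, 53389, 0, 22680, 1, 34944⟩, .mul 13 7)) (.leaf (⟨0, 0, 34944, 0, 34944, 1, 34944⟩, .dfn)))))))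

/-- definitions -/
def defsBad19 : List (ℕ × ℕ × ℕ) := [(0, 34944, 0), (0, 34944, 1), (1, 34659, 0)]

/-- the facts -/
def factsBad20 : Tree (Fct × Why) :=
  (.node (.node (.node (.node (.node (.leaf (⟨0, 0, 34944, 0, 34944, 1, 34944⟩, .dfn)) (.leaf (⟨0, 3, 11785, 1, 43533, 3, 12144⟩, .fill 4 1 4 [34944, 14959, 34944, 65536, 54904, 65536, 62212] 0 34944 [⟨8, 0, 0⟩, ⟨14, 11, 243⟩] [⟨10, 0, 1020⟩, ⟨15, 11, 1487⟩]))) (.node (.leaf (⟨1, 0, 34944, 0, 34944, 0, 34944⟩, .base)) (.leaf (⟨0, 0, 34944, 0, 34944, 1, 34944⟩, .dfn)))) (.node (.node (.leaf (⟨1, 0, 30869, 0, 30869, 0, 34944⟩, .base)) (.leaf (⟨0, 0, 34944, 0, 34944, 1, 34944⟩, .dfn))) (.node (.leaf (⟨0, 3, 34944, 0, 34944, 1, 34659⟩, .inv 11)) (.leaf (⟨0, 0, 34944, 0, 34944, 1, 34944⟩, .dfn))))) (.node (.node (.node (.leaf (⟨1,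 0, 21721, 0, 21721, 0, 34944⟩, .base)) (.leaf (⟨1, 0, 14899, 0, 11894, 0, 34944⟩, .close 5 2 34944 [⟨8, 0, 0⟩, ⟨14, 11, 243⟩, ⟨17, 16, 1025⟩, ⟨17, 12, 676⟩, ⟨9, 1, 461⟩]))) (.node (.leaf (⟨1, 0, 11087, 0, 11087, 0, 34944⟩, .base)) (.leaf (⟨0, 0, 34944, 0, 34944, 1, 34944⟩, .dfn)))) (.node (.node (.leaf (⟨1, 0, 21693, 0, 21693, 0, 34944⟩, .base)) (.leaf (⟨0, 0, 34944, 0, 34944, 1, 34944⟩, .dfn))) (.node (.leaf (⟨1, 1, 44273, 0, 44273, 1, 34944⟩, .mul 7 7)) (.leaf (⟨0, 0, 34944, 0, 34944, 1, 34944⟩, .dfn)))))) (.node (.node (.node (.node (.leaf (⟨0, 1, 34944, 0, 34944, 0, 34944⟩, .inv 0)) (.leaf (⟨1, 3, 34944, 0, 34944, 3, 34944⟩, .unit))) (.node (.leaf (⟨1, 1, 34944, 0, 34944, 1, 34944⟩, .unit)) (.leaf (⟨0, 0, 34944, 0, 34944, 1, 34944⟩, .dfn)))) (.node (.node (.leaf (⟨1, 1, 62617,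 0, 30869, 1, 34944⟩, .sync ⟨4, 0, 761⟩)) (.leaf (⟨0, 0, 34944, 0, 34944, 1, 34944⟩, .dfn))) (.node (.leaf (⟨1, 1, 59561, 0, 40128, 1, 34944⟩, .mul 5 3)) (.leaf (⟨0, 0, 34944, 0, 34944, 1, 34944⟩, .dfn))))) (.node (.node (.node (.leaf (⟨1, 1, 29872, 0, 21721, 1, 34944⟩, .sync ⟨2, 0, 1154⟩)) (.leaf (⟨0, 0, 34944, 0, 34944, 1, 34944⟩, .dfn))) (.node (.leaf (⟨0, 1, 34659, 0, 34944, 3, 34944⟩, .dfn)) (.leaf (⟨0, 0, 34944, 0, 34944, 1, 34944⟩, .dfn)))) (.node (.node (.leaf (⟨1, 1, 28877, 0, 21693, 1, 34944⟩, .sync ⟨6, 0, 172⟩)) (.leaf (⟨0, 0, 34944, 0, 34944, 1, 34944⟩, .dfn))) (.node (.leaf (⟨1, 1, 53389, 0, 22680, 1, 34944⟩, .mul 13 7)) (.leaf (⟨0, 0, 34944, 0, 34944, 1, 34944⟩, .dfn)))))))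

/-- definitions -/
def defsBad20 : List (ℕ × ℕ × ℕ) := [(0, 34944, 0), (0, 34944, 1), (1, 34659, 0)]

/-- the facts -/
def factsBad21 : Tree (Fct × Why) :=
  (.node (.node (.node (.node (.node (.leaf (⟨0, 0, 34944, 0, 34944, 1, 34944⟩, .dfn)) (.leaf (⟨0, 3, 11785, 1, 43533, 3, 26397⟩, .fill 4 1 4 [34944, 14954, 34944, 65536, 54904, 65536, 62212] 0 34944 [⟨8, 0, 0⟩, ⟨14, 11, 243⟩] [⟨10, 0, 251⟩, ⟨15, 11, 1021⟩]))) (.node (.leaf (⟨1, 0, 34944, 0, 34944, 0, 34944⟩, .base)) (.leaf (⟨0, 0, 34944, 0, 34944, 1, 34944⟩, .dfn)))) (.node (.node (.leaf (⟨1, 0, 30869, 0, 30869, 0, 34944⟩, .base)) (.leaf (⟨0, 0, 34944, 0, 34944, 1, 34944⟩, .dfn))) (.node (.leaf (⟨0, 3, 34944, 0, 34944, 1, 34659⟩, .inv 11)) (.leaf (⟨0, 0, 34944, 0, 34944, 1, 34944⟩, .dfn))))) (.node (.node (.node (.leaf (⟨1, 0,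 21721, 0, 21721, 0, 34944⟩, .base)) (.leaf (⟨1, 0, 14898, 0, 11894, 0, 34944⟩, .close 5 2 34944 [⟨8, 0, 0⟩, ⟨14, 11, 243⟩, ⟨17, 16, 1025⟩, ⟨17, 12, 824⟩, ⟨9, 1, 1155⟩]))) (.node (.leaf (⟨1, 0, 11087, 0, 11087, 0, 34944⟩, .base)) (.leaf (⟨0, 0, 34944, 0, 34944, 1, 34944⟩, .dfn)))) (.node (.node (.leaf (⟨1, 0, 21693, 0, 21693, 0, 34944⟩, .base)) (.leaf (⟨0, 0, 34944, 0, 34944, 1, 34944⟩, .dfn))) (.node (.leaf (⟨1, 1, 44273, 0, 44273, 1, 34944⟩, .mul 7 7)) (.leaf (⟨0, 0, 34944, 0, 34944, 1, 34944⟩, .dfn)))))) (.node (.node (.node (.node (.leaf (⟨0, 1, 34944, 0, 34944, 0, 34944⟩, .inv 0)) (.leaf (⟨1, 3, 34944, 0, 34944, 3, 34944⟩, .unit))) (.node (.leaf (⟨1, 1, 34944, 0, 34944, 1, 34944⟩, .unit)) (.leaf (⟨0, 0, 34944, 0, 34944, 1, 34944⟩, .dfn)))) (.node (.node (.leaf (⟨1, 1, 62617, 0,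 30869, 1, 34944⟩, .sync ⟨4, 0, 761⟩)) (.leaf (⟨0, 0, 34944, 0, 34944, 1, 34944⟩, .dfn))) (.node (.leaf (⟨1, 1, 59561, 0, 40128, 1, 34944⟩, .mul 5 3)) (.leaf (⟨0, 0, 34944, 0, 34944, 1, 34944⟩, .dfn))))) (.node (.node (.node (.leaf (⟨1, 1, 29872, 0, 21721, 1, 34944⟩, .sync ⟨2, 0, 1154⟩)) (.leaf (⟨0, 0, 34944, 0, 34944, 1, 34944⟩, .dfn))) (.node (.leaf (⟨0, 1, 34659, 0, 34944, 3, 34944⟩, .dfn)) (.leaf (⟨0, 0, 34944, 0, 34944, 1, 34944⟩, .dfn)))) (.node (.node (.leaf (⟨1, 1, 28877, 0, 21693, 1, 34944⟩, .sync ⟨6, 0, 172⟩)) (.leaf (⟨0, 0, 34944, 0, 34944, 1, 34944⟩, .dfn))) (.node (.leaf (⟨1, 1, 53389, 0, 22680, 1, 34944⟩, .mul 13 7)) (.leaf (⟨0, 0, 34944, 0, 34944, 1, 34944⟩, .dfn)))))))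

/-- definitions -/
def defsBad21 : List (ℕ × ℕ × ℕ) := [(0, 34944, 0), (0, 34944, 1), (1, 34659, 0)]

/-- the facts -/
def factsBad22 : Tree (Fct × Why) :=
  (.node (.node (.node (.node (.node (.leaf (⟨0, 0, 34944, 0, 34944, 1, 34944⟩, .dfn)) (.leaf (⟨0, 3, 11785, 1, 43533, 3, 48977⟩, .fill 4 1 4 [34944, 14955, 34944, 65536, 54904, 65536, 62212] 0 34944 [⟨8, 0, 0⟩, ⟨14, 11, 243⟩] [⟨10, 0, 910⟩, ⟨15, 11, 195⟩]))) (.node (.leaf (⟨1, 0, 34944, 0, 34944, 0, 34944⟩, .base)) (.leaf (⟨0, 0, 34944, 0, 34944, 1, 34944⟩, .dfn)))) (.node (.node (.leaf (⟨1, 0, 30869, 0, 30869, 0, 34944⟩, .base)) (.leaf (⟨0, 0, 34944, 0, 34944, 1, 34944⟩, .dfn))) (.node (.leaf (⟨0, 3, 34944, 0, 34944, 1, 34659⟩, .inv 11)) (.leaf (⟨0, 0, 34944, 0, 34944, 1, 34944⟩, .dfn))))) (.node (.node (.node (.leaf (⟨1, 0,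 21721, 0, 21721, 0, 34944⟩, .base)) (.leaf (⟨1, 0, 14898, 0, 11894, 0, 34944⟩, .close 5 2 34944 [⟨8, 0, 0⟩, ⟨14, 11, 243⟩, ⟨17, 16, 1025⟩, ⟨17, 12, 860⟩, ⟨9, 1, 1207⟩]))) (.node (.leaf (⟨1, 0, 11087, 0, 11087, 0, 34944⟩, .base)) (.leaf (⟨0, 0, 34944, 0, 34944, 1, 34944⟩, .dfn)))) (.node (.node (.leaf (⟨1, 0, 21693, 0, 21693, 0, 34944⟩, .base)) (.leaf (⟨0, 0, 34944, 0, 34944, 1, 34944⟩, .dfn))) (.node (.leaf (⟨1, 1, 44273, 0, 44273, 1, 34944⟩, .mul 7 7)) (.leaf (⟨0, 0, 34944, 0, 34944, 1, 34944⟩, .dfn)))))) (.node (.node (.node (.node (.leaf (⟨0, 1, 34944, 0, 34944, 0, 34944⟩, .inv 0)) (.leaf (⟨1, 3, 34944, 0, 34944, 3, 34944⟩, .unit))) (.node (.leaf (⟨1, 1, 34944, 0, 34944, 1, 34944⟩, .unit)) (.leaf (⟨0, 0, 34944, 0, 34944, 1, 34944⟩, .dfn)))) (.node (.node (.leaf (⟨1, 1, 62617, 0,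 30869, 1, 34944⟩, .sync ⟨4, 0, 761⟩)) (.leaf (⟨0, 0, 34944, 0, 34944, 1, 34944⟩, .dfn))) (.node (.leaf (⟨1, 1, 59561, 0, 40128, 1, 34944⟩, .mul 5 3)) (.leaf (⟨0, 0, 34944, 0, 34944, 1, 34944⟩, .dfn))))) (.node (.node (.node (.leaf (⟨1, 1, 29872, 0, 21721, 1, 34944⟩, .sync ⟨2, 0, 1154⟩)) (.leaf (⟨0, 0, 34944, 0, 34944, 1, 34944⟩, .dfn))) (.node (.leaf (⟨0, 1, 34659, 0, 34944, 3, 34944⟩, .dfn)) (.leaf (⟨0, 0, 34944, 0, 34944, 1, 34944⟩, .dfn)))) (.node (.node (.leaf (⟨1, 1, 28877, 0, 21693, 1, 34944⟩, .sync ⟨6, 0, 172⟩)) (.leaf (⟨0, 0, 34944, 0, 34944, 1, 34944⟩, .dfn))) (.node (.leaf (⟨1, 1, 53389, 0, 22680, 1, 34944⟩, .mul 13 7)) (.leaf (⟨0, 0, 34944, 0, 34944, 1, 34944⟩, .dfn)))))))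

/-- definitions -/
def defsBad22 : List (ℕ × ℕ × ℕ) := [(0, 34944, 0), (0, 34944, 1), (1, 34659, 0)]

/-- the facts -/
def factsBad23 : Tree (Fct × Why) :=
  (.node (.node (.node (.node (.node (.leaf (⟨0, 0, 34944, 0, 34944, 1, 34944⟩, .dfn)) (.leaf (⟨0, 3, 11785, 1, 43533, 3, 26416⟩, .fill 4 1 4 [34944, 14910, 34944, 65536, 54904, 65536, 62212] 0 34944 [⟨8, 0, 0⟩, ⟨14, 11, 243⟩] [⟨10, 0, 115⟩, ⟨15, 11, 541⟩]))) (.node (.leaf (⟨1, 0, 34944, 0, 34944, 0, 34944⟩, .base)) (.leaf (⟨0, 0, 34944, 0, 34944, 1, 34944⟩, .dfn)))) (.node (.node (.leaf (⟨1, 0, 30869, 0, 30869, 0, 34944⟩, .base)) (.leaf (⟨0, 0, 34944, 0, 34944, 1, 34944⟩, .dfn))) (.node (.leaf (⟨0, 3, 34944, 0, 34944, 1, 34659⟩, .inv 11)) (.leaf (⟨0, 0, 34944, 0, 34944, 1, 34944⟩, .dfn))))) (.node (.node (.node (.leaf (⟨1, 0,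 21721, 0, 21721, 0, 34944⟩, .base)) (.leaf (⟨1, 0, 14899, 0, 11894, 0, 34944⟩, .close 5 2 34944 [⟨8, 0, 0⟩, ⟨14, 11, 243⟩, ⟨17, 16, 1025⟩, ⟨17, 12, 574⟩, ⟨9, 1, 987⟩]))) (.node (.leaf (⟨1, 0, 11087, 0, 11087, 0, 34944⟩, .base)) (.leaf (⟨0, 0, 34944, 0, 34944, 1, 34944⟩, .dfn)))) (.node (.node (.leaf (⟨1, 0, 21693, 0, 21693, 0, 34944⟩, .base)) (.leaf (⟨0, 0, 34944, 0, 34944, 1, 34944⟩, .dfn))) (.node (.leaf (⟨1, 1, 44273, 0, 44273, 1, 34944⟩, .mul 7 7)) (.leaf (⟨0, 0, 34944, 0, 34944, 1, 34944⟩, .dfn)))))) (.node (.node (.node (.node (.leaf (⟨0, 1, 34944, 0, 34944, 0, 34944⟩, .inv 0)) (.leaf (⟨1, 3, 34944, 0, 34944, 3, 34944⟩, .unit))) (.node (.leaf (⟨1, 1, 34944, 0, 34944, 1, 34944⟩, .unit)) (.leaf (⟨0, 0, 34944, 0, 34944, 1, 34944⟩, .dfn)))) (.node (.node (.leaf (⟨1, 1, 62617, 0,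 30869, 1, 34944⟩, .sync ⟨4, 0, 761⟩)) (.leaf (⟨0, 0, 34944, 0, 34944, 1, 34944⟩, .dfn))) (.node (.leaf (⟨1, 1, 59561, 0, 40128, 1, 34944⟩, .mul 5 3)) (.leaf (⟨0, 0, 34944, 0, 34944, 1, 34944⟩, .dfn))))) (.node (.node (.node (.leaf (⟨1, 1, 29872, 0, 21721, 1, 34944⟩, .sync ⟨2, 0, 1154⟩)) (.leaf (⟨0, 0, 34944, 0, 34944, 1, 34944⟩, .dfn))) (.node (.leaf (⟨0, 1, 34659, 0, 34944, 3, 34944⟩, .dfn)) (.leaf (⟨0, 0, 34944, 0, 34944, 1, 34944⟩, .dfn)))) (.node (.node (.leaf (⟨1, 1, 28877, 0, 21693, 1, 34944⟩, .sync ⟨6, 0, 172⟩)) (.leaf (⟨0, 0, 34944, 0, 34944, 1, 34944⟩, .dfn))) (.node (.leaf (⟨1, 1, 53389, 0, 22680, 1, 34944⟩, .mul 13 7)) (.leaf (⟨0, 0, 34944, 0, 34944, 1, 34944⟩, .dfn)))))))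

/-- definitions -/
def defsBad23 : List (ℕ × ℕ × ℕ) := [(0, 34944, 0), (0, 34944, 1), (1, 34659, 0)]

/-- the facts -/
def factsBad24 : Tree (Fct × Why) :=
  (.node (.node (.node (.node (.node (.leaf (⟨0, 0, 34944, 0, 34944, 1, 34944⟩, .dfn)) (.leaf (⟨0, 3, 11785, 1, 43533, 3, 49020⟩, .fill 4 1 4 [34944, 14911, 34944, 65536, 54904, 65536, 62212] 0 34944 [⟨8, 0, 0⟩, ⟨14, 11, 243⟩] [⟨10, 0, 519⟩, ⟨15, 11, 84⟩]))) (.node (.leaf (⟨1, 0, 34944, 0, 34944, 0, 34944⟩, .base)) (.leaf (⟨0, 0, 34944, 0, 34944, 1, 34944⟩, .dfn)))) (.node (.node (.leaf (⟨1, 0, 30869, 0, 30869, 0, 34944⟩, .base)) (.leaf (⟨0, 0, 34944, 0, 34944, 1, 34944⟩, .dfn))) (.node (.leaf (⟨0, 3, 34944, 0, 34944, 1, 34659⟩, .inv 11)) (.leaf (⟨0, 0, 34944, 0, 34944, 1, 34944⟩, .dfn))))) (.node (.node (.node (.leaf (⟨1, 0,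 21721, 0, 21721, 0, 34944⟩, .base)) (.leaf (⟨1, 0, 14899, 0, 11894, 0, 34944⟩, .close 5 2 34944 [⟨8, 0, 0⟩, ⟨14, 11, 243⟩, ⟨17, 16, 1025⟩, ⟨17, 12, 420⟩, ⟨9, 1, 67⟩]))) (.node (.leaf (⟨1, 0, 11087, 0, 11087, 0, 34944⟩, .base)) (.leaf (⟨0, 0, 34944, 0, 34944, 1, 34944⟩, .dfn)))) (.node (.node (.leaf (⟨1, 0, 21693, 0, 21693, 0, 34944⟩, .base)) (.leaf (⟨0, 0, 34944, 0, 34944, 1, 34944⟩, .dfn))) (.node (.leaf (⟨1, 1, 44273, 0, 44273, 1, 34944⟩, .mul 7 7)) (.leaf (⟨0, 0, 34944, 0, 34944, 1, 34944⟩, .dfn)))))) (.node (.node (.node (.node (.leaf (⟨0, 1, 34944, 0, 34944, 0, 34944⟩, .inv 0)) (.leaf (⟨1, 3, 34944, 0, 34944, 3, 34944⟩, .unit))) (.node (.leaf (⟨1, 1, 34944, 0, 34944, 1, 34944⟩, .unit)) (.leaf (⟨0, 0, 34944, 0, 34944, 1, 34944⟩, .dfn)))) (.node (.node (.leaf (⟨1, 1, 62617, 0,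 30869, 1, 34944⟩, .sync ⟨4, 0, 761⟩)) (.leaf (⟨0, 0, 34944, 0, 34944, 1, 34944⟩, .dfn))) (.node (.leaf (⟨1, 1, 59561, 0, 40128, 1, 34944⟩, .mul 5 3)) (.leaf (⟨0, 0, 34944, 0, 34944, 1, 34944⟩, .dfn))))) (.node (.node (.node (.leaf (⟨1, 1, 29872, 0, 21721, 1, 34944⟩, .sync ⟨2, 0, 1154⟩)) (.leaf (⟨0, 0, 34944, 0, 34944, 1, 34944⟩, .dfn))) (.node (.leaf (⟨0, 1, 34659, 0, 34944, 3, 34944⟩, .dfn)) (.leaf (⟨0, 0, 34944, 0, 34944, 1, 34944⟩, .dfn)))) (.node (.node (.leaf (⟨1, 1, 28877, 0, 21693, 1, 34944⟩, .sync ⟨6, 0, 172⟩)) (.leaf (⟨0, 0, 34944, 0, 34944, 1, 34944⟩, .dfn))) (.node (.leaf (⟨1, 1, 53389, 0, 22680, 1, 34944⟩, .mul 13 7)) (.leaf (⟨0, 0, 34944, 0, 34944, 1, 34944⟩, .dfn)))))))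

/-- definitions -/
def defsBad24 : List (ℕ × ℕ × ℕ) := [(0, 34944, 0), (0, 34944, 1), (1, 34659, 0)]

/-- the facts -/
def factsBad25 : Tree (Fct × Why) :=
  (.node (.node (.node (.node (.node (.leaf (⟨0, 0, 34944, 0, 34944, 1, 34944⟩, .dfn)) (.leaf (⟨0, 3, 11785, 1, 43533, 3, 63249⟩, .fill 4 1 4 [34944, 14906, 34944, 65536, 54904, 65536, 62212] 0 34944 [⟨8, 0, 0⟩, ⟨14, 11, 243⟩] [⟨10, 0, 557⟩, ⟨15, 11, 1281⟩]))) (.node (.leaf (⟨1, 0, 34944, 0, 34944, 0, 34944⟩, .base)) (.leaf (⟨0, 0, 34944, 0, 34944, 1, 34944⟩, .dfn)))) (.node (.node (.leaf (⟨1, 0, 30869, 0, 30869, 0, 34944⟩, .base)) (.leaf (⟨0, 0, 34944, 0, 34944, 1, 34944⟩, .dfn))) (.node (.leaf (⟨0, 3, 34944, 0, 34944, 1, 34659⟩, .inv 11)) (.leaf (⟨0, 0, 34944, 0, 34944, 1, 34944⟩, .dfn))))) (.node (.node (.node (.leaf (⟨1, 0,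 21721, 0, 21721, 0, 34944⟩, .base)) (.leaf (⟨1, 0, 14898, 0, 11894, 0, 34944⟩, .close 5 2 34944 [⟨8, 0, 0⟩, ⟨14, 11, 243⟩, ⟨17, 16, 1025⟩, ⟨17, 12, 916⟩, ⟨9, 1, 45⟩]))) (.node (.leaf (⟨1, 0, 11087, 0, 11087, 0, 34944⟩, .base)) (.leaf (⟨0, 0, 34944, 0, 34944, 1, 34944⟩, .dfn)))) (.node (.node (.leaf (⟨1, 0, 21693, 0, 21693, 0, 34944⟩, .base)) (.leaf (⟨0, 0, 34944, 0, 34944, 1, 34944⟩, .dfn))) (.node (.leaf (⟨1, 1, 44273, 0, 44273, 1, 34944⟩, .mul 7 7)) (.leaf (⟨0, 0, 34944, 0, 34944, 1, 34944⟩, .dfn)))))) (.node (.node (.node (.node (.leaf (⟨0, 1, 34944, 0, 34944, 0, 34944⟩, .inv 0)) (.leaf (⟨1, 3, 34944, 0, 34944, 3, 34944⟩, .unit))) (.node (.leaf (⟨1, 1, 34944, 0, 34944, 1, 34944⟩, .unit)) (.leaf (⟨0, 0, 34944, 0, 34944, 1, 34944⟩, .dfn)))) (.node (.node (.leaf (⟨1, 1, 62617, 0,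 30869, 1, 34944⟩, .sync ⟨4, 0, 761⟩)) (.leaf (⟨0, 0, 34944, 0, 34944, 1, 34944⟩, .dfn))) (.node (.leaf (⟨1, 1, 59561, 0, 40128, 1, 34944⟩, .mul 5 3)) (.leaf (⟨0, 0, 34944, 0, 34944, 1, 34944⟩, .dfn))))) (.node (.node (.node (.leaf (⟨1, 1, 29872, 0, 21721, 1, 34944⟩, .sync ⟨2, 0, 1154⟩)) (.leaf (⟨0, 0, 34944, 0, 34944, 1, 34944⟩, .dfn))) (.node (.leaf (⟨0, 1, 34659, 0, 34944, 3, 34944⟩, .dfn)) (.leaf (⟨0, 0, 34944, 0, 34944, 1, 34944⟩, .dfn)))) (.node (.node (.leaf (⟨1, 1, 28877, 0, 21693, 1, 34944⟩, .sync ⟨6, 0, 172⟩)) (.leaf (⟨0, 0, 34944, 0, 34944, 1, 34944⟩, .dfn))) (.node (.leaf (⟨1, 1, 53389, 0, 22680, 1, 34944⟩, .mul 13 7)) (.leaf (⟨0, 0, 34944, 0, 34944, 1, 34944⟩, .dfn)))))))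

/-- definitions -/
def defsBad25 : List (ℕ × ℕ × ℕ) := [(0, 34944, 0), (0, 34944, 1), (1, 34659, 0)]

/-- the facts -/
def factsBad26 : Tree (Fct × Why) :=
  (.node (.node (.node (.node (.node (.leaf (⟨0, 0, 34944, 0, 34944, 1, 34944⟩, .dfn)) (.leaf (⟨0, 3, 11785, 1, 43533, 3, 12125⟩, .fill 4 1 4 [34944, 14907, 34944, 65536, 54904, 65536, 62212] 0 34944 [⟨8, 0, 0⟩, ⟨14, 11, 243⟩] [⟨10, 0, 1206⟩, ⟨15, 11, 1175⟩]))) (.node (.leaf (⟨1, 0, 34944, 0, 34944, 0, 34944⟩, .base)) (.leaf (⟨0, 0, 34944, 0, 34944, 1, 34944⟩, .dfn)))) (.node (.node (.leaf (⟨1, 0, 30869, 0, 30869, 0, 34944⟩, .base)) (.leaf (⟨0, 0, 34944, 0, 34944, 1, 34944⟩, .dfn))) (.node (.leaf (⟨0, 3, 34944, 0, 34944, 1, 34659⟩, .inv 11)) (.leaf (⟨0, 0, 34944, 0, 34944, 1, 34944⟩, .dfn))))) (.node (.node (.node (.leaf (⟨1,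 0, 21721, 0, 21721, 0, 34944⟩, .base)) (.leaf (⟨1, 0, 14898, 0, 11894, 0, 34944⟩, .close 5 2 34944 [⟨8, 0, 0⟩, ⟨14, 11, 243⟩, ⟨17, 16, 1025⟩, ⟨17, 12, 712⟩, ⟨9, 1, 945⟩]))) (.node (.leaf (⟨1, 0, 11087, 0, 11087, 0, 34944⟩, .base)) (.leaf (⟨0, 0, 34944, 0, 34944, 1, 34944⟩, .dfn)))) (.node (.node (.leaf (⟨1, 0, 21693, 0, 21693, 0, 34944⟩, .base)) (.leaf (⟨0, 0, 34944, 0, 34944, 1, 34944⟩, .dfn))) (.node (.leaf (⟨1, 1, 44273, 0, 44273, 1, 34944⟩, .mul 7 7)) (.leaf (⟨0, 0, 34944, 0, 34944, 1, 34944⟩, .dfn)))))) (.node (.node (.node (.node (.leaf (⟨0, 1, 34944, 0, 34944, 0, 34944⟩, .inv 0)) (.leaf (⟨1, 3, 34944, 0, 34944, 3, 34944⟩, .unit))) (.node (.leaf (⟨1, 1, 34944, 0, 34944, 1, 34944⟩, .unit)) (.leaf (⟨0, 0, 34944, 0, 34944, 1, 34944⟩, .dfn)))) (.node (.node (.leaf (⟨1, 1, 62617,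 0, 30869, 1, 34944⟩, .sync ⟨4, 0, 761⟩)) (.leaf (⟨0, 0, 34944, 0, 34944, 1, 34944⟩, .dfn))) (.node (.leaf (⟨1, 1, 59561, 0, 40128, 1, 34944⟩, .mul 5 3)) (.leaf (⟨0, 0, 34944, 0, 34944, 1, 34944⟩, .dfn))))) (.node (.node (.node (.leaf (⟨1, 1, 29872, 0, 21721, 1, 34944⟩, .sync ⟨2, 0, 1154⟩)) (.leaf (⟨0, 0, 34944, 0, 34944, 1, 34944⟩, .dfn))) (.node (.leaf (⟨0, 1, 34659, 0, 34944, 3, 34944⟩, .dfn)) (.leaf (⟨0, 0, 34944, 0, 34944, 1, 34944⟩, .dfn)))) (.node (.node (.leaf (⟨1, 1, 28877, 0, 21693, 1, 34944⟩, .sync ⟨6, 0, 172⟩)) (.leaf (⟨0, 0, 34944, 0, 34944, 1, 34944⟩, .dfn))) (.node (.leaf (⟨1, 1, 53389, 0, 22680, 1, 34944⟩, .mul 13 7)) (.leaf (⟨0, 0, 34944, 0, 34944, 1, 34944⟩, .dfn)))))))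

/-- definitions -/
def defsBad26 : List (ℕ × ℕ × ℕ) := [(0, 34944, 0), (0, 34944, 1), (1, 34659, 0)]

/-- the facts -/
def factsBad27 : Tree (Fct × Why) :=
  (.node (.node (.node (.node (.node (.leaf (⟨0, 0, 34944, 0, 34944, 1, 34944⟩, .dfn)) (.leaf (⟨0, 3, 11785, 1, 43533, 3, 12048⟩, .fill 4 1 4 [34944, 14975, 34944, 65536, 54904, 65536, 62212] 0 34944 [⟨8, 0, 0⟩, ⟨14, 11, 243⟩] [⟨10, 0, 1288⟩, ⟨15, 11, 1091⟩]))) (.node (.leaf (⟨1, 0, 34944, 0, 34944, 0, 34944⟩, .base)) (.leaf (⟨0, 0, 34944, 0, 34944, 1, 34944⟩, .dfn)))) (.node (.node (.leaf (⟨1, 0, 30869, 0, 30869, 0, 34944⟩, .base)) (.leaf (⟨0, 0, 34944, 0, 34944, 1, 34944⟩, .dfn))) (.node (.leaf (⟨0, 3, 34944, 0, 34944, 1, 34659⟩, .inv 11)) (.leaf (⟨0, 0, 34944, 0, 34944, 1, 34944⟩, .dfn))))) (.node (.node (.node (.leaf (⟨1,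 0, 21721, 0, 21721, 0, 34944⟩, .base)) (.leaf (⟨1, 0, 14946, 0, 11894, 0, 34944⟩, .close 5 2 34944 [⟨8, 0, 0⟩, ⟨14, 11, 243⟩, ⟨17, 16, 1025⟩, ⟨17, 12, 773⟩, ⟨9, 1, 1124⟩]))) (.node (.leaf (⟨1, 0, 11087, 0, 11087, 0, 34944⟩, .base)) (.leaf (⟨0, 0, 34944, 0, 34944, 1, 34944⟩, .dfn)))) (.node (.node (.leaf (⟨1, 0, 21693, 0, 21693, 0, 34944⟩, .base)) (.leaf (⟨0, 0, 34944, 0, 34944, 1, 34944⟩, .dfn))) (.node (.leaf (⟨1, 1, 44273, 0, 44273, 1, 34944⟩, .mul 7 7)) (.leaf (⟨0, 0, 34944, 0, 34944, 1, 34944⟩, .dfn)))))) (.node (.node (.node (.node (.leaf (⟨0, 1, 34944, 0, 34944, 0, 34944⟩, .inv 0)) (.leaf (⟨1, 3, 34944, 0, 34944, 3, 34944⟩, .unit))) (.node (.leaf (⟨1, 1, 34944, 0, 34944, 1, 34944⟩, .unit)) (.leaf (⟨0, 0, 34944, 0, 34944, 1, 34944⟩, .dfn)))) (.node (.node (.leaf (⟨1, 1, 62617,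 0, 30869, 1, 34944⟩, .sync ⟨4, 0, 761⟩)) (.leaf (⟨0, 0, 34944, 0, 34944, 1, 34944⟩, .dfn))) (.node (.leaf (⟨1, 1, 59561, 0, 40128, 1, 34944⟩, .mul 5 3)) (.leaf (⟨0, 0, 34944, 0, 34944, 1, 34944⟩, .dfn))))) (.node (.node (.node (.leaf (⟨1, 1, 29872, 0, 21721, 1, 34944⟩, .sync ⟨2, 0, 1154⟩)) (.leaf (⟨0, 0, 34944, 0, 34944, 1, 34944⟩, .dfn))) (.node (.leaf (⟨0, 1, 34659, 0, 34944, 3, 34944⟩, .dfn)) (.leaf (⟨0, 0, 34944, 0, 34944, 1, 34944⟩, .dfn)))) (.node (.node (.leaf (⟨1, 1, 28877, 0, 21693, 1, 34944⟩, .sync ⟨6, 0, 172⟩)) (.leaf (⟨0, 0, 34944, 0, 34944, 1, 34944⟩, .dfn))) (.node (.leaf (⟨1, 1, 53389, 0, 22680, 1, 34944⟩, .mul 13 7)) (.leaf (⟨0, 0, 34944, 0, 34944, 1, 34944⟩, .dfn)))))))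

/-- definitions -/
def defsBad27 : List (ℕ × ℕ × ℕ) := [(0, 34944, 0), (0, 34944, 1), (1, 34659, 0)]

/-- the facts -/
def factsBad28 : Tree (Fct × Why) :=
  (.node (.node (.node (.node (.node (.leaf (⟨0, 0, 34944, 0, 34944, 1, 34944⟩, .dfn)) (.leaf (⟨0, 3, 11785, 1, 43533, 3, 63324⟩, .fill 4 1 4 [34944, 14974, 34944, 65536, 54904, 65536, 62212] 0 34944 [⟨8, 0, 0⟩, ⟨14, 11, 243⟩] [⟨10, 0, 625⟩, ⟨15, 11, 1246⟩]))) (.node (.leaf (⟨1, 0, 34944, 0, 34944, 0, 34944⟩, .base)) (.leaf (⟨0, 0, 34944, 0, 34944, 1, 34944⟩, .dfn)))) (.node (.node (.leaf (⟨1, 0, 30869, 0, 30869, 0, 34944⟩, .base)) (.leaf (⟨0, 0, 34944, 0, 34944, 1, 34944⟩, .dfn))) (.node (.leaf (⟨0, 3, 34944, 0, 34944, 1, 34659⟩, .inv 11)) (.leaf (⟨0, 0, 34944, 0, 34944, 1, 34944⟩, .dfn))))) (.node (.node (.node (.leaf (⟨1, 0,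 21721, 0, 21721, 0, 34944⟩, .base)) (.leaf (⟨1, 0, 14946, 0, 11894, 0, 34944⟩, .close 5 2 34944 [⟨8, 0, 0⟩, ⟨14, 11, 243⟩, ⟨17, 16, 1025⟩, ⟨17, 12, 1309⟩, ⟨9, 1, 540⟩]))) (.node (.leaf (⟨1, 0, 11087, 0, 11087, 0, 34944⟩, .base)) (.leaf (⟨0, 0, 34944, 0, 34944, 1, 34944⟩, .dfn)))) (.node (.node (.leaf (⟨1, 0, 21693, 0, 21693, 0, 34944⟩, .base)) (.leaf (⟨0, 0, 34944, 0, 34944, 1, 34944⟩, .dfn))) (.node (.leaf (⟨1, 1, 44273, 0, 44273, 1, 34944⟩, .mul 7 7)) (.leaf (⟨0, 0, 34944, 0, 34944, 1, 34944⟩, .dfn)))))) (.node (.node (.node (.node (.leaf (⟨0, 1, 34944, 0, 34944, 0, 34944⟩, .inv 0)) (.leaf (⟨1, 3, 34944, 0, 34944, 3, 34944⟩, .unit))) (.node (.leaf (⟨1, 1, 34944, 0, 34944, 1, 34944⟩, .unit)) (.leaf (⟨0, 0, 34944, 0, 34944, 1, 34944⟩, .dfn)))) (.node (.node (.leaf (⟨1, 1, 62617, 0,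 30869, 1, 34944⟩, .sync ⟨4, 0, 761⟩)) (.leaf (⟨0, 0, 34944, 0, 34944, 1, 34944⟩, .dfn))) (.node (.leaf (⟨1, 1, 59561, 0, 40128, 1, 34944⟩, .mul 5 3)) (.leaf (⟨0, 0, 34944, 0, 34944, 1, 34944⟩, .dfn))))) (.node (.node (.node (.leaf (⟨1, 1, 29872, 0, 21721, 1, 34944⟩, .sync ⟨2, 0, 1154⟩)) (.leaf (⟨0, 0, 34944, 0, 34944, 1, 34944⟩, .dfn))) (.node (.leaf (⟨0, 1, 34659, 0, 34944, 3, 34944⟩, .dfn)) (.leaf (⟨0, 0, 34944, 0, 34944, 1, 34944⟩, .dfn)))) (.node (.node (.leaf (⟨1, 1, 28877, 0, 21693, 1, 34944⟩, .sync ⟨6, 0, 172⟩)) (.leaf (⟨0, 0, 34944, 0, 34944, 1, 34944⟩, .dfn))) (.node (.leaf (⟨1, 1, 53389, 0, 22680, 1, 34944⟩, .mul 13 7)) (.leaf (⟨0, 0, 34944, 0, 34944, 1, 34944⟩, .dfn)))))))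

/-- definitions -/
def defsBad28 : List (ℕ × ℕ × ℕ) := [(0, 34944, 0), (0, 34944, 1), (1, 34659, 0)]

/-- the facts -/
def factsBad29 : Tree (Fct × Why) :=
  (.node (.node (.node (.node (.node (.leaf (⟨0, 0, 34944, 0, 34944, 1, 34944⟩, .dfn)) (.leaf (⟨0, 3, 11785, 1, 43533, 3, 48945⟩, .fill 4 1 4 [34944, 14971, 34944, 65536, 54904, 65536, 62212] 0 34944 [⟨8, 0, 0⟩, ⟨14, 11, 243⟩] [⟨10, 0, 1194⟩, ⟨15, 11, 37⟩]))) (.node (.leaf (⟨1, 0, 34944, 0, 34944, 0, 34944⟩, .base)) (.leaf (⟨0, 0, 34944, 0, 34944, 1, 34944⟩, .dfn)))) (.node (.node (.leaf (⟨1, 0, 30869, 0, 30869, 0, 34944⟩, .base)) (.leaf (⟨0, 0, 34944, 0, 34944, 1, 34944⟩, .dfn))) (.node (.leaf (⟨0, 3, 34944, 0, 34944, 1, 34659⟩, .inv 11)) (.leaf (⟨0, 0, 34944, 0, 34944, 1, 34944⟩, .dfn))))) (.node (.node (.node (.leaf (⟨1, 0,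 21721, 0, 21721, 0, 34944⟩, .base)) (.leaf (⟨1, 0, 14947, 0, 11894, 0, 34944⟩, .close 5 2 34944 [⟨8, 0, 0⟩, ⟨14, 11, 243⟩, ⟨17, 16, 1025⟩, ⟨17, 12, 186⟩, ⟨9, 1, 680⟩]))) (.node (.leaf (⟨1, 0, 11087, 0, 11087, 0, 34944⟩, .base)) (.leaf (⟨0, 0, 34944, 0, 34944, 1, 34944⟩, .dfn)))) (.node (.node (.leaf (⟨1, 0, 21693, 0, 21693, 0, 34944⟩, .base)) (.leaf (⟨0, 0, 34944, 0, 34944, 1, 34944⟩, .dfn))) (.node (.leaf (⟨1, 1, 44273, 0, 44273, 1, 34944⟩, .mul 7 7)) (.leaf (⟨0, 0, 34944, 0, 34944, 1, 34944⟩, .dfn)))))) (.node (.node (.node (.node (.leaf (⟨0, 1, 34944, 0, 34944, 0, 34944⟩, .inv 0)) (.leaf (⟨1, 3, 34944, 0, 34944, 3, 34944⟩, .unit))) (.node (.leaf (⟨1, 1, 34944, 0, 34944, 1, 34944⟩, .unit)) (.leaf (⟨0, 0, 34944, 0, 34944, 1, 34944⟩, .dfn)))) (.node (.node (.leaf (⟨1, 1, 62617, 0,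 30869, 1, 34944⟩, .sync ⟨4, 0, 761⟩)) (.leaf (⟨0, 0, 34944, 0, 34944, 1, 34944⟩, .dfn))) (.node (.leaf (⟨1, 1, 59561, 0, 40128, 1, 34944⟩, .mul 5 3)) (.leaf (⟨0, 0, 34944, 0, 34944, 1, 34944⟩, .dfn))))) (.node (.node (.node (.leaf (⟨1, 1, 29872, 0, 21721, 1, 34944⟩, .sync ⟨2, 0, 1154⟩)) (.leaf (⟨0, 0, 34944, 0, 34944, 1, 34944⟩, .dfn))) (.node (.leaf (⟨0, 1, 34659, 0, 34944, 3, 34944⟩, .dfn)) (.leaf (⟨0, 0, 34944, 0, 34944, 1, 34944⟩, .dfn)))) (.node (.node (.leaf (⟨1, 1, 28877, 0, 21693, 1, 34944⟩, .sync ⟨6, 0, 172⟩)) (.leaf (⟨0, 0, 34944, 0, 34944, 1, 34944⟩, .dfn))) (.node (.leaf (⟨1, 1, 53389, 0, 22680, 1, 34944⟩, .mul 13 7)) (.leaf (⟨0, 0, 34944, 0, 34944, 1, 34944⟩, .dfn)))))))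

/-- definitions -/
def defsBad29 : List (ℕ × ℕ × ℕ) := [(0, 34944, 0), (0, 34944, 1), (1, 34659, 0)]

/-- the facts -/
def factsBad30 : Tree (Fct × Why) :=
  (.node (.node (.node (.node (.node (.leaf (⟨0, 0, 34944, 0, 34944, 1, 34944⟩, .dfn)) (.leaf (⟨0, 3, 11785, 1, 43533, 3, 26493⟩, .fill 4 1 4 [34944, 14970, 34944, 65536, 54904, 65536, 62212] 0 34944 [⟨8, 0, 0⟩, ⟨14, 11, 243⟩] [⟨10, 0, 422⟩, ⟨15, 11, 353⟩]))) (.node (.leaf (⟨1, 0, 34944, 0, 34944, 0, 34944⟩, .base)) (.leaf (⟨0, 0, 34944, 0, 34944, 1, 34944⟩, .dfn)))) (.node (.node (.leaf (⟨1, 0, 30869, 0, 30869, 0, 34944⟩, .base)) (.leaf (⟨0, 0, 34944, 0, 34944, 1, 34944⟩, .dfn))) (.node (.leaf (⟨0, 3, 34944, 0, 34944, 1, 34659⟩, .inv 11)) (.leaf (⟨0, 0, 34944, 0, 34944, 1, 34944⟩, .dfn))))) (.node (.node (.node (.leaf (⟨1, 0,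 21721, 0, 21721, 0, 34944⟩, .base)) (.leaf (⟨1, 0, 14947, 0, 11894, 0, 34944⟩, .close 5 2 34944 [⟨8, 0, 0⟩, ⟨14, 11, 243⟩, ⟨17, 16, 1025⟩, ⟨17, 12, 560⟩, ⟨9, 1, 1312⟩]))) (.node (.leaf (⟨1, 0, 11087, 0, 11087, 0, 34944⟩, .base)) (.leaf (⟨0, 0, 34944, 0, 34944, 1, 34944⟩, .dfn)))) (.node (.node (.leaf (⟨1, 0, 21693, 0, 21693, 0, 34944⟩, .base)) (.leaf (⟨0, 0, 34944, 0, 34944, 1, 34944⟩, .dfn))) (.node (.leaf (⟨1, 1, 44273, 0, 44273, 1, 34944⟩, .mul 7 7)) (.leaf (⟨0, 0, 34944, 0, 34944, 1, 34944⟩, .dfn)))))) (.node (.node (.node (.node (.leaf (⟨0, 1, 34944, 0, 34944, 0, 34944⟩, .inv 0)) (.leaf (⟨1, 3, 34944, 0, 34944, 3, 34944⟩, .unit))) (.node (.leaf (⟨1, 1, 34944, 0, 34944, 1, 34944⟩, .unit)) (.leaf (⟨0, 0, 34944, 0, 34944, 1, 34944⟩, .dfn)))) (.node (.node (.leaf (⟨1, 1, 62617, 0,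 30869, 1, 34944⟩, .sync ⟨4, 0, 761⟩)) (.leaf (⟨0, 0, 34944, 0, 34944, 1, 34944⟩, .dfn))) (.node (.leaf (⟨1, 1, 59561, 0, 40128, 1, 34944⟩, .mul 5 3)) (.leaf (⟨0, 0, 34944, 0, 34944, 1, 34944⟩, .dfn))))) (.node (.node (.node (.leaf (⟨1, 1, 29872, 0, 21721, 1, 34944⟩, .sync ⟨2, 0, 1154⟩)) (.leaf (⟨0, 0, 34944, 0, 34944, 1, 34944⟩, .dfn))) (.node (.leaf (⟨0, 1, 34659, 0, 34944, 3, 34944⟩, .dfn)) (.leaf (⟨0, 0, 34944, 0, 34944, 1, 34944⟩, .dfn)))) (.node (.node (.leaf (⟨1, 1, 28877, 0, 21693, 1, 34944⟩, .sync ⟨6, 0, 172⟩)) (.leaf (⟨0, 0, 34944, 0, 34944, 1, 34944⟩, .dfn))) (.node (.leaf (⟨1, 1, 53389, 0, 22680, 1, 34944⟩, .mul 13 7)) (.leaf (⟨0, 0, 34944, 0, 34944, 1, 34944⟩, .dfn)))))))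

/-- definitions -/
def defsBad30 : List (ℕ × ℕ × ℕ) := [(0, 34944, 0), (0, 34944, 1), (1, 34659, 0)]

/-- the facts -/
def factsBad31 : Tree (Fct × Why) :=
  (.node (.node (.node (.node (.node (.leaf (⟨0, 0, 34944, 0, 34944, 1, 34944⟩, .dfn)) (.leaf (⟨0, 3, 11785, 1, 43533, 3, 48989⟩, .fill 4 1 4 [34944, 11823, 34944, 65536, 54904, 65536, 62212] 0 34944 [⟨8, 0, 0⟩, ⟨14, 11, 243⟩] [⟨10, 0, 840⟩, ⟨15, 11, 276⟩]))) (.node (.leaf (⟨1, 0, 34944, 0, 34944, 0, 34944⟩, .base)) (.leaf (⟨0, 0, 34944, 0, 34944, 1, 34944⟩, .dfn)))) (.node (.node (.leaf (⟨1, 0, 30869, 0, 30869, 0, 34944⟩, .base)) (.leaf (⟨0, 0, 34944, 0, 34944, 1, 34944⟩, .dfn))) (.node (.leaf (⟨0, 3, 34944, 0, 34944, 1, 34659⟩, .inv 11)) (.leaf (⟨0, 0, 34944, 0, 34944, 1, 34944⟩, .dfn))))) (.node (.node (.node (.leaf (⟨1, 0,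 21721, 0, 21721, 0, 34944⟩, .base)) (.leaf (⟨1, 0, 14898, 0, 11894, 0, 34944⟩, .close 5 2 34944 [⟨8, 0, 0⟩, ⟨14, 11, 243⟩, ⟨17, 16, 1025⟩, ⟨17, 12, 803⟩, ⟨9, 1, 1139⟩]))) (.node (.leaf (⟨1, 0, 11087, 0, 11087, 0, 34944⟩, .base)) (.leaf (⟨0, 0, 34944, 0, 34944, 1, 34944⟩, .dfn)))) (.node (.node (.leaf (⟨1, 0, 21693, 0, 21693, 0, 34944⟩, .base)) (.leaf (⟨0, 0, 34944, 0, 34944, 1, 34944⟩, .dfn))) (.node (.leaf (⟨1, 1, 44273, 0, 44273, 1, 34944⟩, .mul 7 7)) (.leaf (⟨0, 0, 34944, 0, 34944, 1, 34944⟩, .dfn)))))) (.node (.node (.node (.node (.leaf (⟨0, 1, 34944, 0, 34944, 0, 34944⟩, .inv 0)) (.leaf (⟨1, 3, 34944, 0, 34944, 3, 34944⟩, .unit))) (.node (.leaf (⟨1, 1, 34944, 0, 34944, 1, 34944⟩, .unit)) (.leaf (⟨0, 0, 34944, 0, 34944, 1, 34944⟩, .dfn)))) (.node (.node (.leaf (⟨1, 1, 62617, 0,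 30869, 1, 34944⟩, .sync ⟨4, 0, 761⟩)) (.leaf (⟨0, 0, 34944, 0, 34944, 1, 34944⟩, .dfn))) (.node (.leaf (⟨1, 1, 59561, 0, 40128, 1, 34944⟩, .mul 5 3)) (.leaf (⟨0, 0, 34944, 0, 34944, 1, 34944⟩, .dfn))))) (.node (.node (.node (.leaf (⟨1, 1, 29872, 0, 21721, 1, 34944⟩, .sync ⟨2, 0, 1154⟩)) (.leaf (⟨0, 0, 34944, 0, 34944, 1, 34944⟩, .dfn))) (.node (.leaf (⟨0, 1, 34659, 0, 34944, 3, 34944⟩, .dfn)) (.leaf (⟨0, 0, 34944, 0, 34944, 1, 34944⟩, .dfn)))) (.node (.node (.leaf (⟨1, 1, 28877, 0, 21693, 1, 34944⟩, .sync ⟨6, 0, 172⟩)) (.leaf (⟨0, 0, 34944, 0, 34944, 1, 34944⟩, .dfn))) (.node (.leaf (⟨1, 1, 53389, 0, 22680, 1, 34944⟩, .mul 13 7)) (.leaf (⟨0, 0, 34944, 0, 34944, 1, 34944⟩, .dfn)))))))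

/-- definitions -/
def defsBad31 : List (ℕ × ℕ × ℕ) := [(0, 34944, 0), (0, 34944, 1), (1, 34659, 0)]

/-- the facts -/
def factsBad32 : Tree (Fct × Why) :=
  (.node (.node (.node (.node (.node (.leaf (⟨0, 0, 34944, 0, 34944, 1, 34944⟩, .dfn)) (.leaf (⟨0, 3, 11785, 1, 43533, 3, 26385⟩, .fill 4 1 4 [34944, 11822, 34944, 65536, 54904, 65536, 62212] 0 34944 [⟨8, 0, 0⟩, ⟨14, 11, 243⟩] [⟨10, 0, 700⟩, ⟨15, 11, 1295⟩]))) (.node (.leaf (⟨1, 0, 34944, 0, 34944, 0, 34944⟩, .base)) (.leaf (⟨0, 0, 34944, 0, 34944, 1, 34944⟩, .dfn)))) (.node (.node (.leaf (⟨1, 0, 30869, 0, 30869, 0, 34944⟩, .base)) (.leaf (⟨0, 0, 34944, 0, 34944, 1, 34944⟩, .dfn))) (.node (.leaf (⟨0, 3, 34944, 0, 34944, 1, 34659⟩, .inv 11)) (.leaf (⟨0, 0, 34944, 0, 34944, 1, 34944⟩, .dfn))))) (.node (.node (.node (.leaf (⟨1, 0,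 21721, 0, 21721, 0, 34944⟩, .base)) (.leaf (⟨1, 0, 14898, 0, 11894, 0, 34944⟩, .close 5 2 34944 [⟨8, 0, 0⟩, ⟨14, 11, 243⟩, ⟨17, 16, 1025⟩, ⟨17, 12, 852⟩, ⟨9, 1, 737⟩]))) (.node (.leaf (⟨1, 0, 11087, 0, 11087, 0, 34944⟩, .base)) (.leaf (⟨0, 0, 34944, 0, 34944, 1, 34944⟩, .dfn)))) (.node (.node (.leaf (⟨1, 0, 21693, 0, 21693, 0, 34944⟩, .base)) (.leaf (⟨0, 0, 34944, 0, 34944, 1, 34944⟩, .dfn))) (.node (.leaf (⟨1, 1, 44273, 0, 44273, 1, 34944⟩, .mul 7 7)) (.leaf (⟨0, 0, 34944, 0, 34944, 1, 34944⟩, .dfn)))))) (.node (.node (.node (.node (.leaf (⟨0, 1, 34944, 0, 34944, 0, 34944⟩, .inv 0)) (.leaf (⟨1, 3, 34944, 0, 34944, 3, 34944⟩, .unit))) (.node (.leaf (⟨1, 1, 34944, 0, 34944, 1, 34944⟩, .unit)) (.leaf (⟨0, 0, 34944, 0, 34944, 1, 34944⟩, .dfn)))) (.node (.node (.leaf (⟨1, 1, 62617, 0,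 30869, 1, 34944⟩, .sync ⟨4, 0, 761⟩)) (.leaf (⟨0, 0, 34944, 0, 34944, 1, 34944⟩, .dfn))) (.node (.leaf (⟨1, 1, 59561, 0, 40128, 1, 34944⟩, .mul 5 3)) (.leaf (⟨0, 0, 34944, 0, 34944, 1, 34944⟩, .dfn))))) (.node (.node (.node (.leaf (⟨1, 1, 29872, 0, 21721, 1, 34944⟩, .sync ⟨2, 0, 1154⟩)) (.leaf (⟨0, 0, 34944, 0, 34944, 1, 34944⟩, .dfn))) (.node (.leaf (⟨0, 1, 34659, 0, 34944, 3, 34944⟩, .dfn)) (.leaf (⟨0, 0, 34944, 0, 34944, 1, 34944⟩, .dfn)))) (.node (.node (.leaf (⟨1, 1, 28877, 0, 21693, 1, 34944⟩, .sync ⟨6, 0, 172⟩)) (.leaf (⟨0, 0, 34944, 0, 34944, 1, 34944⟩, .dfn))) (.node (.leaf (⟨1, 1, 53389, 0, 22680, 1, 34944⟩, .mul 13 7)) (.leaf (⟨0, 0, 34944, 0, 34944, 1, 34944⟩, .dfn)))))))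

/-- definitions -/
def defsBad32 : List (ℕ × ℕ × ℕ) := [(0, 34944, 0), (0, 34944, 1), (1, 34659, 0)]

/-- the facts -/
def factsBad33 : Tree (Fct × Why) :=
  (.node (.node (.node (.node (.node (.leaf (⟨0, 0, 34944, 0, 34944, 1, 34944⟩, .dfn)) (.leaf (⟨0, 3, 11785, 1, 43533, 3, 12156⟩, .fill 4 1 4 [34944, 11819, 34944, 65536, 54904, 65536, 62212] 0 34944 [⟨8, 0, 0⟩, ⟨14, 11, 243⟩] [⟨10, 0, 1061⟩, ⟨15, 11, 258⟩]))) (.node (.leaf (⟨1, 0, 34944, 0, 34944, 0, 34944⟩, .base)) (.leaf (⟨0, 0, 34944, 0, 34944, 1, 34944⟩, .dfn)))) (.node (.node (.leaf (⟨1, 0, 30869, 0, 30869, 0, 34944⟩, .base)) (.leaf (⟨0, 0, 34944, 0, 34944, 1, 34944⟩, .dfn))) (.node (.leaf (⟨0, 3, 34944, 0, 34944, 1, 34659⟩, .inv 11)) (.leaf (⟨0, 0, 34944, 0, 34944, 1, 34944⟩, .dfn))))) (.node (.node (.node (.leaf (⟨1, 0,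 21721, 0, 21721, 0, 34944⟩, .base)) (.leaf (⟨1, 0, 14899, 0, 11894, 0, 34944⟩, .close 5 2 34944 [⟨8, 0, 0⟩, ⟨14, 11, 243⟩, ⟨17, 16, 1025⟩, ⟨17, 12, 580⟩, ⟨9, 1, 853⟩]))) (.node (.leaf (⟨1, 0, 11087, 0, 11087, 0, 34944⟩, .base)) (.leaf (⟨0, 0, 34944, 0, 34944, 1, 34944⟩, .dfn)))) (.node (.node (.leaf (⟨1, 0, 21693, 0, 21693, 0, 34944⟩, .base)) (.leaf (⟨0, 0, 34944, 0, 34944, 1, 34944⟩, .dfn))) (.node (.leaf (⟨1, 1, 44273, 0, 44273, 1, 34944⟩, .mul 7 7)) (.leaf (⟨0, 0, 34944, 0, 34944, 1, 34944⟩, .dfn)))))) (.node (.node (.node (.node (.leaf (⟨0, 1, 34944, 0, 34944, 0, 34944⟩, .inv 0)) (.leaf (⟨1, 3, 34944, 0, 34944, 3, 34944⟩, .unit))) (.node (.leaf (⟨1, 1, 34944, 0, 34944, 1, 34944⟩, .unit)) (.leaf (⟨0, 0, 34944, 0, 34944, 1, 34944⟩, .dfn)))) (.node (.node (.leaf (⟨1, 1, 62617, 0,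 30869, 1, 34944⟩, .sync ⟨4, 0, 761⟩)) (.leaf (⟨0, 0, 34944, 0, 34944, 1, 34944⟩, .dfn))) (.node (.leaf (⟨1, 1, 59561, 0, 40128, 1, 34944⟩, .mul 5 3)) (.leaf (⟨0, 0, 34944, 0, 34944, 1, 34944⟩, .dfn))))) (.node (.node (.node (.leaf (⟨1, 1, 29872, 0, 21721, 1, 34944⟩, .sync ⟨2, 0, 1154⟩)) (.leaf (⟨0, 0, 34944, 0, 34944, 1, 34944⟩, .dfn))) (.node (.leaf (⟨0, 1, 34659, 0, 34944, 3, 34944⟩, .dfn)) (.leaf (⟨0, 0, 34944, 0, 34944, 1, 34944⟩, .dfn)))) (.node (.node (.leaf (⟨1, 1, 28877, 0, 21693, 1, 34944⟩, .sync ⟨6, 0, 172⟩)) (.leaf (⟨0, 0, 34944, 0, 34944, 1, 34944⟩, .dfn))) (.node (.leaf (⟨1, 1, 53389, 0, 22680, 1, 34944⟩, .mul 13 7)) (.leaf (⟨0, 0, 34944, 0, 34944, 1, 34944⟩, .dfn)))))))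

/-- definitions -/
def defsBad33 : List (ℕ × ℕ × ℕ) := [(0, 34944, 0), (0, 34944, 1), (1, 34659, 0)]

/-- the facts -/
def factsBad34 : Tree (Fct × Why) :=
  (.node (.node (.node (.node (.node (.leaf (⟨0, 0, 34944, 0, 34944, 1, 34944⟩, .dfn)) (.leaf (⟨0, 3, 11785, 1, 43533, 3, 63280⟩, .fill 4 1 4 [34944, 11818, 34944, 65536, 54904, 65536, 62212] 0 34944 [⟨8, 0, 0⟩, ⟨14, 11, 243⟩] [⟨10, 0, 889⟩, ⟨15, 11, 433⟩]))) (.node (.leaf (⟨1, 0, 34944, 0, 34944, 0, 34944⟩, .base)) (.leaf (⟨0, 0, 34944, 0, 34944, 1, 34944⟩, .dfn)))) (.node (.node (.leaf (⟨1, 0, 30869, 0, 30869, 0, 34944⟩, .base)) (.leaf (⟨0, 0, 34944, 0, 34944, 1, 34944⟩, .dfn))) (.node (.leaf (⟨0, 3, 34944, 0, 34944, 1, 34659⟩, .inv 11)) (.leaf (⟨0, 0, 34944, 0, 34944, 1, 34944⟩, .dfn))))) (.node (.node (.node (.leaf (⟨1, 0,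 21721, 0, 21721, 0, 34944⟩, .base)) (.leaf (⟨1, 0, 14899, 0, 11894, 0, 34944⟩, .close 5 2 34944 [⟨8, 0, 0⟩, ⟨14, 11, 243⟩, ⟨17, 16, 1025⟩, ⟨17, 12, 505⟩, ⟨9, 1, 940⟩]))) (.node (.leaf (⟨1, 0, 11087, 0, 11087, 0, 34944⟩, .base)) (.leaf (⟨0, 0, 34944, 0, 34944, 1, 34944⟩, .dfn)))) (.node (.node (.leaf (⟨1, 0, 21693, 0, 21693, 0, 34944⟩, .base)) (.leaf (⟨0, 0, 34944, 0, 34944, 1, 34944⟩, .dfn))) (.node (.leaf (⟨1, 1, 44273, 0, 44273, 1, 34944⟩, .mul 7 7)) (.leaf (⟨0, 0, 34944, 0, 34944, 1, 34944⟩, .dfn)))))) (.node (.node (.node (.node (.leaf (⟨0, 1, 34944, 0, 34944, 0, 34944⟩, .inv 0)) (.leaf (⟨1, 3, 34944, 0, 34944, 3, 34944⟩, .unit))) (.node (.leaf (⟨1, 1, 34944, 0, 34944, 1, 34944⟩, .unit)) (.leaf (⟨0, 0, 34944, 0, 34944, 1, 34944⟩, .dfn)))) (.node (.node (.leaf (⟨1, 1, 62617, 0,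 30869, 1, 34944⟩, .sync ⟨4, 0, 761⟩)) (.leaf (⟨0, 0, 34944, 0, 34944, 1, 34944⟩, .dfn))) (.node (.leaf (⟨1, 1, 59561, 0, 40128, 1, 34944⟩, .mul 5 3)) (.leaf (⟨0, 0, 34944, 0, 34944, 1, 34944⟩, .dfn))))) (.node (.node (.node (.leaf (⟨1, 1, 29872, 0, 21721, 1, 34944⟩, .sync ⟨2, 0, 1154⟩)) (.leaf (⟨0, 0, 34944, 0, 34944, 1, 34944⟩, .dfn))) (.node (.leaf (⟨0, 1, 34659, 0, 34944, 3, 34944⟩, .dfn)) (.leaf (⟨0, 0, 34944, 0, 34944, 1, 34944⟩, .dfn)))) (.node (.node (.leaf (⟨1, 1, 28877, 0, 21693, 1, 34944⟩, .sync ⟨6, 0, 172⟩)) (.leaf (⟨0, 0, 34944, 0, 34944, 1, 34944⟩, .dfn))) (.node (.leaf (⟨1, 1, 53389, 0, 22680, 1, 34944⟩, .mul 13 7)) (.leaf (⟨0, 0, 34944, 0, 34944, 1, 34944⟩, .dfn)))))))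

/-- definitions -/
def defsBad34 : List (ℕ × ℕ × ℕ) := [(0, 34944, 0), (0, 34944, 1), (1, 34659, 0)]

/-- the facts -/
def factsBad35 : Tree (Fct × Why) :=
  (.node (.node (.node (.node (.node (.leaf (⟨0, 0, 34944, 0, 34944, 1, 34944⟩, .dfn)) (.leaf (⟨0, 3, 11785, 1, 43533, 3, 63357⟩, .fill 4 1 4 [34944, 11886, 34944, 65536, 54904, 65536, 62212] 0 34944 [⟨8, 0, 0⟩, ⟨14, 11, 243⟩] [⟨10, 0, 550⟩, ⟨15, 11, 853⟩]))) (.node (.leaf (⟨1, 0, 34944, 0, 34944, 0, 34944⟩, .base)) (.leaf (⟨0, 0, 34944, 0, 34944, 1, 34944⟩, .dfn)))) (.node (.node (.leaf (⟨1, 0, 30869, 0, 30869, 0, 34944⟩, .base)) (.leaf (⟨0, 0, 34944, 0, 34944, 1, 34944⟩, .dfn))) (.node (.leaf (⟨0, 3, 34944, 0, 34944, 1, 34659⟩, .inv 11)) (.leaf (⟨0, 0, 34944, 0, 34944, 1, 34944⟩, .dfn))))) (.node (.node (.node (.leaf (⟨1, 0,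 21721, 0, 21721, 0, 34944⟩, .base)) (.leaf (⟨1, 0, 14947, 0, 11894, 0, 34944⟩, .close 5 2 34944 [⟨8, 0, 0⟩, ⟨14, 11, 243⟩, ⟨17, 16, 1025⟩, ⟨17, 12, 929⟩, ⟨9, 1, 93⟩]))) (.node (.leaf (⟨1, 0, 11087, 0, 11087, 0, 34944⟩, .base)) (.leaf (⟨0, 0, 34944, 0, 34944, 1, 34944⟩, .dfn)))) (.node (.node (.leaf (⟨1, 0, 21693, 0, 21693, 0, 34944⟩, .base)) (.leaf (⟨0, 0, 34944, 0, 34944, 1, 34944⟩, .dfn))) (.node (.leaf (⟨1, 1, 44273, 0, 44273, 1, 34944⟩, .mul 7 7)) (.leaf (⟨0, 0, 34944, 0, 34944, 1, 34944⟩, .dfn)))))) (.node (.node (.node (.node (.leaf (⟨0, 1, 34944, 0, 34944, 0, 34944⟩, .inv 0)) (.leaf (⟨1, 3, 34944, 0, 34944, 3, 34944⟩, .unit))) (.node (.leaf (⟨1, 1, 34944, 0, 34944, 1, 34944⟩, .unit)) (.leaf (⟨0, 0, 34944, 0, 34944, 1, 34944⟩, .dfn)))) (.node (.node (.leaf (⟨1, 1, 62617, 0,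 30869, 1, 34944⟩, .sync ⟨4, 0, 761⟩)) (.leaf (⟨0, 0, 34944, 0, 34944, 1, 34944⟩, .dfn))) (.node (.leaf (⟨1, 1, 59561, 0, 40128, 1, 34944⟩, .mul 5 3)) (.leaf (⟨0, 0, 34944, 0, 34944, 1, 34944⟩, .dfn))))) (.node (.node (.node (.leaf (⟨1, 1, 29872, 0, 21721, 1, 34944⟩, .sync ⟨2, 0, 1154⟩)) (.leaf (⟨0, 0, 34944, 0, 34944, 1, 34944⟩, .dfn))) (.node (.leaf (⟨0, 1, 34659, 0, 34944, 3, 34944⟩, .dfn)) (.leaf (⟨0, 0, 34944, 0, 34944, 1, 34944⟩, .dfn)))) (.node (.node (.leaf (⟨1, 1, 28877, 0, 21693, 1, 34944⟩, .sync ⟨6, 0, 172⟩)) (.leaf (⟨0, 0, 34944, 0, 34944, 1, 34944⟩, .dfn))) (.node (.leaf (⟨1, 1, 53389, 0, 22680, 1, 34944⟩, .mul 13 7)) (.leaf (⟨0, 0, 34944, 0, 34944, 1, 34944⟩, .dfn)))))))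

/-- definitions -/
def defsBad35 : List (ℕ × ℕ × ℕ) := [(0, 34944, 0), (0, 34944, 1), (1, 34659, 0)]

/-- the facts -/
def factsBad36 : Tree (Fct × Why) :=
  (.node (.node (.node (.node (.node (.leaf (⟨0, 0, 34944, 0, 34944, 1, 34944⟩, .dfn)) (.leaf (⟨0, 3, 11785, 1, 43533, 3, 12081⟩, .fill 4 1 4 [34944, 11887, 34944, 65536, 54904, 65536, 62212] 0 34944 [⟨8, 0, 0⟩, ⟨14, 11, 243⟩] [⟨10, 0, 1276⟩, ⟨15, 11, 694⟩]))) (.node (.leaf (⟨1, 0, 34944, 0, 34944, 0, 34944⟩, .base)) (.leaf (⟨0, 0, 34944, 0, 34944, 1, 34944⟩, .dfn)))) (.node (.node (.leaf (⟨1, 0, 30869, 0, 30869, 0, 34944⟩, .base)) (.leaf (⟨0, 0, 34944, 0, 34944, 1, 34944⟩, .dfn))) (.node (.leaf (⟨0, 3, 34944, 0, 34944, 1, 34659⟩, .inv 11)) (.leaf (⟨0, 0, 34944, 0, 34944, 1, 34944⟩, .dfn))))) (.node (.node (.node (.leaf (⟨1, 0,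 21721, 0, 21721, 0, 34944⟩, .base)) (.leaf (⟨1, 0, 14947, 0, 11894, 0, 34944⟩, .close 5 2 34944 [⟨8, 0, 0⟩, ⟨14, 11, 243⟩, ⟨17, 16, 1025⟩, ⟨17, 12, 482⟩, ⟨9, 1, 550⟩]))) (.node (.leaf (⟨1, 0, 11087, 0, 11087, 0, 34944⟩, .base)) (.leaf (⟨0, 0, 34944, 0, 34944, 1, 34944⟩, .dfn)))) (.node (.node (.leaf (⟨1, 0, 21693, 0, 21693, 0, 34944⟩, .base)) (.leaf (⟨0, 0, 34944, 0, 34944, 1, 34944⟩, .dfn))) (.node (.leaf (⟨1, 1, 44273, 0, 44273, 1, 34944⟩, .mul 7 7)) (.leaf (⟨0, 0, 34944, 0, 34944, 1, 34944⟩, .dfn)))))) (.node (.node (.node (.node (.leaf (⟨0, 1, 34944, 0, 34944, 0, 34944⟩, .inv 0)) (.leaf (⟨1, 3, 34944, 0, 34944, 3, 34944⟩, .unit))) (.node (.leaf (⟨1, 1, 34944, 0, 34944, 1, 34944⟩, .unit)) (.leaf (⟨0, 0, 34944, 0, 34944, 1, 34944⟩, .dfn)))) (.node (.node (.leaf (⟨1, 1, 62617, 0,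 30869, 1, 34944⟩, .sync ⟨4, 0, 761⟩)) (.leaf (⟨0, 0, 34944, 0, 34944, 1, 34944⟩, .dfn))) (.node (.leaf (⟨1, 1, 59561, 0, 40128, 1, 34944⟩, .mul 5 3)) (.leaf (⟨0, 0, 34944, 0, 34944, 1, 34944⟩, .dfn))))) (.node (.node (.node (.leaf (⟨1, 1, 29872, 0, 21721, 1, 34944⟩, .sync ⟨2, 0, 1154⟩)) (.leaf (⟨0, 0, 34944, 0, 34944, 1, 34944⟩, .dfn))) (.node (.leaf (⟨0, 1, 34659, 0, 34944, 3, 34944⟩, .dfn)) (.leaf (⟨0, 0, 34944, 0, 34944, 1, 34944⟩, .dfn)))) (.node (.node (.leaf (⟨1, 1, 28877, 0, 21693, 1, 34944⟩, .sync ⟨6, 0, 172⟩)) (.leaf (⟨0, 0, 34944, 0, 34944, 1, 34944⟩, .dfn))) (.node (.leaf (⟨1, 1, 53389, 0, 22680, 1, 34944⟩, .mul 13 7)) (.leaf (⟨0, 0, 34944, 0, 34944, 1, 34944⟩, .dfn)))))))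

/-- definitions -/
def defsBad36 : List (ℕ × ℕ × ℕ) := [(0, 34944, 0), (0, 34944, 1), (1, 34659, 0)]

/-- the facts -/
def factsBad37 : Tree (Fct × Why) :=
  (.node (.node (.node (.node (.node (.leaf (⟨0, 0, 34944, 0, 34944, 1, 34944⟩, .dfn)) (.leaf (⟨0, 3, 11785, 1, 43533, 3, 26460⟩, .fill 4 1 4 [34944, 11882, 34944, 65536, 54904, 65536, 62212] 0 34944 [⟨8, 0, 0⟩, ⟨14, 11, 243⟩] [⟨10, 0, 1239⟩, ⟨15, 11, 1507⟩]))) (.node (.leaf (⟨1, 0, 34944, 0, 34944, 0, 34944⟩, .base)) (.leaf (⟨0, 0, 34944, 0, 34944, 1, 34944⟩, .dfn)))) (.node (.node (.leaf (⟨1, 0, 30869, 0, 30869, 0, 34944⟩, .base)) (.leaf (⟨0, 0, 34944, 0, 34944, 1, 34944⟩, .dfn))) (.node (.leaf (⟨0, 3, 34944, 0, 34944, 1, 34659⟩, .inv 11)) (.leaf (⟨0, 0, 34944, 0, 34944, 1, 34944⟩, .dfn))))) (.node (.node (.node (.leaf (⟨1,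 0, 21721, 0, 21721, 0, 34944⟩, .base)) (.leaf (⟨1, 0, 14946, 0, 11894, 0, 34944⟩, .close 5 2 34944 [⟨8, 0, 0⟩, ⟨14, 11, 243⟩, ⟨17, 16, 1025⟩, ⟨17, 12, 1013⟩, ⟨9, 1, 606⟩]))) (.node (.leaf (⟨1, 0, 11087, 0, 11087, 0, 34944⟩, .base)) (.leaf (⟨0, 0, 34944, 0, 34944, 1, 34944⟩, .dfn)))) (.node (.node (.leaf (⟨1, 0, 21693, 0, 21693, 0, 34944⟩, .base)) (.leaf (⟨0, 0, 34944, 0, 34944, 1, 34944⟩, .dfn))) (.node (.leaf (⟨1, 1, 44273, 0, 44273, 1, 34944⟩, .mul 7 7)) (.leaf (⟨0, 0, 34944, 0, 34944, 1, 34944⟩, .dfn)))))) (.node (.node (.node (.node (.leaf (⟨0, 1, 34944, 0, 34944, 0, 34944⟩, .inv 0)) (.leaf (⟨1, 3, 34944, 0, 34944, 3, 34944⟩, .unit))) (.node (.leaf (⟨1, 1, 34944, 0, 34944, 1, 34944⟩, .unit)) (.leaf (⟨0, 0, 34944, 0, 34944, 1, 34944⟩, .dfn)))) (.node (.node (.leaf (⟨1, 1, 62617,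 0, 30869, 1, 34944⟩, .sync ⟨4, 0, 761⟩)) (.leaf (⟨0, 0, 34944, 0, 34944, 1, 34944⟩, .dfn))) (.node (.leaf (⟨1, 1, 59561, 0, 40128, 1, 34944⟩, .mul 5 3)) (.leaf (⟨0, 0, 34944, 0, 34944, 1, 34944⟩, .dfn))))) (.node (.node (.node (.leaf (⟨1, 1, 29872, 0, 21721, 1, 34944⟩, .sync ⟨2, 0, 1154⟩)) (.leaf (⟨0, 0, 34944, 0, 34944, 1, 34944⟩, .dfn))) (.node (.leaf (⟨0, 1, 34659, 0, 34944, 3, 34944⟩, .dfn)) (.leaf (⟨0, 0, 34944, 0, 34944, 1, 34944⟩, .dfn)))) (.node (.node (.leaf (⟨1, 1, 28877, 0, 21693, 1, 34944⟩, .sync ⟨6, 0, 172⟩)) (.leaf (⟨0, 0, 34944, 0, 34944, 1, 34944⟩, .dfn))) (.node (.leaf (⟨1, 1, 53389, 0, 22680, 1, 34944⟩, .mul 13 7)) (.leaf (⟨0, 0, 34944, 0, 34944, 1, 34944⟩, .dfn)))))))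

/-- definitions -/
def defsBad37 : List (ℕ × ℕ × ℕ) := [(0, 34944, 0), (0, 34944, 1), (1, 34659, 0)]

/-- the facts -/
def factsBad38 : Tree (Fct × Why) :=
  (.node (.node (.node (.node (.node (.leaf (⟨0, 0, 34944, 0, 34944, 1, 34944⟩, .dfn)) (.leaf (⟨0, 3, 11785, 1, 43533, 3, 48912⟩, .fill 4 1 4 [34944, 11883, 34944, 65536, 54904, 65536, 62212] 0 34944 [⟨8, 0, 0⟩, ⟨14, 11, 243⟩] [⟨10, 0, 1126⟩, ⟨15, 11, 282⟩]))) (.node (.leaf (⟨1, 0, 34944, 0, 34944, 0, 34944⟩, .base)) (.leaf (⟨0, 0, 34944, 0, 34944, 1, 34944⟩, .dfn)))) (.node (.node (.leaf (⟨1, 0, 30869, 0, 30869, 0, 34944⟩, .base)) (.leaf (⟨0, 0, 34944, 0, 34944, 1, 34944⟩, .dfn))) (.node (.leaf (⟨0, 3, 34944, 0, 34944, 1, 34659⟩, .inv 11)) (.leaf (⟨0, 0, 34944, 0, 34944, 1, 34944⟩, .dfn))))) (.node (.node (.node (.leaf (⟨1, 0,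 21721, 0, 21721, 0, 34944⟩, .base)) (.leaf (⟨1, 0, 14946, 0, 11894, 0, 34944⟩, .close 5 2 34944 [⟨8, 0, 0⟩, ⟨14, 11, 243⟩, ⟨17, 16, 1025⟩, ⟨17, 12, 381⟩, ⟨9, 1, 373⟩]))) (.node (.leaf (⟨1, 0, 11087, 0, 11087, 0, 34944⟩, .base)) (.leaf (⟨0, 0, 34944, 0, 34944, 1, 34944⟩, .dfn)))) (.node (.node (.leaf (⟨1, 0, 21693, 0, 21693, 0, 34944⟩, .base)) (.leaf (⟨0, 0, 34944, 0, 34944, 1, 34944⟩, .dfn))) (.node (.leaf (⟨1, 1, 44273, 0, 44273, 1, 34944⟩, .mul 7 7)) (.leaf (⟨0, 0, 34944, 0, 34944, 1, 34944⟩, .dfn)))))) (.node (.node (.node (.node (.leaf (⟨0, 1, 34944, 0, 34944, 0, 34944⟩, .inv 0)) (.leaf (⟨1, 3, 34944, 0, 34944, 3, 34944⟩, .unit))) (.node (.leaf (⟨1, 1, 34944, 0, 34944, 1, 34944⟩, .unit)) (.leaf (⟨0, 0, 34944, 0, 34944, 1, 34944⟩, .dfn)))) (.node (.node (.leaf (⟨1, 1, 62617, 0,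 30869, 1, 34944⟩, .sync ⟨4, 0, 761⟩)) (.leaf (⟨0, 0, 34944, 0, 34944, 1, 34944⟩, .dfn))) (.node (.leaf (⟨1, 1, 59561, 0, 40128, 1, 34944⟩, .mul 5 3)) (.leaf (⟨0, 0, 34944, 0, 34944, 1, 34944⟩, .dfn))))) (.node (.node (.node (.leaf (⟨1, 1, 29872, 0, 21721, 1, 34944⟩, .sync ⟨2, 0, 1154⟩)) (.leaf (⟨0, 0, 34944, 0, 34944, 1, 34944⟩, .dfn))) (.node (.leaf (⟨0, 1, 34659, 0, 34944, 3, 34944⟩, .dfn)) (.leaf (⟨0, 0, 34944, 0, 34944, 1, 34944⟩, .dfn)))) (.node (.node (.leaf (⟨1, 1, 28877, 0, 21693, 1, 34944⟩, .sync ⟨6, 0, 172⟩)) (.leaf (⟨0, 0, 34944, 0, 34944, 1, 34944⟩, .dfn))) (.node (.leaf (⟨1, 1, 53389, 0, 22680, 1, 34944⟩, .mul 13 7)) (.leaf (⟨0, 0, 34944, 0, 34944, 1, 34944⟩, .dfn)))))))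

/-- definitions -/
def defsBad38 : List (ℕ × ℕ × ℕ) := [(0, 34944, 0), (0, 34944, 1), (1, 34659, 0)]

/-- the facts -/
def factsBad39 : Tree (Fct × Why) :=
  (.node (.node (.node (.node (.node (.leaf (⟨0, 0, 34944, 0, 34944, 1, 34944⟩, .dfn)) (.leaf (⟨0, 3, 11785, 1, 43533, 3, 26481⟩, .fill 4 1 4 [34944, 11838, 34944, 65536, 54904, 65536, 62212] 0 34944 [⟨8, 0, 0⟩, ⟨14, 11, 243⟩] [⟨10, 0, 261⟩, ⟨15, 11, 1133⟩]))) (.node (.leaf (⟨1, 0, 34944, 0, 34944, 0, 34944⟩, .base)) (.leaf (⟨0, 0, 34944, 0, 34944, 1, 34944⟩, .dfn)))) (.node (.node (.leaf (⟨1, 0, 30869, 0, 30869, 0, 34944⟩, .base)) (.leaf (⟨0, 0, 34944, 0, 34944, 1, 34944⟩, .dfn))) (.node (.leaf (⟨0, 3, 34944, 0, 34944, 1, 34659⟩, .inv 11)) (.leaf (⟨0, 0, 34944, 0, 34944, 1, 34944⟩, .dfn))))) (.node (.node (.node (.leaf (⟨1, 0,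 21721, 0, 21721, 0, 34944⟩, .base)) (.leaf (⟨1, 0, 14947, 0, 11894, 0, 34944⟩, .close 5 2 34944 [⟨8, 0, 0⟩, ⟨14, 11, 243⟩, ⟨17, 16, 1025⟩, ⟨17, 12, 1350⟩, ⟨9, 1, 931⟩]))) (.node (.leaf (⟨1, 0, 11087, 0, 11087, 0, 34944⟩, .base)) (.leaf (⟨0, 0, 34944, 0, 34944, 1, 34944⟩, .dfn)))) (.node (.node (.leaf (⟨1, 0, 21693, 0, 21693, 0, 34944⟩, .base)) (.leaf (⟨0, 0, 34944, 0, 34944, 1, 34944⟩, .dfn))) (.node (.leaf (⟨1, 1, 44273, 0, 44273, 1, 34944⟩, .mul 7 7)) (.leaf (⟨0, 0, 34944, 0, 34944, 1, 34944⟩, .dfn)))))) (.node (.node (.node (.node (.leaf (⟨0, 1, 34944, 0, 34944, 0, 34944⟩, .inv 0)) (.leaf (⟨1, 3, 34944, 0, 34944, 3, 34944⟩, .unit))) (.node (.leaf (⟨1, 1, 34944, 0, 34944, 1, 34944⟩, .unit)) (.leaf (⟨0, 0, 34944, 0, 34944, 1, 34944⟩, .dfn)))) (.node (.node (.leaf (⟨1, 1, 62617, 0,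 30869, 1, 34944⟩, .sync ⟨4, 0, 761⟩)) (.leaf (⟨0, 0, 34944, 0, 34944, 1, 34944⟩, .dfn))) (.node (.leaf (⟨1, 1, 59561, 0, 40128, 1, 34944⟩, .mul 5 3)) (.leaf (⟨0, 0, 34944, 0, 34944, 1, 34944⟩, .dfn))))) (.node (.node (.node (.leaf (⟨1, 1, 29872, 0, 21721, 1, 34944⟩, .sync ⟨2, 0, 1154⟩)) (.leaf (⟨0, 0, 34944, 0, 34944, 1, 34944⟩, .dfn))) (.node (.leaf (⟨0, 1, 34659, 0, 34944, 3, 34944⟩, .dfn)) (.leaf (⟨0, 0, 34944, 0, 34944, 1, 34944⟩, .dfn)))) (.node (.node (.leaf (⟨1, 1, 28877, 0, 21693, 1, 34944⟩, .sync ⟨6, 0, 172⟩)) (.leaf (⟨0, 0, 34944, 0, 34944, 1, 34944⟩, .dfn))) (.node (.leaf (⟨1, 1, 53389, 0, 22680, 1, 34944⟩, .mul 13 7)) (.leaf (⟨0, 0, 34944, 0, 34944, 1, 34944⟩, .dfn)))))))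

/-- definitions -/
def defsBad39 : List (ℕ × ℕ × ℕ) := [(0, 34944, 0), (0, 34944, 1), (1, 34659, 0)]

/-- the facts -/
def factsBad40 : Tree (Fct × Why) :=
  (.node (.node (.node (.node (.node (.leaf (⟨0, 0, 34944, 0, 34944, 1, 34944⟩, .dfn)) (.leaf (⟨0, 3, 11785, 1, 43533, 3, 48957⟩, .fill 4 1 4 [34944, 11839, 34944, 65536, 54904, 65536, 62212] 0 34944 [⟨8, 0, 0⟩, ⟨14, 11, 243⟩] [⟨10, 0, 938⟩, ⟨15, 11, 60⟩]))) (.node (.leaf (⟨1, 0, 34944, 0, 34944, 0, 34944⟩, .base)) (.leaf (⟨0, 0, 34944, 0, 34944, 1, 34944⟩, .dfn)))) (.node (.node (.leaf (⟨1, 0, 30869, 0, 30869, 0, 34944⟩, .base)) (.leaf (⟨0, 0, 34944, 0, 34944, 1, 34944⟩, .dfn))) (.node (.leaf (⟨0, 3, 34944, 0, 34944, 1, 34659⟩, .inv 11)) (.leaf (⟨0, 0, 34944, 0, 34944, 1, 34944⟩, .dfn))))) (.node (.node (.node (.leaf (⟨1, 0,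 21721, 0, 21721, 0, 34944⟩, .base)) (.leaf (⟨1, 0, 14947, 0, 11894, 0, 34944⟩, .close 5 2 34944 [⟨8, 0, 0⟩, ⟨14, 11, 243⟩, ⟨17, 16, 1025⟩, ⟨17, 12, 759⟩, ⟨9, 1, 380⟩]))) (.node (.leaf (⟨1, 0, 11087, 0, 11087, 0, 34944⟩, .base)) (.leaf (⟨0, 0, 34944, 0, 34944, 1, 34944⟩, .dfn)))) (.node (.node (.leaf (⟨1, 0, 21693, 0, 21693, 0, 34944⟩, .base)) (.leaf (⟨0, 0, 34944, 0, 34944, 1, 34944⟩, .dfn))) (.node (.leaf (⟨1, 1, 44273, 0, 44273, 1, 34944⟩, .mul 7 7)) (.leaf (⟨0, 0, 34944, 0, 34944, 1, 34944⟩, .dfn)))))) (.node (.node (.node (.node (.leaf (⟨0, 1, 34944, 0, 34944, 0, 34944⟩, .inv 0)) (.leaf (⟨1, 3, 34944, 0, 34944, 3, 34944⟩, .unit))) (.node (.leaf (⟨1, 1, 34944, 0, 34944, 1, 34944⟩, .unit)) (.leaf (⟨0, 0, 34944, 0, 34944, 1, 34944⟩, .dfn)))) (.node (.node (.leaf (⟨1, 1, 62617, 0,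 30869, 1, 34944⟩, .sync ⟨4, 0, 761⟩)) (.leaf (⟨0, 0, 34944, 0, 34944, 1, 34944⟩, .dfn))) (.node (.leaf (⟨1, 1, 59561, 0, 40128, 1, 34944⟩, .mul 5 3)) (.leaf (⟨0, 0, 34944, 0, 34944, 1, 34944⟩, .dfn))))) (.node (.node (.node (.leaf (⟨1, 1, 29872, 0, 21721, 1, 34944⟩, .sync ⟨2, 0, 1154⟩)) (.leaf (⟨0, 0, 34944, 0, 34944, 1, 34944⟩, .dfn))) (.node (.leaf (⟨0, 1, 34659, 0, 34944, 3, 34944⟩, .dfn)) (.leaf (⟨0, 0, 34944, 0, 34944, 1, 34944⟩, .dfn)))) (.node (.node (.leaf (⟨1, 1, 28877, 0, 21693, 1, 34944⟩, .sync ⟨6, 0, 172⟩)) (.leaf (⟨0, 0, 34944, 0, 34944, 1, 34944⟩, .dfn))) (.node (.leaf (⟨1, 1, 53389, 0, 22680, 1, 34944⟩, .mul 13 7)) (.leaf (⟨0, 0, 34944, 0, 34944, 1, 34944⟩, .dfn)))))))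

/-- definitions -/
def defsBad40 : List (ℕ × ℕ × ℕ) := [(0, 34944, 0), (0, 34944, 1), (1, 34659, 0)]

/-- the facts -/
def factsBad41 : Tree (Fct × Why) :=
  (.node (.node (.node (.node (.node (.leaf (⟨0, 0, 34944, 0, 34944, 1, 34944⟩, .dfn)) (.leaf (⟨0, 3, 11785, 1, 43533, 3, 63312⟩, .fill 4 1 4 [34944, 11834, 34944, 65536, 54904, 65536, 62212] 0 34944 [⟨8, 0, 0⟩, ⟨14, 11, 243⟩] [⟨10, 0, 271⟩, ⟨15, 11, 96⟩]))) (.node (.leaf (⟨1, 0, 34944, 0, 34944, 0, 34944⟩, .base)) (.leaf (⟨0, 0, 34944, 0, 34944, 1, 34944⟩, .dfn)))) (.node (.node (.leaf (⟨1, 0, 30869, 0, 30869, 0, 34944⟩, .base)) (.leaf (⟨0, 0, 34944, 0, 34944, 1, 34944⟩, .dfn))) (.node (.leaf (⟨0, 3, 34944, 0, 34944, 1, 34659⟩, .inv 11)) (.leaf (⟨0, 0, 34944, 0, 34944, 1, 34944⟩, .dfn))))) (.node (.node (.node (.leaf (⟨1, 0,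 21721, 0, 21721, 0, 34944⟩, .base)) (.leaf (⟨1, 0, 14946, 0, 11894, 0, 34944⟩, .close 5 2 34944 [⟨8, 0, 0⟩, ⟨14, 11, 243⟩, ⟨17, 16, 1025⟩, ⟨17, 12, 784⟩, ⟨9, 1, 263⟩]))) (.node (.leaf (⟨1, 0, 11087, 0, 11087, 0, 34944⟩, .base)) (.leaf (⟨0, 0, 34944, 0, 34944, 1, 34944⟩, .dfn)))) (.node (.node (.leaf (⟨1, 0, 21693, 0, 21693, 0, 34944⟩, .base)) (.leaf (⟨0, 0, 34944, 0, 34944, 1, 34944⟩, .dfn))) (.node (.leaf (⟨1, 1, 44273, 0, 44273, 1, 34944⟩, .mul 7 7)) (.leaf (⟨0, 0, 34944, 0, 34944, 1, 34944⟩, .dfn)))))) (.node (.node (.node (.node (.leaf (⟨0, 1, 34944, 0, 34944, 0, 34944⟩, .inv 0)) (.leaf (⟨1, 3, 34944, 0, 34944, 3, 34944⟩, .unit))) (.node (.leaf (⟨1, 1, 34944, 0, 34944, 1, 34944⟩, .unit)) (.leaf (⟨0, 0, 34944, 0, 34944, 1, 34944⟩, .dfn)))) (.node (.node (.leaf (⟨1, 1, 62617, 0,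 30869, 1, 34944⟩, .sync ⟨4, 0, 761⟩)) (.leaf (⟨0, 0, 34944, 0, 34944, 1, 34944⟩, .dfn))) (.node (.leaf (⟨1, 1, 59561, 0, 40128, 1, 34944⟩, .mul 5 3)) (.leaf (⟨0, 0, 34944, 0, 34944, 1, 34944⟩, .dfn))))) (.node (.node (.node (.leaf (⟨1, 1, 29872, 0, 21721, 1, 34944⟩, .sync ⟨2, 0, 1154⟩)) (.leaf (⟨0, 0, 34944, 0, 34944, 1, 34944⟩, .dfn))) (.node (.leaf (⟨0, 1, 34659, 0, 34944, 3, 34944⟩, .dfn)) (.leaf (⟨0, 0, 34944, 0, 34944, 1, 34944⟩, .dfn)))) (.node (.node (.leaf (⟨1, 1, 28877, 0, 21693, 1, 34944⟩, .sync ⟨6, 0, 172⟩)) (.leaf (⟨0, 0, 34944, 0, 34944, 1, 34944⟩, .dfn))) (.node (.leaf (⟨1, 1, 53389, 0, 22680, 1, 34944⟩, .mul 13 7)) (.leaf (⟨0, 0, 34944, 0, 34944, 1, 34944⟩, .dfn)))))))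

/-- definitions -/
def defsBad41 : List (ℕ × ℕ × ℕ) := [(0, 34944, 0), (0, 34944, 1), (1, 34659, 0)]

/-- the facts -/
def factsBad42 : Tree (Fct × Why) :=
  (.node (.node (.node (.node (.node (.leaf (⟨0, 0, 34944, 0, 34944, 1, 34944⟩, .dfn)) (.leaf (⟨0, 3, 11785, 1, 43533, 3, 12060⟩, .fill 4 1 4 [34944, 11835, 34944, 65536, 54904, 65536, 62212] 0 34944 [⟨8, 0, 0⟩, ⟨14, 11, 243⟩] [⟨10, 0, 947⟩, ⟨15, 11, 53⟩]))) (.node (.leaf (⟨1, 0, 34944, 0, 34944, 0, 34944⟩, .base)) (.leaf (⟨0, 0, 34944, 0, 34944, 1, 34944⟩, .dfn)))) (.node (.node (.leaf (⟨1, 0, 30869, 0, 30869, 0, 34944⟩, .base)) (.leaf (⟨0, 0, 34944, 0, 34944, 1, 34944⟩, .dfn))) (.node (.leaf (⟨0, 3, 34944, 0, 34944, 1, 34659⟩, .inv 11)) (.leaf (⟨0, 0, 34944, 0, 34944, 1, 34944⟩, .dfn))))) (.node (.node (.node (.leaf (⟨1, 0,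 21721, 0, 21721, 0, 34944⟩, .base)) (.leaf (⟨1, 0, 14946, 0, 11894, 0, 34944⟩, .close 5 2 34944 [⟨8, 0, 0⟩, ⟨14, 11, 243⟩, ⟨17, 16, 1025⟩, ⟨17, 12, 65⟩, ⟨9, 1, 701⟩]))) (.node (.leaf (⟨1, 0, 11087, 0, 11087, 0, 34944⟩, .base)) (.leaf (⟨0, 0, 34944, 0, 34944, 1, 34944⟩, .dfn)))) (.node (.node (.leaf (⟨1, 0, 21693, 0, 21693, 0, 34944⟩, .base)) (.leaf (⟨0, 0, 34944, 0, 34944, 1, 34944⟩, .dfn))) (.node (.leaf (⟨1, 1, 44273, 0, 44273, 1, 34944⟩, .mul 7 7)) (.leaf (⟨0, 0, 34944, 0, 34944, 1, 34944⟩, .dfn)))))) (.node (.node (.node (.node (.leaf (⟨0, 1, 34944, 0, 34944, 0, 34944⟩, .inv 0)) (.leaf (⟨1, 3, 34944, 0, 34944, 3, 34944⟩, .unit))) (.node (.leaf (⟨1, 1, 34944, 0, 34944, 1, 34944⟩, .unit)) (.leaf (⟨0, 0, 34944, 0, 34944, 1, 34944⟩, .dfn)))) (.node (.node (.leaf (⟨1, 1, 62617, 0,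 30869, 1, 34944⟩, .sync ⟨4, 0, 761⟩)) (.leaf (⟨0, 0, 34944, 0, 34944, 1, 34944⟩, .dfn))) (.node (.leaf (⟨1, 1, 59561, 0, 40128, 1, 34944⟩, .mul 5 3)) (.leaf (⟨0, 0, 34944, 0, 34944, 1, 34944⟩, .dfn))))) (.node (.node (.node (.leaf (⟨1, 1, 29872, 0, 21721, 1, 34944⟩, .sync ⟨2, 0, 1154⟩)) (.leaf (⟨0, 0, 34944, 0, 34944, 1, 34944⟩, .dfn))) (.node (.leaf (⟨0, 1, 34659, 0, 34944, 3, 34944⟩, .dfn)) (.leaf (⟨0, 0, 34944, 0, 34944, 1, 34944⟩, .dfn)))) (.node (.node (.leaf (⟨1, 1, 28877, 0, 21693, 1, 34944⟩, .sync ⟨6, 0, 172⟩)) (.leaf (⟨0, 0, 34944, 0, 34944, 1, 34944⟩, .dfn))) (.node (.leaf (⟨1, 1, 53389, 0, 22680, 1, 34944⟩, .mul 13 7)) (.leaf (⟨0, 0, 34944, 0, 34944, 1, 34944⟩, .dfn)))))))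

/-- definitions -/
def defsBad42 : List (ℕ × ℕ × ℕ) := [(0, 34944, 0), (0, 34944, 1), (1, 34659, 0)]

/-- the facts -/
def factsBad43 : Tree (Fct × Why) :=
  (.node (.node (.node (.node (.node (.leaf (⟨0, 0, 34944, 0, 34944, 1, 34944⟩, .dfn)) (.leaf (⟨0, 3, 11785, 1, 43533, 3, 12113⟩, .fill 4 1 4 [34944, 11903, 34944, 65536, 54904, 65536, 62212] 0 34944 [⟨8, 0, 0⟩, ⟨14, 11, 243⟩] [⟨10, 0, 17⟩, ⟨15, 11, 465⟩]))) (.node (.leaf (⟨1, 0, 34944, 0, 34944, 0, 34944⟩, .base)) (.leaf (⟨0, 0, 34944, 0, 34944, 1, 34944⟩, .dfn)))) (.node (.node (.leaf (⟨1, 0, 30869, 0, 30869, 0, 34944⟩, .base)) (.leaf (⟨0, 0, 34944, 0, 34944, 1, 34944⟩, .dfn))) (.node (.leaf (⟨0, 3, 34944, 0, 34944, 1, 34659⟩, .inv 11)) (.leaf (⟨0, 0, 34944, 0, 34944, 1, 34944⟩, .dfn))))) (.node (.node (.node (.leaf (⟨1, 0,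 21721, 0, 21721, 0, 34944⟩, .base)) (.leaf (⟨1, 0, 14898, 0, 11894, 0, 34944⟩, .close 5 2 34944 [⟨8, 0, 0⟩, ⟨14, 11, 243⟩, ⟨17, 16, 1025⟩, ⟨17, 12, 58⟩, ⟨9, 1, 1276⟩]))) (.node (.leaf (⟨1, 0, 11087, 0, 11087, 0, 34944⟩, .base)) (.leaf (⟨0, 0, 34944, 0, 34944, 1, 34944⟩, .dfn)))) (.node (.node (.leaf (⟨1, 0, 21693, 0, 21693, 0, 34944⟩, .base)) (.leaf (⟨0, 0, 34944, 0, 34944, 1, 34944⟩, .dfn))) (.node (.leaf (⟨1, 1, 44273, 0, 44273, 1, 34944⟩, .mul 7 7)) (.leaf (⟨0, 0, 34944, 0, 34944, 1, 34944⟩, .dfn)))))) (.node (.node (.node (.node (.leaf (⟨0, 1, 34944, 0, 34944, 0, 34944⟩, .inv 0)) (.leaf (⟨1, 3, 34944, 0, 34944, 3, 34944⟩, .unit))) (.node (.leaf (⟨1, 1, 34944, 0, 34944, 1, 34944⟩, .unit)) (.leaf (⟨0, 0, 34944, 0, 34944, 1, 34944⟩, .dfn)))) (.node (.node (.leaf (⟨1, 1, 62617, 0,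 30869, 1, 34944⟩, .sync ⟨4, 0, 761⟩)) (.leaf (⟨0, 0, 34944, 0, 34944, 1, 34944⟩, .dfn))) (.node (.leaf (⟨1, 1, 59561, 0, 40128, 1, 34944⟩, .mul 5 3)) (.leaf (⟨0, 0, 34944, 0, 34944, 1, 34944⟩, .dfn))))) (.node (.node (.node (.leaf (⟨1, 1, 29872, 0, 21721, 1, 34944⟩, .sync ⟨2, 0, 1154⟩)) (.leaf (⟨0, 0, 34944, 0, 34944, 1, 34944⟩, .dfn))) (.node (.leaf (⟨0, 1, 34659, 0, 34944, 3, 34944⟩, .dfn)) (.leaf (⟨0, 0, 34944, 0, 34944, 1, 34944⟩, .dfn)))) (.node (.node (.leaf (⟨1, 1, 28877, 0, 21693, 1, 34944⟩, .sync ⟨6, 0, 172⟩)) (.leaf (⟨0, 0, 34944, 0, 34944, 1, 34944⟩, .dfn))) (.node (.leaf (⟨1, 1, 53389, 0, 22680, 1, 34944⟩, .mul 13 7)) (.leaf (⟨0, 0, 34944, 0, 34944, 1, 34944⟩, .dfn)))))))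

/-- definitions -/
def defsBad43 : List (ℕ × ℕ × ℕ) := [(0, 34944, 0), (0, 34944, 1), (1, 34659, 0)]

/-- the facts -/
def factsBad44 : Tree (Fct × Why) :=
  (.node (.node (.node (.node (.node (.leaf (⟨0, 0, 34944, 0, 34944, 1, 34944⟩, .dfn)) (.leaf (⟨0, 3, 11785, 1, 43533, 3, 63261⟩, .fill 4 1 4 [34944, 11902, 34944, 65536, 54904, 65536, 62212] 0 34944 [⟨8, 0, 0⟩, ⟨14, 11, 243⟩] [⟨10, 0, 93⟩, ⟨15, 11, 701⟩]))) (.node (.leaf (⟨1, 0, 34944, 0, 34944, 0, 34944⟩, .base)) (.leaf (⟨0, 0, 34944, 0, 34944, 1, 34944⟩, .dfn)))) (.node (.node (.leaf (⟨1, 0, 30869, 0, 30869, 0, 34944⟩, .base)) (.leaf (⟨0, 0, 34944, 0, 34944, 1, 34944⟩, .dfn))) (.node (.leaf (⟨0, 3, 34944, 0, 34944, 1, 34659⟩, .inv 11)) (.leaf (⟨0, 0, 34944, 0, 34944, 1, 34944⟩, .dfn))))) (.node (.node (.node (.leaf (⟨1, 0,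 21721, 0, 21721, 0, 34944⟩, .base)) (.leaf (⟨1, 0, 14898, 0, 11894, 0, 34944⟩, .close 5 2 34944 [⟨8, 0, 0⟩, ⟨14, 11, 243⟩, ⟨17, 16, 1025⟩, ⟨17, 12, 376⟩, ⟨9, 1, 17⟩]))) (.node (.leaf (⟨1, 0, 11087, 0, 11087, 0, 34944⟩, .base)) (.leaf (⟨0, 0, 34944, 0, 34944, 1, 34944⟩, .dfn)))) (.node (.node (.leaf (⟨1, 0, 21693, 0, 21693, 0, 34944⟩, .base)) (.leaf (⟨0, 0, 34944, 0, 34944, 1, 34944⟩, .dfn))) (.node (.leaf (⟨1, 1, 44273, 0, 44273, 1, 34944⟩, .mul 7 7)) (.leaf (⟨0, 0, 34944, 0, 34944, 1, 34944⟩, .dfn)))))) (.node (.node (.node (.node (.leaf (⟨0, 1, 34944, 0, 34944, 0, 34944⟩, .inv 0)) (.leaf (⟨1, 3, 34944, 0, 34944, 3, 34944⟩, .unit))) (.node (.leaf (⟨1, 1, 34944, 0, 34944, 1, 34944⟩, .unit)) (.leaf (⟨0, 0, 34944, 0, 34944, 1, 34944⟩, .dfn)))) (.node (.node (.leaf (⟨1, 1, 62617, 0,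 30869, 1, 34944⟩, .sync ⟨4, 0, 761⟩)) (.leaf (⟨0, 0, 34944, 0, 34944, 1, 34944⟩, .dfn))) (.node (.leaf (⟨1, 1, 59561, 0, 40128, 1, 34944⟩, .mul 5 3)) (.leaf (⟨0, 0, 34944, 0, 34944, 1, 34944⟩, .dfn))))) (.node (.node (.node (.leaf (⟨1, 1, 29872, 0, 21721, 1, 34944⟩, .sync ⟨2, 0, 1154⟩)) (.leaf (⟨0, 0, 34944, 0, 34944, 1, 34944⟩, .dfn))) (.node (.leaf (⟨0, 1, 34659, 0, 34944, 3, 34944⟩, .dfn)) (.leaf (⟨0, 0, 34944, 0, 34944, 1, 34944⟩, .dfn)))) (.node (.node (.leaf (⟨1, 1, 28877, 0, 21693, 1, 34944⟩, .sync ⟨6, 0, 172⟩)) (.leaf (⟨0, 0, 34944, 0, 34944, 1, 34944⟩, .dfn))) (.node (.leaf (⟨1, 1, 53389, 0, 22680, 1, 34944⟩, .mul 13 7)) (.leaf (⟨0, 0, 34944, 0, 34944, 1, 34944⟩, .dfn)))))))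

/-- definitions -/
def defsBad44 : List (ℕ × ℕ × ℕ) := [(0, 34944, 0), (0, 34944, 1), (1, 34659, 0)]

/-- the facts -/
def factsBad45 : Tree (Fct × Why) :=
  (.node (.node (.node (.node (.node (.leaf (⟨0, 0, 34944, 0, 34944, 1, 34944⟩, .dfn)) (.leaf (⟨0, 3, 11785, 1, 43533, 3, 49008⟩, .fill 4 1 4 [34944, 11899, 34944, 65536, 54904, 65536, 62212] 0 34944 [⟨8, 0, 0⟩, ⟨14, 11, 243⟩] [⟨10, 0, 98⟩, ⟨15, 11, 66⟩]))) (.node (.leaf (⟨1, 0, 34944, 0, 34944, 0, 34944⟩, .base)) (.leaf (⟨0, 0, 34944, 0, 34944, 1, 34944⟩, .dfn)))) (.node (.node (.leaf (⟨1, 0, 30869, 0, 30869, 0, 34944⟩, .base)) (.leaf (⟨0, 0, 34944, 0, 34944, 1, 34944⟩, .dfn))) (.node (.leaf (⟨0, 3, 34944, 0, 34944, 1, 34659⟩, .inv 11)) (.leaf (⟨0, 0, 34944, 0, 34944, 1, 34944⟩, .dfn))))) (.node (.node (.node (.leaf (⟨1, 0, 21721,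 0, 21721, 0, 34944⟩, .base)) (.leaf (⟨1, 0, 14899, 0, 11894, 0, 34944⟩, .close 5 2 34944 [⟨8, 0, 0⟩, ⟨14, 11, 243⟩, ⟨17, 16, 1025⟩, ⟨17, 12, 932⟩, ⟨9, 1, 80⟩]))) (.node (.leaf (⟨1, 0, 11087, 0, 11087, 0, 34944⟩, .base)) (.leaf (⟨0, 0, 34944, 0, 34944, 1, 34944⟩, .dfn)))) (.node (.node (.leaf (⟨1, 0, 21693, 0, 21693, 0, 34944⟩, .base)) (.leaf (⟨0, 0, 34944, 0, 34944, 1, 34944⟩, .dfn))) (.node (.leaf (⟨1, 1, 44273, 0, 44273, 1, 34944⟩, .mul 7 7)) (.leaf (⟨0, 0, 34944, 0, 34944, 1, 34944⟩, .dfn)))))) (.node (.node (.node (.node (.leaf (⟨0, 1, 34944, 0, 34944, 0, 34944⟩, .inv 0)) (.leaf (⟨1, 3, 34944, 0, 34944, 3, 34944⟩, .unit))) (.node (.leaf (⟨1, 1, 34944, 0, 34944, 1, 34944⟩, .unit)) (.leaf (⟨0, 0, 34944, 0, 34944, 1, 34944⟩, .dfn)))) (.node (.node (.leaf (⟨1, 1, 62617, 0, 30869,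 1, 34944⟩, .sync ⟨4, 0, 761⟩)) (.leaf (⟨0, 0, 34944, 0, 34944, 1, 34944⟩, .dfn))) (.node (.leaf (⟨1, 1, 59561, 0, 40128, 1, 34944⟩, .mul 5 3)) (.leaf (⟨0, 0, 34944, 0, 34944, 1, 34944⟩, .dfn))))) (.node (.node (.node (.leaf (⟨1, 1, 29872, 0, 21721, 1, 34944⟩, .sync ⟨2, 0, 1154⟩)) (.leaf (⟨0, 0, 34944, 0, 34944, 1, 34944⟩, .dfn))) (.node (.leaf (⟨0, 1, 34659, 0, 34944, 3, 34944⟩, .dfn)) (.leaf (⟨0, 0, 34944, 0, 34944, 1, 34944⟩, .dfn)))) (.node (.node (.leaf (⟨1, 1, 28877, 0, 21693, 1, 34944⟩, .sync ⟨6, 0, 172⟩)) (.leaf (⟨0, 0, 34944, 0, 34944, 1, 34944⟩, .dfn))) (.node (.leaf (⟨1, 1, 53389, 0, 22680, 1, 34944⟩, .mul 13 7)) (.leaf (⟨0, 0, 34944, 0, 34944, 1, 34944⟩, .dfn)))))))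

/-- definitions -/
def defsBad45 : List (ℕ × ℕ × ℕ) := [(0, 34944, 0), (0, 34944, 1), (1, 34659, 0)]

/-- the facts -/
def factsBad46 : Tree (Fct × Why) :=
  (.node (.node (.node (.node (.node (.leaf (⟨0, 0, 34944, 0, 34944, 1, 34944⟩, .dfn)) (.leaf (⟨0, 3, 11785, 1, 43533, 3, 26428⟩, .fill 4 1 4 [34944, 11898, 34944, 65536, 54904, 65536, 62212] 0 34944 [⟨8, 0, 0⟩, ⟨14, 11, 243⟩] [⟨10, 0, 435⟩, ⟨15, 11, 1064⟩]))) (.node (.leaf (⟨1, 0, 34944, 0, 34944, 0, 34944⟩, .base)) (.leaf (⟨0, 0, 34944, 0, 34944, 1, 34944⟩, .dfn)))) (.node (.node (.leaf (⟨1, 0, 30869, 0, 30869, 0, 34944⟩, .base)) (.leaf (⟨0, 0, 34944, 0, 34944, 1, 34944⟩, .dfn))) (.node (.leaf (⟨0, 3, 34944, 0, 34944, 1, 34659⟩, .inv 11)) (.leaf (⟨0, 0, 34944, 0, 34944, 1, 34944⟩, .dfn))))) (.node (.node (.node (.leaf (⟨1, 0,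 21721, 0, 21721, 0, 34944⟩, .base)) (.leaf (⟨1, 0, 14899, 0, 11894, 0, 34944⟩, .close 5 2 34944 [⟨8, 0, 0⟩, ⟨14, 11, 243⟩, ⟨17, 16, 1025⟩, ⟨17, 12, 1230⟩, ⟨9, 1, 1357⟩]))) (.node (.leaf (⟨1, 0, 11087, 0, 11087, 0, 34944⟩, .base)) (.leaf (⟨0, 0, 34944, 0, 34944, 1, 34944⟩, .dfn)))) (.node (.node (.leaf (⟨1, 0, 21693, 0, 21693, 0, 34944⟩, .base)) (.leaf (⟨0, 0, 34944, 0, 34944, 1, 34944⟩, .dfn))) (.node (.leaf (⟨1, 1, 44273, 0, 44273, 1, 34944⟩, .mul 7 7)) (.leaf (⟨0, 0, 34944, 0, 34944, 1, 34944⟩, .dfn)))))) (.node (.node (.node (.node (.leaf (⟨0, 1, 34944, 0, 34944, 0, 34944⟩, .inv 0)) (.leaf (⟨1, 3, 34944, 0, 34944, 3, 34944⟩, .unit))) (.node (.leaf (⟨1, 1, 34944, 0, 34944, 1, 34944⟩, .unit)) (.leaf (⟨0, 0, 34944, 0, 34944, 1, 34944⟩, .dfn)))) (.node (.node (.leaf (⟨1, 1, 62617,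 0, 30869, 1, 34944⟩, .sync ⟨4, 0, 761⟩)) (.leaf (⟨0, 0, 34944, 0, 34944, 1, 34944⟩, .dfn))) (.node (.leaf (⟨1, 1, 59561, 0, 40128, 1, 34944⟩, .mul 5 3)) (.leaf (⟨0, 0, 34944, 0, 34944, 1, 34944⟩, .dfn))))) (.node (.node (.node (.leaf (⟨1, 1, 29872, 0, 21721, 1, 34944⟩, .sync ⟨2, 0, 1154⟩)) (.leaf (⟨0, 0, 34944, 0, 34944, 1, 34944⟩, .dfn))) (.node (.leaf (⟨0, 1, 34659, 0, 34944, 3, 34944⟩, .dfn)) (.leaf (⟨0, 0, 34944, 0, 34944, 1, 34944⟩, .dfn)))) (.node (.node (.leaf (⟨1, 1, 28877, 0, 21693, 1, 34944⟩, .sync ⟨6, 0, 172⟩)) (.leaf (⟨0, 0, 34944, 0, 34944, 1, 34944⟩, .dfn))) (.node (.leaf (⟨1, 1, 53389, 0, 22680, 1, 34944⟩, .mul 13 7)) (.leaf (⟨0, 0, 34944, 0, 34944, 1, 34944⟩, .dfn)))))))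

/-- definitions -/
def defsBad46 : List (ℕ × ℕ × ℕ) := [(0, 34944, 0), (0, 34944, 1), (1, 34659, 0)]

/-- the facts -/
def factsBad47 : Tree (Fct × Why) :=
  (.node (.node (.node (.node (.node (.leaf (⟨0, 0, 34944, 0, 34944, 1, 34944⟩, .dfn)) (.leaf (⟨0, 3, 11785, 1, 43533, 3, 63325⟩, .fill 4 1 4 [34944, 15915, 34944, 65536, 54904, 65536, 62212] 0 34944 [⟨8, 0, 0⟩, ⟨14, 11, 243⟩] [⟨10, 0, 1431⟩, ⟨15, 11, 1249⟩]))) (.node (.leaf (⟨1, 0, 34944, 0, 34944, 0, 34944⟩, .base)) (.leaf (⟨0, 0, 34944, 0, 34944, 1, 34944⟩, .dfn)))) (.node (.node (.leaf (⟨1, 0, 30869, 0, 30869, 0, 34944⟩, .base)) (.leaf (⟨0, 0, 34944, 0, 34944, 1, 34944⟩, .dfn))) (.node (.leaf (⟨0, 3, 34944, 0, 34944, 1, 34659⟩, .inv 11)) (.leaf (⟨0, 0, 34944, 0, 34944, 1, 34944⟩, .dfn))))) (.node (.node (.node (.leaf (⟨1,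 0, 21721, 0, 21721, 0, 34944⟩, .base)) (.leaf (⟨1, 0, 11814, 0, 11894, 0, 34944⟩, .close 5 2 34944 [⟨8, 0, 0⟩, ⟨14, 11, 243⟩, ⟨17, 16, 1025⟩, ⟨17, 12, 523⟩, ⟨9, 1, 944⟩]))) (.node (.leaf (⟨1, 0, 11087, 0, 11087, 0, 34944⟩, .base)) (.leaf (⟨0, 0, 34944, 0, 34944, 1, 34944⟩, .dfn)))) (.node (.node (.leaf (⟨1, 0, 21693, 0, 21693, 0, 34944⟩, .base)) (.leaf (⟨0, 0, 34944, 0, 34944, 1, 34944⟩, .dfn))) (.node (.leaf (⟨1, 1, 44273, 0, 44273, 1, 34944⟩, .mul 7 7)) (.leaf (⟨0, 0, 34944, 0, 34944, 1, 34944⟩, .dfn)))))) (.node (.node (.node (.node (.leaf (⟨0, 1, 34944, 0, 34944, 0, 34944⟩, .inv 0)) (.leaf (⟨1, 3, 34944, 0, 34944, 3, 34944⟩, .unit))) (.node (.leaf (⟨1, 1, 34944, 0, 34944, 1, 34944⟩, .unit)) (.leaf (⟨0, 0, 34944, 0, 34944, 1, 34944⟩, .dfn)))) (.node (.node (.leaf (⟨1, 1, 62617,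 0, 30869, 1, 34944⟩, .sync ⟨4, 0, 761⟩)) (.leaf (⟨0, 0, 34944, 0, 34944, 1, 34944⟩, .dfn))) (.node (.leaf (⟨1, 1, 59561, 0, 40128, 1, 34944⟩, .mul 5 3)) (.leaf (⟨0, 0, 34944, 0, 34944, 1, 34944⟩, .dfn))))) (.node (.node (.node (.leaf (⟨1, 1, 29872, 0, 21721, 1, 34944⟩, .sync ⟨2, 0, 1154⟩)) (.leaf (⟨0, 0, 34944, 0, 34944, 1, 34944⟩, .dfn))) (.node (.leaf (⟨0, 1, 34659, 0, 34944, 3, 34944⟩, .dfn)) (.leaf (⟨0, 0, 34944, 0, 34944, 1, 34944⟩, .dfn)))) (.node (.node (.leaf (⟨1, 1, 28877, 0, 21693, 1, 34944⟩, .sync ⟨6, 0, 172⟩)) (.leaf (⟨0, 0, 34944, 0, 34944, 1, 34944⟩, .dfn))) (.node (.leaf (⟨1, 1, 53389, 0, 22680, 1, 34944⟩, .mul 13 7)) (.leaf (⟨0, 0, 34944, 0, 34944, 1, 34944⟩, .dfn)))))))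

/-- definitions -/
def defsBad47 : List (ℕ × ℕ × ℕ) := [(0, 34944, 0), (0, 34944, 1), (1, 34659, 0)]

/-- the facts -/
def factsBad48 : Tree (Fct × Why) :=
  (.node (.node (.node (.node (.node (.leaf (⟨0, 0, 34944, 0, 34944, 1, 34944⟩, .dfn)) (.leaf (⟨0, 3, 11785, 1, 43533, 3, 12049⟩, .fill 4 1 4 [34944, 15914, 34944, 65536, 54904, 65536, 62212] 0 34944 [⟨8, 0, 0⟩, ⟨14, 11, 243⟩] [⟨10, 0, 1380⟩, ⟨15, 11, 864⟩]))) (.node (.leaf (⟨1, 0, 34944, 0, 34944, 0, 34944⟩, .base)) (.leaf (⟨0, 0, 34944, 0, 34944, 1, 34944⟩, .dfn)))) (.node (.node (.leaf (⟨1, 0, 30869, 0, 30869, 0, 34944⟩, .base)) (.leaf (⟨0, 0, 34944, 0, 34944, 1, 34944⟩, .dfn))) (.node (.leaf (⟨0, 3, 34944, 0, 34944, 1, 34659⟩, .inv 11)) (.leaf (⟨0, 0, 34944, 0, 34944, 1, 34944⟩, .dfn))))) (.node (.node (.node (.leaf (⟨1, 0,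 21721, 0, 21721, 0, 34944⟩, .base)) (.leaf (⟨1, 0, 11814, 0, 11894, 0, 34944⟩, .close 5 2 34944 [⟨8, 0, 0⟩, ⟨14, 11, 243⟩, ⟨17, 16, 1025⟩, ⟨17, 12, 1059⟩, ⟨9, 1, 823⟩]))) (.node (.leaf (⟨1, 0, 11087, 0, 11087, 0, 34944⟩, .base)) (.leaf (⟨0, 0, 34944, 0, 34944, 1, 34944⟩, .dfn)))) (.node (.node (.leaf (⟨1, 0, 21693, 0, 21693, 0, 34944⟩, .base)) (.leaf (⟨0, 0, 34944, 0, 34944, 1, 34944⟩, .dfn))) (.node (.leaf (⟨1, 1, 44273, 0, 44273, 1, 34944⟩, .mul 7 7)) (.leaf (⟨0, 0, 34944, 0, 34944, 1, 34944⟩, .dfn)))))) (.node (.node (.node (.node (.leaf (⟨0, 1, 34944, 0, 34944, 0, 34944⟩, .inv 0)) (.leaf (⟨1, 3, 34944, 0, 34944, 3, 34944⟩, .unit))) (.node (.leaf (⟨1, 1, 34944, 0, 34944, 1, 34944⟩, .unit)) (.leaf (⟨0, 0, 34944, 0, 34944, 1, 34944⟩, .dfn)))) (.node (.node (.leaf (⟨1, 1, 62617, 0,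 30869, 1, 34944⟩, .sync ⟨4, 0, 761⟩)) (.leaf (⟨0, 0, 34944, 0, 34944, 1, 34944⟩, .dfn))) (.node (.leaf (⟨1, 1, 59561, 0, 40128, 1, 34944⟩, .mul 5 3)) (.leaf (⟨0, 0, 34944, 0, 34944, 1, 34944⟩, .dfn))))) (.node (.node (.node (.leaf (⟨1, 1, 29872, 0, 21721, 1, 34944⟩, .sync ⟨2, 0, 1154⟩)) (.leaf (⟨0, 0, 34944, 0, 34944, 1, 34944⟩, .dfn))) (.node (.leaf (⟨0, 1, 34659, 0, 34944, 3, 34944⟩, .dfn)) (.leaf (⟨0, 0, 34944, 0, 34944, 1, 34944⟩, .dfn)))) (.node (.node (.leaf (⟨1, 1, 28877, 0, 21693, 1, 34944⟩, .sync ⟨6, 0, 172⟩)) (.leaf (⟨0, 0, 34944, 0, 34944, 1, 34944⟩, .dfn))) (.node (.leaf (⟨1, 1, 53389, 0, 22680, 1, 34944⟩, .mul 13 7)) (.leaf (⟨0, 0, 34944, 0, 34944, 1, 34944⟩, .dfn)))))))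

/-- definitions -/
def defsBad48 : List (ℕ × ℕ × ℕ) := [(0, 34944, 0), (0, 34944, 1), (1, 34659, 0)]

/-- the facts -/
def factsBad49 : Tree (Fct × Why) :=
  (.node (.node (.node (.node (.node (.leaf (⟨0, 0, 34944, 0, 34944, 1, 34944⟩, .dfn)) (.leaf (⟨0, 3, 11785, 1, 43533, 3, 26492⟩, .fill 4 1 4 [34944, 15919, 34944, 65536, 54904, 65536, 62212] 0 34944 [⟨8, 0, 0⟩, ⟨14, 11, 243⟩] [⟨10, 0, 1414⟩, ⟨15, 11, 1203⟩]))) (.node (.leaf (⟨1, 0, 34944, 0, 34944, 0, 34944⟩, .base)) (.leaf (⟨0, 0, 34944, 0, 34944, 1, 34944⟩, .dfn)))) (.node (.node (.leaf (⟨1, 0, 30869, 0, 30869, 0, 34944⟩, .base)) (.leaf (⟨0, 0, 34944, 0, 34944, 1, 34944⟩, .dfn))) (.node (.leaf (⟨0, 3, 34944, 0, 34944, 1, 34659⟩, .inv 11)) (.leaf (⟨0, 0, 34944, 0, 34944, 1, 34944⟩, .dfn))))) (.node (.node (.node (.leaf (⟨1,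 0, 21721, 0, 21721, 0, 34944⟩, .base)) (.leaf (⟨1, 0, 11815, 0, 11894, 0, 34944⟩, .close 5 2 34944 [⟨8, 0, 0⟩, ⟨14, 11, 243⟩, ⟨17, 16, 1025⟩, ⟨17, 12, 134⟩, ⟨9, 1, 992⟩]))) (.node (.leaf (⟨1, 0, 11087, 0, 11087, 0, 34944⟩, .base)) (.leaf (⟨0, 0, 34944, 0, 34944, 1, 34944⟩, .dfn)))) (.node (.node (.leaf (⟨1, 0, 21693, 0, 21693, 0, 34944⟩, .base)) (.leaf (⟨0, 0, 34944, 0, 34944, 1, 34944⟩, .dfn))) (.node (.leaf (⟨1, 1, 44273, 0, 44273, 1, 34944⟩, .mul 7 7)) (.leaf (⟨0, 0, 34944, 0, 34944, 1, 34944⟩, .dfn)))))) (.node (.node (.node (.node (.leaf (⟨0, 1, 34944, 0, 34944, 0, 34944⟩, .inv 0)) (.leaf (⟨1, 3, 34944, 0, 34944, 3, 34944⟩, .unit))) (.node (.leaf (⟨1, 1, 34944, 0, 34944, 1, 34944⟩, .unit)) (.leaf (⟨0, 0, 34944, 0, 34944, 1, 34944⟩, .dfn)))) (.node (.node (.leaf (⟨1, 1, 62617,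 0, 30869, 1, 34944⟩, .sync ⟨4, 0, 761⟩)) (.leaf (⟨0, 0, 34944, 0, 34944, 1, 34944⟩, .dfn))) (.node (.leaf (⟨1, 1, 59561, 0, 40128, 1, 34944⟩, .mul 5 3)) (.leaf (⟨0, 0, 34944, 0, 34944, 1, 34944⟩, .dfn))))) (.node (.node (.node (.leaf (⟨1, 1, 29872, 0, 21721, 1, 34944⟩, .sync ⟨2, 0, 1154⟩)) (.leaf (⟨0, 0, 34944, 0, 34944, 1, 34944⟩, .dfn))) (.node (.leaf (⟨0, 1, 34659, 0, 34944, 3, 34944⟩, .dfn)) (.leaf (⟨0, 0, 34944, 0, 34944, 1, 34944⟩, .dfn)))) (.node (.node (.leaf (⟨1, 1, 28877, 0, 21693, 1, 34944⟩, .sync ⟨6, 0, 172⟩)) (.leaf (⟨0, 0, 34944, 0, 34944, 1, 34944⟩, .dfn))) (.node (.leaf (⟨1, 1, 53389, 0, 22680, 1, 34944⟩, .mul 13 7)) (.leaf (⟨0, 0, 34944, 0, 34944, 1, 34944⟩, .dfn)))))))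

/-- definitions -/
def defsBad49 : List (ℕ × ℕ × ℕ) := [(0, 34944, 0), (0, 34944, 1), (1, 34659, 0)]

/-- the facts -/
def factsBad50 : Tree (Fct × Why) :=
  (.node (.node (.node (.node (.node (.leaf (⟨0, 0, 34944, 0, 34944, 1, 34944⟩, .dfn)) (.leaf (⟨0, 3, 11785, 1, 43533, 3, 48944⟩, .fill 4 1 4 [34944, 15918, 34944, 65536, 54904, 65536, 62212] 0 34944 [⟨8, 0, 0⟩, ⟨14, 11, 243⟩] [⟨10, 0, 715⟩, ⟨15, 11, 19⟩]))) (.node (.leaf (⟨1, 0, 34944, 0, 34944, 0, 34944⟩, .base)) (.leaf (⟨0, 0, 34944, 0, 34944, 1, 34944⟩, .dfn)))) (.node (.node (.leaf (⟨1, 0, 30869, 0, 30869, 0, 34944⟩, .base)) (.leaf (⟨0, 0, 34944, 0, 34944, 1, 34944⟩, .dfn))) (.node (.leaf (⟨0, 3, 34944, 0, 34944, 1, 34659⟩, .inv 11)) (.leaf (⟨0, 0, 34944, 0, 34944, 1, 34944⟩, .dfn))))) (.node (.node (.node (.leaf (⟨1, 0,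 21721, 0, 21721, 0, 34944⟩, .base)) (.leaf (⟨1, 0, 11815, 0, 11894, 0, 34944⟩, .close 5 2 34944 [⟨8, 0, 0⟩, ⟨14, 11, 243⟩, ⟨17, 16, 1025⟩, ⟨17, 12, 729⟩, ⟨9, 1, 1017⟩]))) (.node (.leaf (⟨1, 0, 11087, 0, 11087, 0, 34944⟩, .base)) (.leaf (⟨0, 0, 34944, 0, 34944, 1, 34944⟩, .dfn)))) (.node (.node (.leaf (⟨1, 0, 21693, 0, 21693, 0, 34944⟩, .base)) (.leaf (⟨0, 0, 34944, 0, 34944, 1, 34944⟩, .dfn))) (.node (.leaf (⟨1, 1, 44273, 0, 44273, 1, 34944⟩, .mul 7 7)) (.leaf (⟨0, 0, 34944, 0, 34944, 1, 34944⟩, .dfn)))))) (.node (.node (.node (.node (.leaf (⟨0, 1, 34944, 0, 34944, 0, 34944⟩, .inv 0)) (.leaf (⟨1, 3, 34944, 0, 34944, 3, 34944⟩, .unit))) (.node (.leaf (⟨1, 1, 34944, 0, 34944, 1, 34944⟩, .unit)) (.leaf (⟨0, 0, 34944, 0, 34944, 1, 34944⟩, .dfn)))) (.node (.node (.leaf (⟨1, 1, 62617, 0,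 30869, 1, 34944⟩, .sync ⟨4, 0, 761⟩)) (.leaf (⟨0, 0, 34944, 0, 34944, 1, 34944⟩, .dfn))) (.node (.leaf (⟨1, 1, 59561, 0, 40128, 1, 34944⟩, .mul 5 3)) (.leaf (⟨0, 0, 34944, 0, 34944, 1, 34944⟩, .dfn))))) (.node (.node (.node (.leaf (⟨1, 1, 29872, 0, 21721, 1, 34944⟩, .sync ⟨2, 0, 1154⟩)) (.leaf (⟨0, 0, 34944, 0, 34944, 1, 34944⟩, .dfn))) (.node (.leaf (⟨0, 1, 34659, 0, 34944, 3, 34944⟩, .dfn)) (.leaf (⟨0, 0, 34944, 0, 34944, 1, 34944⟩, .dfn)))) (.node (.node (.leaf (⟨1, 1, 28877, 0, 21693, 1, 34944⟩, .sync ⟨6, 0, 172⟩)) (.leaf (⟨0, 0, 34944, 0, 34944, 1, 34944⟩, .dfn))) (.node (.leaf (⟨1, 1, 53389, 0, 22680, 1, 34944⟩, .mul 13 7)) (.leaf (⟨0, 0, 34944, 0, 34944, 1, 34944⟩, .dfn)))))))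

/-- definitions -/
def defsBad50 : List (ℕ × ℕ × ℕ) := [(0, 34944, 0), (0, 34944, 1), (1, 34659, 0)]

/-- the facts -/
def factsBad51 : Tree (Fct × Why) :=
  (.node (.node (.node (.node (.node (.leaf (⟨0, 0, 34944, 0, 34944, 1, 34944⟩, .dfn)) (.leaf (⟨0, 3, 11785, 1, 43533, 3, 49021⟩, .fill 4 1 4 [34944, 15978, 34944, 65536, 54904, 65536, 62212] 0 34944 [⟨8, 0, 0⟩, ⟨14, 11, 243⟩] [⟨10, 0, 136⟩, ⟨15, 11, 859⟩]))) (.node (.leaf (⟨1, 0, 34944, 0, 34944, 0, 34944⟩, .base)) (.leaf (⟨0, 0, 34944, 0, 34944, 1, 34944⟩, .dfn)))) (.node (.node (.leaf (⟨1, 0, 30869, 0, 30869, 0, 34944⟩, .base)) (.leaf (⟨0, 0, 34944, 0, 34944, 1, 34944⟩, .dfn))) (.node (.leaf (⟨0, 3, 34944, 0, 34944, 1, 34659⟩, .inv 11)) (.leaf (⟨0, 0, 34944, 0, 34944, 1, 34944⟩, .dfn))))) (.node (.node (.node (.leaf (⟨1, 0,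 21721, 0, 21721, 0, 34944⟩, .base)) (.leaf (⟨1, 0, 11895, 0, 11894, 0, 34944⟩, .close 5 2 34944 [⟨8, 0, 0⟩, ⟨14, 11, 243⟩, ⟨17, 16, 1025⟩, ⟨17, 12, 933⟩, ⟨9, 1, 1369⟩]))) (.node (.leaf (⟨1, 0, 11087, 0, 11087, 0, 34944⟩, .base)) (.leaf (⟨0, 0, 34944, 0, 34944, 1, 34944⟩, .dfn)))) (.node (.node (.leaf (⟨1, 0, 21693, 0, 21693, 0, 34944⟩, .base)) (.leaf (⟨0, 0, 34944, 0, 34944, 1, 34944⟩, .dfn))) (.node (.leaf (⟨1, 1, 44273, 0, 44273, 1, 34944⟩, .mul 7 7)) (.leaf (⟨0, 0, 34944, 0, 34944, 1, 34944⟩, .dfn)))))) (.node (.node (.node (.node (.leaf (⟨0, 1, 34944, 0, 34944, 0, 34944⟩, .inv 0)) (.leaf (⟨1, 3, 34944, 0, 34944, 3, 34944⟩, .unit))) (.node (.leaf (⟨1, 1, 34944, 0, 34944, 1, 34944⟩, .unit)) (.leaf (⟨0, 0, 34944, 0, 34944, 1, 34944⟩, .dfn)))) (.node (.node (.leaf (⟨1, 1, 62617, 0,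 30869, 1, 34944⟩, .sync ⟨4, 0, 761⟩)) (.leaf (⟨0, 0, 34944, 0, 34944, 1, 34944⟩, .dfn))) (.node (.leaf (⟨1, 1, 59561, 0, 40128, 1, 34944⟩, .mul 5 3)) (.leaf (⟨0, 0, 34944, 0, 34944, 1, 34944⟩, .dfn))))) (.node (.node (.node (.leaf (⟨1, 1, 29872, 0, 21721, 1, 34944⟩, .sync ⟨2, 0, 1154⟩)) (.leaf (⟨0, 0, 34944, 0, 34944, 1, 34944⟩, .dfn))) (.node (.leaf (⟨0, 1, 34659, 0, 34944, 3, 34944⟩, .dfn)) (.leaf (⟨0, 0, 34944, 0, 34944, 1, 34944⟩, .dfn)))) (.node (.node (.leaf (⟨1, 1, 28877, 0, 21693, 1, 34944⟩, .sync ⟨6, 0, 172⟩)) (.leaf (⟨0, 0, 34944, 0, 34944, 1, 34944⟩, .dfn))) (.node (.leaf (⟨1, 1, 53389, 0, 22680, 1, 34944⟩, .mul 13 7)) (.leaf (⟨0, 0, 34944, 0, 34944, 1, 34944⟩, .dfn)))))))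

/-- definitions -/
def defsBad51 : List (ℕ × ℕ × ℕ) := [(0, 34944, 0), (0, 34944, 1), (1, 34659, 0)]

/-- the facts -/
def factsBad52 : Tree (Fct × Why) :=
  (.node (.node (.node (.node (.node (.leaf (⟨0, 0, 34944, 0, 34944, 1, 34944⟩, .dfn)) (.leaf (⟨0, 3, 11785, 1, 43533, 3, 26417⟩, .fill 4 1 4 [34944, 15979, 34944, 65536, 54904, 65536, 62212] 0 34944 [⟨8, 0, 0⟩, ⟨14, 11, 243⟩] [⟨10, 0, 562⟩, ⟨15, 11, 239⟩]))) (.node (.leaf (⟨1, 0, 34944, 0, 34944, 0, 34944⟩, .base)) (.leaf (⟨0, 0, 34944, 0, 34944, 1, 34944⟩, .dfn)))) (.node (.node (.leaf (⟨1, 0, 30869, 0, 30869, 0, 34944⟩, .base)) (.leaf (⟨0, 0, 34944, 0, 34944, 1, 34944⟩, .dfn))) (.node (.leaf (⟨0, 3, 34944, 0, 34944, 1, 34659⟩, .inv 11)) (.leaf (⟨0, 0, 34944, 0, 34944, 1, 34944⟩, .dfn))))) (.node (.node (.node (.leaf (⟨1, 0,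 21721, 0, 21721, 0, 34944⟩, .base)) (.leaf (⟨1, 0, 11895, 0, 11894, 0, 34944⟩, .close 5 2 34944 [⟨8, 0, 0⟩, ⟨14, 11, 243⟩, ⟨17, 16, 1025⟩, ⟨17, 12, 149⟩, ⟨9, 1, 602⟩]))) (.node (.leaf (⟨1, 0, 11087, 0, 11087, 0, 34944⟩, .base)) (.leaf (⟨0, 0, 34944, 0, 34944, 1, 34944⟩, .dfn)))) (.node (.node (.leaf (⟨1, 0, 21693, 0, 21693, 0, 34944⟩, .base)) (.leaf (⟨0, 0, 34944, 0, 34944, 1, 34944⟩, .dfn))) (.node (.leaf (⟨1, 1, 44273, 0, 44273, 1, 34944⟩, .mul 7 7)) (.leaf (⟨0, 0, 34944, 0, 34944, 1, 34944⟩, .dfn)))))) (.node (.node (.node (.node (.leaf (⟨0, 1, 34944, 0, 34944, 0, 34944⟩, .inv 0)) (.leaf (⟨1, 3, 34944, 0, 34944, 3, 34944⟩, .unit))) (.node (.leaf (⟨1, 1, 34944, 0, 34944, 1, 34944⟩, .unit)) (.leaf (⟨0, 0, 34944, 0, 34944, 1, 34944⟩, .dfn)))) (.node (.node (.leaf (⟨1, 1, 62617, 0,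 30869, 1, 34944⟩, .sync ⟨4, 0, 761⟩)) (.leaf (⟨0, 0, 34944, 0, 34944, 1, 34944⟩, .dfn))) (.node (.leaf (⟨1, 1, 59561, 0, 40128, 1, 34944⟩, .mul 5 3)) (.leaf (⟨0, 0, 34944, 0, 34944, 1, 34944⟩, .dfn))))) (.node (.node (.node (.leaf (⟨1, 1, 29872, 0, 21721, 1, 34944⟩, .sync ⟨2, 0, 1154⟩)) (.leaf (⟨0, 0, 34944, 0, 34944, 1, 34944⟩, .dfn))) (.node (.leaf (⟨0, 1, 34659, 0, 34944, 3, 34944⟩, .dfn)) (.leaf (⟨0, 0, 34944, 0, 34944, 1, 34944⟩, .dfn)))) (.node (.node (.leaf (⟨1, 1, 28877, 0, 21693, 1, 34944⟩, .sync ⟨6, 0, 172⟩)) (.leaf (⟨0, 0, 34944, 0, 34944, 1, 34944⟩, .dfn))) (.node (.leaf (⟨1, 1, 53389, 0, 22680, 1, 34944⟩, .mul 13 7)) (.leaf (⟨0, 0, 34944, 0, 34944, 1, 34944⟩, .dfn)))))))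

/-- definitions -/
def defsBad52 : List (ℕ × ℕ × ℕ) := [(0, 34944, 0), (0, 34944, 1), (1, 34659, 0)]

/-- the facts -/
def factsBad53 : Tree (Fct × Why) :=
  (.node (.node (.node (.node (.node (.node (.leaf (⟨0, 0, 34944, 0, 34944, 1, 34944⟩, .dfn)) (.leaf (⟨1, 1, 44196, 0, 44169, 1, 34944⟩, .close 4 9 34946 [⟨16, 15, 0⟩, ⟨24, 18, 1453⟩, ⟨27, 29, 1144⟩, ⟨27, 26, 979⟩, ⟨27, 19, 401⟩]))) (.node (.leaf (⟨1, 1, 34944, 0, 34944, 1, 34944⟩, .unit)) (.leaf (⟨0, 0, 34944, 0, 34944, 1, 34944⟩, .dfn)))) (.node (.node (.leaf (⟨1, 1, 35056, 0, 44269, 1, 34944⟩, .mul 2 2)) (.leaf (⟨0, 0, 34944, 0, 34944, 1, 34944⟩, .dfn))) (.node (.leaf (⟨1, 1, 20673, 0, 28857, 1, 34944⟩, .mul 23 2)) (.leaf (⟨0, 0, 34944, 0, 34944, 1, 34944⟩, .dfn))))) (.node (.node (.node (.leaf (⟨1, 1, 62617, 0, 30869, 1, 34944⟩,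 .sync ⟨3, 0, 761⟩)) (.leaf (⟨0, 0, 34944, 0, 34944, 1, 34944⟩, .dfn))) (.node (.leaf (⟨1, 3, 36052, 0, 44269, 3, 34944⟩, .sync ⟨8, 18, 741⟩)) (.leaf (⟨0, 0, 34944, 0, 34944, 1, 34944⟩, .dfn)))) (.node (.node (.leaf (⟨1, 1, 43164, 0, 44165, 1, 34944⟩, .mul 2 6)) (.leaf (⟨0, 0, 34944, 0, 34944, 1, 34944⟩, .dfn))) (.node (.leaf (⟨1, 1, 54428, 0, 22657, 1, 34944⟩, .mul 7 2)) (.leaf (⟨0, 0, 34944, 0, 34944, 1, 34944⟩, .dfn)))))) (.node (.node (.node (.node (.leaf (⟨1, 1, 29872, 0, 21721, 1, 34944⟩, .sync ⟨1, 0, 1154⟩)) (.leaf (⟨0, 0, 34944, 0, 34944, 1, 34944⟩, .dfn))) (.node (.leaf (⟨0, 1, 34659, 0, 34944, 3, 34944⟩, .dfn)) (.leaf (⟨0, 0, 34944, 0, 34944, 1, 34944⟩, .dfn)))) (.node (.node (.leaf (⟨1, 1, 31981, 0, 62708, 1, 34944⟩, .mul 9 6)) (.leaf (⟨0, 0, 34944, 0, 34944, 1, 34944⟩,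 .dfn))) (.node (.leaf (⟨0, 3, 11785, 1, 43533, 3, 12124⟩, .fill 4 1 4 [34944, 15982, 34944, 65536, 54904, 65536, 62212] 0 34944 [⟨13, 0, 0⟩, ⟨23, 18, 243⟩] [⟨17, 0, 161⟩, ⟨25, 18, 862⟩])) (.leaf (⟨0, 0, 34944, 0, 34944, 1, 34944⟩, .dfn))))) (.node (.node (.node (.leaf (⟨1, 1, 28877, 0, 21693, 1, 34944⟩, .sync ⟨5, 0, 172⟩)) (.leaf (⟨0, 0, 34944, 0, 34944, 1, 34944⟩, .dfn))) (.node (.leaf (⟨1, 1, 21676, 0, 28892, 1, 34944⟩, .mul 12 2)) (.leaf (⟨0, 0, 34944, 0, 34944, 1, 34944⟩, .dfn)))) (.node (.node (.leaf (⟨1, 0, 31898, 0, 31898, 0, 34944⟩, .base)) (.leaf (⟨0, 0, 34944, 0, 34944, 1, 34944⟩, .dfn))) (.node (.leaf (⟨1, 1, 28921, 0, 21732, 1, 34944⟩, .mul 11 2)) (.leaf (⟨0, 0, 34944, 0, 34944, 1, 34944⟩, .dfn))))))) (.node (.node (.node (.node (.node (.leaf (⟨1, 0, 21721, 0, 21721, 0,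 34944⟩, .base)) (.leaf (⟨0, 0, 34944, 0, 34944, 1, 34944⟩, .dfn))) (.node (.leaf (⟨1, 0, 11087, 0, 11087, 0, 34944⟩, .base)) (.leaf (⟨0, 0, 34944, 0, 34944, 1, 34944⟩, .dfn)))) (.node (.node (.leaf (⟨1, 1, 39125, 0, 51376, 1, 34944⟩, .mul 2 4)) (.leaf (⟨0, 0, 34944, 0, 34944, 1, 34944⟩, .dfn))) (.node (.leaf (⟨1, 1, 53389, 0, 22680, 1, 34944⟩, .mul 21 6)) (.leaf (⟨0, 0, 34944, 0, 34944, 1, 34944⟩, .dfn))))) (.node (.node (.node (.leaf (⟨1, 0, 21693, 0, 21693, 0, 34944⟩, .base)) (.leaf (⟨0, 0, 34944, 0, 34944, 1, 34944⟩, .dfn))) (.node (.leaf (⟨1, 1, 59561, 0, 40128, 1, 34944⟩, .mul 4 2)) (.leaf (⟨0, 0, 34944, 0, 34944, 1, 34944⟩, .dfn)))) (.node (.node (.leaf (⟨1, 0, 34944, 0, 34944, 0, 34944⟩, .base)) (.leaf (⟨0, 0, 34944, 0, 34944, 1, 34944⟩, .dfn))) (.node (.leaf (⟨0, 3, 47447,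 0, 15081, 3, 27157⟩, .fill 4 1 6 [34944, 15982, 34944, 65536, 54904] 1 34946 [⟨16, 15, 0⟩, ⟨28, 18, 119⟩, ⟨20, 26, 1297⟩] [⟨22, 18, 775⟩])) (.leaf (⟨0, 0, 34944, 0, 34944, 1, 34944⟩, .dfn)))))) (.node (.node (.node (.node (.leaf (⟨1, 0, 30869, 0, 30869, 0, 34944⟩, .base)) (.leaf (⟨0, 0, 34944, 0, 34944, 1, 34944⟩, .dfn))) (.node (.leaf (⟨0, 3, 34944, 0, 34944, 1, 34659⟩, .inv 18)) (.leaf (⟨0, 0, 34944, 0, 34944, 1, 34944⟩, .dfn)))) (.node (.node (.leaf (⟨1, 1, 36025, 0, 35036, 1, 34944⟩, .mul 10 4)) (.leaf (⟨0, 0, 34944, 0, 34944, 1, 34944⟩, .dfn))) (.node (.leaf (⟨1, 3, 34944, 0, 34944, 3, 34944⟩, .unit)) (.leaf (⟨0, 0, 34944, 0, 34944, 1, 34944⟩, .dfn))))) (.node (.node (.node (.leaf (⟨1, 1, 51420, 0, 40108, 1, 34944⟩, .mul 4 6)) (.leaf (⟨0, 0, 34944, 0, 34944, 1, 34944⟩, .dfn)))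 (.node (.leaf (⟨1, 1, 44273, 0, 44273, 1, 34944⟩, .mul 6 6)) (.leaf (⟨0, 0, 34944, 0, 34944, 1, 34944⟩, .dfn)))) (.node (.node (.leaf (⟨0, 1, 34946, 0, 31898, 1, 39050⟩, .fill 0 0 2 [20621, 34946, 65536, 34946] 0 34944 [⟨13, 0, 0⟩] [⟨14, 0, 512⟩])) (.leaf (⟨0, 0, 34944, 0, 34944, 1, 34944⟩, .dfn))) (.node (.leaf (⟨1, 1, 44196, 0, 44233, 1, 34944⟩, .mul 30 6)) (.leaf (⟨0, 0, 34944, 0, 34944, 1, 34944⟩, .dfn))))))))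

/-- definitions -/
def defsBad53 : List (ℕ × ℕ × ℕ) := [(0, 34944, 0), (0, 34944, 1), (1, 34659, 0)]

/-- the facts -/
def factsBad54 : Tree (Fct × Why) :=
  (.node (.node (.node (.node (.node (.leaf (⟨0, 0, 34944, 0, 34944, 1, 34944⟩, .dfn)) (.leaf (⟨0, 3, 11785, 1, 43533, 3, 12145⟩, .fill 4 1 4 [34944, 15930, 34944, 65536, 54904, 65536, 62212] 0 34944 [⟨8, 0, 0⟩, ⟨14, 11, 243⟩] [⟨10, 0, 617⟩, ⟨15, 11, 1412⟩]))) (.node (.leaf (⟨1, 0, 34944, 0, 34944, 0, 34944⟩, .base)) (.leaf (⟨0, 0, 34944, 0, 34944, 1, 34944⟩, .dfn)))) (.node (.node (.leaf (⟨1, 0, 30869, 0, 30869, 0, 34944⟩, .base)) (.leaf (⟨0, 0, 34944, 0, 34944, 1, 34944⟩, .dfn))) (.node (.leaf (⟨0, 3, 34944, 0, 34944, 1, 34659⟩, .inv 11)) (.leaf (⟨0, 0, 34944, 0, 34944, 1, 34944⟩, .dfn))))) (.node (.node (.node (.leaf (⟨1, 0,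 21721, 0, 21721, 0, 34944⟩, .base)) (.leaf (⟨1, 0, 11895, 0, 11894, 0, 34944⟩, .close 5 2 34944 [⟨8, 0, 0⟩, ⟨14, 11, 243⟩, ⟨17, 16, 1025⟩, ⟨17, 12, 1293⟩, ⟨9, 1, 229⟩]))) (.node (.leaf (⟨1, 0, 11087, 0, 11087, 0, 34944⟩, .base)) (.leaf (⟨0, 0, 34944, 0, 34944, 1, 34944⟩, .dfn)))) (.node (.node (.leaf (⟨1, 0, 21693, 0, 21693, 0, 34944⟩, .base)) (.leaf (⟨0, 0, 34944, 0, 34944, 1, 34944⟩, .dfn))) (.node (.leaf (⟨1, 1, 44273, 0, 44273, 1, 34944⟩, .mul 7 7)) (.leaf (⟨0, 0, 34944, 0, 34944, 1, 34944⟩, .dfn)))))) (.node (.node (.node (.node (.leaf (⟨0, 1, 34944, 0, 34944, 0, 34944⟩, .inv 0)) (.leaf (⟨1, 3, 34944, 0, 34944, 3, 34944⟩, .unit))) (.node (.leaf (⟨1, 1, 34944, 0, 34944, 1, 34944⟩, .unit)) (.leaf (⟨0, 0, 34944, 0, 34944, 1, 34944⟩, .dfn)))) (.node (.node (.leaf (⟨1, 1, 62617, 0,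 30869, 1, 34944⟩, .sync ⟨4, 0, 761⟩)) (.leaf (⟨0, 0, 34944, 0, 34944, 1, 34944⟩, .dfn))) (.node (.leaf (⟨1, 1, 59561, 0, 40128, 1, 34944⟩, .mul 5 3)) (.leaf (⟨0, 0, 34944, 0, 34944, 1, 34944⟩, .dfn))))) (.node (.node (.node (.leaf (⟨1, 1, 29872, 0, 21721, 1, 34944⟩, .sync ⟨2, 0, 1154⟩)) (.leaf (⟨0, 0, 34944, 0, 34944, 1, 34944⟩, .dfn))) (.node (.leaf (⟨0, 1, 34659, 0, 34944, 3, 34944⟩, .dfn)) (.leaf (⟨0, 0, 34944, 0, 34944, 1, 34944⟩, .dfn)))) (.node (.node (.leaf (⟨1, 1, 28877, 0, 21693, 1, 34944⟩, .sync ⟨6, 0, 172⟩)) (.leaf (⟨0, 0, 34944, 0, 34944, 1, 34944⟩, .dfn))) (.node (.leaf (⟨1, 1, 53389, 0, 22680, 1, 34944⟩, .mul 13 7)) (.leaf (⟨0, 0, 34944, 0, 34944, 1, 34944⟩, .dfn)))))))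

/-- definitions -/
def defsBad54 : List (ℕ × ℕ × ℕ) := [(0, 34944, 0), (0, 34944, 1), (1, 34659, 0)]

/-- the facts -/
def factsBad55 : Tree (Fct × Why) :=
  (.node (.node (.node (.node (.node (.leaf (⟨0, 0, 34944, 0, 34944, 1, 34944⟩, .dfn)) (.leaf (⟨0, 3, 11785, 1, 43533, 3, 63293⟩, .fill 4 1 4 [34944, 15931, 34944, 65536, 54904, 65536, 62212] 0 34944 [⟨8, 0, 0⟩, ⟨14, 11, 243⟩] [⟨10, 0, 1186⟩, ⟨15, 11, 1500⟩]))) (.node (.leaf (⟨1, 0, 34944, 0, 34944, 0, 34944⟩, .base)) (.leaf (⟨0, 0, 34944, 0, 34944, 1, 34944⟩, .dfn)))) (.node (.node (.leaf (⟨1, 0, 30869, 0, 30869, 0, 34944⟩, .base)) (.leaf (⟨0, 0, 34944, 0, 34944, 1, 34944⟩, .dfn))) (.node (.leaf (⟨0, 3, 34944, 0, 34944, 1, 34659⟩, .inv 11)) (.leaf (⟨0, 0, 34944, 0, 34944, 1, 34944⟩, .dfn))))) (.node (.node (.node (.leaf (⟨1,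 0, 21721, 0, 21721, 0, 34944⟩, .base)) (.leaf (⟨1, 0, 11895, 0, 11894, 0, 34944⟩, .close 5 2 34944 [⟨8, 0, 0⟩, ⟨14, 11, 243⟩, ⟨17, 16, 1025⟩, ⟨17, 12, 176⟩, ⟨9, 1, 268⟩]))) (.node (.leaf (⟨1, 0, 11087, 0, 11087, 0, 34944⟩, .base)) (.leaf (⟨0, 0, 34944, 0, 34944, 1, 34944⟩, .dfn)))) (.node (.node (.leaf (⟨1, 0, 21693, 0, 21693, 0, 34944⟩, .base)) (.leaf (⟨0, 0, 34944, 0, 34944, 1, 34944⟩, .dfn))) (.node (.leaf (⟨1, 1, 44273, 0, 44273, 1, 34944⟩, .mul 7 7)) (.leaf (⟨0, 0, 34944, 0, 34944, 1, 34944⟩, .dfn)))))) (.node (.node (.node (.node (.leaf (⟨0, 1, 34944, 0, 34944, 0, 34944⟩, .inv 0)) (.leaf (⟨1, 3, 34944, 0, 34944, 3, 34944⟩, .unit))) (.node (.leaf (⟨1, 1, 34944, 0, 34944, 1, 34944⟩, .unit)) (.leaf (⟨0, 0, 34944, 0, 34944, 1, 34944⟩, .dfn)))) (.node (.node (.leaf (⟨1, 1, 62617,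 0, 30869, 1, 34944⟩, .sync ⟨4, 0, 761⟩)) (.leaf (⟨0, 0, 34944, 0, 34944, 1, 34944⟩, .dfn))) (.node (.leaf (⟨1, 1, 59561, 0, 40128, 1, 34944⟩, .mul 5 3)) (.leaf (⟨0, 0, 34944, 0, 34944, 1, 34944⟩, .dfn))))) (.node (.node (.node (.leaf (⟨1, 1, 29872, 0, 21721, 1, 34944⟩, .sync ⟨2, 0, 1154⟩)) (.leaf (⟨0, 0, 34944, 0, 34944, 1, 34944⟩, .dfn))) (.node (.leaf (⟨0, 1, 34659, 0, 34944, 3, 34944⟩, .dfn)) (.leaf (⟨0, 0, 34944, 0, 34944, 1, 34944⟩, .dfn)))) (.node (.node (.leaf (⟨1, 1, 28877, 0, 21693, 1, 34944⟩, .sync ⟨6, 0, 172⟩)) (.leaf (⟨0, 0, 34944, 0, 34944, 1, 34944⟩, .dfn))) (.node (.leaf (⟨1, 1, 53389, 0, 22680, 1, 34944⟩, .mul 13 7)) (.leaf (⟨0, 0, 34944, 0, 34944, 1, 34944⟩, .dfn)))))))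

/-- definitions -/
def defsBad55 : List (ℕ × ℕ × ℕ) := [(0, 34944, 0), (0, 34944, 1), (1, 34659, 0)]

/-- the facts -/
def factsBad56 : Tree (Fct × Why) :=
  (.node (.node (.node (.node (.node (.node (.leaf (⟨0, 0, 34944, 0, 34944, 1, 34944⟩, .dfn)) (.leaf (⟨1, 1, 60605, 0, 48329, 1, 34944⟩, .mul 31 6))) (.node (.leaf (⟨0, 3, 34944, 0, 34944, 1, 34659⟩, .inv 15)) (.leaf (⟨0, 0, 34944, 0, 34944, 1, 34944⟩, .dfn)))) (.node (.node (.leaf (⟨1, 1, 35056, 0, 44269, 1, 34944⟩, .mul 2 2)) (.leaf (⟨0, 0, 34944, 0, 34944, 1, 34944⟩, .dfn))) (.node (.leaf (⟨1, 1, 44273, 0, 44273, 1, 34944⟩, .mul 6 6)) (.leaf (⟨0, 0, 34944, 0, 34944, 1, 34944⟩, .dfn))))) (.node (.node (.node (.leaf (⟨1, 1, 62617, 0, 30869, 1, 34944⟩, .sync ⟨3, 0, 761⟩)) (.leaf (⟨0, 0, 34944, 0, 34944, 1, 34944⟩, .dfn))) (.node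 (.leaf (⟨1, 1, 44161, 0, 34972, 1, 34944⟩, .mul 19 6)) (.leaf (⟨0, 0, 34944, 0, 34944, 1, 34944⟩, .dfn)))) (.node (.node (.leaf (⟨0, 1, 34946, 0, 31898, 1, 39050⟩, .fill 0 0 2 [20621, 34946, 65536, 34946] 0 34944 [⟨10, 0, 0⟩] [⟨11, 0, 512⟩])) (.leaf (⟨0, 0, 34944, 0, 34944, 1, 34944⟩, .dfn))) (.node (.leaf (⟨1, 3, 34944, 0, 34944, 3, 34944⟩, .unit)) (.leaf (⟨0, 0, 34944, 0, 34944, 1, 34944⟩, .dfn)))))) (.node (.node (.node (.node (.leaf (⟨1, 1, 29872, 0, 21721, 1, 34944⟩, .sync ⟨1, 0, 1154⟩)) (.leaf (⟨0, 0, 34944, 0, 34944, 1, 34944⟩, .dfn))) (.node (.leaf (⟨1, 1, 59561, 0, 40128, 1, 34944⟩, .mul 4 2)) (.leaf (⟨0, 0, 34944, 0, 34944, 1, 34944⟩, .dfn)))) (.node (.node (.leaf (⟨1, 0, 34944, 0, 34944, 0, 34944⟩, .base)) (.leaf (⟨0, 0, 34944, 0, 34944, 1, 34944⟩, .dfn))) (.node (.leaf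 (⟨1, 1, 53389, 0, 22680, 1, 34944⟩, .mul 18 6)) (.leaf (⟨0, 0, 34944, 0, 34944, 1, 34944⟩, .dfn))))) (.node (.node (.node (.leaf (⟨1, 1, 28877, 0, 21693, 1, 34944⟩, .sync ⟨5, 0, 172⟩)) (.leaf (⟨0, 0, 34944, 0, 34944, 1, 34944⟩, .dfn))) (.node (.leaf (⟨1, 1, 52392, 0, 40156, 1, 34944⟩, .mul 21 2)) (.leaf (⟨0, 0, 34944, 0, 34944, 1, 34944⟩, .dfn)))) (.node (.node (.leaf (⟨1, 0, 11087, 0, 11087, 0, 34944⟩, .base)) (.leaf (⟨0, 0, 34944, 0, 34944, 1, 34944⟩, .dfn))) (.node (.leaf (⟨0, 3, 40283, 0, 15081, 3, 64073⟩, .fill 4 1 6 [34944, 15934, 34944, 65536, 54904] 1 34946 [⟨13, 12, 0⟩, ⟨29, 15, 119⟩, ⟨17, 27, 1297⟩] [⟨23, 15, 60⟩])) (.leaf (⟨0, 0, 34944, 0, 34944, 1, 34944⟩, .dfn))))))) (.node (.node (.node (.node (.node (.leaf (⟨1, 0, 21721, 0, 21721, 0, 34944⟩, .base)) (.leaf (⟨1, 1, 60605,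 0, 44169, 1, 34944⟩, .close 4 9 34946 [⟨13, 12, 0⟩, ⟨25, 15, 1454⟩, ⟨28, 30, 1386⟩, ⟨28, 27, 1382⟩, ⟨28, 16, 488⟩]))) (.node (.leaf (⟨1, 3, 36052, 0, 44269, 3, 34944⟩, .sync ⟨8, 15, 741⟩)) (.leaf (⟨0, 0, 34944, 0, 34944, 1, 34944⟩, .dfn)))) (.node (.node (.leaf (⟨1, 1, 43164, 0, 44165, 1, 34944⟩, .mul 2 6)) (.leaf (⟨0, 0, 34944, 0, 34944, 1, 34944⟩, .dfn))) (.node (.leaf (⟨1, 1, 20673, 0, 28857, 1, 34944⟩, .mul 24 2)) (.leaf (⟨0, 0, 34944, 0, 34944, 1, 34944⟩, .dfn))))) (.node (.node (.node (.leaf (⟨1, 0, 21693, 0, 21693, 0, 34944⟩, .base)) (.leaf (⟨0, 0, 34944, 0, 34944, 1, 34944⟩, .dfn))) (.node (.leaf (⟨1, 1, 53400, 0, 30857, 1, 34944⟩, .mul 20 4)) (.leaf (⟨0, 0, 34944, 0, 34944, 1, 34944⟩, .dfn)))) (.node (.node (.leaf (⟨1, 1, 34944, 0, 34944, 1, 34944⟩, .unit)) (.leaf (⟨0, 0,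 34944, 0, 34944, 1, 34944⟩, .dfn))) (.node (.leaf (⟨1, 1, 54428, 0, 22657, 1, 34944⟩, .mul 7 2)) (.leaf (⟨0, 0, 34944, 0, 34944, 1, 34944⟩, .dfn)))))) (.node (.node (.node (.node (.leaf (⟨1, 0, 30869, 0, 30869, 0, 34944⟩, .base)) (.leaf (⟨0, 0, 34944, 0, 34944, 1, 34944⟩, .dfn))) (.node (.leaf (⟨1, 1, 28845, 0, 28864, 1, 34944⟩, .mul 8 6)) (.leaf (⟨0, 0, 34944, 0, 34944, 1, 34944⟩, .dfn)))) (.node (.node (.leaf (⟨1, 0, 31898, 0, 31898, 0, 34944⟩, .base)) (.leaf (⟨0, 0, 34944, 0, 34944, 1, 34944⟩, .dfn))) (.node (.leaf (⟨0, 3, 11785, 1, 43533, 3, 48976⟩, .fill 4 1 4 [34944, 15934, 34944, 65536, 54904, 65536, 62212] 0 34944 [⟨10, 0, 0⟩, ⟨24, 15, 243⟩] [⟨14, 0, 130⟩, ⟨26, 15, 110⟩])) (.leaf (⟨0, 0, 34944, 0, 34944, 1, 34944⟩, .dfn))))) (.node (.node (.node (.leaf (⟨1, 1, 51420, 0, 40108,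 1, 34944⟩, .mul 4 6)) (.leaf (⟨0, 0, 34944, 0, 34944, 1, 34944⟩, .dfn))) (.node (.leaf (⟨1, 1, 21676, 0, 28892, 1, 34944⟩, .mul 9 2)) (.leaf (⟨0, 0, 34944, 0, 34944, 1, 34944⟩, .dfn)))) (.node (.node (.leaf (⟨0, 1, 34659, 0, 34944, 3, 34944⟩, .dfn)) (.leaf (⟨0, 0, 34944, 0, 34944, 1, 34944⟩, .dfn))) (.node (.leaf (⟨1, 1, 53480, 0, 22752, 1, 34944⟩, .mul 22 2)) (.leaf (⟨0, 0, 34944, 0, 34944, 1, 34944⟩, .dfn))))))))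

/-- definitions -/
def defsBad56 : List (ℕ × ℕ × ℕ) := [(0, 34944, 0), (0, 34944, 1), (1, 34659, 0)]

/-- the facts -/
def factsBad57 : Tree (Fct × Why) :=
  (.node (.node (.node (.node (.node (.leaf (⟨0, 0, 34944, 0, 34944, 1, 34944⟩, .dfn)) (.leaf (⟨0, 3, 34944, 0, 34944, 1, 34659⟩, .inv 15))) (.node (.leaf (⟨1, 1, 35056, 0, 44269, 1, 34944⟩, .mul 2 2)) (.leaf (⟨0, 3, 11785, 1, 43533, 3, 26396⟩, .fill 4 1 4 [34944, 15935, 34944, 65536, 54904, 65536, 62212] 0 34944 [⟨10, 0, 0⟩, ⟨20, 15, 243⟩] [⟨14, 0, 28⟩, ⟨23, 15, 623⟩])))) (.node (.node (.leaf (⟨1, 1, 62617, 0, 30869, 1, 34944⟩, .sync ⟨3, 0, 761⟩)) (.leaf (⟨1, 1, 44273, 0, 44273, 1, 34944⟩, .mul 6 6))) (.node (.leaf (⟨0, 1, 34946, 0, 31898, 1, 39050⟩, .fill 0 0 2 [20621, 34946, 65536, 34946] 0 34944 [⟨10, 0, 0⟩] [⟨11, 0, 512⟩]))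 (.leaf (⟨1, 1, 30896, 0, 62656, 1, 34944⟩, .mul 22 6))))) (.node (.node (.node (.leaf (⟨1, 1, 29872, 0, 21721, 1, 34944⟩, .sync ⟨1, 0, 1154⟩)) (.leaf (⟨1, 1, 59561, 0, 40128, 1, 34944⟩, .mul 4 2))) (.node (.leaf (⟨1, 0, 34944, 0, 34944, 0, 34944⟩, .base)) (.leaf (⟨1, 1, 54428, 0, 22657, 1, 34944⟩, .mul 7 2)))) (.node (.node (.leaf (⟨1, 1, 28877, 0, 21693, 1, 34944⟩, .sync ⟨5, 0, 172⟩)) (.leaf (⟨1, 1, 40169, 0, 51429, 1, 34944⟩, .mul 6 4))) (.node (.leaf (⟨1, 0, 11087, 0, 11087, 0, 34944⟩, .base)) (.leaf (⟨1, 1, 52357, 0, 48265, 1, 34944⟩, .mul 29 4)))))) (.node (.node (.node (.node (.leaf (⟨1, 0, 21721, 0, 21721, 0, 34944⟩, .base)) (.leaf (⟨1, 3, 36052, 0, 44269, 3, 34944⟩, .sync ⟨8, 15, 741⟩))) (.node (.leaf (⟨1, 1, 43164, 0, 44165, 1, 34944⟩, .mul 2 6)) (.leaf (⟨1, 3, 34944, 0,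 34944, 3, 34944⟩, .unit)))) (.node (.node (.leaf (⟨1, 0, 21693, 0, 21693, 0, 34944⟩, .base)) (.leaf (⟨1, 1, 20673, 0, 28857, 1, 34944⟩, .mul 20 2))) (.node (.leaf (⟨1, 1, 34944, 0, 34944, 1, 34944⟩, .unit)) (.leaf (⟨1, 1, 48280, 0, 52372, 1, 34944⟩, .mul 28 6))))) (.node (.node (.node (.leaf (⟨1, 0, 30869, 0, 30869, 0, 34944⟩, .base)) (.leaf (⟨1, 1, 21676, 0, 28892, 1, 34944⟩, .mul 9 2))) (.node (.leaf (⟨1, 0, 31898, 0, 31898, 0, 34944⟩, .base)) (.leaf (⟨0, 3, 54603, 0, 15081, 3, 64009⟩, .fill 4 1 6 [34944, 15935, 34944, 65536, 54904] 1 34946 [⟨13, 12, 0⟩, ⟨26, 15, 119⟩, ⟨17, 24, 1297⟩] [⟨19, 15, 276⟩])))) (.node (.node (.leaf (⟨1, 1, 51420, 0, 40108, 1, 34944⟩, .mul 4 6)) (.leaf (⟨1, 1, 53389, 0, 22680, 1, 34944⟩, .mul 18 6))) (.node (.leaf (⟨0, 1, 34659, 0, 34944, 3, 34944⟩, .dfn))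 (.leaf (⟨1, 1, 52357, 0, 44169, 1, 34944⟩, .close 4 9 34946 [⟨13, 12, 0⟩, ⟨21, 15, 1530⟩, ⟨25, 27, 72⟩, ⟨25, 24, 43⟩, ⟨25, 16, 702⟩])))))))

/-- definitions -/
def defsBad57 : List (ℕ × ℕ × ℕ) := [(0, 34944, 0), (0, 34944, 1), (1, 34659, 0)]

/-- the facts -/
def factsBad58 : Tree (Fct × Why) :=
  (.node (.node (.node (.node (.node (.leaf (⟨0, 0, 34944, 0, 34944, 1, 34944⟩, .dfn)) (.leaf (⟨0, 3, 11785, 1, 43533, 3, 26449⟩, .fill 4 1 4 [34944, 15995, 34944, 65536, 54904, 65536, 62212] 0 34944 [⟨8, 0, 0⟩, ⟨14, 11, 243⟩] [⟨10, 0, 1393⟩, ⟨15, 11, 830⟩]))) (.node (.leaf (⟨1, 0, 34944, 0, 34944, 0, 34944⟩, .base)) (.leaf (⟨0, 0, 34944, 0, 34944, 1, 34944⟩, .dfn)))) (.node (.node (.leaf (⟨1, 0, 30869, 0, 30869, 0, 34944⟩, .base)) (.leaf (⟨0, 0, 34944, 0, 34944, 1, 34944⟩, .dfn))) (.node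 (.leaf (⟨0, 3, 34944, 0, 34944, 1, 34659⟩, .inv 11)) (.leaf (⟨0, 0, 34944, 0, 34944, 1, 34944⟩, .dfn))))) (.node (.node (.node (.leaf (⟨1, 0, 21721, 0, 21721, 0, 34944⟩, .base)) (.leaf (⟨1, 0, 11814, 0, 11894, 0, 34944⟩, .close 5 2 34944 [⟨8, 0, 0⟩, ⟨14, 11, 243⟩, ⟨17, 16, 1025⟩, ⟨17, 12, 490⟩, ⟨9, 1, 1184⟩]))) (.node (.leaf (⟨1, 0, 11087, 0, 11087, 0, 34944⟩, .base)) (.leaf (⟨0, 0, 34944, 0, 34944, 1, 34944⟩, .dfn)))) (.node (.node (.leaf (⟨1, 0, 21693, 0, 21693, 0, 34944⟩, .base)) (.leaf (⟨0, 0, 34944, 0, 34944, 1, 34944⟩, .dfn))) (.node (.leaf (⟨1, 1, 44273, 0, 44273, 1, 34944⟩, .mul 7 7)) (.leaf (⟨0, 0, 34944, 0, 34944, 1, 34944⟩, .dfn)))))) (.node (.node (.node (.node (.leaf (⟨0, 1, 34944, 0, 34944, 0, 34944⟩, .inv 0)) (.leaf (⟨1, 3, 34944, 0, 34944, 3, 34944⟩, .unit))) (.node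 (.leaf (⟨1, 1, 34944, 0, 34944, 1, 34944⟩, .unit)) (.leaf (⟨0, 0, 34944, 0, 34944, 1, 34944⟩, .dfn)))) (.node (.node (.leaf (⟨1, 1, 62617, 0, 30869, 1, 34944⟩, .sync ⟨4, 0, 761⟩)) (.leaf (⟨0, 0, 34944, 0, 34944, 1, 34944⟩, .dfn))) (.node (.leaf (⟨1, 1, 59561, 0, 40128, 1, 34944⟩, .mul 5 3)) (.leaf (⟨0, 0, 34944, 0, 34944, 1, 34944⟩, .dfn))))) (.node (.node (.node (.leaf (⟨1, 1, 29872, 0, 21721, 1, 34944⟩, .sync ⟨2, 0, 1154⟩)) (.leaf (⟨0, 0, 34944, 0, 34944, 1, 34944⟩, .dfn))) (.node (.leaf (⟨0, 1, 34659, 0, 34944, 3, 34944⟩, .dfn)) (.leaf (⟨0, 0, 34944, 0, 34944, 1, 34944⟩, .dfn)))) (.node (.node (.leaf (⟨1, 1, 28877, 0, 21693, 1, 34944⟩, .sync ⟨6, 0, 172⟩)) (.leaf (⟨0, 0, 34944, 0, 34944, 1, 34944⟩, .dfn))) (.node (.leaf (⟨1, 1, 53389, 0, 22680, 1, 34944⟩, .mul 13 7)) (.leaf (⟨0,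 0, 34944, 0, 34944, 1, 34944⟩, .dfn)))))))

/-- definitions -/
def defsBad58 : List (ℕ × ℕ × ℕ) := [(0, 34944, 0), (0, 34944, 1), (1, 34659, 0)]

/-- the facts -/
def factsBad59 : Tree (Fct × Why) :=
  (.node (.node (.node (.node (.node (.leaf (⟨0, 0, 34944, 0, 34944, 1, 34944⟩, .dfn)) (.leaf (⟨0, 3, 11785, 1, 43533, 3, 48925⟩, .fill 4 1 4 [34944, 15994, 34944, 65536, 54904, 65536, 62212] 0 34944 [⟨8, 0, 0⟩, ⟨14, 11, 243⟩] [⟨10, 0, 1081⟩, ⟨15, 11, 930⟩]))) (.node (.leaf (⟨1, 0, 34944, 0, 34944, 0, 34944⟩, .base)) (.leaf (⟨0, 0, 34944, 0, 34944, 1, 34944⟩, .dfn)))) (.node (.node (.leaf (⟨1, 0, 30869, 0, 30869, 0, 34944⟩, .base)) (.leaf (⟨0, 0, 34944, 0, 34944, 1, 34944⟩, .dfn))) (.node (.leaf (⟨0, 3, 34944, 0, 34944, 1, 34659⟩, .inv 11)) (.leaf (⟨0, 0, 34944, 0, 34944, 1, 34944⟩, .dfn)))))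 (.node (.node (.node (.leaf (⟨1, 0, 21721, 0, 21721, 0, 34944⟩, .base)) (.leaf (⟨1, 0, 11814, 0, 11894, 0, 34944⟩, .close 5 2 34944 [⟨8, 0, 0⟩, ⟨14, 11, 243⟩, ⟨17, 16, 1025⟩, ⟨17, 12, 383⟩, ⟨9, 1, 655⟩]))) (.node (.leaf (⟨1, 0, 11087, 0, 11087, 0, 34944⟩, .base)) (.leaf (⟨0, 0, 34944, 0, 34944, 1, 34944⟩, .dfn)))) (.node (.node (.leaf (⟨1, 0, 21693, 0, 21693, 0, 34944⟩, .base)) (.leaf (⟨0, 0, 34944, 0, 34944, 1, 34944⟩, .dfn))) (.node (.leaf (⟨1, 1, 44273, 0, 44273, 1, 34944⟩, .mul 7 7)) (.leaf (⟨0, 0, 34944, 0, 34944, 1, 34944⟩, .dfn)))))) (.node (.node (.node (.node (.leaf (⟨0, 1, 34944, 0, 34944, 0, 34944⟩, .inv 0)) (.leaf (⟨1, 3, 34944, 0, 34944, 3, 34944⟩, .unit))) (.node (.leaf (⟨1, 1, 34944, 0, 34944, 1, 34944⟩, .unit)) (.leaf (⟨0, 0, 34944, 0, 34944, 1, 34944⟩, .dfn)))) (.node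 (.node (.leaf (⟨1, 1, 62617, 0, 30869, 1, 34944⟩, .sync ⟨4, 0, 761⟩)) (.leaf (⟨0, 0, 34944, 0, 34944, 1, 34944⟩, .dfn))) (.node (.leaf (⟨1, 1, 59561, 0, 40128, 1, 34944⟩, .mul 5 3)) (.leaf (⟨0, 0, 34944, 0, 34944, 1, 34944⟩, .dfn))))) (.node (.node (.node (.leaf (⟨1, 1, 29872, 0, 21721, 1, 34944⟩, .sync ⟨2, 0, 1154⟩)) (.leaf (⟨0, 0, 34944, 0, 34944, 1, 34944⟩, .dfn))) (.node (.leaf (⟨0, 1, 34659, 0, 34944, 3, 34944⟩, .dfn)) (.leaf (⟨0, 0, 34944, 0, 34944, 1, 34944⟩, .dfn)))) (.node (.node (.leaf (⟨1, 1, 28877, 0, 21693, 1, 34944⟩, .sync ⟨6, 0, 172⟩)) (.leaf (⟨0, 0, 34944, 0, 34944, 1, 34944⟩, .dfn))) (.node (.leaf (⟨1, 1, 53389, 0, 22680, 1, 34944⟩, .mul 13 7)) (.leaf (⟨0, 0, 34944, 0, 34944, 1, 34944⟩, .dfn)))))))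

/-- definitions -/
def defsBad59 : List (ℕ × ℕ × ℕ) := [(0, 34944, 0), (0, 34944, 1), (1, 34659, 0)]

/-- the facts -/
def factsBad60 : Tree (Fct × Why) :=
  (.node (.node (.node (.node (.node (.leaf (⟨0, 0, 34944, 0, 34944, 1, 34944⟩, .dfn)) (.leaf (⟨0, 3, 11785, 1, 43533, 3, 63344⟩, .fill 4 1 4 [34944, 15999, 34944, 65536, 54904, 65536, 62212] 0 34944 [⟨8, 0, 0⟩, ⟨14, 11, 243⟩] [⟨10, 0, 1403⟩, ⟨15, 11, 1529⟩]))) (.node (.leaf (⟨1, 0, 34944, 0, 34944, 0, 34944⟩, .base)) (.leaf (⟨0, 0, 34944, 0, 34944, 1, 34944⟩, .dfn)))) (.node (.node (.leaf (⟨1, 0, 30869, 0, 30869, 0, 34944⟩, .base)) (.leaf (⟨0, 0, 34944, 0, 34944, 1, 34944⟩, .dfn))) (.node (.leaf (⟨0, 3, 34944, 0, 34944, 1, 34659⟩, .inv 11)) (.leaf (⟨0, 0, 34944, 0, 34944, 1, 34944⟩, .dfn))))) (.node (.node (.node (.leaf (⟨1,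 0, 21721, 0, 21721, 0, 34944⟩, .base)) (.leaf (⟨1, 0, 11815, 0, 11894, 0, 34944⟩, .close 5 2 34944 [⟨8, 0, 0⟩, ⟨14, 11, 243⟩, ⟨17, 16, 1025⟩, ⟨17, 12, 429⟩, ⟨9, 1, 460⟩]))) (.node (.leaf (⟨1, 0, 11087, 0, 11087, 0, 34944⟩, .base)) (.leaf (⟨0, 0, 34944, 0, 34944, 1, 34944⟩, .dfn)))) (.node (.node (.leaf (⟨1, 0, 21693, 0, 21693, 0, 34944⟩, .base)) (.leaf (⟨0, 0, 34944, 0, 34944, 1, 34944⟩, .dfn))) (.node (.leaf (⟨1, 1, 44273, 0, 44273, 1, 34944⟩, .mul 7 7)) (.leaf (⟨0, 0, 34944, 0, 34944, 1, 34944⟩, .dfn)))))) (.node (.node (.node (.node (.leaf (⟨0, 1, 34944, 0, 34944, 0, 34944⟩, .inv 0)) (.leaf (⟨1, 3, 34944, 0, 34944, 3, 34944⟩, .unit))) (.node (.leaf (⟨1, 1, 34944, 0, 34944, 1, 34944⟩, .unit)) (.leaf (⟨0, 0, 34944, 0, 34944, 1, 34944⟩, .dfn)))) (.node (.node (.leaf (⟨1, 1, 62617,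 0, 30869, 1, 34944⟩, .sync ⟨4, 0, 761⟩)) (.leaf (⟨0, 0, 34944, 0, 34944, 1, 34944⟩, .dfn))) (.node (.leaf (⟨1, 1, 59561, 0, 40128, 1, 34944⟩, .mul 5 3)) (.leaf (⟨0, 0, 34944, 0, 34944, 1, 34944⟩, .dfn))))) (.node (.node (.node (.leaf (⟨1, 1, 29872, 0, 21721, 1, 34944⟩, .sync ⟨2, 0, 1154⟩)) (.leaf (⟨0, 0, 34944, 0, 34944, 1, 34944⟩, .dfn))) (.node (.leaf (⟨0, 1, 34659, 0, 34944, 3, 34944⟩, .dfn)) (.leaf (⟨0, 0, 34944, 0, 34944, 1, 34944⟩, .dfn)))) (.node (.node (.leaf (⟨1, 1, 28877, 0, 21693, 1, 34944⟩, .sync ⟨6, 0, 172⟩)) (.leaf (⟨0, 0, 34944, 0, 34944, 1, 34944⟩, .dfn))) (.node (.leaf (⟨1, 1, 53389, 0, 22680, 1, 34944⟩, .mul 13 7)) (.leaf (⟨0, 0, 34944, 0, 34944, 1, 34944⟩, .dfn)))))))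

/-- definitions -/
def defsBad60 : List (ℕ × ℕ × ℕ) := [(0, 34944, 0), (0, 34944, 1), (1, 34659, 0)]

/-- the facts -/
def factsBad61 : Tree (Fct × Why) :=
  (.node (.node (.node (.node (.node (.leaf (⟨0, 0, 34944, 0, 34944, 1, 34944⟩, .dfn)) (.leaf (⟨0, 3, 11785, 1, 43533, 3, 12092⟩, .fill 4 1 4 [34944, 15998, 34944, 65536, 54904, 65536, 62212] 0 34944 [⟨8, 0, 0⟩, ⟨14, 11, 243⟩] [⟨10, 0, 718⟩, ⟨15, 11, 1422⟩]))) (.node (.leaf (⟨1, 0, 34944, 0, 34944, 0, 34944⟩, .base)) (.leaf (⟨0, 0, 34944, 0, 34944, 1, 34944⟩, .dfn)))) (.node (.node (.leaf (⟨1, 0, 30869, 0, 30869, 0, 34944⟩, .base)) (.leaf (⟨0, 0, 34944, 0, 34944, 1, 34944⟩, .dfn))) (.node (.leaf (⟨0, 3, 34944, 0, 34944, 1, 34659⟩, .inv 11)) (.leaf (⟨0, 0, 34944, 0, 34944, 1, 34944⟩, .dfn))))) (.node (.node (.node (.leaf (⟨1, 0,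 21721, 0, 21721, 0, 34944⟩, .base)) (.leaf (⟨1, 0, 11815, 0, 11894, 0, 34944⟩, .close 5 2 34944 [⟨8, 0, 0⟩, ⟨14, 11, 243⟩, ⟨17, 16, 1025⟩, ⟨17, 12, 1179⟩, ⟨9, 1, 1240⟩]))) (.node (.leaf (⟨1, 0, 11087, 0, 11087, 0, 34944⟩, .base)) (.leaf (⟨0, 0, 34944, 0, 34944, 1, 34944⟩, .dfn)))) (.node (.node (.leaf (⟨1, 0, 21693, 0, 21693, 0, 34944⟩, .base)) (.leaf (⟨0, 0, 34944, 0, 34944, 1, 34944⟩, .dfn))) (.node (.leaf (⟨1, 1, 44273, 0, 44273, 1, 34944⟩, .mul 7 7)) (.leaf (⟨0, 0, 34944, 0, 34944, 1, 34944⟩, .dfn)))))) (.node (.node (.node (.node (.leaf (⟨0, 1, 34944, 0, 34944, 0, 34944⟩, .inv 0)) (.leaf (⟨1, 3, 34944, 0, 34944, 3, 34944⟩, .unit))) (.node (.leaf (⟨1, 1, 34944, 0, 34944, 1, 34944⟩, .unit)) (.leaf (⟨0, 0, 34944, 0, 34944, 1, 34944⟩, .dfn)))) (.node (.node (.leaf (⟨1, 1, 62617,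 0, 30869, 1, 34944⟩, .sync ⟨4, 0, 761⟩)) (.leaf (⟨0, 0, 34944, 0, 34944, 1, 34944⟩, .dfn))) (.node (.leaf (⟨1, 1, 59561, 0, 40128, 1, 34944⟩, .mul 5 3)) (.leaf (⟨0, 0, 34944, 0, 34944, 1, 34944⟩, .dfn))))) (.node (.node (.node (.leaf (⟨1, 1, 29872, 0, 21721, 1, 34944⟩, .sync ⟨2, 0, 1154⟩)) (.leaf (⟨0, 0, 34944, 0, 34944, 1, 34944⟩, .dfn))) (.node (.leaf (⟨0, 1, 34659, 0, 34944, 3, 34944⟩, .dfn)) (.leaf (⟨0, 0, 34944, 0, 34944, 1, 34944⟩, .dfn)))) (.node (.node (.leaf (⟨1, 1, 28877, 0, 21693, 1, 34944⟩, .sync ⟨6, 0, 172⟩)) (.leaf (⟨0, 0, 34944, 0, 34944, 1, 34944⟩, .dfn))) (.node (.leaf (⟨1, 1, 53389, 0, 22680, 1, 34944⟩, .mul 13 7)) (.leaf (⟨0, 0, 34944, 0, 34944, 1, 34944⟩, .dfn)))))))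

/-- definitions -/
def defsBad61 : List (ℕ × ℕ × ℕ) := [(0, 34944, 0), (0, 34944, 1), (1, 34659, 0)]

/-- value of the loop, derivation, size, and the two contradicting facts -/
def badList : List (ℕ × Tree (Fct × Why) × List (ℕ × ℕ × ℕ) × ℕ × ℕ × ℕ) := [
  (10794, factsBad0, defsBad0, 33, 32, 31),
  (10799, factsBad1, defsBad1, 19, 18, 18),
  (10798, factsBad2, defsBad2, 19, 18, 18),
  (10858, factsBad3, defsBad3, 19, 18, 18),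
  (10859, factsBad4, defsBad4, 19, 18, 18),
  (10862, factsBad5, defsBad5, 19, 18, 18),
  (10863, factsBad6, defsBad6, 19, 18, 18),
  (10810, factsBad7, defsBad7, 19, 18, 18),
  (10811, factsBad8, defsBad8, 19, 18, 18),
  (10814, factsBad9, defsBad9, 19, 18, 18),
  (10815, factsBad10, defsBad10, 19, 18, 18),
  (10875, factsBad11, defsBad11, 32, 31, 30),
  (10874, factsBad12, defsBad12, 34, 33, 32),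
  (10879, factsBad13, defsBad13, 19, 18, 18),
  (10878, factsBad14, defsBad14, 19, 18, 18),
  (14895, factsBad15, defsBad15, 19, 18, 18),
  (14894, factsBad16, defsBad16, 19, 18, 18),
  (14891, factsBad17, defsBad17, 19, 18, 18),
  (14890, factsBad18, defsBad18, 19, 18, 18),
  (14958, factsBad19, defsBad19, 19, 18, 18),
  (14959, factsBad20, defsBad20, 19, 18, 18),
  (14954, factsBad21, defsBad21, 19, 18, 18),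
  (14955, factsBad22, defsBad22, 19, 18, 18),
  (14910, factsBad23, defsBad23, 19, 18, 18),
  (14911, factsBad24, defsBad24, 19, 18, 18),
  (14906, factsBad25, defsBad25, 19, 18, 18),
  (14907, factsBad26, defsBad26, 19, 18, 18),
  (14975, factsBad27, defsBad27, 19, 18, 18),
  (14974, factsBad28, defsBad28, 19, 18, 18),
  (14971, factsBad29, defsBad29, 19, 18, 18),
  (14970, factsBad30, defsBad30, 19, 18, 18),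
  (11823, factsBad31, defsBad31, 19, 18, 18),
  (11822, factsBad32, defsBad32, 19, 18, 18),
  (11819, factsBad33, defsBad33, 19, 18, 18),
  (11818, factsBad34, defsBad34, 19, 18, 18),
  (11886, factsBad35, defsBad35, 19, 18, 18),
  (11887, factsBad36, defsBad36, 19, 18, 18),
  (11882, factsBad37, defsBad37, 19, 18, 18),
  (11883, factsBad38, defsBad38, 19, 18, 18),
  (11838, factsBad39, defsBad39, 19, 18, 18),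
  (11839, factsBad40, defsBad40, 19, 18, 18),
  (11834, factsBad41, defsBad41, 19, 18, 18),
  (11835, factsBad42, defsBad42, 19, 18, 18),
  (11903, factsBad43, defsBad43, 19, 18, 18),
  (11902, factsBad44, defsBad44, 19, 18, 18),
  (11899, factsBad45, defsBad45, 19, 18, 18),
  (11898, factsBad46, defsBad46, 19, 18, 18),
  (15915, factsBad47, defsBad47, 19, 18, 18),
  (15914, factsBad48, defsBad48, 19, 18, 18),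
  (15919, factsBad49, defsBad49, 19, 18, 18),
  (15918, factsBad50, defsBad50, 19, 18, 18),
  (15978, factsBad51, defsBad51, 19, 18, 18),
  (15979, factsBad52, defsBad52, 19, 18, 18),
  (15982, factsBad53, defsBad53, 33, 32, 31),
  (15930, factsBad54, defsBad54, 19, 18, 18),
  (15931, factsBad55, defsBad55, 19, 18, 18),
  (15934, factsBad56, defsBad56, 34, 33, 32),
  (15935, factsBad57, defsBad57, 32, 31, 30),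
  (15995, factsBad58, defsBad58, 19, 18, 18),
  (15994, factsBad59, defsBad59, 19, 18, 18),
  (15999, factsBad60, defsBad60, 19, 18, 18),
  (15998, factsBad61, defsBad61, 19, 18, 18)]

end CfsgLib.HeUnique
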