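import Cfsg.Agent.Lib.HeUnique.Cert

/-!
The derivation for the good value of the loop.
-/

set_option autoImplicit false
set_option linter.style.longLine false
set_option maxRecDepth 100000

namespace CfsgLib.HeUnique

/-- the facts -/
def factsGood : Tree (Fct × Why) :=
  (.node (.node (.node (.node (.node (.node (.node (.node (.node (.leaf (⟨0, 0, 34944, 0, 34944, 1, 34944⟩, .dfn)) (.leaf (⟨1, 17, 20704, 0, 59537, 17, 34944⟩, .mul 254 255))) (.node (.leaf (⟨1, 2, 20653, 0, 21133, 2, 34944⟩, .mul 127 29)) (.leaf (⟨1, 6, 23724, 0, 22670, 6, 34944⟩, .mul 380 129)))) (.node (.node (.leaf (⟨1, 1, 53389, 0, 22680, 1, 34944⟩, .mul 43 7)) (.leaf (⟨0, 24, 64100, 1, 52752, 28, 18347⟩, .fill 4 3 2 [13813, 65536, 34944, 10795, 34944, 65536, 54904, 65536, 62212] 14 34952 [⟨238, 293, 278⟩] [⟨230, 235,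 685⟩, ⟨154, 252, 1086⟩, ⟨256, 319, 1381⟩]))) (.node (.leaf (⟨1, 11, 43161, 0, 43176, 11, 34944⟩, .mul 181 181)) (.leaf (⟨0, 0, 34944, 0, 34944, 1, 34944⟩, .dfn))))) (.node (.node (.node (.leaf (⟨1, 2, 21391, 0, 20716, 2, 34944⟩, .mul 29 31)) (.leaf (⟨0, 22, 43243, 0, 43152, 22, 31942⟩, .fill 0 0 2 [20621, 34946, 65536, 34946] 11 12544 [⟨190, 283, 424⟩] [⟨191, 283, 599⟩]))) (.node (.leaf (⟨1, 9, 51339, 0, 59560, 9, 34944⟩, .mul 157 159)) (.leaf (⟨0, 0, 34944, 0, 34944, 1, 34944⟩, .dfn)))) (.node (.node (.leaf (⟨1, 5, 20929, 0, 52396, 5, 34944⟩, .sync ⟨57, 95, 624⟩)) (.leaf (⟨1, 29, 34944, 0, 34944, 29, 34944⟩, .unit))) (.node (.leaf (⟨0, 8, 56901, 0, 45323, 13, 47462⟩, .inv 223)) (.leaf (⟨0, 0, 34944, 0, 34944, 1, 34944⟩, .dfn)))))) (.node (.node (.node (.node (.leaf (⟨1, 1, 54405, 0, 23696,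 1, 34944⟩, .mul 15 5)) (.leaf (⟨0, 17, 40261, 0, 36005, 19, 12658⟩, .fill 4 3 4 [13813, 65536, 34944, 10795, 34944, 65536, 54904] 3 34180 [⟨61, 239, 1460⟩, ⟨240, 257, 865⟩] [⟨49, 239, 1448⟩, ⟨244, 268, 219⟩]))) (.node (.leaf (⟨0, 7, 20731, 1, 35744, 7, 51899⟩, .fill 2 0 2 [20705, 34960, 65537, 34960] 2 43136 [⟨36, 142, 126⟩] [⟨35, 142, 1278⟩])) (.leaf (⟨0, 0, 34944, 0, 34944, 1, 34944⟩, .dfn)))) (.node (.node (.leaf (⟨1, 4, 39080, 0, 40169, 4, 34944⟩, .mul 78 76)) (.leaf (⟨0, 18, 64120, 0, 32425, 25, 47461⟩, .inv 335))) (.node (.leaf (⟨1, 6, 43176, 0, 35202, 6, 34944⟩, .mul 137 129)) (.leaf (⟨0, 0, 34944, 0, 34944, 1, 34944⟩, .dfn))))) (.node (.node (.node (.leaf (⟨1, 1, 59584, 0, 47273, 1, 34944⟩, .mul 16 7)) (.leaf (⟨0, 22, 40757, 1, 21645, 25, 58961⟩, .inv 303))) (.node (.leaf (⟨1, 10,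 40125, 0, 59629, 10, 34944⟩, .mul 175 168)) (.leaf (⟨0, 0, 34944, 0, 34944, 1, 34944⟩, .dfn)))) (.node (.node (.leaf (⟨1, 2, 51437, 0, 39661, 2, 34944⟩, .mul 31 27)) (.leaf (⟨0, 17, 45504, 0, 20696, 12, 61658⟩, .fill 5 6 4 [20108, 65536, 13813, 65536, 34944, 10795, 34944] 19 34948 [⟨269, 264, 1201⟩, ⟨149, 252, 426⟩] [⟨269, 271, 1503⟩, ⟨157, 367, 559⟩]))) (.node (.leaf (⟨1, 15, 29836, 0, 44284, 15, 34944⟩, .sync ⟨70, 239, 1078⟩)) (.leaf (⟨0, 0, 34944, 0, 34944, 1, 34944⟩, .dfn))))))) (.node (.node (.node (.node (.node (.leaf (⟨1, 1, 51420, 0, 40108, 1, 34944⟩, .mul 5 7)) (.leaf (⟨0, 19, 34944, 1, 34944, 8, 36710⟩, .inv 263))) (.node (.leaf (⟨1, 6, 31941, 0, 23436, 6, 34944⟩, .mul 135 123)) (.leaf (⟨0, 31, 48111, 1, 43579, 25, 47704⟩, .inv 391)))) (.node (.node (.leaf (⟨1, 3, 35056, 0, 39056,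 3, 34944⟩, .mul 42 56)) (.leaf (⟨0, 18, 51328, 0, 40318, 22, 31102⟩, .fill 4 3 0 [13813, 65536, 34944, 10795, 34944, 65536, 54904, 65536, 62212, 65537, 11191] 18 51328 [] [⟨262, 326, 937⟩, ⟨289, 288, 1469⟩, ⟨289, 306, 782⟩, ⟨305, 303, 684⟩]))) (.node (.leaf (⟨1, 4, 39619, 0, 39124, 4, 34944⟩, .mul 199 78)) (.leaf (⟨0, 0, 34944, 0, 34944, 1, 34944⟩, .dfn))))) (.node (.node (.node (.leaf (⟨1, 2, 34944, 0, 34944, 2, 34944⟩, .unit)) (.leaf (⟨1, 24, 28868, 0, 39848, 24, 34944⟩, .mul 295 294))) (.node (.leaf (⟨1, 10, 61580, 0, 23740, 10, 34944⟩, .sync ⟨167, 165, 815⟩)) (.leaf (⟨0, 0, 34944, 0, 34944, 1, 34944⟩, .dfn)))) (.node (.node (.leaf (⟨0, 5, 18206, 0, 53991, 3, 24069⟩, .fill 4 3 4 [13813, 65536, 34944, 10795, 34944, 65536, 54904] 0 34944 [⟨17, 0, 0⟩, ⟨5, 95, 156⟩] [⟨22, 0, 0⟩, ⟨58, 41,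 1524⟩])) (.leaf (⟨0, 29, 15707, 0, 59879, 28, 39663⟩, .fill 4 5 2 [11191, 65536, 13813, 65536, 34944, 10795, 34944, 65536, 54904] 17 43138 [⟨256, 357, 1349⟩] [⟨254, 349, 1153⟩, ⟨352, 358, 389⟩, ⟨285, 325, 501⟩]))) (.node (.leaf (⟨1, 14, 35811, 0, 35524, 14, 34944⟩, .mul 230 230)) (.leaf (⟨0, 0, 34944, 0, 34944, 1, 34944⟩, .dfn)))))) (.node (.node (.node (.node (.leaf (⟨0, 0, 34944, 1, 34944, 2, 34944⟩, .dfn)) (.leaf (⟨1, 20, 39108, 0, 34985, 20, 34944⟩, .sync ⟨163, 277, 1467⟩))) (.node (.leaf (⟨1, 8, 43221, 0, 60544, 8, 34944⟩, .mul 151 148)) (.leaf (⟨0, 0, 34944, 0, 34944, 1, 34944⟩, .dfn)))) (.node (.node (.leaf (⟨1, 4, 53638, 0, 54504, 4, 34944⟩, .mul 87 76)) (.leaf (⟨0, 20, 34944, 1, 27621, 13, 28979⟩, .fill 5 6 0 [20108, 65536, 13813, 65536, 34944, 10795, 34944, 65536, 54904, 65536,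 60004] 20 34944 [] [⟨279, 342, 1125⟩, ⟨311, 341, 47⟩, ⟨343, 342, 737⟩, ⟨313, 310, 1471⟩]))) (.node (.leaf (⟨1, 13, 44188, 0, 51585, 13, 34944⟩, .mul 207 213)) (.leaf (⟨0, 0, 34944, 0, 34944, 1, 34944⟩, .dfn))))) (.node (.node (.node (.leaf (⟨1, 3, 36004, 0, 48317, 3, 34944⟩, .sync ⟨55, 41, 795⟩)) (.leaf (⟨0, 27, 15932, 1, 22976, 27, 32548⟩, .fill 4 1 4 [34944, 10795, 34944, 65536, 54904, 65536, 62212] 6 34048 [⟨138, 204, 1068⟩, ⟨227, 309, 659⟩] [⟨218, 204, 94⟩, ⟨221, 309, 159⟩]))) (.node (.leaf (⟨1, 11, 43152, 0, 34960, 11, 34944⟩, .sync ⟨86, 179, 387⟩)) (.leaf (⟨0, 0, 34944, 0, 34944, 1, 34944⟩, .dfn)))) (.node (.node (.leaf (⟨1, 5, 35533, 0, 60577, 5, 34944⟩, .mul 118 97)) (.leaf (⟨0, 10, 15834, 1, 59619, 10, 62899⟩, .fill 4 3 2 [13813, 65536, 34944, 10795, 34944, 65536, 54904, 65536,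 62212] 20 12584 [⟨282, 364, 845⟩] [⟨280, 342, 984⟩, ⟨311, 341, 1355⟩, ⟨282, 364, 1302⟩]))) (.node (.leaf (⟨0, 15, 58908, 1, 54469, 15, 32580⟩, .fill 4 1 4 [34944, 10795, 34944, 65536, 54904, 65536, 62212] 1 34048 [⟨20, 41, 1068⟩, ⟨61, 239, 940⟩] [⟨58, 41, 1177⟩, ⟨71, 239, 583⟩])) (.leaf (⟨0, 0, 34944, 0, 34944, 1, 34944⟩, .dfn)))))))) (.node (.node (.node (.node (.node (.node (.leaf (⟨1, 0, 30869, 0, 30869, 0, 34944⟩, .base)) (.leaf (⟨1, 17, 34944, 0, 34944, 17, 34944⟩, .unit))) (.node (.leaf (⟨1, 6, 31932, 0, 23526, 6, 34944⟩, .mul 124 129)) (.leaf (⟨1, 31, 34944, 0, 34944, 31, 34944⟩, .unit)))) (.node (.node (.leaf (⟨0, 3, 61771, 0, 15081, 3, 20037⟩, .fill 4 1 6 [34944, 10795, 34944, 65536, 54904] 1 34946 [⟨20, 19, 0⟩, ⟨67, 41, 119⟩, ⟨42, 65, 1297⟩] [⟨58, 41, 1519⟩])) (.leaf (⟨0, 28,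 15694, 0, 26553, 22, 19976⟩, .fill 4 3 4 [13813, 65536, 34944, 10795, 34944, 65536, 54904] 15 42252 [⟨242, 268, 1272⟩, ⟨269, 323, 127⟩] [⟨241, 246, 1335⟩, ⟨193, 283, 106⟩]))) (.node (.leaf (⟨1, 4, 23436, 0, 31941, 4, 34944⟩, .mul 83 78)) (.leaf (⟨0, 0, 34944, 0, 34944, 1, 34944⟩, .dfn))))) (.node (.node (.node (.leaf (⟨1, 2, 53707, 0, 23461, 2, 34944⟩, .mul 29 29)) (.leaf (⟨1, 23, 35524, 0, 43192, 23, 34944⟩, .mul 291 291))) (.node (.leaf (⟨1, 9, 34944, 0, 34944, 9, 34944⟩, .unit)) (.leaf (⟨0, 0, 34944, 0, 34944, 1, 34944⟩, .dfn)))) (.node (.node (.leaf (⟨1, 1, 30932, 0, 53429, 1, 34944⟩, .mul 47 3)) (.leaf (⟨0, 28, 44376, 0, 64116, 29, 39139⟩, .inv 355))) (.node (.leaf (⟨0, 6, 36710, 1, 34944, 14, 34944⟩, .dfn)) (.leaf (⟨0, 0, 34944, 0, 34944, 1, 34944⟩, .dfn)))))) (.node (.node (.node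 (.node (.leaf (⟨1, 1, 34944, 0, 34944, 1, 34944⟩, .unit)) (.leaf (⟨1, 19, 35552, 0, 59545, 19, 34944⟩, .mul 266 265))) (.node (.leaf (⟨1, 8, 43205, 0, 52352, 8, 34944⟩, .sync ⟨113, 146, 643⟩)) (.leaf (⟨0, 0, 34944, 0, 34944, 1, 34944⟩, .dfn)))) (.node (.node (.leaf (⟨1, 4, 53380, 0, 61653, 4, 34944⟩, .mul 82 78)) (.leaf (⟨0, 28, 61201, 1, 20414, 27, 62863⟩, .inv 339))) (.node (.leaf (⟨1, 6, 43192, 0, 35200, 6, 34944⟩, .mul 211 129)) (.leaf (⟨0, 0, 34944, 0, 34944, 1, 34944⟩, .dfn))))) (.node (.node (.node (.leaf (⟨1, 1, 53400, 0, 30857, 1, 34944⟩, .mul 51 5)) (.leaf (⟨1, 25, 29825, 0, 40148, 25, 34944⟩, .mul 301 302))) (.node (.leaf (⟨0, 11, 34944, 0, 34944, 4, 34659⟩, .inv 179)) (.leaf (⟨0, 0, 34944, 0, 34944, 1, 34944⟩, .dfn)))) (.node (.node (.leaf (⟨1, 5, 34958, 0, 35977, 5, 34944⟩,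 .mul 98 99)) (.leaf (⟨0, 12, 35456, 0, 43141, 25, 64092⟩, .fill 4 3 4 [13813, 65536, 34944, 10795, 34944, 65536, 54904] 20 34984 [⟨282, 278, 496⟩, ⟨164, 371, 1060⟩] [⟨282, 364, 1366⟩, ⟨178, 298, 1148⟩]))) (.node (.leaf (⟨1, 15, 43177, 0, 40133, 15, 34944⟩, .mul 243 240)) (.leaf (⟨0, 0, 34944, 0, 34944, 1, 34944⟩, .dfn))))))) (.node (.node (.node (.node (.node (.leaf (⟨1, 1, 39125, 0, 51376, 1, 34944⟩, .mul 3 5)) (.leaf (⟨0, 15, 15880, 0, 32124, 19, 17938⟩, .fill 4 1 2 [34944, 10795, 34944, 65536, 54904, 65536, 62212, 65537, 11191] 3 42244 [⟨61, 239, 1057⟩] [⟨42, 105, 418⟩, ⟨96, 146, 1074⟩, ⟨153, 263, 1284⟩]))) (.node (.leaf (⟨1, 6, 62696, 0, 54220, 6, 34944⟩, .mul 139 123)) (.leaf (⟨0, 0, 34944, 0, 34944, 1, 34944⟩, .dfn)))) (.node (.node (.leaf (⟨1, 4, 52138, 0, 60669, 4, 34944⟩, .sync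 ⟨47, 74, 1487⟩)) (.leaf (⟨0, 18, 31261, 0, 32466, 12, 12064⟩, .inv 331))) (.node (.leaf (⟨0, 6, 34659, 0, 34944, 13, 34944⟩, .dfn)) (.leaf (⟨0, 0, 34944, 0, 34944, 1, 34944⟩, .dfn))))) (.node (.node (.node (.leaf (⟨1, 3, 29824, 0, 40128, 3, 34944⟩, .sync ⟨43, 41, 489⟩)) (.leaf (⟨1, 10, 35000, 0, 35029, 10, 34944⟩, .mul 169 169))) (.node (.leaf (⟨1, 10, 20692, 0, 20665, 10, 34944⟩, .mul 170 169)) (.leaf (⟨0, 0, 34944, 0, 34944, 1, 34944⟩, .dfn)))) (.node (.node (.leaf (⟨0, 5, 27150, 0, 44222, 5, 45406⟩, .fill 5 6 2 [20108, 65536, 13813, 65536, 34944, 10795, 34944, 65536, 54904] 1 34050 [⟨20, 95, 1195⟩] [⟨7, 41, 667⟩, ⟨42, 68, 1435⟩, ⟨66, 105, 92⟩])) (.leaf (⟨0, 20, 11919, 0, 21732, 10, 51610⟩, .fill 4 1 2 [34944, 10795, 34944, 65536, 54904, 65536, 62212, 65537, 11191] 18 52354 [⟨262, 363,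 1476⟩] [⟨262, 332, 918⟩, ⟨201, 331, 367⟩, ⟨262, 330, 47⟩]))) (.node (.leaf (⟨0, 13, 31317, 0, 54156, 14, 18077⟩, .fill 4 9 6 [54904, 65536, 62212, 65537, 11191] 2 34944 [⟨40, 121, 0⟩, ⟨218, 204, 284⟩] [⟨27, 121, 1327⟩, ⟨138, 228, 937⟩])) (.leaf (⟨0, 0, 34944, 0, 34944, 1, 34944⟩, .dfn)))))) (.node (.node (.node (.node (.leaf (⟨1, 0, 53704, 0, 53704, 0, 34944⟩, .base)) (.leaf (⟨0, 22, 34944, 0, 34944, 11, 13813⟩, .inv 283))) (.node (.leaf (⟨0, 5, 36710, 1, 34944, 9, 34944⟩, .dfn)) (.leaf (⟨0, 0, 34944, 0, 34944, 1, 34944⟩, .dfn)))) (.node (.node (.leaf (⟨1, 1, 40136, 0, 60585, 1, 34944⟩, .mul 50 5)) (.leaf (⟨1, 10, 20665, 0, 20692, 10, 34944⟩, .mul 307 168))) (.node (.leaf (⟨0, 8, 26448, 1, 14692, 13, 44669⟩, .inv 219)) (.leaf (⟨0, 0, 34944, 0, 34944, 1, 34944⟩, .dfn))))) (.node (.node (.node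 (.leaf (⟨1, 1, 20673, 0, 28857, 1, 34944⟩, .mul 59 3)) (.leaf (⟨0, 23, 27167, 0, 48552, 28, 26140⟩, .fill 4 5 2 [11191, 65536, 13813, 65536, 34944, 10795, 34944, 65536, 54904] 11 20608 [⟨190, 290, 317⟩] [⟨190, 245, 1419⟩, ⟨244, 268, 112⟩, ⟨265, 315, 1370⟩]))) (.node (.leaf (⟨1, 11, 51364, 0, 60628, 11, 34944⟩, .sync ⟨187, 179, 773⟩)) (.leaf (⟨0, 0, 34944, 0, 34944, 1, 34944⟩, .dfn)))) (.node (.node (.leaf (⟨1, 6, 39145, 0, 39661, 6, 34944⟩, .sync ⟨112, 121, 1245⟩)) (.leaf (⟨1, 6, 47353, 0, 39301, 6, 34944⟩, .mul 136 129))) (.node (.leaf (⟨0, 8, 34659, 0, 34944, 17, 34944⟩, .dfn)) (.leaf (⟨0, 0, 34944, 0, 34944, 1, 34944⟩, .dfn))))))))) (.node (.node (.node (.node (.node (.node (.node (.leaf (⟨1, 0, 21721, 0, 21721, 0, 34944⟩, .base)) (.leaf (⟨0, 15, 26193, 0, 14599, 17, 40267⟩, .fill 5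 2 2 [34944, 10795, 34944, 65536, 54904, 65536, 60004, 65537, 20108] 3 42240 [⟨66, 239, 474⟩] [⟨42, 68, 864⟩, ⟨71, 239, 900⟩, ⟨241, 257, 1214⟩]))) (.node (.leaf (⟨1, 6, 51412, 0, 51663, 6, 34944⟩, .mul 123 129)) (.leaf (⟨0, 31, 48731, 0, 20237, 25, 51584⟩, .fill 4 5 8 [11191, 65536, 13813] 10 34944 [⟨170, 378, 1350⟩, ⟨305, 335, 937⟩, ⟨262, 385, 1524⟩] [⟨175, 298, 113⟩])))) (.node (.node (.leaf (⟨1, 3, 34944, 0, 34944, 3, 34944⟩, .unit)) (.leaf (⟨0, 27, 44580, 0, 31266, 28, 30592⟩, .inv 321))) (.node (.leaf (⟨0, 4, 36710, 1, 34944, 12, 34944⟩, .dfn)) (.leaf (⟨0, 0, 34944, 0, 34944, 1, 34944⟩, .dfn))))) (.node (.node (.node (.leaf (⟨1, 2, 22661, 0, 54187, 2, 34944⟩, .mul 27 29)) (.leaf (⟨0, 11, 34944, 1, 34944, 23, 34944⟩, .dfn))) (.node (.leaf (⟨1, 9, 35566, 0, 52360, 9, 34944⟩, .mul 157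 158)) (.leaf (⟨0, 0, 34944, 0, 34944, 1, 34944⟩, .dfn)))) (.node (.node (.leaf (⟨1, 5, 35489, 0, 51376, 5, 34944⟩, .sync ⟨12, 95, 1466⟩)) (.leaf (⟨0, 24, 63090, 0, 12221, 29, 38249⟩, .inv 353))) (.node (.leaf (⟨1, 8, 43176, 0, 51345, 8, 34944⟩, .mul 150 147)) (.leaf (⟨0, 0, 34944, 0, 34944, 1, 34944⟩, .dfn)))))) (.node (.node (.node (.node (.leaf (⟨1, 0, 31898, 0, 31898, 0, 34944⟩, .base)) (.leaf (⟨1, 19, 21231, 0, 60544, 19, 34944⟩, .mul 267 265))) (.node (.leaf (⟨0, 5, 34944, 0, 34944, 8, 34944⟩, .dfn)) (.leaf (⟨0, 0, 34944, 0, 34944, 1, 34944⟩, .dfn)))) (.node (.node (.leaf (⟨1, 4, 35202, 0, 43176, 4, 34944⟩, .mul 76 76)) (.leaf (⟨1, 10, 23776, 0, 61616, 10, 34944⟩, .mul 337 168))) (.node (.leaf (⟨1, 13, 44257, 0, 51624, 13, 34944⟩, .sync ⟨141, 204, 1019⟩)) (.leaf (⟨0, 0, 34944, 0, 34944,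 1, 34944⟩, .dfn))))) (.node (.node (.node (.leaf (⟨1, 1, 28845, 0, 28864, 1, 34944⟩, .mul 9 7)) (.leaf (⟨0, 22, 14691, 0, 62624, 25, 31341⟩, .fill 4 1 6 [34944, 10795, 34944, 65536, 54904] 10 34954 [⟨178, 177, 278⟩, ⟨170, 298, 68⟩, ⟨305, 303, 1165⟩] [⟨175, 298, 108⟩]))) (.node (.leaf (⟨1, 10, 34944, 0, 34944, 10, 34944⟩, .unit)) (.leaf (⟨0, 0, 34944, 0, 34944, 1, 34944⟩, .dfn)))) (.node (.node (.leaf (⟨1, 5, 35808, 0, 43161, 5, 34944⟩, .mul 96 96)) (.leaf (⟨0, 12, 62127, 1, 20732, 9, 27473⟩, .fill 4 1 4 [34944, 10795, 34944, 65536, 54904, 65536, 62212] 20 34952 [⟨282, 278, 278⟩, ⟨157, 367, 632⟩] [⟨282, 345, 284⟩, ⟨282, 278, 1390⟩]))) (.node (.leaf (⟨1, 15, 28841, 0, 47336, 15, 34944⟩, .mul 241 240)) (.leaf (⟨0, 0, 34944, 0, 34944, 1, 34944⟩, .dfn))))))) (.node (.node (.node (.node (.node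 (.leaf (⟨1, 1, 29888, 0, 28837, 1, 34944⟩, .mul 9 3)) (.leaf (⟨1, 19, 21389, 0, 44185, 19, 34944⟩, .sync ⟨154, 263, 1394⟩))) (.node (.leaf (⟨1, 6, 34944, 0, 34944, 6, 34944⟩, .unit)) (.leaf (⟨0, 0, 34944, 0, 34944, 1, 34944⟩, .dfn)))) (.node (.node (.leaf (⟨0, 1, 34944, 1, 34944, 4, 34944⟩, .dfn)) (.leaf (⟨0, 18, 32520, 1, 61070, 10, 64078⟩, .inv 329))) (.node (.leaf (⟨1, 12, 51363, 0, 36037, 12, 34944⟩, .sync ⟨182, 194, 127⟩)) (.leaf (⟨0, 0, 34944, 0, 34944, 1, 34944⟩, .dfn))))) (.node (.node (.node (.leaf (⟨1, 3, 36052, 0, 44269, 3, 34944⟩, .sync ⟨9, 41, 741⟩)) (.leaf (⟨0, 10, 34659, 0, 34944, 25, 34944⟩, .dfn))) (.node (.leaf (⟨1, 10, 23688, 0, 61653, 10, 34944⟩, .mul 168 168)) (.leaf (⟨0, 0, 34944, 0, 34944, 1, 34944⟩, .dfn)))) (.node (.node (.leaf (⟨0, 2, 20108, 0, 27440, 5, 45972⟩,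 .fill 4 5 2 [11191, 65536, 13813, 65536, 34944, 10795, 34944, 65536, 54904] 0 34944 [⟨17, 24, 0⟩] [⟨22, 0, 736⟩, ⟨15, 41, 516⟩, ⟨66, 105, 549⟩])) (.leaf (⟨0, 18, 62212, 1, 60237, 29, 23476⟩, .inv 361))) (.node (.leaf (⟨1, 14, 20684, 0, 39405, 14, 34944⟩, .mul 233 231)) (.leaf (⟨0, 0, 34944, 0, 34944, 1, 34944⟩, .dfn)))))) (.node (.node (.node (.node (.leaf (⟨1, 0, 35266, 0, 35266, 0, 34944⟩, .base)) (.leaf (⟨1, 20, 34944, 0, 34944, 20, 34944⟩, .unit))) (.node (.leaf (⟨1, 8, 44176, 0, 44185, 8, 34944⟩, .mul 147 149)) (.leaf (⟨0, 0, 34944, 0, 34944, 1, 34944⟩, .dfn)))) (.node (.node (.leaf (⟨1, 4, 53730, 0, 54428, 4, 34944⟩, .mul 89 76)) (.leaf (⟨0, 25, 48106, 1, 14823, 13, 47283⟩, .fill 4 3 2 [13813, 65536, 34944, 10795, 34944, 65536, 54904, 65536, 62212] 22 12544 [⟨289, 306, 1526⟩] [⟨286,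 325, 296⟩, ⟨317, 321, 989⟩, ⟨313, 310, 776⟩]))) (.node (.leaf (⟨1, 6, 22716, 0, 22953, 6, 34944⟩, .mul 130 124)) (.leaf (⟨0, 0, 34944, 0, 34944, 1, 34944⟩, .dfn))))) (.node (.node (.node (.leaf (⟨1, 1, 21676, 0, 28892, 1, 34944⟩, .mul 15 3)) (.leaf (⟨0, 27, 63782, 0, 39559, 27, 64024⟩, .fill 4 1 6 [34944, 10795, 34944, 65536, 54904] 13 34946 [⟨221, 225, 629⟩, ⟨227, 309, 1245⟩, ⟨313, 312, 801⟩] [⟨214, 309, 859⟩]))) (.node (.leaf (⟨1, 4, 39813, 0, 48301, 4, 34944⟩, .mul 185 78)) (.leaf (⟨0, 0, 34944, 0, 34944, 1, 34944⟩, .dfn)))) (.node (.node (.leaf (⟨0, 6, 34944, 0, 34944, 2, 34944⟩, .inv 121)) (.leaf (⟨0, 10, 14785, 1, 50778, 25, 18390⟩, .inv 377))) (.node (.leaf (⟨1, 11, 52396, 0, 52420, 11, 34944⟩, .mul 192 181)) (.leaf (⟨0, 0, 34944, 0, 34944, 1, 34944⟩, .dfn)))))))) (.node (.node (.node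 (.node (.node (.node (.leaf (⟨1, 0, 21693, 0, 21693, 0, 34944⟩, .base)) (.leaf (⟨1, 18, 34944, 0, 34944, 18, 34944⟩, .unit))) (.node (.leaf (⟨1, 6, 60593, 0, 52199, 6, 34944⟩, .mul 131 123)) (.leaf (⟨0, 31, 16025, 0, 12733, 31, 34772⟩, .inv 389)))) (.node (.node (.leaf (⟨1, 3, 43177, 0, 44284, 3, 34944⟩, .mul 44 46)) (.leaf (⟨0, 18, 27187, 0, 61733, 22, 13656⟩, .fill 4 3 4 [13813, 65536, 34944, 10795, 34944, 65536, 54904] 17 34984 [⟨260, 253, 496⟩, ⟨148, 261, 198⟩] [⟨256, 319, 98⟩, ⟨317, 324, 563⟩]))) (.node (.leaf (⟨1, 4, 23182, 0, 30960, 4, 34944⟩, .mul 197 76)) (.leaf (⟨0, 0, 34944, 0, 34944, 1, 34944⟩, .dfn))))) (.node (.node (.node (.leaf (⟨1, 0, 52187, 0, 52187, 0, 34944⟩, .base)) (.leaf (⟨1, 24, 21673, 0, 39405, 24, 34944⟩, .sync ⟨234, 293, 874⟩))) (.node (.leaf (⟨0, 10, 34944, 0,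 34944, 4, 34944⟩, .inv 165)) (.leaf (⟨0, 0, 34944, 0, 34944, 1, 34944⟩, .dfn)))) (.node (.node (.leaf (⟨1, 5, 35747, 0, 59544, 5, 34944⟩, .sync ⟨101, 95, 1208⟩)) (.leaf (⟨0, 29, 31087, 0, 50806, 22, 54836⟩, .fill 4 3 4 [13813, 65536, 34944, 10795, 34944, 65536, 54904] 15 42240 [⟨247, 258, 1026⟩, ⟨260, 357, 1159⟩] [⟨241, 246, 469⟩, ⟨192, 283, 283⟩]))) (.node (.leaf (⟨1, 14, 21164, 0, 39919, 14, 34944⟩, .sync ⟨229, 228, 38⟩)) (.leaf (⟨0, 0, 34944, 0, 34944, 1, 34944⟩, .dfn)))))) (.node (.node (.node (.node (.leaf (⟨1, 0, 13813, 0, 13813, 0, 34944⟩, .base)) (.leaf (⟨0, 20, 34944, 0, 34944, 9, 34944⟩, .inv 277))) (.node (.leaf (⟨1, 8, 21700, 0, 52380, 8, 34944⟩, .mul 149 148)) (.leaf (⟨0, 0, 34944, 0, 34944, 1, 34944⟩, .dfn)))) (.node (.node (.leaf (⟨1, 4, 34946, 0, 34960, 4, 34944⟩, .mul 85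 78)) (.leaf (⟨0, 20, 56837, 0, 46022, 27, 38717⟩, .inv 341))) (.node (.leaf (⟨1, 13, 20637, 0, 35241, 13, 34944⟩, .mul 207 210)) (.leaf (⟨0, 0, 34944, 0, 34944, 1, 34944⟩, .dfn))))) (.node (.node (.node (.leaf (⟨1, 1, 62604, 0, 22660, 1, 34944⟩, .mul 53 7)) (.leaf (⟨0, 27, 34944, 0, 34944, 13, 34659⟩, .inv 309))) (.node (.leaf (⟨1, 4, 35456, 0, 36037, 4, 34944⟩, .mul 167 78)) (.leaf (⟨0, 0, 34944, 0, 34944, 1, 34944⟩, .dfn)))) (.node (.node (.leaf (⟨1, 5, 35265, 0, 59561, 5, 34944⟩, .mul 114 98)) (.leaf (⟨0, 10, 48547, 1, 30702, 6, 23026⟩, .fill 4 3 2 [13813, 65536, 34944, 10795, 34944, 65536, 54904, 65536, 62212] 20 12552 [⟨282, 364, 217⟩] [⟨280, 342, 156⟩, ⟨313, 310, 443⟩, ⟨221, 205, 1067⟩]))) (.node (.leaf (⟨0, 15, 24127, 0, 53424, 11, 50592⟩, .inv 245)) (.leaf (⟨0, 0, 34944, 0, 34944,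 1, 34944⟩, .dfn))))))) (.node (.node (.node (.node (.node (.leaf (⟨1, 1, 39077, 0, 52420, 1, 34944⟩, .mul 13 3)) (.leaf (⟨0, 9, 20256, 0, 34956, 19, 46040⟩, .fill 4 3 4 [13813, 65536, 34944, 10795, 34944, 65536, 54904] 3 45312 [⟨42, 105, 688⟩, ⟨103, 156, 486⟩] [⟨66, 239, 1498⟩, ⟨240, 268, 1042⟩]))) (.node (.leaf (⟨0, 2, 36710, 1, 34944, 7, 34944⟩, .dfn)) (.leaf (⟨0, 0, 34944, 0, 34944, 1, 34944⟩, .dfn)))) (.node (.node (.leaf (⟨1, 4, 53892, 0, 53404, 4, 34944⟩, .sync ⟨77, 74, 125⟩)) (.leaf (⟨0, 18, 62904, 0, 35057, 18, 31257⟩, .fill 4 9 10 [54904] 18 53444 [⟨262, 328, 874⟩, ⟨289, 306, 906⟩, ⟨305, 299, 842⟩, ⟨178, 329, 1093⟩] []))) (.node (.leaf (⟨1, 6, 59569, 0, 51329, 6, 34944⟩, .mul 124 123)) (.leaf (⟨0, 0, 34944, 0, 34944, 1, 34944⟩, .dfn))))) (.node (.node (.node (.leaf (⟨1, 3, 28837,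 0, 48297, 3, 34944⟩, .sync ⟨45, 41, 808⟩)) (.leaf (⟨1, 25, 29948, 0, 40065, 25, 34944⟩, .sync ⟨174, 298, 265⟩))) (.node (.leaf (⟨1, 10, 59569, 0, 40065, 10, 34944⟩, .mul 173 168)) (.leaf (⟨0, 0, 34944, 0, 34944, 1, 34944⟩, .dfn)))) (.node (.node (.leaf (⟨1, 2, 53710, 0, 22733, 2, 34944⟩, .mul 109 29)) (.leaf (⟨0, 22, 50479, 1, 43256, 20, 54830⟩, .inv 365))) (.node (.leaf (⟨1, 14, 34944, 0, 34944, 14, 34944⟩, .unit)) (.leaf (⟨0, 0, 34944, 0, 34944, 1, 34944⟩, .dfn)))))) (.node (.node (.node (.node (.leaf (⟨1, 0, 39855, 0, 39855, 0, 34944⟩, .base)) (.leaf (⟨1, 22, 39045, 0, 51361, 22, 34944⟩, .sync ⟨189, 283, 25⟩))) (.node (.leaf (⟨1, 9, 34984, 0, 51329, 9, 34944⟩, .sync ⟨119, 156, 958⟩)) (.leaf (⟨0, 0, 34944, 0, 34944, 1, 34944⟩, .dfn)))) (.node (.node (.leaf (⟨1, 4, 34944, 0, 34944, 4,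 34944⟩, .unit)) (.leaf (⟨0, 25, 43631, 0, 52143, 29, 60015⟩, .fill 4 5 4 [11191, 65536, 13813, 65536, 34944, 10795, 34944] 8 34948 [⟨155, 261, 1201⟩, ⟨262, 336, 548⟩] [⟨150, 252, 1527⟩, ⟨256, 349, 1136⟩]))) (.node (.leaf (⟨1, 6, 44284, 0, 35714, 6, 34944⟩, .mul 129 129)) (.leaf (⟨0, 0, 34944, 0, 34944, 1, 34944⟩, .dfn))))) (.node (.node (.node (.leaf (⟨1, 3, 36009, 0, 43260, 3, 34944⟩, .mul 44 49)) (.leaf (⟨0, 28, 44364, 0, 64116, 17, 58718⟩, .fill 4 5 4 [11191, 65536, 13813, 65536, 34944, 10795, 34944] 11 20612 [⟨190, 290, 1385⟩, ⟨292, 316, 1491⟩] [⟨188, 245, 676⟩, ⟨240, 258, 525⟩]))) (.node (.leaf (⟨1, 11, 34944, 0, 34944, 11, 34944⟩, .unit)) (.leaf (⟨0, 0, 34944, 0, 34944, 1, 34944⟩, .dfn)))) (.node (.node (.leaf (⟨1, 2, 52165, 0, 39624, 2, 34944⟩, .mul 125 27)) (.leaf (⟨1, 0, 38868,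 0, 38868, 0, 34944⟩, .base))) (.node (.leaf (⟨1, 17, 29852, 0, 51345, 17, 34944⟩, .sync ⟨226, 252, 1510⟩)) (.leaf (⟨0, 0, 34944, 0, 34944, 1, 34944⟩, .dfn)))))))))) (.node (.node (.node (.node (.node (.node (.node (.node (.leaf (⟨0, 1, 34944, 0, 34944, 0, 34944⟩, .inv 0)) (.leaf (⟨0, 15, 47700, 1, 13734, 17, 26384⟩, .fill 4 3 2 [13813, 65536, 34944, 10795, 34944, 65536, 54904, 65536, 62212] 3 42240 [⟨66, 239, 474⟩] [⟨42, 105, 1451⟩, ⟨99, 146, 163⟩, ⟨150, 252, 307⟩]))) (.node (.leaf (⟨1, 6, 28868, 0, 21133, 6, 34944⟩, .sync ⟨128, 121, 1408⟩)) (.leaf (⟨0, 18, 54904, 0, 34944, 31, 34944⟩, .dfn)))) (.node (.node (.leaf (⟨0, 3, 11785, 1, 43533, 3, 63260⟩, .fill 4 1 4 [34944, 10795, 34944, 65536, 54904, 65536, 62212] 0 34944 [⟨17, 0, 0⟩, ⟨59, 41, 243⟩] [⟨21, 0, 1526⟩, ⟨64, 41, 263⟩])) (.leaf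 (⟨0, 28, 30592, 0, 12223, 27, 44580⟩, .fill 4 3 4 [13813, 65536, 34944, 10795, 34944, 65536, 54904] 14 34960 [⟨238, 293, 777⟩, ⟨297, 320, 25⟩] [⟨230, 237, 662⟩, ⟨221, 309, 662⟩]))) (.node (.leaf (⟨1, 11, 52389, 0, 60653, 11, 34944⟩, .mul 181 184)) (.leaf (⟨0, 0, 34944, 0, 34944, 1, 34944⟩, .dfn))))) (.node (.node (.node (.leaf (⟨1, 2, 21198, 0, 20910, 2, 34944⟩, .mul 32 27)) (.leaf (⟨1, 22, 34944, 0, 34944, 22, 34944⟩, .unit))) (.node (.leaf (⟨1, 9, 35822, 0, 44185, 9, 34944⟩, .mul 160 159)) (.leaf (⟨0, 0, 34944, 0, 34944, 1, 34944⟩, .dfn)))) (.node (.node (.leaf (⟨1, 5, 35727, 0, 44184, 5, 34944⟩, .sync ⟨11, 95, 349⟩)) (.leaf (⟨0, 29, 38249, 0, 31274, 24, 63090⟩, .fill 5 6 4 [20108, 65536, 13813, 65536, 34944, 10795, 34944] 13 43138 [⟨209, 347, 1402⟩, ⟨305, 350, 1030⟩] [⟨221, 236, 366⟩,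 ⟨233, 293, 920⟩]))) (.node (.leaf (⟨0, 13, 54507, 0, 51429, 13, 23767⟩, .fill 4 3 4 [13813, 65536, 34944, 10795, 34944, 65536, 54904] 5 59524 [⟨107, 146, 1433⟩, ⟨152, 220, 39⟩] [⟨97, 146, 682⟩, ⟨155, 224, 168⟩])) (.leaf (⟨0, 0, 34944, 0, 34944, 1, 34944⟩, .dfn)))))) (.node (.node (.node (.node (.leaf (⟨1, 0, 34944, 0, 34944, 0, 34944⟩, .base)) (.leaf (⟨0, 19, 12658, 0, 36020, 17, 40261⟩, .inv 272))) (.node (.leaf (⟨1, 7, 34944, 0, 34944, 7, 34944⟩, .unit)) (.leaf (⟨0, 0, 34944, 0, 34944, 1, 34944⟩, .dfn)))) (.node (.node (.leaf (⟨1, 4, 51917, 0, 52401, 4, 34944⟩, .mul 80 78)) (.leaf (⟨1, 10, 61653, 0, 23688, 10, 34944⟩, .mul 300 168))) (.node (.leaf (⟨1, 13, 29852, 0, 35202, 13, 34944⟩, .sync ⟨208, 204, 1510⟩)) (.leaf (⟨0, 0, 34944, 0, 34944, 1, 34944⟩, .dfn))))) (.node (.node (.node (.leaf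 (⟨1, 3, 21669, 0, 47273, 3, 34944⟩, .sync ⟨48, 41, 693⟩)) (.leaf (⟨1, 25, 34944, 0, 34944, 25, 34944⟩, .unit))) (.node (.leaf (⟨0, 10, 34946, 0, 34960, 10, 20623⟩, .fill 0 0 2 [20621, 34946, 65536, 34946] 4 34944 [⟨94, 165, 0⟩] [⟨86, 165, 1070⟩])) (.leaf (⟨0, 0, 34944, 0, 34944, 1, 34944⟩, .dfn)))) (.node (.node (.leaf (⟨1, 5, 34988, 0, 52352, 5, 34944⟩, .mul 97 102)) (.leaf (⟨0, 12, 64062, 1, 39104, 12, 47415⟩, .fill 4 1 4 [34944, 10795, 34944, 65536, 54904, 65536, 62212] 19 42284 [⟨274, 273, 299⟩, ⟨260, 368, 883⟩] [⟨269, 271, 248⟩, ⟨157, 367, 1222⟩]))) (.node (.leaf (⟨1, 15, 36052, 0, 39056, 15, 34944⟩, .sync ⟨72, 239, 741⟩)) (.leaf (⟨0, 0, 34944, 0, 34944, 1, 34944⟩, .dfn))))))) (.node (.node (.node (.node (.node (.leaf (⟨1, 1, 35056, 0, 44269, 1, 34944⟩, .mul 3 3)) (.leaf (⟨1, 19, 20973,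 0, 52352, 19, 34944⟩, .sync ⟨148, 263, 226⟩))) (.node (.leaf (⟨1, 6, 29937, 0, 21391, 6, 34944⟩, .mul 123 124)) (.leaf (⟨0, 31, 61695, 1, 35013, 31, 43515⟩, .fill 4 1 4 [34944, 10795, 34944, 65536, 54904, 65536, 62212] 18 60672 [⟨262, 385, 755⟩, ⟨388, 390, 1256⟩] [⟨262, 336, 594⟩, ⟨302, 387, 314⟩])))) (.node (.node (.leaf (⟨1, 3, 21720, 0, 48312, 3, 34944⟩, .mul 44 42)) (.leaf (⟨0, 10, 64078, 1, 55170, 18, 32520⟩, .fill 4 7 10 [62212] 18 53376 [⟨262, 328, 317⟩, ⟨289, 306, 1151⟩, ⟨305, 299, 572⟩, ⟨178, 177, 1384⟩] []))) (.node (.leaf (⟨1, 12, 51371, 0, 39124, 12, 34944⟩, .sync ⟨200, 194, 1499⟩)) (.leaf (⟨0, 0, 34944, 0, 34944, 1, 34944⟩, .dfn))))) (.node (.node (.node (.leaf (⟨0, 1, 34659, 0, 34944, 3, 34944⟩, .dfn)) (.leaf (⟨1, 24, 34944, 0, 34944, 24, 34944⟩, .unit))) (.node (.leaf (⟨1,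 10, 59604, 0, 40169, 10, 34944⟩, .sync ⟨80, 165, 1074⟩)) (.leaf (⟨0, 0, 34944, 0, 34944, 1, 34944⟩, .dfn)))) (.node (.node (.leaf (⟨0, 3, 24069, 0, 22989, 5, 18206⟩, .inv 104)) (.leaf (⟨0, 29, 23476, 1, 27326, 18, 62212⟩, .fill 4 7 10 [62212] 18 34944 [⟨262, 328, 470⟩, ⟨287, 359, 124⟩, ⟨352, 353, 1131⟩, ⟨296, 354, 450⟩] []))) (.node (.leaf (⟨1, 14, 20943, 0, 39336, 14, 34944⟩, .mul 232 230)) (.leaf (⟨0, 0, 34944, 0, 34944, 1, 34944⟩, .dfn)))))) (.node (.node (.node (.node (.leaf (⟨0, 2, 34944, 1, 34944, 0, 34944⟩, .inv 24)) (.leaf (⟨0, 20, 34946, 0, 59560, 20, 22666⟩, .fill 0 0 2 [20621, 34946, 65536, 34946] 9 34944 [⟨164, 277, 0⟩] [⟨160, 277, 436⟩]))) (.node (.leaf (⟨1, 8, 21673, 0, 51341, 8, 34944⟩, .mul 148 147)) (.leaf (⟨0, 0, 34944, 0, 34944, 1, 34944⟩, .dfn)))) (.node (.node (.leaf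 (⟨1, 4, 39919, 0, 48340, 4, 34944⟩, .mul 79 78)) (.leaf (⟨0, 20, 14102, 0, 35029, 20, 11190⟩, .fill 4 5 10 [11191] 20 34945 [⟨282, 344, 8⟩, ⟨216, 309, 1179⟩, ⟨313, 314, 801⟩, ⟨311, 341, 1432⟩] []))) (.node (.leaf (⟨1, 13, 35040, 0, 51587, 13, 34944⟩, .mul 207 209)) (.leaf (⟨0, 0, 34944, 0, 34944, 1, 34944⟩, .dfn))))) (.node (.node (.node (.leaf (⟨1, 1, 48348, 0, 52396, 1, 34944⟩, .mul 13 7)) (.leaf (⟨1, 27, 34944, 0, 34944, 27, 34944⟩, .unit))) (.node (.leaf (⟨1, 4, 21391, 0, 29937, 4, 34944⟩, .mul 91 76)) (.leaf (⟨0, 0, 34944, 0, 34944, 1, 34944⟩, .dfn)))) (.node (.node (.leaf (⟨0, 2, 34944, 0, 34944, 6, 34944⟩, .dfn)) (.leaf (⟨0, 25, 18390, 1, 13625, 10, 14785⟩, .fill 4 3 2 [13813, 65536, 34944, 10795, 34944, 65536, 54904, 65536, 62212] 22 14624 [⟨289, 306, 85⟩] [⟨287, 359, 573⟩, ⟨352,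 351, 857⟩, ⟨305, 299, 1168⟩]))) (.node (.leaf (⟨0, 15, 45334, 0, 23725, 15, 52833⟩, .fill 4 1 6 [34944, 10795, 34944, 65536, 54904] 3 34946 [⟨66, 69, 494⟩, ⟨62, 239, 1464⟩, ⟨241, 248, 1270⟩] [⟨73, 239, 1453⟩])) (.leaf (⟨0, 0, 34944, 0, 34944, 1, 34944⟩, .dfn)))))))) (.node (.node (.node (.node (.node (.node (.leaf (⟨1, 1, 62617, 0, 30869, 1, 34944⟩, .sync ⟨4, 0, 761⟩)) (.leaf (⟨0, 8, 34944, 1, 34944, 18, 34944⟩, .dfn))) (.node (.leaf (⟨1, 6, 36053, 0, 35458, 6, 34944⟩, .mul 132 123)) (.leaf (⟨0, 31, 34772, 0, 22047, 31, 16025⟩, .fill 5 6 4 [20108, 65536, 13813, 65536, 34944, 10795, 34944] 10 43138 [⟨178, 378, 593⟩, ⟨305, 387, 304⟩] [⟨171, 298, 189⟩, ⟨302, 387, 1223⟩])))) (.node (.node (.leaf (⟨0, 3, 52435, 0, 44165, 3, 47243⟩, .fill 0 0 2 [20621, 34946, 65536, 34946] 1 34048 [⟨20, 41, 1068⟩]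 [⟨15, 41, 1258⟩])) (.leaf (⟨0, 22, 19976, 0, 47436, 28, 15694⟩, .inv 324))) (.node (.leaf (⟨1, 4, 20904, 0, 21645, 4, 34944⟩, .mul 196 76)) (.leaf (⟨0, 0, 34944, 0, 34944, 1, 34944⟩, .dfn))))) (.node (.node (.node (.leaf (⟨1, 2, 51623, 0, 39401, 2, 34944⟩, .mul 32 29)) (.leaf (⟨0, 14, 34944, 0, 34944, 24, 34944⟩, .dfn))) (.node (.leaf (⟨0, 4, 34944, 0, 34944, 10, 34944⟩, .dfn)) (.leaf (⟨0, 0, 34944, 0, 34944, 1, 34944⟩, .dfn)))) (.node (.node (.leaf (⟨1, 1, 39060, 0, 59544, 1, 34944⟩, .mul 100 3)) (.leaf (⟨0, 17, 50684, 1, 60256, 29, 18195⟩, .fill 4 3 2 [13813, 65536, 34944, 10795, 34944, 65536, 54904, 65536, 62212] 15 34056 [⟨247, 258, 857⟩] [⟨247, 268, 819⟩, ⟨266, 315, 711⟩, ⟨317, 356, 1156⟩]))) (.node (.leaf (⟨1, 6, 48340, 0, 39919, 6, 34944⟩, .mul 222 124)) (.leaf (⟨0, 0, 34944, 0,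 34944, 1, 34944⟩, .dfn)))))) (.node (.node (.node (.node (.leaf (⟨1, 0, 11087, 0, 11087, 0, 34944⟩, .base)) (.leaf (⟨0, 9, 34944, 0, 34944, 20, 34944⟩, .dfn))) (.node (.leaf (⟨1, 8, 20621, 0, 34972, 8, 34944⟩, .sync ⟨115, 146, 1070⟩)) (.leaf (⟨0, 0, 34944, 0, 34944, 1, 34944⟩, .dfn)))) (.node (.node (.leaf (⟨1, 4, 22924, 0, 22664, 4, 34944⟩, .mul 78 78)) (.leaf (⟨0, 27, 38717, 0, 22319, 20, 56837⟩, .fill 4 3 4 [13813, 65536, 34944, 10795, 34944, 65536, 54904] 19 51364 [⟨269, 315, 1091⟩, ⟨317, 340, 656⟩] [⟨269, 271, 692⟩, ⟨161, 277, 1249⟩]))) (.node (.leaf (⟨1, 13, 20704, 0, 35200, 13, 34944⟩, .sync ⟨212, 204, 1272⟩)) (.leaf (⟨0, 0, 34944, 0, 34944, 1, 34944⟩, .dfn))))) (.node (.node (.node (.leaf (⟨1, 1, 52392, 0, 40156, 1, 34944⟩, .mul 52 3)) (.leaf (⟨0, 13, 34659, 0, 34944, 27, 34944⟩,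 .dfn))) (.node (.leaf (⟨1, 11, 60597, 0, 60669, 11, 34944⟩, .sync ⟨76, 179, 156⟩)) (.leaf (⟨0, 0, 34944, 0, 34944, 1, 34944⟩, .dfn)))) (.node (.node (.leaf (⟨1, 5, 20608, 0, 44165, 5, 34944⟩, .mul 98 96)) (.leaf (⟨0, 25, 64092, 0, 43141, 12, 35456⟩, .inv 372))) (.node (.leaf (⟨0, 11, 50592, 0, 22768, 15, 24127⟩, .fill 4 5 4 [11191, 65536, 13813, 65536, 34944, 10795, 34944] 1 34944 [⟨20, 74, 0⟩, ⟨89, 179, 1384⟩] [⟨60, 41, 198⟩, ⟨62, 239, 215⟩])) (.leaf (⟨0, 0, 34944, 0, 34944, 1, 34944⟩, .dfn))))))) (.node (.node (.node (.node (.node (.leaf (⟨1, 1, 30869, 0, 62617, 1, 34944⟩, .mul 12 3)) (.leaf (⟨1, 19, 34944, 0, 34944, 19, 34944⟩, .unit))) (.node (.leaf (⟨1, 6, 51377, 0, 51624, 6, 34944⟩, .mul 140 129)) (.leaf (⟨0, 0, 34944, 0, 34944, 1, 34944⟩, .dfn)))) (.node (.node (.leaf (⟨1, 1, 22665,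 0, 53404, 1, 34944⟩, .mul 63 3)) (.leaf (⟨0, 18, 26454, 1, 34987, 18, 32636⟩, .fill 4 7 10 [62212] 18 53444 [⟨262, 328, 874⟩, ⟨289, 327, 1531⟩, ⟨262, 332, 1290⟩, ⟨201, 331, 1252⟩] []))) (.node (.leaf (⟨0, 13, 34944, 0, 34944, 6, 34659⟩, .inv 204)) (.leaf (⟨0, 0, 34944, 0, 34944, 1, 34944⟩, .dfn))))) (.node (.node (.node (.leaf (⟨1, 1, 59592, 0, 48297, 1, 34944⟩, .mul 14 5)) (.leaf (⟨1, 25, 35069, 0, 35029, 25, 34944⟩, .sync ⟨300, 298, 1352⟩))) (.node (.leaf (⟨1, 10, 40169, 0, 59604, 10, 34944⟩, .mul 172 168)) (.leaf (⟨0, 0, 34944, 0, 34944, 1, 34944⟩, .dfn)))) (.node (.node (.leaf (⟨1, 2, 23459, 0, 54147, 2, 34944⟩, .mul 32 31)) (.leaf (⟨0, 20, 54830, 1, 43241, 22, 50479⟩, .fill 4 1 4 [34944, 10795, 34944, 65536, 54904, 65536, 62212] 18 52358 [⟨262, 363, 470⟩, ⟨282, 281, 1448⟩] [⟨262, 334,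 1103⟩, ⟨262, 326, 749⟩]))) (.node (.leaf (⟨0, 14, 18077, 0, 23178, 13, 31317⟩, .inv 236)) (.leaf (⟨0, 0, 34944, 0, 34944, 1, 34944⟩, .dfn)))))) (.node (.node (.node (.node (.leaf (⟨1, 2, 23462, 0, 53704, 2, 34944⟩, .sync ⟨28, 24, 775⟩)) (.leaf (⟨1, 22, 39105, 0, 34984, 22, 34944⟩, .sync ⟨251, 283, 1158⟩))) (.node (.leaf (⟨1, 9, 35525, 0, 35977, 9, 34944⟩, .sync ⟨116, 156, 590⟩)) (.leaf (⟨0, 0, 34944, 0, 34944, 1, 34944⟩, .dfn)))) (.node (.node (.leaf (⟨0, 4, 34960, 1, 44269, 4, 21489⟩, .fill 2 0 2 [20705, 34960, 65537, 34960] 1 34944 [⟨20, 74, 0⟩] [⟨9, 74, 999⟩])) (.leaf (⟨0, 17, 34659, 0, 34944, 29, 34944⟩, .dfn))) (.node (.leaf (⟨1, 13, 34944, 0, 34944, 13, 34944⟩, .unit)) (.leaf (⟨0, 0, 34944, 0, 34944, 1, 34944⟩, .dfn))))) (.node (.node (.node (.leaf (⟨1, 3, 43221, 0, 44217, 3, 34944⟩,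 .mul 49 44)) (.leaf (⟨1, 28, 34944, 0, 34944, 28, 34944⟩, .unit))) (.node (.leaf (⟨1, 11, 35988, 0, 51361, 11, 34944⟩, .mul 181 183)) (.leaf (⟨0, 0, 34944, 0, 34944, 1, 34944⟩, .dfn)))) (.node (.node (.leaf (⟨1, 2, 51844, 0, 39818, 2, 34944⟩, .mul 33 29)) (.leaf (⟨1, 0, 50637, 0, 50637, 0, 34944⟩, .base))) (.node (.leaf (⟨0, 17, 34944, 0, 34944, 8, 34659⟩, .inv 252)) (.leaf (⟨0, 0, 34944, 0, 34944, 1, 34944⟩, .dfn))))))))) (.node (.node (.node (.node (.node (.node (.node (.leaf (⟨1, 1, 29872, 0, 21721, 1, 34944⟩, .sync ⟨2, 0, 1154⟩)) (.leaf (⟨0, 17, 40267, 0, 26117, 15, 26193⟩, .inv 258))) (.node (.leaf (⟨1, 6, 40169, 0, 39080, 6, 34944⟩, .mul 129 123)) (.leaf (⟨0, 25, 51584, 0, 45837, 31, 48731⟩, .inv 386)))) (.node (.node (.leaf (⟨1, 1, 54428, 0, 22657, 1, 34944⟩, .mul 8 3)) (.leaf (⟨0,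 19, 62257, 1, 35522, 28, 40828⟩, .fill 4 3 2 [13813, 65536, 34944, 10795, 34944, 65536, 54904, 65536, 62212] 15 42244 [⟨242, 268, 891⟩] [⟨247, 249, 535⟩, ⟨244, 268, 1322⟩, ⟨276, 315, 1366⟩]))) (.node (.leaf (⟨0, 12, 34944, 1, 34944, 4, 36710⟩, .inv 194)) (.leaf (⟨0, 0, 34944, 0, 34944, 1, 34944⟩, .dfn))))) (.node (.node (.node (.leaf (⟨1, 2, 54187, 0, 22661, 2, 34944⟩, .mul 34 29)) (.leaf (⟨1, 23, 39338, 0, 60628, 23, 34944⟩, .sync ⟨188, 290, 1371⟩))) (.node (.leaf (⟨1, 9, 51361, 0, 34985, 9, 34944⟩, .mul 162 159)) (.leaf (⟨0, 0, 34944, 0, 34944, 1, 34944⟩, .dfn)))) (.node (.node (.leaf (⟨1, 5, 35500, 0, 60585, 5, 34944⟩, .sync ⟨92, 95, 1027⟩)) (.leaf (⟨0, 29, 39139, 0, 12102, 28, 44376⟩, .fill 5 6 4 [20108, 65536, 13813, 65536, 34944, 10795, 34944] 13 59520 [⟨209, 347, 594⟩, ⟨305, 350,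 637⟩] [⟨215, 309, 507⟩, ⟨313, 322, 736⟩]))) (.node (.leaf (⟨1, 13, 35069, 0, 34985, 13, 34944⟩, .mul 214 213)) (.leaf (⟨0, 0, 34944, 0, 34944, 1, 34944⟩, .dfn)))))) (.node (.node (.node (.node (.leaf (⟨0, 1, 34946, 0, 31898, 1, 39050⟩, .fill 0 0 2 [20621, 34946, 65536, 34946] 0 34944 [⟨17, 0, 0⟩] [⟨18, 0, 512⟩])) (.leaf (⟨0, 19, 27150, 0, 52368, 19, 45506⟩, .fill 5 6 2 [20108, 65536, 13813, 65536, 34944, 10795, 34944, 65536, 54904] 8 34050 [⟨155, 263, 1195⟩] [⟨147, 252, 303⟩, ⟨260, 259, 247⟩, ⟨240, 268, 667⟩]))) (.node (.leaf (⟨1, 8, 29853, 0, 44165, 8, 34944⟩, .sync ⟨117, 146, 317⟩)) (.leaf (⟨0, 0, 34944, 0, 34944, 1, 34944⟩, .dfn)))) (.node (.node (.leaf (⟨1, 4, 54150, 0, 62640, 4, 34944⟩, .mul 80 76)) (.leaf (⟨0, 27, 62863, 1, 29477, 28, 61201⟩, .fill 4 1 4 [34944, 10795, 34944, 65536,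 54904, 65536, 62212] 19 51332 [⟨269, 315, 1476⟩, ⟨317, 321, 725⟩] [⟨269, 275, 431⟩, ⟨266, 315, 1499⟩]))) (.node (.leaf (⟨1, 6, 29921, 0, 21389, 6, 34944⟩, .mul 133 129)) (.leaf (⟨0, 0, 34944, 0, 34944, 1, 34944⟩, .dfn))))) (.node (.node (.node (.leaf (⟨1, 1, 44161, 0, 34972, 1, 34944⟩, .mul 50 7)) (.leaf (⟨1, 10, 59629, 0, 40125, 10, 34944⟩, .mul 171 168))) (.node (.leaf (⟨0, 4, 34659, 0, 34944, 11, 34944⟩, .dfn)) (.leaf (⟨0, 0, 34944, 0, 34944, 1, 34944⟩, .dfn)))) (.node (.node (.leaf (⟨1, 5, 20621, 0, 34972, 5, 34944⟩, .mul 99 96)) (.leaf (⟨0, 9, 27473, 1, 20732, 12, 62127⟩, .inv 370))) (.node (.leaf (⟨1, 15, 21716, 0, 48300, 15, 34944⟩, .mul 240 241)) (.leaf (⟨0, 0, 34944, 0, 34944, 1, 34944⟩, .dfn))))))) (.node (.node (.node (.node (.node (.leaf (⟨1, 1, 35981, 0, 44184, 1, 34944⟩, .mul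 7 3)) (.leaf (⟨1, 19, 35714, 0, 43136, 19, 34944⟩, .mul 265 265))) (.node (.leaf (⟨1, 6, 35013, 0, 35014, 6, 34944⟩, .mul 124 124)) (.leaf (⟨0, 0, 34944, 0, 34944, 1, 34944⟩, .dfn)))) (.node (.node (.leaf (⟨0, 4, 34944, 1, 34944, 1, 34944⟩, .inv 74)) (.leaf (⟨0, 12, 12064, 0, 53143, 18, 31261⟩, .fill 4 9 10 [54904] 18 53440 [⟨262, 328, 1385⟩, ⟨289, 284, 16⟩, ⟨190, 180, 441⟩, ⟨79, 194, 765⟩] []))) (.node (.leaf (⟨1, 12, 34944, 0, 34944, 12, 34944⟩, .unit)) (.leaf (⟨0, 0, 34944, 0, 34944, 1, 34944⟩, .dfn))))) (.node (.node (.node (.leaf (⟨1, 1, 59561, 0, 40128, 1, 34944⟩, .mul 5 3)) (.leaf (⟨0, 25, 34944, 0, 34944, 10, 34659⟩, .inv 298))) (.node (.leaf (⟨1, 10, 40148, 0, 59529, 10, 34944⟩, .mul 168 169)) (.leaf (⟨0, 0, 34944, 0, 34944, 1, 34944⟩, .dfn)))) (.node (.node (.leaf (⟨1, 5, 34944,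 0, 34944, 5, 34944⟩, .unit)) (.leaf (⟨0, 18, 35974, 0, 47444, 20, 61243⟩, .fill 4 7 0 [62212, 65537, 11191, 65536, 13813, 65536, 34944, 10795, 34944, 65536, 54904] 18 35974 [] [⟨262, 362, 1504⟩, ⟨352, 360, 607⟩, ⟨317, 321, 995⟩, ⟨311, 341, 62⟩]))) (.node (.leaf (⟨0, 14, 18080, 0, 11025, 8, 59929⟩, .fill 4 3 4 [13813, 65536, 34944, 10795, 34944, 65536, 54904] 2 34944 [⟨40, 121, 0⟩, ⟨123, 228, 1253⟩] [⟨37, 106, 793⟩, ⟨114, 146, 1222⟩])) (.leaf (⟨0, 0, 34944, 0, 34944, 1, 34944⟩, .dfn)))))) (.node (.node (.node (.node (.leaf (⟨1, 2, 35265, 0, 35266, 2, 34944⟩, .sync ⟨26, 24, 944⟩)) (.leaf (⟨0, 11, 13813, 0, 34944, 22, 34944⟩, .dfn))) (.node (.leaf (⟨1, 8, 34944, 0, 34944, 8, 34944⟩, .unit)) (.leaf (⟨0, 0, 34944, 0, 34944, 1, 34944⟩, .dfn)))) (.node (.node (.leaf (⟨1, 4, 22697, 0, 23688, 4,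 34944⟩, .mul 90 78)) (.leaf (⟨0, 13, 47283, 1, 63012, 25, 48106⟩, .inv 346))) (.node (.leaf (⟨0, 13, 44669, 1, 26153, 8, 26448⟩, .fill 4 1 4 [34944, 10795, 34944, 65536, 54904, 65536, 62212] 2 34944 [⟨40, 121, 0⟩, ⟨134, 204, 1015⟩] [⟨110, 106, 1488⟩, ⟨107, 146, 1322⟩])) (.leaf (⟨0, 0, 34944, 0, 34944, 1, 34944⟩, .dfn))))) (.node (.node (.node (.leaf (⟨1, 1, 44273, 0, 44273, 1, 34944⟩, .mul 7 7)) (.leaf (⟨0, 19, 34944, 0, 34944, 28, 34944⟩, .dfn))) (.node (.leaf (⟨1, 4, 52099, 0, 60628, 4, 34944⟩, .mul 186 78)) (.leaf (⟨0, 0, 34944, 0, 34944, 1, 34944⟩, .dfn)))) (.node (.node (.leaf (⟨1, 6, 62620, 0, 54187, 6, 34944⟩, .sync ⟨34, 121, 179⟩)) (.leaf (⟨0, 25, 35968, 1, 40179, 25, 34280⟩, .fill 2 0 0 [20705, 34960, 65537, 34960, 65537, 34960] 25 35968 [] [⟨305, 377, 900⟩, ⟨176, 378, 738⟩])))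 (.node (.leaf (⟨1, 11, 35969, 0, 34984, 11, 34944⟩, .mul 250 188)) (.leaf (⟨0, 0, 34944, 0, 34944, 1, 34944⟩, .dfn)))))))) (.node (.node (.node (.node (.node (.node (.leaf (⟨1, 1, 28877, 0, 21693, 1, 34944⟩, .sync ⟨6, 0, 172⟩)) (.leaf (⟨0, 8, 36710, 1, 34944, 19, 34944⟩, .dfn))) (.node (.leaf (⟨1, 6, 61600, 0, 53474, 6, 34944⟩, .mul 129 124)) (.leaf (⟨0, 25, 47704, 1, 11001, 31, 48111⟩, .fill 4 3 2 [13813, 65536, 34944, 10795, 34944, 65536, 54904, 65536, 62212] 10 34048 [⟨178, 298, 1068⟩] [⟨175, 298, 438⟩, ⟨301, 387, 134⟩, ⟨388, 390, 185⟩])))) (.node (.node (.leaf (⟨1, 3, 29932, 0, 39121, 3, 34944⟩, .mul 49 42)) (.leaf (⟨0, 22, 13656, 0, 18331, 18, 27187⟩, .inv 326))) (.node (.leaf (⟨1, 4, 20650, 0, 20649, 4, 34944⟩, .mul 198 76)) (.leaf (⟨0, 0, 34944, 0, 34944, 1, 34944⟩, .dfn))))) (.node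 (.node (.node (.leaf (⟨0, 2, 34960, 1, 52187, 2, 22708⟩, .fill 2 0 2 [20705, 34960, 65537, 34960] 0 34944 [⟨17, 24, 0⟩] [⟨38, 24, 68⟩])) (.leaf (⟨1, 24, 44284, 0, 35526, 24, 34944⟩, .mul 294 294))) (.node (.leaf (⟨1, 4, 22668, 0, 23740, 4, 34944⟩, .mul 88 78)) (.leaf (⟨0, 0, 34944, 0, 34944, 1, 34944⟩, .dfn)))) (.node (.node (.leaf (⟨1, 5, 21472, 0, 35996, 5, 34944⟩, .mul 96 98)) (.leaf (⟨0, 22, 54836, 0, 13679, 29, 31087⟩, .inv 358))) (.node (.leaf (⟨1, 14, 35203, 0, 35014, 14, 34944⟩, .sync ⟨139, 228, 783⟩)) (.leaf (⟨0, 0, 34944, 0, 34944, 1, 34944⟩, .dfn)))))) (.node (.node (.node (.node (.leaf (⟨1, 0, 54904, 0, 54904, 0, 34944⟩, .base)) (.leaf (⟨1, 20, 35013, 0, 51329, 20, 34944⟩, .sync ⟨158, 277, 496⟩))) (.node (.leaf (⟨1, 8, 34960, 0, 43136, 8, 34944⟩, .mul 148 148)) (.leaf (⟨0, 0,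 34944, 0, 34944, 1, 34944⟩, .dfn)))) (.node (.node (.leaf (⟨1, 4, 39850, 0, 48273, 4, 34944⟩, .mul 84 76)) (.leaf (⟨1, 20, 39041, 0, 51368, 20, 34944⟩, .mul 279 280))) (.node (.leaf (⟨1, 13, 29825, 0, 51368, 13, 34944⟩, .mul 210 213)) (.leaf (⟨0, 0, 34944, 0, 34944, 1, 34944⟩, .dfn))))) (.node (.node (.node (.leaf (⟨1, 1, 51401, 0, 48317, 1, 34944⟩, .mul 54 7)) (.leaf (⟨1, 27, 43193, 0, 51587, 27, 34944⟩, .sync ⟨217, 309, 1348⟩))) (.node (.leaf (⟨1, 11, 59553, 0, 36037, 11, 34944⟩, .sync ⟨182, 179, 1413⟩)) (.leaf (⟨0, 0, 34944, 0, 34944, 1, 34944⟩, .dfn)))) (.node (.node (.leaf (⟨1, 5, 35011, 0, 51329, 5, 34944⟩, .mul 114 102)) (.leaf (⟨0, 6, 23026, 1, 45026, 10, 48547⟩, .inv 374))) (.node (.leaf (⟨1, 15, 34944, 0, 34944, 15, 34944⟩, .unit)) (.leaf (⟨0, 0, 34944, 0, 34944, 1, 34944⟩, .dfn)))))))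 (.node (.node (.node (.node (.node (.leaf (⟨1, 1, 43164, 0, 44165, 1, 34944⟩, .mul 3 7)) (.leaf (⟨0, 19, 46040, 0, 34956, 9, 20256⟩, .inv 270))) (.node (.leaf (⟨0, 7, 34944, 1, 34944, 2, 36710⟩, .inv 142)) (.leaf (⟨0, 0, 34944, 0, 34944, 1, 34944⟩, .dfn)))) (.node (.node (.leaf (⟨1, 4, 21445, 0, 29865, 4, 34944⟩, .mul 76 78)) (.leaf (⟨0, 25, 47461, 0, 53179, 18, 64120⟩, .fill 4 9 10 [54904] 18 61572 [⟨262, 328, 1054⟩, ⟨289, 284, 1459⟩, ⟨192, 283, 1460⟩, ⟨289, 304, 626⟩] []))) (.node (.leaf (⟨1, 13, 29948, 0, 51329, 13, 34944⟩, .sync ⟨206, 204, 265⟩)) (.leaf (⟨0, 0, 34944, 0, 34944, 1, 34944⟩, .dfn))))) (.node (.node (.node (.leaf (⟨1, 1, 39140, 0, 60669, 1, 34944⟩, .mul 10 5)) (.leaf (⟨0, 25, 58961, 1, 28813, 22, 40757⟩, .fill 4 1 4 [34944, 10795, 34944, 65536, 54904, 65536, 62212] 4 34952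 [⟨94, 165, 278⟩, ⟨178, 298, 1281⟩] [⟨79, 179, 111⟩, ⟨192, 283, 1121⟩]))) (.node (.leaf (⟨1, 10, 20705, 0, 20705, 10, 34944⟩, .mul 169 168)) (.leaf (⟨0, 0, 34944, 0, 34944, 1, 34944⟩, .dfn)))) (.node (.node (.leaf (⟨1, 2, 23271, 0, 53386, 2, 34944⟩, .mul 29 27)) (.leaf (⟨0, 9, 58869, 0, 21697, 12, 34799⟩, .fill 4 3 6 [13813, 65536, 34944, 10795, 34944] 18 52384 [⟨262, 328, 602⟩, ⟨289, 366, 871⟩, ⟨282, 278, 815⟩] [⟨262, 332, 270⟩]))) (.node (.leaf (⟨0, 3, 34659, 0, 34944, 15, 34944⟩, .dfn)) (.leaf (⟨0, 0, 34944, 0, 34944, 1, 34944⟩, .dfn)))))) (.node (.node (.node (.node (.leaf (⟨1, 2, 51628, 0, 39855, 2, 34944⟩, .sync ⟨30, 24, 1355⟩)) (.leaf (⟨1, 22, 35012, 0, 51337, 22, 34944⟩, .mul 285 286))) (.node (.leaf (⟨1, 9, 52205, 0, 60577, 9, 34944⟩, .sync ⟨120, 156, 171⟩)) (.leaf (⟨0, 0, 34944,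 0, 34944, 1, 34944⟩, .dfn)))) (.node (.node (.leaf (⟨0, 1, 36710, 1, 34944, 5, 34944⟩, .dfn)) (.leaf (⟨0, 29, 60015, 0, 51876, 25, 43631⟩, .inv 350))) (.node (.leaf (⟨0, 13, 47462, 0, 18183, 8, 56901⟩, .fill 4 3 4 [13813, 65536, 34944, 10795, 34944, 65536, 54904] 5 51328 [⟨107, 146, 470⟩, ⟨152, 220, 1425⟩] [⟨107, 108, 432⟩, ⟨97, 146, 1500⟩])) (.leaf (⟨0, 0, 34944, 0, 34944, 1, 34944⟩, .dfn))))) (.node (.node (.node (.leaf (⟨1, 1, 47305, 0, 60597, 1, 34944⟩, .mul 58 5)) (.leaf (⟨0, 17, 58718, 0, 12102, 28, 44364⟩, .inv 318))) (.node (.leaf (⟨1, 11, 35976, 0, 43152, 11, 34944⟩, .mul 188 181)) (.leaf (⟨0, 0, 34944, 0, 34944, 1, 34944⟩, .dfn)))) (.node (.node (.leaf (⟨1, 2, 39305, 0, 51879, 2, 34944⟩, .mul 126 29)) (.leaf (⟨1, 0, 59854, 0, 59854, 0, 34944⟩, .base))) (.node (.leaf (⟨1, 17, 44284,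 0, 43136, 17, 34944⟩, .sync ⟨151, 252, 370⟩)) (.leaf (⟨0, 0, 34944, 0, 34944, 1, 34944⟩, .dfn)))))))))))

/-- definitions -/
def defsGood : List (ℕ × ℕ × ℕ) := [(0, 34944, 0), (0, 34944, 1), (1, 34659, 0), (1, 34944, 1), (1, 36710, 1), (2, 34944, 0), (2, 36710, 1), (5, 34944, 0), (5, 36710, 1), (4, 34944, 0), (4, 34659, 0), (4, 36710, 1), (6, 34659, 0), (6, 36710, 1), (3, 34659, 0), (7, 36710, 1), (8, 34659, 0), (8, 34944, 1), (8, 36710, 1), (9, 34944, 0), (9, 36710, 1), (11, 13813, 0), (11, 34944, 1), (14, 34944, 0), (10, 34659, 0), (12, 36710, 1), (13, 34659, 0), (19, 34944, 0), (17, 34659, 0), (17, 36710, 1), (18, 54904, 0)]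

/-- number of facts -/
def nGood : ℕ := 394

/-- walks of the targets -/
def witGood : List (List Wit) := [[⟨23, 0, 1058⟩, ⟨3, 74, 1382⟩, ⟨85, 165, 1483⟩, ⟨168, 378, 1018⟩, ⟨305, 379, 1048⟩, ⟨305, 377, 1395⟩, ⟨178, 166, 1158⟩, ⟨94, 75, 1266⟩, ⟨20, 1, 1225⟩, ⟨381, 24, 592⟩, ⟨40, 39, 9⟩, ⟨40, 25, 1211⟩],
  [⟨23, 0, 1058⟩, ⟨3, 74, 1382⟩, ⟨85, 165, 1483⟩, ⟨168, 378, 1018⟩, ⟨305, 379, 1048⟩, ⟨305, 377, 1395⟩, ⟨178, 166, 25⟩, ⟨94, 75, 1467⟩, ⟨20, 1, 1447⟩, ⟨382, 24, 435⟩, ⟨40, 39, 829⟩, ⟨40, 25, 1032⟩],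
  [⟨23, 0, 1058⟩, ⟨3, 74, 1382⟩, ⟨85, 165, 1483⟩, ⟨168, 378, 1018⟩, ⟨305, 379, 1048⟩, ⟨305, 377, 1395⟩, ⟨178, 166, 1437⟩, ⟨94, 75, 436⟩, ⟨20, 1, 533⟩, ⟨381, 24, 348⟩, ⟨40, 39, 387⟩, ⟨40, 25, 1501⟩],
  [⟨23, 0, 1058⟩, ⟨3, 74, 1382⟩, ⟨85, 165, 1483⟩, ⟨168, 378, 1018⟩, ⟨305, 379, 1048⟩, ⟨305, 377, 1395⟩, ⟨178, 166, 1303⟩, ⟨94, 93, 1266⟩, ⟨81, 165, 1407⟩, ⟨178, 378, 608⟩, ⟨305, 379, 811⟩, ⟨305, 377, 1032⟩, ⟨178, 166, 143⟩, ⟨94, 75, 1245⟩, ⟨20, 1, 1483⟩, ⟨381, 24, 985⟩, ⟨40, 39, 1446⟩, ⟨40, 25, 935⟩],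
  [⟨23, 0, 1058⟩, ⟨3, 74, 1382⟩, ⟨85, 165, 1483⟩, ⟨168, 378, 1018⟩, ⟨305, 379, 1048⟩, ⟨305, 377, 1395⟩, ⟨178, 166, 1456⟩, ⟨94, 93, 1488⟩, ⟨79, 165, 1484⟩, ⟨168, 378, 790⟩, ⟨305, 379, 1331⟩, ⟨305, 377, 999⟩, ⟨178, 166, 363⟩, ⟨94, 75, 1163⟩, ⟨20, 1, 1526⟩, ⟨382, 24, 106⟩, ⟨40, 39, 434⟩, ⟨40, 25, 1490⟩],
  [⟨23, 0, 1058⟩, ⟨3, 74, 1382⟩, ⟨85, 165, 1483⟩, ⟨168, 378, 1018⟩, ⟨305, 379, 1048⟩, ⟨305, 377, 1395⟩, ⟨178, 177, 11⟩, ⟨178, 376, 911⟩, ⟨178, 177, 1511⟩, ⟨178, 378, 737⟩, ⟨305, 379, 922⟩, ⟨305, 377, 409⟩, ⟨178, 166, 143⟩, ⟨94, 75, 1245⟩, ⟨20, 1, 1483⟩, ⟨381, 24, 985⟩, ⟨40, 39, 1446⟩, ⟨40, 25, 935⟩],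
  [⟨23, 0, 327⟩, ⟨15, 74, 1163⟩, ⟨94, 165, 1526⟩, ⟨348, 378, 295⟩, ⟨305, 379, 139⟩, ⟨305, 377, 722⟩, ⟨178, 166, 83⟩, ⟨85, 194, 760⟩, ⟨202, 372, 1526⟩, ⟨302, 391, 235⟩, ⟨388, 393, 737⟩, ⟨388, 392, 189⟩, ⟨305, 373, 635⟩, ⟨203, 369, 1287⟩, ⟨203, 372, 765⟩, ⟨308, 391, 537⟩, ⟨388, 393, 147⟩, ⟨388, 392, 1118⟩, ⟨305, 373, 1358⟩, ⟨203, 195, 1307⟩, ⟨81, 165, 54⟩, ⟨176, 378, 998⟩, ⟨305, 379, 221⟩, ⟨305, 377, 1376⟩, ⟨178, 166, 1173⟩, ⟨94, 75, 1105⟩, ⟨20, 1, 1087⟩, ⟨383, 24, 245⟩, ⟨40, 39, 689⟩, ⟨40, 25, 921⟩],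
  [⟨23, 0, 327⟩, ⟨15, 74, 1163⟩, ⟨94, 165, 1526⟩, ⟨348, 378, 295⟩, ⟨305, 379, 139⟩, ⟨305, 377, 722⟩, ⟨178, 177, 1199⟩, ⟨338, 378, 1229⟩, ⟨305, 299, 341⟩, ⟨176, 329, 962⟩, ⟨262, 333, 1102⟩, ⟨262, 330, 1435⟩, ⟨171, 298, 72⟩, ⟨305, 377, 655⟩, ⟨178, 177, 458⟩, ⟨348, 378, 144⟩, ⟨305, 379, 331⟩, ⟨305, 377, 292⟩, ⟨178, 166, 909⟩, ⟨94, 75, 1423⟩, ⟨20, 1, 1400⟩, ⟨383, 24, 908⟩, ⟨40, 39, 253⟩, ⟨40, 25, 725⟩],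
  [⟨23, 0, 1058⟩, ⟨3, 74, 1382⟩, ⟨85, 165, 1483⟩, ⟨168, 378, 1018⟩, ⟨305, 379, 1048⟩, ⟨305, 377, 1395⟩, ⟨178, 166, 807⟩, ⟨94, 75, 1488⟩, ⟨20, 19, 1225⟩, ⟨11, 74, 777⟩, ⟨94, 93, 1293⟩, ⟨94, 75, 1134⟩, ⟨20, 19, 875⟩, ⟨11, 74, 1461⟩, ⟨78, 165, 470⟩, ⟨348, 378, 1230⟩, ⟨305, 379, 1038⟩, ⟨305, 377, 1200⟩, ⟨178, 166, 913⟩, ⟨94, 75, 1430⟩, ⟨20, 1, 473⟩, ⟨382, 24, 1204⟩, ⟨40, 39, 106⟩, ⟨40, 25, 883⟩],
  [⟨23, 0, 1058⟩, ⟨3, 74, 1382⟩, ⟨85, 165, 1483⟩, ⟨168, 378, 1018⟩, ⟨305, 379, 1048⟩, ⟨305, 377, 1395⟩, ⟨178, 177, 57⟩, ⟨178, 374, 262⟩, ⟨138, 122, 1194⟩, ⟨27, 142, 648⟩, ⟨145, 144, 889⟩, ⟨145, 143, 604⟩, ⟨111, 121, 598⟩, ⟨384, 375, 675⟩, ⟨178, 177, 1207⟩, ⟨338, 378, 931⟩, ⟨305, 379, 1495⟩, ⟨305, 377, 710⟩, ⟨178, 166, 143⟩, ⟨94, 75, 1245⟩, ⟨20, 1, 1483⟩, ⟨381, 24, 985⟩, ⟨40, 39, 1446⟩, ⟨40, 25, 935⟩]]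

end CfsgLib.HeUnique
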