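import Cfsg.Agent.Lib.HeUnique.Cert

/-!
Relators and images of generators.
-/

set_option autoImplicit false
set_option linter.style.longLine false
set_option maxRecDepth 100000

namespace CfsgLib.HeUnique

/-- element -/
def qA : ℕ := 34946

/-- value of the cube -/
def cubeA : ℕ := 20621

/-- element -/
def qB : ℕ := 34960

/-- value of the cube -/
def cubeB : ℕ := 20705

/-- the loop -/
def loopW : List ℕ := [34944, 65536, 54904, 65536, 60004, 65537, 20108, 65536, 13813, 65536, 34944]

/-- its value -/
def loopC : ℕ := 10795

/-- the generators other than the fourth -/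
def sixW : List ℕ := [39622, 35039, 15953, 34945, 34993, 34948]

/-- the fourth generator -/
def dW : List ℕ := [53913, 65536, 65537, 65536, 65537, 52187, 65537, 52187, 65537]

/-- generators of the centralizer -/
def cWords : List (List ℕ × ℕ) := [([3, 4, 5, 3, 2, 3, 5, 4, 3], 21473), ([3, 4, 6, 3, 2, 3, 6, 4, 3], 10753)]

/-- the action of the loop: element, image, witnesses -/
def trackLoop : List (ℕ × ℕ × List ℕ) := [(34945, 34945, [8, 1030, 1037, 886, 777]), (34948, 34949, [1145, 1413, 944, 1269, 1527]), (34960, 35009, [777, 8, 1221, 127, 1164]), (35008, 34961, [1030, 1520, 1176, 1164, 193]), (35968, 39109, [45, 387, 1053, 1159, 1243]), (39040, 35989, [331, 1310, 1474, 415, 870])]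

/-- witnesses for the centre -/
def centreLoop : List ℕ := [8, 1030, 1037, 886, 777]

end CfsgLib.HeUnique
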