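import Cfsg.Agent.Lib.HeUnique.Cert

/-!
Tables of the automorphisms induced by the two involutions.
-/

set_option autoImplicit false
set_option linter.style.longLine false
set_option maxRecDepth 100000

namespace CfsgLib.HeUnique

/-- generators and images -/
def gensA : List (ℕ × ℕ) := [(53376, 31880), (34996, 44228), (59520, 40085)]

/-- the table -/
def tabA : Tree (ℕ × ℕ) :=
  (.node (.node (.node (.node (.node (.node (.node (.node (.node (.node (.node (.leaf (34944, 34944)) (.leaf (53489, 23793))) (.node (.leaf (52377, 39048)) (.leaf (34944, 34944)))) (.node (.node (.leaf (21653, 21636)) (.leaf (51425, 48361))) (.node (.leaf (28896, 20725)) (.leaf (34944, 34944))))) (.node (.node (.node (.leaf (47233, 51341)) (.leaf (43153, 34965))) (.node (.leaf (20712, 21745)) (.leaf (34944, 34944)))) (.node (.node (.leaf (52357, 48265)) (.leaf (20653, 28868))) (.node (.leaf (40189, 59620)) (.leaf (34944, 34944)))))) (.node (.node (.node (.node (.leaf (54400, 31872)) (.leaf (62673, 30881))) (.node (.leaf (31876,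 62592)) (.leaf (34944, 34944)))) (.node (.node (.leaf (59589, 39097)) (.leaf (20641, 21700))) (.node (.leaf (53457, 30893)) (.leaf (34944, 34944))))) (.node (.node (.node (.leaf (53444, 22716)) (.leaf (48325, 51389))) (.node (.leaf (60616, 48289)) (.leaf (34944, 34944)))) (.node (.node (.leaf (43240, 43240)) (.leaf (43216, 43197))) (.node (.leaf (53436, 31940)) (.leaf (34944, 34944))))))) (.node (.node (.node (.node (.node (.leaf (22657, 54428)) (.leaf (62685, 23713))) (.node (.leaf (30921, 62628)) (.leaf (34944, 34944)))) (.node (.node (.leaf (53469, 23725)) (.leaf (44216, 35016))) (.node (.leaf (61605, 30929)) (.leaf (34944, 34944))))) (.node (.node (.node (.leaf (44204, 43209)) (.leaf (44193, 36057))) (.node (.leaf (36012, 43213)) (.leaf (34944, 34944)))) (.node (.node (.leaf (21717, 20656)) (.leaf (43209, 44204))) (.node (.leaf (40101, 52428)) (.leaf (34944, 34944)))))) (.node (.node (.node (.node (.leaf (60644, 40181)) (.leaf (53488, 23777))) (.node (.leaf (52425, 48309)) (.leaf (34944, 34944))))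 (.node (.node (.leaf (21708, 21665)) (.leaf (62616, 30853))) (.node (.leaf (51380, 47317)) (.leaf (34944, 34944))))) (.node (.node (.node (.leaf (30908, 53440)) (.leaf (43248, 44265))) (.node (.leaf (30965, 61693)) (.leaf (34944, 34944)))) (.node (.node (.leaf (23796, 61665)) (.leaf (20656, 21717))) (.node (.leaf (44168, 35980)) (.leaf (34944, 34944)))))))) (.node (.node (.node (.node (.node (.node (.leaf (48312, 59609)) (.leaf (62633, 23769))) (.node (.leaf (48361, 51425)) (.leaf (34944, 34944)))) (.node (.node (.leaf (36033, 43168)) (.leaf (53493, 31985))) (.node (.leaf (40181, 60644)) (.leaf (34944, 34944))))) (.node (.node (.node (.leaf (54452, 30924)) (.leaf (43172, 44225))) (.node (.leaf (47237, 59533)) (.leaf (34944, 34944)))) (.node (.node (.leaf (61649, 30889)) (.leaf (39048, 52377))) (.node (.leaf (44265, 43248)) (.leaf (34944, 34944)))))) (.node (.node (.node (.node (.leaf (52352, 40089)) (.leaf (62664, 31920))) (.node (.leaf (54472, 31924)) (.leaf (34944, 34944)))) (.node (.node (.leaf (52460,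 39153)) (.leaf (52360, 39065))) (.node (.leaf (43149, 44180)) (.leaf (34944, 34944))))) (.node (.node (.node (.leaf (35969, 34968)) (.leaf (43237, 36088))) (.node (.leaf (52477, 39136)) (.leaf (34944, 34944)))) (.node (.node (.leaf (21645, 20613)) (.leaf (51336, 39057))) (.node (.leaf (54488, 31925)) (.leaf (34944, 34944))))))) (.node (.node (.node (.node (.node (.leaf (22729, 62624)) (.leaf (20613, 21645))) (.node (.leaf (54469, 22692)) (.leaf (34944, 34944)))) (.node (.node (.leaf (47313, 59572)) (.leaf (30896, 62656))) (.node (.leaf (30905, 61648)) (.leaf (34944, 34944))))) (.node (.node (.node (.leaf (40168, 51445)) (.leaf (61632, 30904))) (.node (.leaf (21745, 20712)) (.leaf (34944, 34944)))) (.node (.node (.leaf (29945, 21740)) (.leaf (59552, 39120))) (.node (.leaf (35992, 35977)) (.leaf (34944, 34944)))))) (.node (.node (.node (.node (.leaf (40164, 60661)) (.leaf (47236, 59549))) (.node (.leaf (21641, 28805)) (.leaf (34944, 34944)))) (.node (.node (.leaf (31916, 53449)) (.leaf (39052, 60569))) (.node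 (.leaf (60589, 48328)) (.leaf (34944, 34944))))) (.node (.node (.node (.leaf (21732, 28921)) (.leaf (51413, 39100))) (.node (.leaf (43256, 43241)) (.leaf (34944, 34944)))) (.node (.node (.leaf (34984, 35013)) (.leaf (39125, 51376))) (.node (.leaf (62677, 22689)) (.leaf (34944, 34944))))))))) (.node (.node (.node (.node (.node (.node (.node (.leaf (34945, 34960)) (.leaf (20732, 29936))) (.node (.leaf (21677, 28876)) (.leaf (34944, 34944)))) (.node (.node (.leaf (53464, 31933)) (.leaf (22736, 61617))) (.node (.leaf (48321, 59581)) (.leaf (34944, 34944))))) (.node (.node (.node (.leaf (31964, 54461)) (.leaf (39148, 59645))) (.node (.leaf (47329, 52457)) (.leaf (34944, 34944)))) (.node (.node (.leaf (30932, 53429)) (.leaf (20612, 21661))) (.node (.leaf (28837, 29888)) (.leaf (34944, 34944)))))) (.node (.node (.node (.node (.leaf (53468, 23741)) (.leaf (31913, 61657))) (.node (.leaf (44205, 43225)) (.leaf (34944, 34944)))) (.node (.node (.leaf (44165, 43164)) (.leaf (35069, 35069))) (.node (.leaf (60624, 47264))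 (.leaf (34944, 34944))))) (.node (.node (.node (.leaf (40093, 60544)) (.leaf (30852, 62600))) (.node (.leaf (47352, 51448)) (.leaf (34944, 34944)))) (.node (.node (.leaf (60653, 39141)) (.leaf (51401, 48317))) (.node (.leaf (48264, 52373)) (.leaf (34944, 34944))))))) (.node (.node (.node (.node (.node (.leaf (48257, 51333)) (.leaf (31992, 54501))) (.node (.leaf (30897, 62672)) (.leaf (34944, 34944)))) (.node (.node (.leaf (44284, 35041)) (.leaf (60564, 48284))) (.node (.leaf (29888, 28837)) (.leaf (34944, 34944))))) (.node (.node (.node (.leaf (35037, 36009)) (.leaf (40128, 59561))) (.node (.leaf (44200, 35017)) (.leaf (34944, 34944)))) (.node (.node (.leaf (44280, 43233)) (.leaf (44173, 44188))) (.node (.leaf (34965, 43153)) (.leaf (34944, 34944)))))) (.node (.node (.node (.node (.leaf (36020, 44236)) (.leaf (31917, 53465))) (.node (.leaf (44241, 43173)) (.leaf (34944, 34944)))) (.node (.node (.leaf (48376, 51440)) (.leaf (20688, 28840))) (.node (.leaf (43249, 44281)) (.leaf (34944, 34944))))) (.node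 (.node (.node (.leaf (29901, 21685)) (.leaf (43221, 34989))) (.node (.leaf (22764, 62696)) (.leaf (34944, 34944)))) (.node (.node (.leaf (48328, 60589)) (.leaf (39120, 59552))) (.node (.leaf (35017, 44200)) (.leaf (34944, 34944)))))))) (.node (.node (.node (.node (.node (.node (.leaf (28884, 20652)) (.leaf (54404, 23680))) (.node (.leaf (36081, 44277)) (.leaf (34944, 34944)))) (.node (.node (.leaf (54401, 31888)) (.leaf (30876, 61577))) (.node (.leaf (40089, 52352)) (.leaf (34944, 34944))))) (.node (.node (.node (.leaf (62592, 31876)) (.leaf (43157, 43157))) (.node (.leaf (62632, 23753)) (.leaf (34944, 34944)))) (.node (.node (.leaf (31960, 62653)) (.leaf (59561, 40128))) (.node (.leaf (30881, 62673)) (.leaf (34944, 34944)))))) (.node (.node (.node (.node (.leaf (22745, 62625)) (.leaf (62692, 31980))) (.node (.leaf (44233, 44196)) (.leaf (34944, 34944)))) (.node (.node (.leaf (44276, 36065)) (.leaf (62596, 23684))) (.node (.leaf (21681, 21709)) (.leaf (34944, 34944))))) (.node (.node (.node (.leaf (36061,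 36001)) (.leaf (36001, 36061))) (.node (.leaf (40173, 59621)) (.leaf (34944, 34944)))) (.node (.node (.leaf (48329, 60605)) (.leaf (48288, 60632))) (.node (.leaf (47256, 52380)) (.leaf (34944, 34944))))))) (.node (.node (.node (.node (.node (.leaf (28801, 29833)) (.leaf (39153, 52460))) (.node (.leaf (59605, 39096)) (.leaf (34944, 34944)))) (.node (.node (.leaf (59624, 47357)) (.leaf (51417, 48316))) (.node (.leaf (54485, 22693)) (.leaf (34944, 34944))))) (.node (.node (.node (.leaf (52472, 47344)) (.leaf (43165, 44181))) (.node (.leaf (48333, 52413)) (.leaf (34944, 34944)))) (.node (.node (.leaf (36029, 43228)) (.leaf (51357, 47232))) (.node (.leaf (29912, 29860)) (.leaf (34944, 34944)))))) (.node (.node (.node (.node (.leaf (48360, 51441)) (.leaf (61572, 23692))) (.node (.leaf (36084, 36069)) (.leaf (34944, 34944)))) (.node (.node (.leaf (40153, 60600)) (.leaf (39149, 59629))) (.node (.leaf (54465, 30884)) (.leaf (34944, 34944))))) (.node (.node (.node (.leaf (40145, 59576)) (.leaf (20721, 20704))) (.node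 (.leaf (43208, 44220)) (.leaf (34944, 34944)))) (.node (.node (.leaf (21752, 21752)) (.leaf (39145, 51437))) (.node (.leaf (62669, 23712)) (.leaf (34944, 34944)))))))))) (.node (.node (.node (.node (.node (.node (.node (.node (.leaf (22656, 54412)) (.leaf (20713, 21729))) (.node (.leaf (40073, 52353)) (.leaf (34944, 34944)))) (.node (.node (.leaf (29884, 28889)) (.leaf (20680, 29865))) (.node (.leaf (31969, 53492)) (.leaf (34944, 34944))))) (.node (.node (.node (.leaf (35005, 43220)) (.leaf (61576, 30860))) (.node (.leaf (36040, 44208)) (.leaf (34944, 34944)))) (.node (.node (.leaf (21724, 21664)) (.leaf (51381, 47301))) (.node (.leaf (48284, 60564)) (.leaf (34944, 34944)))))) (.node (.node (.node (.node (.leaf (31932, 53448)) (.leaf (39121, 59568))) (.node (.leaf (47304, 60581)) (.leaf (34944, 34944)))) (.node (.node (.leaf (54481, 30885)) (.leaf (35024, 43193))) (.node (.leaf (48368, 52464)) (.leaf (34944, 34944))))) (.node (.node (.node (.leaf (21737, 21737)) (.leaf (36016, 36044))) (.node (.leaf (28865,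 28861)) (.leaf (34944, 34944)))) (.node (.node (.leaf (36064, 44260)) (.leaf (51332, 48273))) (.node (.leaf (53401, 30873)) (.leaf (34944, 34944))))))) (.node (.node (.node (.node (.node (.leaf (35064, 43245)) (.leaf (48260, 59541))) (.node (.leaf (54425, 30865)) (.leaf (34944, 34944)))) (.node (.node (.leaf (54524, 30953)) (.leaf (29828, 21649))) (.node (.leaf (30945, 53500)) (.leaf (34944, 34944))))) (.node (.node (.node (.leaf (48364, 59633)) (.leaf (59536, 40084))) (.node (.leaf (47300, 51365)) (.leaf (34944, 34944)))) (.node (.node (.leaf (61636, 22712)) (.leaf (62681, 31905))) (.node (.leaf (61640, 31928)) (.leaf (34944, 34944)))))) (.node (.node (.node (.node (.leaf (29880, 20697)) (.leaf (36024, 35020))) (.node (.leaf (23689, 53396)) (.leaf (34944, 34944)))) (.node (.node (.leaf (48345, 60604)) (.leaf (31900, 61569))) (.node (.leaf (60612, 39073)) (.leaf (34944, 34944))))) (.node (.node (.node (.leaf (54492, 23733)) (.leaf (20669, 28869))) (.node (.leaf (53381, 23704)) (.leaf (34944, 34944))))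 (.node (.node (.leaf (48365, 59617)) (.leaf (20697, 29880))) (.node (.leaf (35045, 36092)) (.leaf (34944, 34944)))))))) (.node (.node (.node (.node (.node (.node (.leaf (53484, 30944)) (.leaf (47260, 60572))) (.node (.leaf (60656, 48372)) (.leaf (34944, 34944)))) (.node (.node (.leaf (31973, 61684)) (.leaf (43257, 43257))) (.node (.leaf (40176, 52468)) (.leaf (34944, 34944))))) (.node (.node (.node (.leaf (47340, 59641)) (.leaf (30913, 61604))) (.node (.leaf (62700, 30956)) (.leaf (34944, 34944)))) (.node (.node (.leaf (28861, 28865)) (.leaf (47280, 60625))) (.node (.leaf (40149, 51384)) (.leaf (34944, 34944)))))) (.node (.node (.node (.node (.leaf (22712, 61636)) (.leaf (62625, 22745))) (.node (.leaf (35068, 35053)) (.leaf (34944, 34944)))) (.node (.node (.leaf (23788, 62688)) (.leaf (20709, 28897))) (.node (.leaf (54489, 31909)) (.leaf (34944, 34944))))) (.node (.node (.node (.leaf (30920, 62644)) (.leaf (23749, 53416))) (.node (.leaf (22660, 62604)) (.leaf (34944, 34944)))) (.node (.node (.leaf (30853,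 62616)) (.leaf (43168, 36033))) (.node (.leaf (59616, 48381)) (.leaf (34944, 34944))))))) (.node (.node (.node (.node (.node (.leaf (48348, 52396)) (.leaf (31996, 62693))) (.node (.leaf (47240, 52381)) (.leaf (34944, 34944)))) (.node (.node (.leaf (22665, 53404)) (.leaf (48276, 59540))) (.node (.leaf (29925, 28909)) (.leaf (34944, 34944))))) (.node (.node (.node (.leaf (52412, 48349)) (.leaf (62701, 30972))) (.node (.leaf (48352, 52465)) (.leaf (34944, 34944)))) (.node (.node (.leaf (53388, 22664)) (.leaf (61685, 31989))) (.node (.leaf (36032, 43184)) (.leaf (34944, 34944)))))) (.node (.node (.node (.node (.leaf (21676, 28892)) (.leaf (61657, 31913))) (.node (.leaf (28877, 21693)) (.leaf (34944, 34944)))) (.node (.node (.leaf (21636, 21653)) (.leaf (62629, 30937))) (.node (.leaf (43217, 43181)) (.leaf (34944, 34944))))) (.node (.node (.node (.leaf (21701, 20657)) (.leaf (51409, 47292))) (.node (.leaf (44277, 36081)) (.leaf (34944, 34944)))) (.node (.node (.leaf (53392, 31881)) (.leaf (51440, 48376))) (.node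 (.leaf (23789, 62704)) (.leaf (34944, 34944))))))))) (.node (.node (.node (.node (.node (.node (.node (.leaf (22716, 53444)) (.leaf (62656, 30896))) (.node (.leaf (61692, 30949)) (.leaf (34944, 34944)))) (.node (.node (.leaf (35993, 35993)) (.leaf (31989, 61685))) (.node (.leaf (59565, 48320)) (.leaf (34944, 34944))))) (.node (.node (.node (.leaf (28849, 21697)) (.leaf (43176, 35009))) (.node (.leaf (21672, 20700)) (.leaf (34944, 34944)))) (.node (.node (.leaf (52421, 39093)) (.leaf (62680, 31921))) (.node (.leaf (40144, 59560)) (.leaf (34944, 34944)))))) (.node (.node (.node (.node (.leaf (22717, 53460)) (.leaf (20705, 20705))) (.node (.leaf (28833, 21696)) (.leaf (34944, 34944)))) (.node (.node (.leaf (62676, 22705)) (.leaf (62608, 31877))) (.node (.leaf (47309, 52405)) (.leaf (34944, 34944))))) (.node (.node (.node (.leaf (60633, 48304)) (.leaf (30928, 61621))) (.node (.leaf (47281, 60609)) (.leaf (34944, 34944)))) (.node (.node (.leaf (36017, 36060)) (.leaf (51385, 40133))) (.node (.leaf (29909, 20660))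 (.leaf (34944, 34944))))))) (.node (.node (.node (.node (.node (.leaf (60604, 48345)) (.leaf (39076, 52436))) (.node (.leaf (36085, 36085)) (.leaf (34944, 34944)))) (.node (.node (.leaf (44281, 43249)) (.leaf (48280, 52372))) (.node (.leaf (29836, 20625)) (.leaf (34944, 34944))))) (.node (.node (.node (.leaf (21693, 28877)) (.leaf (61596, 22669))) (.node (.leaf (62617, 30869)) (.leaf (34944, 34944)))) (.node (.node (.leaf (52401, 39117)) (.leaf (43233, 44280))) (.node (.leaf (60585, 40136)) (.leaf (34944, 34944)))))) (.node (.node (.node (.node (.leaf (22740, 53425)) (.leaf (28829, 20616))) (.node (.leaf (52361, 39049)) (.leaf (34944, 34944)))) (.node (.node (.leaf (28920, 21748)) (.leaf (39129, 60592))) (.node (.leaf (29833, 28801)) (.leaf (34944, 34944))))) (.node (.node (.node (.leaf (54436, 30925)) (.leaf (23801, 54513))) (.node (.leaf (62628, 30921)) (.leaf (34944, 34944)))) (.node (.node (.leaf (23748, 53432)) (.leaf (39088, 60629))) (.node (.leaf (44269, 35056)) (.leaf (34944, 34944)))))))) (.node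 (.node (.node (.node (.node (.node (.leaf (31872, 54400)) (.leaf (44261, 36080))) (.node (.leaf (36008, 35021)) (.leaf (34944, 34944)))) (.node (.node (.leaf (31933, 53464)) (.leaf (40080, 51344))) (.node (.leaf (21661, 20612)) (.leaf (34944, 34944))))) (.node (.node (.node (.leaf (47305, 60597)) (.leaf (54509, 30968))) (.node (.leaf (28841, 20672)) (.leaf (34944, 34944)))) (.node (.node (.leaf (34981, 44245)) (.leaf (30864, 54409))) (.node (.leaf (35057, 44285)) (.leaf (34944, 34944)))))) (.node (.node (.node (.node (.leaf (48313, 59593)) (.leaf (53456, 30909))) (.node (.leaf (39156, 60668)) (.leaf (34944, 34944)))) (.node (.node (.leaf (52396, 48348)) (.leaf (39117, 52401))) (.node (.leaf (61688, 22757)) (.leaf (34944, 34944))))) (.node (.node (.node (.leaf (22669, 61596)) (.leaf (61693, 30965))) (.node (.leaf (52373, 48264)) (.leaf (34944, 34944)))) (.node (.node (.leaf (30929, 61605)) (.leaf (51445, 40168))) (.node (.leaf (47292, 51409)) (.leaf (34944, 34944))))))) (.node (.node (.node (.node (.node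 (.leaf (31972, 61668)) (.leaf (40136, 60585))) (.node (.leaf (59641, 47340)) (.leaf (34944, 34944)))) (.node (.node (.leaf (23740, 53452)) (.leaf (20633, 28812))) (.node (.leaf (54437, 30941)) (.leaf (34944, 34944))))) (.node (.node (.node (.leaf (35065, 43261)) (.leaf (43169, 36049))) (.node (.leaf (60625, 47280)) (.leaf (34944, 34944)))) (.node (.node (.leaf (36069, 36084)) (.leaf (23696, 54405))) (.node (.leaf (35989, 43161)) (.leaf (34944, 34944)))))) (.node (.node (.node (.node (.leaf (60657, 48356)) (.leaf (30889, 61649))) (.node (.leaf (47245, 60557)) (.leaf (34944, 34944)))) (.node (.node (.leaf (52392, 40156)) (.leaf (20704, 20721))) (.node (.leaf (23709, 61589)) (.leaf (34944, 34944))))) (.node (.node (.node (.leaf (59644, 39164)) (.leaf (60560, 40092))) (.node (.leaf (53420, 31941)) (.leaf (34944, 34944)))) (.node (.node (.leaf (40076, 60561)) (.leaf (51352, 39056))) (.node (.leaf (22720, 61616)) (.leaf (34944, 34944))))))))))) (.node (.node (.node (.node (.node (.node (.node (.node (.node (.leaf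 (34996, 44228)) (.leaf (20657, 21701))) (.node (.leaf (61665, 23796)) (.leaf (34944, 34944)))) (.node (.node (.leaf (60581, 47304)) (.leaf (23685, 62612))) (.node (.leaf (47261, 60556)) (.leaf (34944, 34944))))) (.node (.node (.node (.leaf (31873, 54416)) (.leaf (21721, 29872))) (.node (.leaf (28876, 21677)) (.leaf (34944, 34944)))) (.node (.node (.leaf (61573, 23708)) (.leaf (51404, 40109))) (.node (.leaf (48272, 51348)) (.leaf (34944, 34944)))))) (.node (.node (.node (.node (.leaf (31928, 61640)) (.leaf (39053, 60553))) (.node (.leaf (44213, 44248)) (.leaf (34944, 34944)))) (.node (.node (.leaf (59564, 48336)) (.leaf (22680, 53389))) (.node (.leaf (43229, 36013)) (.leaf (34944, 34944))))) (.node (.node (.node (.leaf (59556, 47312)) (.leaf (54416, 31873))) (.node (.leaf (28845, 28864)) (.leaf (34944, 34944)))) (.node (.node (.leaf (29853, 20608)) (.leaf (35996, 44169))) (.node (.leaf (43241, 43256)) (.leaf (34944, 34944))))))) (.node (.node (.node (.node (.node (.leaf (40064, 51345)) (.leaf (44257, 44272)))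 (.node (.leaf (29857, 21704)) (.leaf (34944, 34944)))) (.node (.node (.leaf (54513, 23801)) (.leaf (61601, 22737))) (.node (.leaf (52452, 40177)) (.leaf (34944, 34944))))) (.node (.node (.node (.leaf (22780, 62697)) (.leaf (31885, 61584))) (.node (.leaf (20700, 21672)) (.leaf (34944, 34944)))) (.node (.node (.leaf (21712, 28832)) (.leaf (43200, 43196))) (.node (.leaf (22697, 61653)) (.leaf (34944, 34944)))))) (.node (.node (.node (.node (.leaf (60557, 47245)) (.leaf (36065, 44276))) (.node (.leaf (59613, 40120)) (.leaf (34944, 34944)))) (.node (.node (.leaf (48340, 51372)) (.leaf (44229, 34980))) (.node (.leaf (51436, 39161)) (.leaf (34944, 34944))))) (.node (.node (.node (.leaf (29924, 28925)) (.leaf (23744, 61624))) (.node (.leaf (61617, 22736)) (.leaf (34944, 34944)))) (.node (.node (.leaf (47332, 60665)) (.leaf (39056, 51352))) (.node (.leaf (53424, 22724)) (.leaf (34944, 34944)))))))) (.node (.node (.node (.node (.node (.node (.leaf (48308, 52441)) (.leaf (39097, 59589))) (.node (.leaf (60568, 39068))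 (.leaf (34944, 34944)))) (.node (.node (.leaf (47349, 60648)) (.leaf (52445, 40116))) (.node (.leaf (40092, 60560)) (.leaf (34944, 34944))))) (.node (.node (.node (.leaf (54456, 23756)) (.leaf (44224, 43188))) (.node (.leaf (39092, 52437)) (.leaf (34944, 34944)))) (.node (.node (.leaf (35052, 35052)) (.leaf (53449, 31916))) (.node (.leaf (30937, 62629)) (.leaf (34944, 34944)))))) (.node (.node (.node (.node (.leaf (61568, 31884)) (.leaf (39113, 60593))) (.node (.leaf (20692, 20648)) (.leaf (34944, 34944)))) (.node (.node (.leaf (59625, 47341)) (.leaf (53413, 30933))) (.node (.leaf (29929, 21741)) (.leaf (34944, 34944))))) (.node (.node (.node (.leaf (53429, 30932)) (.leaf (29840, 29840))) (.node (.leaf (61677, 30964)) (.leaf (34944, 34944)))) (.node (.node (.leaf (53480, 22752)) (.leaf (20645, 29892))) (.node (.leaf (21660, 20628)) (.leaf (34944, 34944))))))) (.node (.node (.node (.node (.node (.leaf (22700, 53445)) (.leaf (39080, 59604))) (.node (.leaf (31965, 54445)) (.leaf (34944, 34944)))) (.node (.node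 (.leaf (44169, 35996)) (.leaf (36093, 35061))) (.node (.leaf (30909, 53456)) (.leaf (34944, 34944))))) (.node (.node (.node (.leaf (40069, 59521)) (.leaf (61593, 30877))) (.node (.leaf (21668, 29916)) (.leaf (34944, 34944)))) (.node (.node (.leaf (36073, 43252)) (.leaf (34968, 35969))) (.node (.leaf (29872, 21721)) (.leaf (34944, 34944)))))) (.node (.node (.node (.node (.leaf (35020, 36024)) (.leaf (52416, 47269))) (.node (.leaf (48305, 60617)) (.leaf (34944, 34944)))) (.node (.node (.leaf (35041, 44284)) (.leaf (20717, 29921))) (.node (.leaf (30912, 61620)) (.leaf (34944, 34944))))) (.node (.node (.node (.leaf (59609, 48312)) (.leaf (51337, 39041))) (.node (.leaf (29928, 21757)) (.leaf (34944, 34944)))) (.node (.node (.leaf (40100, 52444)) (.leaf (51421, 40124))) (.node (.leaf (62717, 30973)) (.leaf (34944, 34944))))))))) (.node (.node (.node (.node (.node (.node (.node (.leaf (28800, 29849)) (.leaf (62697, 22780))) (.node (.leaf (21673, 20684)) (.leaf (34944, 34944)))) (.node (.node (.leaf (30964, 61677))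 (.leaf (47244, 60573))) (.node (.leaf (59557, 47296)) (.leaf (34944, 34944))))) (.node (.node (.node (.leaf (31961, 62637)) (.leaf (43201, 43180))) (.node (.leaf (39112, 60577)) (.leaf (34944, 34944)))) (.node (.node (.leaf (30936, 62645)) (.leaf (39073, 60612))) (.node (.leaf (21697, 28849)) (.leaf (34944, 34944)))))) (.node (.node (.node (.node (.leaf (35048, 43244)) (.leaf (20665, 20677))) (.node (.leaf (22781, 62713)) (.leaf (34944, 34944)))) (.node (.node (.leaf (62648, 23752)) (.leaf (54420, 23681))) (.node (.leaf (23697, 54421)) (.leaf (34944, 34944))))) (.node (.node (.node (.leaf (40177, 52452)) (.leaf (53453, 23724))) (.node (.leaf (31893, 62609)) (.leaf (34944, 34944)))) (.node (.node (.leaf (30861, 61592)) (.leaf (36037, 34976))) (.node (.leaf (30860, 61576)) (.leaf (34944, 34944))))))) (.node (.node (.node (.node (.node (.leaf (48269, 60549)) (.leaf (53405, 22681))) (.node (.leaf (36092, 35045)) (.leaf (34944, 34944)))) (.node (.node (.leaf (62660, 22704)) (.leaf (22777, 54521))) (.node (.leaf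 (36053, 34977)) (.leaf (34944, 34944))))) (.node (.node (.node (.leaf (28844, 28880)) (.leaf (22749, 54433))) (.node (.leaf (62708, 31981)) (.leaf (34944, 34944)))) (.node (.node (.leaf (61597, 22685)) (.leaf (62688, 23788))) (.node (.leaf (60608, 47265)) (.leaf (34944, 34944)))))) (.node (.node (.node (.node (.leaf (60648, 47349)) (.leaf (35040, 44268))) (.node (.leaf (62601, 30868)) (.leaf (34944, 34944)))) (.node (.node (.leaf (48296, 59608)) (.leaf (20677, 20665))) (.node (.leaf (20684, 21673)) (.leaf (34944, 34944))))) (.node (.node (.node (.leaf (29864, 20696)) (.leaf (51341, 47233))) (.node (.leaf (21709, 21681)) (.leaf (34944, 34944)))) (.node (.node (.leaf (54520, 22761)) (.leaf (62624, 22729))) (.node (.leaf (54480, 30901)) (.leaf (34944, 34944)))))))) (.node (.node (.node (.node (.node (.node (.leaf (47232, 51357)) (.leaf (20617, 28813))) (.node (.leaf (29896, 29861)) (.leaf (34944, 34944)))) (.node (.node (.leaf (31929, 61656)) (.leaf (44240, 43189))) (.node (.leaf (21684, 29917)) (.leaf (34944,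 34944))))) (.node (.node (.node (.leaf (44252, 36021)) (.leaf (35013, 34984))) (.node (.leaf (52433, 47284)) (.leaf (34944, 34944)))) (.node (.node (.leaf (35012, 35000)) (.leaf (21705, 29873))) (.node (.leaf (61577, 30876)) (.leaf (34944, 34944)))))) (.node (.node (.node (.node (.leaf (40104, 59612)) (.leaf (29876, 29913))) (.node (.leaf (44192, 36041)) (.leaf (34944, 34944)))) (.node (.node (.leaf (62668, 23728)) (.leaf (39093, 52421))) (.node (.leaf (60613, 39089)) (.leaf (34944, 34944))))) (.node (.node (.node (.leaf (60593, 39113)) (.leaf (43140, 43140))) (.node (.leaf (21729, 20713)) (.leaf (34944, 34944)))) (.node (.node (.leaf (48292, 52440)) (.leaf (23712, 62669))) (.node (.leaf (44285, 35057)) (.leaf (34944, 34944))))))) (.node (.node (.node (.node (.node (.leaf (47348, 60664)) (.leaf (62613, 23701))) (.node (.leaf (23681, 54420)) (.leaf (34944, 34944)))) (.node (.node (.leaf (23764, 53433)) (.leaf (43205, 34988))) (.node (.leaf (29865, 20680)) (.leaf (34944, 34944))))) (.node (.node (.node (.leaf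 (61672, 22756)) (.leaf (30900, 54464))) (.node (.leaf (48320, 59565)) (.leaf (34944, 34944)))) (.node (.node (.leaf (29941, 28908)) (.leaf (43156, 43141))) (.node (.leaf (29936, 20732)) (.leaf (34944, 34944)))))) (.node (.node (.node (.node (.leaf (60569, 39052)) (.leaf (30933, 53413))) (.node (.leaf (20708, 28913)) (.leaf (34944, 34944)))) (.node (.node (.leaf (52417, 47285)) (.leaf (53380, 23688))) (.node (.leaf (23800, 54497)) (.leaf (34944, 34944))))) (.node (.node (.node (.leaf (40124, 51421)) (.leaf (30857, 53400))) (.node (.leaf (40161, 52453)) (.leaf (34944, 34944)))) (.node (.node (.leaf (21757, 29928)) (.leaf (51348, 48272))) (.node (.leaf (52397, 48332)) (.leaf (34944, 34944)))))))))) (.node (.node (.node (.node (.node (.node (.node (.node (.leaf (48256, 51349)) (.leaf (35008, 43192))) (.node (.leaf (59585, 47289)) (.leaf (34944, 34944)))) (.node (.node (.leaf (36044, 36016)) (.leaf (20637, 20620))) (.node (.leaf (28813, 20617)) (.leaf (34944, 34944))))) (.node (.node (.node (.leaf (54468, 22708))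 (.leaf (59569, 39105))) (.node (.leaf (20648, 20692)) (.leaf (34944, 34944)))) (.node (.node (.leaf (21748, 28920)) (.leaf (31888, 54401))) (.node (.leaf (28864, 28845)) (.leaf (34944, 34944)))))) (.node (.node (.node (.node (.leaf (28900, 28917)) (.leaf (39160, 51452))) (.node (.leaf (47269, 52416)) (.leaf (34944, 34944)))) (.node (.node (.leaf (44268, 35040)) (.leaf (54473, 31908))) (.node (.leaf (43204, 35004)) (.leaf (34944, 34944))))) (.node (.node (.node (.leaf (21740, 29945)) (.leaf (22704, 62660))) (.node (.leaf (28836, 29904)) (.leaf (34944, 34944)))) (.node (.node (.leaf (54417, 31889)) (.leaf (51408, 47276))) (.node (.leaf (23705, 53397)) (.leaf (34944, 34944))))))) (.node (.node (.node (.node (.node (.leaf (21736, 21753)) (.leaf (53437, 31956))) (.node (.leaf (60561, 40076)) (.leaf (34944, 34944)))) (.node (.node (.leaf (47257, 52364)) (.leaf (36080, 44261))) (.node (.leaf (34964, 43137)) (.leaf (34944, 34944))))) (.node (.node (.node (.leaf (48332, 52397)) (.leaf (59544, 39060))) (.node (.leaf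 (44225, 43172)) (.leaf (34944, 34944)))) (.node (.node (.leaf (22748, 54449)) (.leaf (59532, 47253))) (.node (.leaf (40097, 60620)) (.leaf (34944, 34944)))))) (.node (.node (.node (.node (.leaf (29916, 21668)) (.leaf (60573, 47244))) (.node (.leaf (59633, 48364)) (.leaf (34944, 34944)))) (.node (.node (.leaf (48373, 60640)) (.leaf (20616, 28829))) (.node (.leaf (43161, 35989)) (.leaf (34944, 34944))))) (.node (.node (.node (.leaf (54484, 22709)) (.leaf (29844, 21648))) (.node (.leaf (59525, 48261)) (.leaf (34944, 34944)))) (.node (.node (.leaf (43236, 36072)) (.leaf (20624, 29852))) (.node (.leaf (54412, 22656)) (.leaf (34944, 34944)))))))) (.node (.node (.node (.node (.node (.node (.leaf (34997, 44244)) (.leaf (35053, 35068))) (.node (.leaf (29829, 21633)) (.leaf (34944, 34944)))) (.node (.node (.leaf (34952, 35968)) (.leaf (61669, 31988))) (.node (.leaf (52449, 48353)) (.leaf (34944, 34944))))) (.node (.node (.node (.leaf (44248, 44213)) (.leaf (43260, 35049))) (.node (.leaf (62661, 22688)) (.leaf (34944,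 34944)))) (.node (.node (.leaf (47272, 59600)) (.leaf (53408, 22725))) (.node (.leaf (34992, 36036)) (.leaf (34944, 34944)))))) (.node (.node (.node (.node (.leaf (59592, 48297)) (.leaf (62600, 30852))) (.node (.leaf (54421, 23697)) (.leaf (34944, 34944)))) (.node (.node (.leaf (59588, 39081)) (.leaf (20649, 20676))) (.node (.leaf (35001, 35028)) (.leaf (34944, 34944))))) (.node (.node (.node (.leaf (36052, 34993)) (.leaf (34985, 35029))) (.node (.leaf (61621, 30928)) (.leaf (34944, 34944)))) (.node (.node (.leaf (51328, 40081)) (.leaf (61588, 23693))) (.node (.leaf (23781, 61680)) (.leaf (34944, 34944))))))) (.node (.node (.node (.node (.node (.leaf (48337, 59580)) (.leaf (20625, 29836))) (.node (.leaf (31880, 53376)) (.leaf (34944, 34944)))) (.node (.node (.leaf (48265, 52357)) (.leaf (48277, 59524))) (.node (.leaf (54493, 23717)) (.leaf (34944, 34944))))) (.node (.node (.node (.leaf (61620, 30912)) (.leaf (22685, 61597))) (.node (.leaf (60665, 47332)) (.leaf (34944, 34944)))) (.node (.node (.leaf (30849,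 54424)) (.leaf (62665, 31904))) (.node (.leaf (48261, 59525)) (.leaf (34944, 34944)))))) (.node (.node (.node (.node (.leaf (48357, 60641)) (.leaf (52356, 48281))) (.node (.leaf (28840, 20688)) (.leaf (34944, 34944)))) (.node (.node (.leaf (40117, 52429)) (.leaf (39101, 51397))) (.node (.leaf (43192, 35008)) (.leaf (34944, 34944))))) (.node (.node (.node (.leaf (21696, 28833)) (.leaf (51345, 40064))) (.node (.leaf (30972, 62701)) (.leaf (34944, 34944)))) (.node (.node (.leaf (28921, 21732)) (.leaf (51405, 40125))) (.node (.leaf (47248, 51356)) (.leaf (34944, 34944))))))))) (.node (.node (.node (.node (.node (.node (.node (.leaf (22744, 62641)) (.leaf (47344, 52472))) (.node (.leaf (22677, 62621)) (.leaf (34944, 34944)))) (.node (.node (.leaf (29873, 21705)) (.leaf (28828, 20632))) (.node (.leaf (28825, 28808)) (.leaf (34944, 34944))))) (.node (.node (.node (.leaf (53385, 30872)) (.leaf (43213, 36012))) (.node (.leaf (62597, 23700)) (.leaf (34944, 34944)))) (.node (.node (.leaf (61660, 23737)) (.leaf (51433,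 47337))) (.node (.leaf (22733, 54432)) (.leaf (34944, 34944)))))) (.node (.node (.node (.node (.leaf (40156, 52392)) (.leaf (62605, 22676))) (.node (.leaf (35025, 43177)) (.leaf (34944, 34944)))) (.node (.node (.leaf (62716, 30957)) (.leaf (23688, 53380))) (.node (.leaf (48341, 51388)) (.leaf (34944, 34944))))) (.node (.node (.node (.leaf (29825, 29825)) (.leaf (54501, 31992))) (.node (.leaf (31937, 61612)) (.leaf (34944, 34944)))) (.node (.node (.leaf (34957, 44176)) (.leaf (51424, 48377))) (.node (.leaf (36041, 44192)) (.leaf (34944, 34944))))))) (.node (.node (.node (.node (.node (.leaf (60628, 39072)) (.leaf (20621, 20621))) (.node (.leaf (21665, 21708)) (.leaf (34944, 34944)))) (.node (.node (.leaf (47293, 51393)) (.leaf (30872, 53385))) (.node (.leaf (35980, 44168)) (.leaf (34944, 34944))))) (.node (.node (.node (.leaf (21689, 20685)) (.leaf (52400, 39133))) (.node (.leaf (44228, 34996)) (.leaf (34944, 34944)))) (.node (.node (.leaf (61633, 30888)) (.leaf (51349, 48256))) (.node (.leaf (29949, 29932))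 (.leaf (34944, 34944)))))) (.node (.node (.node (.node (.leaf (22773, 61689)) (.leaf (59576, 40145))) (.node (.leaf (28853, 29889)) (.leaf (34944, 34944)))) (.node (.node (.leaf (47308, 52389)) (.leaf (39152, 52476))) (.node (.leaf (20676, 20649)) (.leaf (34944, 34944))))) (.node (.node (.node (.leaf (35060, 36077)) (.leaf (21640, 28821))) (.node (.leaf (30952, 54508)) (.leaf (34944, 34944)))) (.node (.node (.leaf (60641, 48357)) (.leaf (39136, 52477))) (.node (.leaf (44164, 43148)) (.leaf (34944, 34944)))))))) (.node (.node (.node (.node (.node (.node (.leaf (35004, 43204)) (.leaf (28812, 20633))) (.node (.leaf (48316, 51417)) (.leaf (34944, 34944)))) (.node (.node (.leaf (28901, 28901)) (.leaf (40084, 59536))) (.node (.leaf (44189, 44189)) (.leaf (34944, 34944))))) (.node (.node (.node (.leaf (47268, 52432)) (.leaf (28889, 29884))) (.node (.leaf (23737, 61660)) (.leaf (34944, 34944)))) (.node (.node (.leaf (28868, 20653)) (.leaf (43253, 36089))) (.node (.leaf (40141, 52409)) (.leaf (34944, 34944))))))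 (.node (.node (.node (.node (.leaf (48309, 52425)) (.leaf (60552, 39069))) (.node (.leaf (52369, 40072)) (.leaf (34944, 34944)))) (.node (.node (.leaf (28897, 20709)) (.leaf (23760, 61625))) (.node (.leaf (51432, 47353)) (.leaf (34944, 34944))))) (.node (.node (.node (.leaf (30904, 61632)) (.leaf (51428, 40185))) (.node (.leaf (43212, 36028)) (.leaf (34944, 34944)))) (.node (.node (.leaf (54500, 31976)) (.leaf (20632, 28828))) (.node (.leaf (47312, 59556)) (.leaf (34944, 34944))))))) (.node (.node (.node (.node (.node (.leaf (34953, 35984)) (.leaf (62653, 31960))) (.node (.leaf (54505, 22776)) (.leaf (34944, 34944)))) (.node (.node (.leaf (23768, 62649)) (.leaf (23772, 54457))) (.node (.leaf (22761, 54520)) (.leaf (34944, 34944))))) (.node (.node (.node (.leaf (28904, 21749)) (.leaf (59540, 48276))) (.node (.leaf (53448, 31932)) (.leaf (34944, 34944)))) (.node (.node (.leaf (48353, 52449)) (.leaf (43160, 35973))) (.node (.leaf (35000, 35012)) (.leaf (34944, 34944)))))) (.node (.node (.node (.node (.leaf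 (28885, 20668)) (.leaf (30880, 62657))) (.node (.leaf (20668, 28885)) (.leaf (34944, 34944)))) (.node (.node (.leaf (30892, 53441)) (.leaf (39069, 60552))) (.node (.leaf (59560, 40144)) (.leaf (34944, 34944))))) (.node (.node (.node (.leaf (21649, 29828)) (.leaf (51389, 48325))) (.node (.leaf (47325, 52404)) (.leaf (34944, 34944)))) (.node (.node (.leaf (40160, 52469)) (.leaf (20640, 21716))) (.node (.leaf (28824, 28824)) (.leaf (34944, 34944)))))))))))) (.node (.node (.node (.node (.node (.node (.node (.node (.node (.node (.leaf (53376, 31880)) (.leaf (23692, 61572))) (.node (.leaf (52465, 48352)) (.leaf (34944, 34944)))) (.node (.node (.leaf (48349, 52412)) (.leaf (51384, 40149))) (.node (.leaf (35056, 44269)) (.leaf (34944, 34944))))) (.node (.node (.node (.leaf (28857, 20673)) (.leaf (43189, 44240))) (.node (.leaf (35061, 36093)) (.leaf (34944, 34944)))) (.node (.node (.leaf (40113, 60621)) (.leaf (39137, 52461))) (.node (.leaf (22765, 62712)) (.leaf (34944, 34944)))))) (.node (.node (.node (.node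 (.leaf (47320, 60580)) (.leaf (54405, 23696))) (.node (.leaf (62593, 31892)) (.leaf (34944, 34944)))) (.node (.node (.leaf (35016, 44216)) (.leaf (40088, 52368))) (.node (.leaf (43185, 36048)) (.leaf (34944, 34944))))) (.node (.node (.node (.leaf (34961, 34961)) (.leaf (29852, 20624))) (.node (.leaf (48285, 60548)) (.leaf (34944, 34944)))) (.node (.node (.leaf (48324, 51373)) (.leaf (20725, 28896))) (.node (.leaf (30960, 53485)) (.leaf (34944, 34944))))))) (.node (.node (.node (.node (.node (.leaf (21692, 28893)) (.leaf (62709, 31997))) (.node (.leaf (48281, 52356)) (.leaf (34944, 34944)))) (.node (.node (.leaf (59617, 48365)) (.leaf (61680, 23781))) (.node (.leaf (52364, 47257)) (.leaf (34944, 34944))))) (.node (.node (.node (.leaf (31953, 61613)) (.leaf (47328, 52473))) (.node (.leaf (23761, 61609)) (.leaf (34944, 34944)))) (.node (.node (.leaf (40105, 59596)) (.leaf (30868, 62601))) (.node (.leaf (40137, 60601)) (.leaf (34944, 34944)))))) (.node (.node (.node (.node (.leaf (36072, 43236)) (.leaf (29937,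 20716))) (.node (.leaf (47273, 59584)) (.leaf (34944, 34944)))) (.node (.node (.leaf (22692, 54469)) (.leaf (62640, 22728))) (.node (.leaf (51388, 48341)) (.leaf (34944, 34944))))) (.node (.node (.node (.leaf (48380, 59632)) (.leaf (51444, 40184))) (.node (.leaf (52409, 40141)) (.leaf (34944, 34944)))) (.node (.node (.leaf (54508, 30952)) (.leaf (20733, 29920))) (.node (.leaf (22664, 53388)) (.leaf (34944, 34944)))))))) (.node (.node (.node (.node (.node (.node (.leaf (60544, 40093)) (.leaf (39057, 51336))) (.node (.leaf (29893, 20661)) (.leaf (34944, 34944)))) (.node (.node (.leaf (22689, 62677)) (.leaf (52376, 39064))) (.node (.leaf (21741, 29929)) (.leaf (34944, 34944))))) (.node (.node (.node (.leaf (23680, 54404)) (.leaf (62645, 30936))) (.node (.leaf (39096, 59605)) (.leaf (34944, 34944)))) (.node (.node (.leaf (53496, 22753)) (.leaf (39044, 59545))) (.node (.leaf (61580, 22668)) (.leaf (34944, 34944)))))) (.node (.node (.node (.node (.leaf (40116, 52445)) (.leaf (39108, 51361))) (.node (.leaf (23769,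 62633)) (.leaf (34944, 34944)))) (.node (.node (.leaf (47324, 52388)) (.leaf (31941, 53420))) (.node (.leaf (48369, 52448)) (.leaf (34944, 34944))))) (.node (.node (.node (.leaf (60629, 39088)) (.leaf (30969, 54525))) (.node (.leaf (40169, 51429)) (.leaf (34944, 34944)))) (.node (.node (.leaf (60664, 47348)) (.leaf (61600, 22721))) (.node (.leaf (34972, 44161)) (.leaf (34944, 34944))))))) (.node (.node (.node (.node (.node (.leaf (21700, 20641)) (.leaf (39128, 60576))) (.node (.leaf (47277, 51392)) (.leaf (34944, 34944)))) (.node (.node (.leaf (31921, 62680)) (.leaf (29933, 29933))) (.node (.leaf (43137, 34964)) (.leaf (34944, 34944))))) (.node (.node (.node (.leaf (61676, 30948)) (.leaf (34976, 36037))) (.node (.leaf (22681, 53405)) (.leaf (34944, 34944)))) (.node (.node (.leaf (60645, 40165)) (.leaf (44256, 44256))) (.node (.leaf (35984, 34953)) (.leaf (34944, 34944)))))) (.node (.node (.node (.node (.leaf (21756, 29944)) (.leaf (53400, 30857))) (.node (.leaf (22737, 61601)) (.leaf (34944, 34944))))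 (.node (.node (.leaf (28913, 20708)) (.leaf (31949, 54444))) (.node (.leaf (43197, 43216)) (.leaf (34944, 34944))))) (.node (.node (.node (.leaf (53417, 23765)) (.leaf (51333, 48257))) (.node (.leaf (30948, 61676)) (.leaf (34944, 34944)))) (.node (.node (.leaf (21720, 29856)) (.leaf (62620, 22661))) (.node (.leaf (52405, 47309)) (.leaf (34944, 34944))))))))) (.node (.node (.node (.node (.node (.node (.node (.leaf (59572, 47313)) (.leaf (39100, 51413))) (.node (.leaf (40081, 51328)) (.leaf (34944, 34944)))) (.node (.node (.leaf (29948, 29948)) (.leaf (53404, 22665))) (.node (.leaf (34960, 34945)) (.leaf (34944, 34944))))) (.node (.node (.node (.leaf (44196, 44233)) (.leaf (62621, 22677))) (.node (.leaf (62657, 30880)) (.leaf (34944, 34944)))) (.node (.node (.leaf (61581, 22684)) (.leaf (36000, 36045))) (.node (.leaf (35029, 34985)) (.leaf (34944, 34944)))))) (.node (.node (.node (.node (.leaf (53500, 30945)) (.leaf (23684, 62596))) (.node (.leaf (31952, 61629)) (.leaf (34944, 34944)))) (.node (.node (.leaf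 (28805, 21641)) (.leaf (23757, 54440))) (.node (.leaf (20728, 21744)) (.leaf (34944, 34944))))) (.node (.node (.node (.leaf (61608, 23745)) (.leaf (51329, 40065))) (.node (.leaf (47253, 59532)) (.leaf (34944, 34944)))) (.node (.node (.leaf (29877, 29897)) (.leaf (20720, 20720))) (.node (.leaf (30856, 53384)) (.leaf (34944, 34944))))))) (.node (.node (.node (.node (.node (.leaf (60632, 48288)) (.leaf (31912, 61641))) (.node (.leaf (29932, 29949)) (.leaf (34944, 34944)))) (.node (.node (.leaf (31968, 53476)) (.leaf (36009, 35037))) (.node (.leaf (29861, 29896)) (.leaf (34944, 34944))))) (.node (.node (.node (.leaf (59608, 48296)) (.leaf (40109, 51404))) (.node (.leaf (28888, 29868)) (.leaf (34944, 34944)))) (.node (.node (.leaf (52381, 47240)) (.leaf (51453, 39144))) (.node (.leaf (29885, 28873)) (.leaf (34944, 34944)))))) (.node (.node (.node (.node (.leaf (29940, 28924)) (.leaf (28912, 20724))) (.node (.leaf (31884, 61568)) (.leaf (34944, 34944)))) (.node (.node (.leaf (53393, 31897)) (.leaf (20672, 28841)))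 (.node (.leaf (23745, 61608)) (.leaf (34944, 34944))))) (.node (.node (.node (.leaf (30916, 53428)) (.leaf (43193, 35024))) (.node (.leaf (62684, 23729)) (.leaf (34944, 34944)))) (.node (.node (.leaf (29841, 29824)) (.leaf (39161, 51436))) (.node (.leaf (23721, 61661)) (.leaf (34944, 34944)))))))) (.node (.node (.node (.node (.node (.node (.leaf (59529, 39045)) (.leaf (23733, 54492))) (.node (.leaf (36088, 43237)) (.leaf (34944, 34944)))) (.node (.node (.leaf (47321, 60596)) (.leaf (21664, 21724))) (.node (.leaf (61612, 31937)) (.leaf (34944, 34944))))) (.node (.node (.node (.leaf (44212, 44232)) (.leaf (53397, 23705))) (.node (.leaf (52440, 48292)) (.leaf (34944, 34944)))) (.node (.node (.leaf (28852, 29905)) (.leaf (59524, 48277))) (.node (.leaf (52448, 48369)) (.leaf (34944, 34944)))))) (.node (.node (.node (.node (.leaf (21716, 20640)) (.leaf (47252, 59548))) (.node (.leaf (52428, 40101)) (.leaf (34944, 34944)))) (.node (.node (.leaf (31976, 54500)) (.leaf (44208, 36040))) (.node (.leaf (21685, 29901))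 (.leaf (34944, 34944))))) (.node (.node (.node (.leaf (29837, 20609)) (.leaf (22769, 53497))) (.node (.leaf (61673, 22772)) (.leaf (34944, 34944)))) (.node (.node (.leaf (53452, 23740)) (.leaf (23704, 53381))) (.node (.leaf (54445, 31965)) (.leaf (34944, 34944))))))) (.node (.node (.node (.node (.node (.leaf (59581, 48321)) (.leaf (31948, 54460))) (.node (.leaf (54453, 30940)) (.leaf (34944, 34944)))) (.node (.node (.leaf (35044, 36076)) (.leaf (53421, 31957))) (.node (.leaf (30917, 53412)) (.leaf (34944, 34944))))) (.node (.node (.node (.leaf (40172, 59637)) (.leaf (21644, 20629))) (.node (.leaf (60597, 47305)) (.leaf (34944, 34944)))) (.node (.node (.leaf (36021, 44252)) (.leaf (43220, 35005))) (.node (.leaf (36036, 34992)) (.leaf (34944, 34944)))))) (.node (.node (.node (.node (.leaf (29892, 20645)) (.leaf (34948, 43136))) (.node (.leaf (23784, 54496)) (.leaf (34944, 34944)))) (.node (.node (.leaf (22713, 61652)) (.leaf (39109, 51377))) (.node (.leaf (60636, 40096)) (.leaf (34944, 34944))))) (.node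 (.node (.node (.leaf (61652, 22713)) (.leaf (20644, 29908))) (.node (.leaf (30869, 62617)) (.leaf (34944, 34944)))) (.node (.node (.leaf (40165, 60645)) (.leaf (51369, 40132))) (.node (.leaf (44184, 35981)) (.leaf (34944, 34944)))))))))) (.node (.node (.node (.node (.node (.node (.node (.node (.leaf (53432, 23748)) (.leaf (20716, 29937))) (.node (.leaf (61628, 31936)) (.leaf (34944, 34944)))) (.node (.node (.leaf (60609, 47281)) (.leaf (20685, 21689))) (.node (.leaf (47316, 51364)) (.leaf (34944, 34944))))) (.node (.node (.node (.leaf (47297, 59573)) (.leaf (30941, 54437))) (.node (.leaf (23701, 62613)) (.leaf (34944, 34944)))) (.node (.node (.leaf (44220, 43208)) (.leaf (39104, 59553))) (.node (.leaf (47289, 59585)) (.leaf (34944, 34944)))))) (.node (.node (.node (.node (.leaf (47356, 59640)) (.leaf (39157, 60652))) (.node (.leaf (54477, 23716)) (.leaf (34944, 34944)))) (.node (.node (.leaf (62712, 22765)) (.leaf (23728, 62668))) (.node (.leaf (53492, 31969)) (.leaf (34944, 34944))))) (.node (.node (.node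 (.leaf (40180, 60660)) (.leaf (34956, 44160))) (.node (.leaf (31944, 62652)) (.leaf (34944, 34944)))) (.node (.node (.leaf (23752, 62648)) (.leaf (51340, 47249))) (.node (.leaf (30885, 54481)) (.leaf (34944, 34944))))))) (.node (.node (.node (.node (.node (.leaf (22756, 61672)) (.leaf (60637, 40112))) (.node (.leaf (36013, 43229)) (.leaf (34944, 34944)))) (.node (.node (.leaf (59596, 40105)) (.leaf (29920, 20733))) (.node (.leaf (61689, 22773)) (.leaf (34944, 34944))))) (.node (.node (.node (.leaf (53445, 22700)) (.leaf (28869, 20669))) (.node (.leaf (62644, 30920)) (.leaf (34944, 34944)))) (.node (.node (.leaf (40108, 51420)) (.leaf (43261, 35065))) (.node (.leaf (61637, 22696)) (.leaf (34944, 34944)))))) (.node (.node (.node (.node (.leaf (30848, 54408)) (.leaf (48293, 52424))) (.node (.leaf (54449, 22748)) (.leaf (34944, 34944)))) (.node (.node (.leaf (53501, 30961)) (.leaf (20620, 20637))) (.node (.leaf (61644, 23736)) (.leaf (34944, 34944))))) (.node (.node (.node (.leaf (35977, 35992)) (.leaf (47353,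 51432))) (.node (.leaf (34993, 36052)) (.leaf (34944, 34944)))) (.node (.node (.leaf (30973, 62717)) (.leaf (20628, 21660))) (.node (.leaf (23765, 53417)) (.leaf (34944, 34944)))))))) (.node (.node (.node (.node (.node (.node (.leaf (48356, 60657)) (.leaf (28925, 29924))) (.node (.leaf (53472, 23776)) (.leaf (34944, 34944)))) (.node (.node (.leaf (28808, 28825)) (.leaf (30949, 61692))) (.node (.leaf (22752, 53480)) (.leaf (34944, 34944))))) (.node (.node (.node (.leaf (54504, 22760)) (.leaf (40148, 51368))) (.node (.leaf (39140, 60669)) (.leaf (34944, 34944)))) (.node (.node (.leaf (59584, 47273)) (.leaf (28873, 29885))) (.node (.leaf (61648, 30905)) (.leaf (34944, 34944)))))) (.node (.node (.node (.node (.leaf (35021, 36008)) (.leaf (39065, 52360))) (.node (.leaf (23756, 54456)) (.leaf (34944, 34944)))) (.node (.node (.leaf (54516, 31977)) (.leaf (23700, 62597))) (.node (.leaf (60601, 40137)) (.leaf (34944, 34944))))) (.node (.node (.node (.leaf (29860, 29912)) (.leaf (54428, 22657))) (.node (.leaf (52413,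 48333)) (.leaf (34944, 34944)))) (.node (.node (.leaf (43188, 44224)) (.leaf (61641, 31912))) (.node (.leaf (54512, 23785)) (.leaf (34944, 34944))))))) (.node (.node (.node (.node (.node (.leaf (60580, 47320)) (.leaf (20629, 21644))) (.node (.leaf (28848, 21713)) (.leaf (34944, 34944)))) (.node (.node (.leaf (53425, 22740)) (.leaf (48304, 60633))) (.node (.leaf (30957, 62716)) (.leaf (34944, 34944))))) (.node (.node (.node (.leaf (52436, 39076)) (.leaf (21669, 29900))) (.node (.leaf (29900, 21669)) (.leaf (34944, 34944)))) (.node (.node (.leaf (29881, 20681)) (.leaf (39133, 52400))) (.node (.leaf (22688, 62661)) (.leaf (34944, 34944)))))) (.node (.node (.node (.node (.leaf (53485, 30960)) (.leaf (30893, 53457))) (.node (.leaf (31940, 53436)) (.leaf (34944, 34944)))) (.node (.node (.leaf (52353, 40073)) (.leaf (62604, 22660))) (.node (.leaf (51412, 39084)) (.leaf (34944, 34944))))) (.node (.node (.node (.leaf (40121, 59597)) (.leaf (51353, 39040))) (.node (.leaf (62696, 22764)) (.leaf (34944, 34944))))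 (.node (.node (.leaf (48297, 59592)) (.leaf (39060, 59544))) (.node (.leaf (54517, 31993)) (.leaf (34944, 34944))))))))) (.node (.node (.node (.node (.node (.node (.node (.leaf (21632, 29845)) (.leaf (44181, 43165))) (.node (.leaf (40085, 59520)) (.leaf (34944, 34944)))) (.node (.node (.leaf (35985, 34969)) (.leaf (47301, 51381))) (.node (.leaf (28924, 29940)) (.leaf (34944, 34944))))) (.node (.node (.node (.leaf (31881, 53392)) (.leaf (52365, 47241))) (.node (.leaf (52437, 39092)) (.leaf (34944, 34944)))) (.node (.node (.leaf (44232, 44212)) (.leaf (62704, 23789))) (.node (.leaf (40125, 51405)) (.leaf (34944, 34944)))))) (.node (.node (.node (.node (.leaf (21633, 29829)) (.leaf (20660, 29909))) (.node (.leaf (59612, 40104)) (.leaf (34944, 34944)))) (.node (.node (.leaf (52404, 47325)) (.leaf (52368, 40088))) (.node (.leaf (29869, 28872)) (.leaf (34944, 34944))))) (.node (.node (.node (.leaf (48268, 60565)) (.leaf (23805, 62705))) (.node (.leaf (28872, 29869)) (.leaf (34944, 34944)))) (.node (.node (.leaf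 (36025, 35036)) (.leaf (20681, 29881))) (.node (.leaf (54460, 31948)) (.leaf (34944, 34944))))))) (.node (.node (.node (.node (.node (.leaf (35968, 34952)) (.leaf (20701, 21688))) (.node (.leaf (22684, 61581)) (.leaf (34944, 34944)))) (.node (.node (.leaf (28905, 21733)) (.leaf (29856, 21720))) (.node (.leaf (60592, 39129)) (.leaf (34944, 34944))))) (.node (.node (.node (.leaf (40065, 51329)) (.leaf (61584, 31885))) (.node (.leaf (62641, 22744)) (.leaf (34944, 34944)))) (.node (.node (.leaf (40132, 51369)) (.leaf (51397, 39101))) (.node (.leaf (53465, 31917)) (.leaf (34944, 34944)))))) (.node (.node (.node (.node (.leaf (35049, 43260)) (.leaf (31908, 54473))) (.node (.leaf (44245, 34981)) (.leaf (34944, 34944)))) (.node (.node (.leaf (59620, 40189)) (.leaf (21680, 21725))) (.node (.leaf (23753, 62632)) (.leaf (34944, 34944))))) (.node (.node (.node (.leaf (36049, 43169)) (.leaf (29913, 29876))) (.node (.leaf (43252, 36073)) (.leaf (34944, 34944)))) (.node (.node (.leaf (54429, 22673)) (.leaf (39068, 60568)))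 (.node (.leaf (52457, 47329)) (.leaf (34944, 34944)))))))) (.node (.node (.node (.node (.node (.node (.leaf (28892, 21676)) (.leaf (44172, 44172))) (.node (.leaf (22776, 54505)) (.leaf (34944, 34944)))) (.node (.node (.leaf (47357, 59624)) (.leaf (40185, 51428))) (.node (.leaf (52385, 39116)) (.leaf (34944, 34944))))) (.node (.node (.node (.leaf (54476, 23732)) (.leaf (47264, 60624))) (.node (.leaf (35033, 44201)) (.leaf (34944, 34944)))) (.node (.node (.leaf (59537, 40068)) (.leaf (61616, 22720))) (.node (.leaf (21648, 29844)) (.leaf (34944, 34944)))))) (.node (.node (.node (.node (.leaf (60545, 40077)) (.leaf (48377, 51424))) (.node (.leaf (62609, 31893)) (.leaf (34944, 34944)))) (.node (.node (.leaf (44273, 44273)) (.leaf (52432, 47268))) (.node (.leaf (43244, 35048)) (.leaf (34944, 34944))))) (.node (.node (.node (.leaf (48344, 60588)) (.leaf (51437, 39145))) (.node (.leaf (61664, 23780)) (.leaf (34944, 34944)))) (.node (.node (.leaf (23804, 62689)) (.leaf (20636, 20636))) (.node (.leaf (54408, 30848))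 (.leaf (34944, 34944))))))) (.node (.node (.node (.node (.node (.leaf (28809, 28809)) (.leaf (21749, 28904))) (.node (.leaf (47341, 59625)) (.leaf (34944, 34944)))) (.node (.node (.leaf (20608, 29853)) (.leaf (43148, 44164))) (.node (.leaf (36048, 43185)) (.leaf (34944, 34944))))) (.node (.node (.node (.leaf (59645, 39148)) (.leaf (53396, 23689))) (.node (.leaf (60600, 40153)) (.leaf (34944, 34944)))) (.node (.node (.leaf (22741, 53409)) (.leaf (43245, 35064))) (.node (.leaf (35997, 44185)) (.leaf (34944, 34944)))))) (.node (.node (.node (.node (.leaf (53473, 23792)) (.leaf (21744, 20728))) (.node (.leaf (36060, 36017)) (.leaf (34944, 34944)))) (.node (.node (.leaf (61656, 31929)) (.leaf (39144, 51453))) (.node (.leaf (34973, 44177)) (.leaf (34944, 34944))))) (.node (.node (.node (.leaf (22701, 53461)) (.leaf (43144, 35972))) (.node (.leaf (59637, 40172)) (.leaf (34944, 34944)))) (.node (.node (.leaf (61625, 23760)) (.leaf (51344, 40080))) (.node (.leaf (22693, 54485)) (.leaf (34944, 34944))))))))))) (.node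 (.node (.node (.node (.node (.node (.node (.node (.node (.leaf (59520, 40085)) (.leaf (36089, 43253))) (.node (.leaf (52444, 40100)) (.leaf (34944, 34944)))) (.node (.node (.leaf (48336, 59564)) (.leaf (23777, 53488))) (.node (.leaf (47345, 52456)) (.leaf (34944, 34944))))) (.node (.node (.node (.leaf (28893, 21692)) (.leaf (44217, 35032))) (.node (.leaf (34988, 43205)) (.leaf (34944, 34944)))) (.node (.node (.leaf (34949, 43152)) (.leaf (51441, 48360))) (.node (.leaf (60617, 48305)) (.leaf (34944, 34944)))))) (.node (.node (.node (.node (.leaf (44160, 34956)) (.leaf (51364, 47316))) (.node (.leaf (44253, 36005)) (.leaf (34944, 34944)))) (.node (.node (.leaf (23720, 61645)) (.leaf (28832, 21712))) (.node (.leaf (51416, 48300)) (.leaf (34944, 34944))))) (.node (.node (.node (.leaf (22757, 61688)) (.leaf (29904, 28836))) (.node (.leaf (59600, 47272)) (.leaf (34944, 34944)))) (.node (.node (.leaf (30884, 54465)) (.leaf (35988, 43145))) (.node (.leaf (48301, 51400)) (.leaf (34944, 34944))))))) (.node (.node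 (.node (.node (.node (.leaf (21688, 20701)) (.leaf (47317, 51380))) (.node (.leaf (30873, 53401)) (.leaf (34944, 34944)))) (.node (.node (.leaf (23780, 61664)) (.leaf (61613, 31953))) (.node (.leaf (61684, 31973)) (.leaf (34944, 34944))))) (.node (.node (.node (.leaf (53476, 31968)) (.leaf (44244, 34997))) (.node (.leaf (23732, 54476)) (.leaf (34944, 34944)))) (.node (.node (.leaf (40129, 59577)) (.leaf (43173, 44241))) (.node (.leaf (52408, 40157)) (.leaf (34944, 34944)))))) (.node (.node (.node (.node (.leaf (53389, 22680)) (.leaf (60549, 48269))) (.node (.leaf (54461, 31964)) (.leaf (34944, 34944)))) (.node (.node (.leaf (60588, 48344)) (.leaf (31896, 53377))) (.node (.leaf (53497, 22769)) (.leaf (34944, 34944))))) (.node (.node (.node (.leaf (30956, 62700)) (.leaf (23725, 53469))) (.node (.leaf (61629, 31952)) (.leaf (34944, 34944)))) (.node (.node (.leaf (29908, 20644)) (.leaf (31993, 54517))) (.node (.leaf (28917, 28900)) (.leaf (34944, 34944)))))))) (.node (.node (.node (.node (.node (.node (.leaf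 (22772, 61673)) (.leaf (52469, 40160))) (.node (.leaf (36005, 44253)) (.leaf (34944, 34944)))) (.node (.node (.leaf (28909, 29925)) (.leaf (40072, 52369))) (.node (.leaf (61609, 23761)) (.leaf (34944, 34944))))) (.node (.node (.node (.leaf (59640, 47356)) (.leaf (43196, 43200))) (.node (.leaf (31988, 61669)) (.leaf (34944, 34944)))) (.node (.node (.leaf (59593, 48313)) (.leaf (35973, 43160))) (.node (.leaf (52384, 39132)) (.leaf (34944, 34944)))))) (.node (.node (.node (.node (.leaf (40152, 60584)) (.leaf (31897, 53393))) (.node (.leaf (59632, 48380)) (.leaf (34944, 34944)))) (.node (.node (.leaf (54521, 22777)) (.leaf (23785, 54512))) (.node (.leaf (35972, 43144)) (.leaf (34944, 34944))))) (.node (.node (.node (.leaf (29889, 28853)) (.leaf (36077, 35060))) (.node (.leaf (40068, 59537)) (.leaf (34944, 34944)))) (.node (.node (.leaf (43224, 44221)) (.leaf (43164, 44165))) (.node (.leaf (21656, 28820)) (.leaf (34944, 34944))))))) (.node (.node (.node (.node (.node (.leaf (53461, 22701)) (.leaf (20689, 28856)))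 (.node (.leaf (44197, 44249)) (.leaf (34944, 34944)))) (.node (.node (.leaf (31925, 54488)) (.leaf (54496, 23784))) (.node (.leaf (48381, 59616)) (.leaf (34944, 34944))))) (.node (.node (.node (.leaf (22661, 62620)) (.leaf (22708, 54468))) (.node (.leaf (60660, 40180)) (.leaf (34944, 34944)))) (.node (.node (.leaf (60556, 47261)) (.leaf (44188, 44173))) (.node (.leaf (60621, 40113)) (.leaf (34944, 34944)))))) (.node (.node (.node (.node (.leaf (22673, 54429)) (.leaf (52393, 40140))) (.node (.leaf (48317, 51401)) (.leaf (34944, 34944)))) (.node (.node (.leaf (40157, 52408)) (.leaf (20661, 29893))) (.node (.leaf (61604, 30913)) (.leaf (34944, 34944))))) (.node (.node (.node (.leaf (22728, 62640)) (.leaf (20652, 28884))) (.node (.leaf (21733, 28905)) (.leaf (34944, 34944)))) (.node (.node (.leaf (21725, 21680)) (.leaf (39072, 60628))) (.node (.leaf (52461, 39137)) (.leaf (34944, 34944))))))))) (.node (.node (.node (.node (.node (.node (.node (.leaf (59580, 48337)) (.leaf (52464, 48368))) (.node (.leaf (40184,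 51444)) (.leaf (34944, 34944)))) (.node (.node (.leaf (29849, 28800)) (.leaf (31984, 53477))) (.node (.leaf (28817, 29832)) (.leaf (34944, 34944))))) (.node (.node (.node (.leaf (47241, 52365)) (.leaf (51396, 39085))) (.node (.leaf (62636, 31945)) (.leaf (34944, 34944)))) (.node (.node (.leaf (40120, 59613)) (.leaf (39124, 51360))) (.node (.leaf (52389, 47308)) (.leaf (34944, 34944)))))) (.node (.node (.node (.node (.leaf (59628, 39165)) (.leaf (23776, 53472))) (.node (.leaf (53477, 31984)) (.leaf (34944, 34944)))) (.node (.node (.leaf (39040, 51353)) (.leaf (52429, 40117))) (.node (.leaf (23741, 53468)) (.leaf (34944, 34944))))) (.node (.node (.node (.leaf (22753, 53496)) (.leaf (43181, 43217))) (.node (.leaf (31889, 54417)) (.leaf (34944, 34944)))) (.node (.node (.leaf (29905, 28852)) (.leaf (51429, 40169))) (.node (.leaf (48300, 51416)) (.leaf (34944, 34944))))))) (.node (.node (.node (.node (.node (.leaf (29824, 29841)) (.leaf (20696, 29864))) (.node (.leaf (54497, 23800)) (.leaf (34944, 34944))))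 (.node (.node (.leaf (44177, 34973)) (.leaf (30925, 54436))) (.node (.leaf (54441, 23773)) (.leaf (34944, 34944))))) (.node (.node (.node (.leaf (59601, 47288)) (.leaf (52380, 47256))) (.node (.leaf (39164, 59644)) (.leaf (34944, 34944)))) (.node (.node (.leaf (61585, 31901)) (.leaf (43145, 35988))) (.node (.leaf (36045, 36000)) (.leaf (34944, 34944)))))) (.node (.node (.node (.node (.leaf (36068, 36068)) (.leaf (31985, 53493))) (.node (.leaf (44221, 43224)) (.leaf (34944, 34944)))) (.node (.node (.leaf (59629, 39149)) (.leaf (62672, 30897))) (.node (.leaf (23716, 54477)) (.leaf (34944, 34944))))) (.node (.node (.node (.leaf (36056, 44209)) (.leaf (60548, 48285))) (.node (.leaf (22724, 53424)) (.leaf (34944, 34944)))) (.node (.node (.leaf (36076, 35044)) (.leaf (39064, 52376))) (.node (.leaf (62713, 22781)) (.leaf (34944, 34944)))))))) (.node (.node (.node (.node (.node (.node (.leaf (28856, 20689)) (.leaf (62705, 23805))) (.node (.leaf (60565, 48268)) (.leaf (34944, 34944)))) (.node (.node (.leaf (44161,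 34972)) (.leaf (30944, 53484))) (.node (.leaf (44237, 36004)) (.leaf (34944, 34944))))) (.node (.node (.node (.leaf (28860, 28881)) (.leaf (47337, 51433))) (.node (.leaf (47336, 51449)) (.leaf (34944, 34944)))) (.node (.node (.leaf (48372, 60656)) (.leaf (52372, 48280))) (.node (.leaf (30940, 54453)) (.leaf (34944, 34944)))))) (.node (.node (.node (.node (.leaf (21713, 28848)) (.leaf (60576, 39128))) (.node (.leaf (28880, 28844)) (.leaf (34944, 34944)))) (.node (.node (.leaf (44185, 35997)) (.leaf (39141, 60653))) (.node (.leaf (22696, 61637)) (.leaf (34944, 34944))))) (.node (.node (.node (.leaf (35981, 44184)) (.leaf (51377, 39109))) (.node (.leaf (21704, 29857)) (.leaf (34944, 34944)))) (.node (.node (.leaf (43180, 43201)) (.leaf (51376, 39125))) (.node (.leaf (44176, 34957)) (.leaf (34944, 34944))))))) (.node (.node (.node (.node (.node (.leaf (28908, 29941)) (.leaf (39084, 51412))) (.node (.leaf (54457, 23772)) (.leaf (34944, 34944)))) (.node (.node (.leaf (54413, 22672)) (.leaf (23717, 54493))) (.node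 (.leaf (36057, 44193)) (.leaf (34944, 34944))))) (.node (.node (.node (.leaf (35032, 44217)) (.leaf (61645, 23720))) (.node (.leaf (29868, 28888)) (.leaf (34944, 34944)))) (.node (.node (.leaf (60649, 47333)) (.leaf (51361, 39108))) (.node (.leaf (29845, 21632)) (.leaf (34944, 34944)))))) (.node (.node (.node (.node (.leaf (36004, 44237)) (.leaf (61661, 23721))) (.node (.leaf (23693, 61588)) (.leaf (34944, 34944)))) (.node (.node (.leaf (44236, 36020)) (.leaf (31936, 61628))) (.node (.leaf (20724, 28912)) (.leaf (34944, 34944))))) (.node (.node (.node (.leaf (22732, 54448)) (.leaf (20729, 21728))) (.node (.leaf (53441, 30892)) (.leaf (34944, 34944)))) (.node (.node (.leaf (52441, 48308)) (.leaf (51356, 47248))) (.node (.leaf (44272, 44257)) (.leaf (34944, 34944)))))))))) (.node (.node (.node (.node (.node (.node (.node (.node (.leaf (53460, 22717)) (.leaf (23792, 53473))) (.node (.leaf (22672, 54413)) (.leaf (34944, 34944)))) (.node (.node (.leaf (60584, 40152)) (.leaf (40096, 60636))) (.node (.leaf (31924,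 54472)) (.leaf (34944, 34944))))) (.node (.node (.node (.leaf (47276, 51408)) (.leaf (59577, 40129))) (.node (.leaf (23793, 53489)) (.leaf (34944, 34944)))) (.node (.node (.leaf (44260, 36064)) (.leaf (31892, 62593))) (.node (.leaf (31945, 62636)) (.leaf (34944, 34944)))))) (.node (.node (.node (.node (.leaf (31980, 62692)) (.leaf (28816, 29848))) (.node (.leaf (31957, 53421)) (.leaf (34944, 34944)))) (.node (.node (.leaf (52456, 47345)) (.leaf (20693, 20664))) (.node (.leaf (54432, 22733)) (.leaf (34944, 34944))))) (.node (.node (.node (.leaf (52424, 48293)) (.leaf (43225, 44205))) (.node (.leaf (35028, 35001)) (.leaf (34944, 34944)))) (.node (.node (.leaf (54525, 30969)) (.leaf (51392, 47277))) (.node (.leaf (54433, 22749)) (.leaf (34944, 34944))))))) (.node (.node (.node (.node (.node (.leaf (53433, 23764)) (.leaf (31997, 62709))) (.node (.leaf (29832, 28817)) (.leaf (34944, 34944)))) (.node (.node (.leaf (54444, 31949)) (.leaf (29897, 29877))) (.node (.leaf (59553, 39104)) (.leaf (34944, 34944)))))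 (.node (.node (.node (.leaf (53416, 23749)) (.leaf (34989, 43221))) (.node (.leaf (52420, 39077)) (.leaf (34944, 34944)))) (.node (.node (.leaf (52468, 40176)) (.leaf (51368, 40148))) (.node (.leaf (61589, 23709)) (.leaf (34944, 34944)))))) (.node (.node (.node (.node (.leaf (36028, 43212)) (.leaf (28820, 21656))) (.node (.leaf (47333, 60649)) (.leaf (34944, 34944)))) (.node (.node (.leaf (60652, 39157)) (.leaf (39081, 59588))) (.node (.leaf (51372, 48340)) (.leaf (34944, 34944))))) (.node (.node (.node (.leaf (60596, 47321)) (.leaf (60661, 40164))) (.node (.leaf (40188, 59636)) (.leaf (34944, 34944)))) (.node (.node (.leaf (30968, 54509)) (.leaf (62612, 23685))) (.node (.leaf (20609, 29837)) (.leaf (34944, 34944)))))))) (.node (.node (.node (.node (.node (.node (.leaf (59521, 40069)) (.leaf (23773, 54441))) (.node (.leaf (29921, 20717)) (.leaf (34944, 34944)))) (.node (.node (.leaf (47285, 52417)) (.leaf (59568, 39121))) (.node (.leaf (61681, 23797)) (.leaf (34944, 34944))))) (.node (.node (.node (.leaf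 (31877, 62608)) (.leaf (51448, 47352))) (.node (.leaf (39116, 52385)) (.leaf (34944, 34944)))) (.node (.node (.leaf (28881, 28860)) (.leaf (31901, 61585))) (.node (.leaf (21657, 28804)) (.leaf (34944, 34944)))))) (.node (.node (.node (.node (.leaf (34980, 44229)) (.leaf (39089, 60613))) (.node (.leaf (62652, 31944)) (.leaf (34944, 34944)))) (.node (.node (.leaf (47249, 51340)) (.leaf (62637, 31961))) (.node (.leaf (59533, 47237)) (.leaf (34944, 34944))))) (.node (.node (.node (.leaf (54440, 23757)) (.leaf (60572, 47260))) (.node (.leaf (52473, 47328)) (.leaf (34944, 34944)))) (.node (.node (.leaf (43228, 36029)) (.leaf (61592, 30861))) (.node (.leaf (59597, 40121)) (.leaf (34944, 34944))))))) (.node (.node (.node (.node (.node (.leaf (59573, 47297)) (.leaf (20673, 28857))) (.node (.leaf (53384, 30856)) (.leaf (34944, 34944)))) (.node (.node (.leaf (28916, 28916)) (.leaf (43184, 36032))) (.node (.leaf (35976, 35976)) (.leaf (34944, 34944))))) (.node (.node (.node (.leaf (61624, 23744)) (.leaf (44201, 35033)))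 (.node (.leaf (53481, 22768)) (.leaf (34944, 34944)))) (.node (.node (.leaf (29917, 21684)) (.leaf (43177, 35025))) (.node (.leaf (48289, 60616)) (.leaf (34944, 34944)))))) (.node (.node (.node (.node (.leaf (60668, 39156)) (.leaf (40112, 60637))) (.node (.leaf (53412, 30917)) (.leaf (34944, 34944)))) (.node (.node (.leaf (61569, 31900)) (.leaf (62693, 31996))) (.node (.leaf (23736, 61644)) (.leaf (34944, 34944))))) (.node (.node (.node (.leaf (52388, 47324)) (.leaf (51393, 47293))) (.node (.leaf (61668, 31972)) (.leaf (34944, 34944)))) (.node (.node (.leaf (59621, 40173)) (.leaf (43152, 34949))) (.node (.leaf (31977, 54516)) (.leaf (34944, 34944))))))))) (.node (.node (.node (.node (.node (.node (.node (.leaf (53377, 31896)) (.leaf (39105, 59569))) (.node (.leaf (60669, 39140)) (.leaf (34944, 34944)))) (.node (.node (.leaf (60620, 40097)) (.leaf (31909, 54489))) (.node (.leaf (34969, 35985)) (.leaf (34944, 34944))))) (.node (.node (.node (.leaf (59604, 39080)) (.leaf (51400, 48301))) (.node (.leaf (44209,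 36056)) (.leaf (34944, 34944)))) (.node (.node (.leaf (30888, 61633)) (.leaf (39085, 51396))) (.node (.leaf (52453, 40161)) (.leaf (34944, 34944)))))) (.node (.node (.node (.node (.leaf (21637, 21637)) (.leaf (62689, 23804))) (.node (.leaf (23729, 62684)) (.leaf (34944, 34944)))) (.node (.node (.leaf (44264, 43232)) (.leaf (54448, 22732))) (.node (.leaf (30901, 54480)) (.leaf (34944, 34944))))) (.node (.node (.node (.leaf (60605, 48329)) (.leaf (23797, 61681))) (.node (.leaf (53409, 22741)) (.leaf (34944, 34944)))) (.node (.node (.leaf (22705, 62676)) (.leaf (51365, 47300))) (.node (.leaf (23713, 62685)) (.leaf (34944, 34944))))))) (.node (.node (.node (.node (.node (.leaf (53428, 30916)) (.leaf (39132, 52384))) (.node (.leaf (47296, 59557)) (.leaf (34944, 34944)))) (.node (.node (.leaf (54409, 30864)) (.leaf (54424, 30849))) (.node (.leaf (22668, 61580)) (.leaf (34944, 34944))))) (.node (.node (.node (.leaf (52476, 39152)) (.leaf (40133, 51385))) (.node (.leaf (47265, 60608)) (.leaf (34944, 34944))))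 (.node (.node (.leaf (34977, 36053)) (.leaf (44180, 43149))) (.node (.leaf (29848, 28816)) (.leaf (34944, 34944)))))) (.node (.node (.node (.node (.leaf (21753, 21736)) (.leaf (59541, 48260))) (.node (.leaf (22709, 54484)) (.leaf (34944, 34944)))) (.node (.node (.leaf (28821, 21640)) (.leaf (39077, 52420))) (.node (.leaf (23724, 53453)) (.leaf (34944, 34944))))) (.node (.node (.node (.leaf (22760, 54504)) (.leaf (51420, 40108))) (.node (.leaf (40077, 60545)) (.leaf (34944, 34944)))) (.node (.node (.leaf (35009, 43176)) (.leaf (51449, 47336))) (.node (.leaf (39041, 51337)) (.leaf (34944, 34944)))))))) (.node (.node (.node (.node (.node (.node (.leaf (35036, 36025)) (.leaf (39049, 52361))) (.node (.leaf (30924, 54452)) (.leaf (34944, 34944)))) (.node (.node (.leaf (31981, 62708)) (.leaf (22676, 62605))) (.node (.leaf (30877, 61593)) (.leaf (34944, 34944))))) (.node (.node (.node (.leaf (31956, 53437)) (.leaf (59549, 47236))) (.node (.leaf (54464, 30900)) (.leaf (34944, 34944)))) (.node (.node (.leaf (59545,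 39044)) (.leaf (30953, 54524))) (.node (.leaf (21652, 21652)) (.leaf (34944, 34944)))))) (.node (.node (.node (.node (.leaf (29944, 21756)) (.leaf (60640, 48373))) (.node (.leaf (62649, 23768)) (.leaf (34944, 34944)))) (.node (.node (.leaf (22721, 61600)) (.leaf (39165, 59628))) (.node (.leaf (43141, 43156)) (.leaf (34944, 34944))))) (.node (.node (.node (.leaf (43136, 34948)) (.leaf (53440, 30908))) (.node (.leaf (30865, 54425)) (.leaf (34944, 34944)))) (.node (.node (.leaf (60553, 39053)) (.leaf (31904, 62665))) (.node (.leaf (31920, 62664)) (.leaf (34944, 34944))))))) (.node (.node (.node (.node (.node (.leaf (47284, 52433)) (.leaf (39045, 59529))) (.node (.leaf (44249, 44197)) (.leaf (34944, 34944)))) (.node (.node (.leaf (47288, 59601)) (.leaf (23708, 61573))) (.node (.leaf (60577, 39112)) (.leaf (34944, 34944))))) (.node (.node (.node (.leaf (59636, 40188)) (.leaf (59548, 47252))) (.node (.leaf (48273, 51332)) (.leaf (34944, 34944)))) (.node (.node (.leaf (30961, 53501)) (.leaf (51373, 48324))) (.node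 (.leaf (22725, 53408)) (.leaf (34944, 34944)))))) (.node (.node (.node (.node (.leaf (59528, 39061)) (.leaf (51452, 39160))) (.node (.leaf (20664, 20693)) (.leaf (34944, 34944)))) (.node (.node (.leaf (61653, 22697)) (.leaf (39061, 59528))) (.node (.leaf (21728, 20729)) (.leaf (34944, 34944))))) (.node (.node (.node (.leaf (40140, 52393)) (.leaf (43232, 44264))) (.node (.leaf (28804, 21657)) (.leaf (34944, 34944)))) (.node (.node (.leaf (22768, 53481)) (.leaf (51360, 39124))) (.node (.leaf (31905, 62681)) (.leaf (34944, 34944)))))))))))))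

/-- parents -/
def parA : Tree (ℕ × ℕ) :=
  (.node (.node (.node (.node (.node (.node (.node (.node (.node (.node (.node (.leaf (0, 0)) (.leaf (590, 0))) (.node (.leaf (247, 1)) (.leaf (0, 0)))) (.node (.node (.leaf (116, 1)) (.leaf (884, 2))) (.node (.leaf (405, 0)) (.leaf (0, 0))))) (.node (.node (.node (.leaf (56, 0)) (.leaf (735, 0))) (.node (.leaf (318, 2)) (.leaf (0, 0)))) (.node (.node (.leaf (178, 0)) (.leaf (1077, 1))) (.node (.leaf (499, 0)) (.leaf (0, 0)))))) (.node (.node (.node (.node (.leaf (26, 2)) (.leaf (655, 0))) (.node (.leaf (282, 1)) (.leaf (0, 0)))) (.node (.node (.leaf (147, 1)) (.leaf (975, 2))) (.node (.leaf (446, 2)) (.leaf (0, 0))))) (.node (.node (.node (.leaf (87, 0)) (.leaf (809, 0))) (.node (.leaf (362, 0)) (.leaf (0, 0)))) (.node (.node (.leaf (212, 0)) (.leaf (1232, 1))) (.node (.leaf (542, 2)) (.leaf (0, 0))))))) (.node (.node (.node (.node (.node (.leaf (12, 1)) (.leaf (619, 0))) (.node (.leaf (266, 1)) (.leaf (0, 0)))) (.node (.node (.leaf (132, 0)) (.leaf (931, 2)))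 (.node (.leaf (426, 1)) (.leaf (0, 0))))) (.node (.node (.node (.leaf (71, 0)) (.leaf (772, 0))) (.node (.leaf (340, 0)) (.leaf (0, 0)))) (.node (.node (.leaf (195, 2)) (.leaf (1148, 0))) (.node (.leaf (521, 1)) (.leaf (0, 0)))))) (.node (.node (.node (.node (.leaf (41, 1)) (.leaf (698, 2))) (.node (.leaf (300, 2)) (.leaf (0, 0)))) (.node (.node (.leaf (162, 2)) (.leaf (1017, 0))) (.node (.leaf (469, 2)) (.leaf (0, 0))))) (.node (.node (.node (.leaf (101, 1)) (.leaf (838, 1))) (.node (.leaf (383, 0)) (.leaf (0, 0)))) (.node (.node (.leaf (230, 0)) (.leaf (1349, 2))) (.node (.leaf (566, 0)) (.leaf (0, 0)))))))) (.node (.node (.node (.node (.node (.node (.leaf (5, 2)) (.leaf (605, 1))) (.node (.leaf (257, 1)) (.leaf (0, 0)))) (.node (.node (.leaf (124, 2)) (.leaf (905, 0))) (.node (.leaf (416, 0)) (.leaf (0, 0))))) (.node (.node (.node (.leaf (63, 2)) (.leaf (753, 0))) (.node (.leaf (329, 0)) (.leaf (0, 0)))) (.node (.node (.leaf (186, 1)) (.leaf (1110, 2))) (.node (.leaf (507, 2)) (.leaf (0, 0)))))) (.node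 (.node (.node (.node (.leaf (34, 0)) (.leaf (680, 0))) (.node (.leaf (290, 1)) (.leaf (0, 0)))) (.node (.node (.leaf (154, 2)) (.leaf (992, 2))) (.node (.leaf (458, 0)) (.leaf (0, 0))))) (.node (.node (.node (.leaf (93, 2)) (.leaf (825, 0))) (.node (.leaf (371, 0)) (.leaf (0, 0)))) (.node (.node (.leaf (220, 2)) (.leaf (1277, 2))) (.node (.leaf (555, 1)) (.leaf (0, 0))))))) (.node (.node (.node (.node (.node (.leaf (19, 1)) (.leaf (638, 1))) (.node (.leaf (274, 2)) (.leaf (0, 0)))) (.node (.node (.leaf (140, 0)) (.leaf (946, 2))) (.node (.leaf (437, 2)) (.leaf (0, 0))))) (.node (.node (.node (.leaf (78, 1)) (.leaf (788, 2))) (.node (.leaf (351, 2)) (.leaf (0, 0)))) (.node (.node (.leaf (204, 0)) (.leaf (1185, 0))) (.node (.leaf (530, 2)) (.leaf (0, 0)))))) (.node (.node (.node (.node (.leaf (49, 0)) (.leaf (716, 1))) (.node (.leaf (308, 2)) (.leaf (0, 0)))) (.node (.node (.leaf (170, 2)) (.leaf (1042, 1))) (.node (.leaf (484, 0)) (.leaf (0, 0))))) (.node (.node (.node (.leaf (108, 2)) (.leaf (862, 1)))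 (.node (.leaf (394, 0)) (.leaf (0, 0)))) (.node (.node (.leaf (239, 0)) (.leaf (1395, 0))) (.node (.leaf (578, 0)) (.leaf (0, 0))))))))) (.node (.node (.node (.node (.node (.node (.node (.leaf (2, 1)) (.leaf (597, 2))) (.node (.leaf (253, 2)) (.leaf (0, 0)))) (.node (.node (.leaf (120, 2)) (.leaf (895, 2))) (.node (.leaf (411, 1)) (.leaf (0, 0))))) (.node (.node (.node (.leaf (59, 2)) (.leaf (745, 2))) (.node (.leaf (324, 2)) (.leaf (0, 0)))) (.node (.node (.leaf (182, 0)) (.leaf (1097, 2))) (.node (.leaf (503, 0)) (.leaf (0, 0)))))) (.node (.node (.node (.node (.leaf (30, 0)) (.leaf (668, 2))) (.node (.leaf (287, 0)) (.leaf (0, 0)))) (.node (.node (.leaf (151, 0)) (.leaf (983, 2))) (.node (.leaf (452, 2)) (.leaf (0, 0))))) (.node (.node (.node (.leaf (90, 1)) (.leaf (816, 1))) (.node (.leaf (366, 1)) (.leaf (0, 0)))) (.node (.node (.leaf (216, 2)) (.leaf (1249, 1))) (.node (.leaf (551, 0)) (.leaf (0, 0))))))) (.node (.node (.node (.node (.node (.leaf (15, 2)) (.leaf (629, 1))) (.node (.leaf (270, 2))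 (.leaf (0, 0)))) (.node (.node (.leaf (136, 0)) (.leaf (940, 1))) (.node (.leaf (432, 1)) (.leaf (0, 0))))) (.node (.node (.node (.leaf (74, 1)) (.leaf (784, 1))) (.node (.leaf (345, 0)) (.leaf (0, 0)))) (.node (.node (.leaf (199, 2)) (.leaf (1165, 2))) (.node (.leaf (526, 0)) (.leaf (0, 0)))))) (.node (.node (.node (.node (.leaf (45, 1)) (.leaf (706, 2))) (.node (.leaf (305, 0)) (.leaf (0, 0)))) (.node (.node (.leaf (166, 1)) (.leaf (1028, 1))) (.node (.leaf (476, 0)) (.leaf (0, 0))))) (.node (.node (.node (.leaf (105, 1)) (.leaf (847, 0))) (.node (.leaf (388, 2)) (.leaf (0, 0)))) (.node (.node (.leaf (234, 0)) (.leaf (1371, 1))) (.node (.leaf (572, 2)) (.leaf (0, 0)))))))) (.node (.node (.node (.node (.node (.node (.leaf (9, 0)) (.leaf (611, 1))) (.node (.leaf (261, 2)) (.leaf (0, 0)))) (.node (.node (.leaf (128, 2)) (.leaf (920, 1))) (.node (.leaf (421, 1)) (.leaf (0, 0))))) (.node (.node (.node (.leaf (67, 0)) (.leaf (761, 0))) (.node (.leaf (335, 0)) (.leaf (0, 0)))) (.node (.node (.leaf (190, 2))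 (.leaf (1135, 1))) (.node (.leaf (514, 0)) (.leaf (0, 0)))))) (.node (.node (.node (.node (.leaf (37, 1)) (.leaf (686, 0))) (.node (.leaf (296, 1)) (.leaf (0, 0)))) (.node (.node (.leaf (159, 0)) (.leaf (1006, 0))) (.node (.leaf (463, 2)) (.leaf (0, 0))))) (.node (.node (.node (.leaf (97, 1)) (.leaf (831, 2))) (.node (.leaf (376, 1)) (.leaf (0, 0)))) (.node (.node (.leaf (225, 1)) (.leaf (1317, 0))) (.node (.leaf (561, 1)) (.leaf (0, 0))))))) (.node (.node (.node (.node (.node (.leaf (23, 0)) (.leaf (649, 2))) (.node (.leaf (279, 0)) (.leaf (0, 0)))) (.node (.node (.leaf (143, 1)) (.leaf (962, 2))) (.node (.leaf (441, 0)) (.leaf (0, 0))))) (.node (.node (.node (.leaf (83, 0)) (.leaf (799, 0))) (.node (.leaf (357, 2)) (.leaf (0, 0)))) (.node (.node (.leaf (207, 2)) (.leaf (1208, 2))) (.node (.leaf (535, 1)) (.leaf (0, 0)))))) (.node (.node (.node (.node (.leaf (52, 1)) (.leaf (723, 2))) (.node (.leaf (314, 0)) (.leaf (0, 0)))) (.node (.node (.leaf (174, 0)) (.leaf (1056, 2))) (.node (.leaf (490, 1)) (.leaf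 (0, 0))))) (.node (.node (.node (.leaf (112, 1)) (.leaf (873, 2))) (.node (.leaf (399, 0)) (.leaf (0, 0)))) (.node (.node (.leaf (243, 2)) (.leaf (1444, 2))) (.node (.leaf (584, 0)) (.leaf (0, 0)))))))))) (.node (.node (.node (.node (.node (.node (.node (.node (.leaf (1, 0)) (.leaf (593, 2))) (.node (.leaf (250, 1)) (.leaf (0, 0)))) (.node (.node (.leaf (119, 0)) (.leaf (890, 2))) (.node (.leaf (407, 2)) (.leaf (0, 0))))) (.node (.node (.node (.leaf (57, 2)) (.leaf (738, 1))) (.node (.leaf (323, 0)) (.leaf (0, 0)))) (.node (.node (.leaf (180, 0)) (.leaf (1093, 0))) (.node (.leaf (501, 1)) (.leaf (0, 0)))))) (.node (.node (.node (.node (.leaf (28, 1)) (.leaf (661, 1))) (.node (.leaf (285, 1)) (.leaf (0, 0)))) (.node (.node (.leaf (149, 1)) (.leaf (980, 2))) (.node (.leaf (449, 1)) (.leaf (0, 0))))) (.node (.node (.node (.leaf (88, 2)) (.leaf (813, 2))) (.node (.leaf (364, 1)) (.leaf (0, 0)))) (.node (.node (.leaf (214, 1)) (.leaf (1242, 2))) (.node (.leaf (545, 2)) (.leaf (0, 0))))))) (.node (.node (.node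 (.node (.node (.leaf (14, 0)) (.leaf (626, 1))) (.node (.leaf (268, 0)) (.leaf (0, 0)))) (.node (.node (.leaf (134, 1)) (.leaf (937, 1))) (.node (.leaf (430, 0)) (.leaf (0, 0))))) (.node (.node (.node (.leaf (72, 2)) (.leaf (777, 2))) (.node (.leaf (341, 2)) (.leaf (0, 0)))) (.node (.node (.leaf (197, 2)) (.leaf (1155, 0))) (.node (.leaf (523, 2)) (.leaf (0, 0)))))) (.node (.node (.node (.node (.leaf (43, 1)) (.leaf (701, 2))) (.node (.leaf (303, 0)) (.leaf (0, 0)))) (.node (.node (.leaf (164, 1)) (.leaf (1023, 1))) (.node (.leaf (474, 0)) (.leaf (0, 0))))) (.node (.node (.node (.leaf (103, 0)) (.leaf (843, 2))) (.node (.leaf (387, 0)) (.leaf (0, 0)))) (.node (.node (.leaf (232, 0)) (.leaf (1363, 2))) (.node (.leaf (568, 2)) (.leaf (0, 0)))))))) (.node (.node (.node (.node (.node (.node (.leaf (7, 1)) (.leaf (609, 1))) (.node (.leaf (259, 0)) (.leaf (0, 0)))) (.node (.node (.leaf (126, 2)) (.leaf (914, 0))) (.node (.leaf (418, 0)) (.leaf (0, 0))))) (.node (.node (.node (.leaf (65, 1)) (.leaf (758, 1)))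 (.node (.leaf (332, 1)) (.leaf (0, 0)))) (.node (.node (.leaf (189, 0)) (.leaf (1129, 0))) (.node (.leaf (510, 1)) (.leaf (0, 0)))))) (.node (.node (.node (.node (.leaf (35, 2)) (.leaf (684, 1))) (.node (.leaf (293, 2)) (.leaf (0, 0)))) (.node (.node (.leaf (157, 0)) (.leaf (997, 2))) (.node (.leaf (461, 0)) (.leaf (0, 0))))) (.node (.node (.node (.leaf (95, 2)) (.leaf (828, 0))) (.node (.leaf (372, 2)) (.leaf (0, 0)))) (.node (.node (.leaf (222, 1)) (.leaf (1307, 0))) (.node (.leaf (559, 0)) (.leaf (0, 0))))))) (.node (.node (.node (.node (.node (.leaf (20, 2)) (.leaf (642, 2))) (.node (.leaf (277, 0)) (.leaf (0, 0)))) (.node (.node (.leaf (142, 0)) (.leaf (951, 1))) (.node (.leaf (439, 1)) (.leaf (0, 0))))) (.node (.node (.node (.leaf (80, 1)) (.leaf (795, 0))) (.node (.leaf (354, 1)) (.leaf (0, 0)))) (.node (.node (.leaf (205, 2)) (.leaf (1199, 2))) (.node (.leaf (532, 2)) (.leaf (0, 0)))))) (.node (.node (.node (.node (.leaf (50, 2)) (.leaf (721, 2))) (.node (.leaf (311, 1)) (.leaf (0, 0)))) (.node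 (.node (.leaf (172, 1)) (.leaf (1052, 0))) (.node (.leaf (486, 1)) (.leaf (0, 0))))) (.node (.node (.node (.leaf (110, 2)) (.leaf (866, 1))) (.node (.leaf (396, 2)) (.leaf (0, 0)))) (.node (.node (.leaf (241, 1)) (.leaf (1410, 1))) (.node (.leaf (581, 0)) (.leaf (0, 0))))))))) (.node (.node (.node (.node (.node (.node (.node (.leaf (4, 1)) (.leaf (602, 0))) (.node (.leaf (255, 2)) (.leaf (0, 0)))) (.node (.node (.leaf (122, 2)) (.leaf (903, 1))) (.node (.leaf (413, 1)) (.leaf (0, 0))))) (.node (.node (.node (.leaf (61, 1)) (.leaf (750, 0))) (.node (.leaf (327, 0)) (.leaf (0, 0)))) (.node (.node (.leaf (184, 1)) (.leaf (1103, 1))) (.node (.leaf (505, 1)) (.leaf (0, 0)))))) (.node (.node (.node (.node (.leaf (32, 1)) (.leaf (673, 2))) (.node (.leaf (289, 0)) (.leaf (0, 0)))) (.node (.node (.leaf (153, 0)) (.leaf (987, 0))) (.node (.leaf (455, 2)) (.leaf (0, 0))))) (.node (.node (.node (.leaf (92, 0)) (.leaf (821, 1))) (.node (.leaf (369, 0)) (.leaf (0, 0)))) (.node (.node (.leaf (218, 2)) (.leaf (1257, 2)))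 (.node (.leaf (553, 1)) (.leaf (0, 0))))))) (.node (.node (.node (.node (.node (.leaf (17, 1)) (.leaf (634, 0))) (.node (.leaf (272, 1)) (.leaf (0, 0)))) (.node (.node (.leaf (138, 0)) (.leaf (943, 0))) (.node (.leaf (435, 0)) (.leaf (0, 0))))) (.node (.node (.node (.leaf (76, 2)) (.leaf (786, 2))) (.node (.leaf (347, 0)) (.leaf (0, 0)))) (.node (.node (.leaf (202, 0)) (.leaf (1172, 0))) (.node (.leaf (528, 0)) (.leaf (0, 0)))))) (.node (.node (.node (.node (.leaf (47, 0)) (.leaf (710, 1))) (.node (.leaf (306, 2)) (.leaf (0, 0)))) (.node (.node (.leaf (169, 0)) (.leaf (1034, 2))) (.node (.leaf (479, 0)) (.leaf (0, 0))))) (.node (.node (.node (.leaf (107, 0)) (.leaf (852, 0))) (.node (.leaf (391, 0)) (.leaf (0, 0)))) (.node (.node (.leaf (236, 0)) (.leaf (1377, 2))) (.node (.leaf (575, 1)) (.leaf (0, 0)))))))) (.node (.node (.node (.node (.node (.node (.leaf (10, 2)) (.leaf (616, 1))) (.node (.leaf (263, 2)) (.leaf (0, 0)))) (.node (.node (.leaf (130, 1)) (.leaf (925, 0))) (.node (.leaf (425, 0)) (.leaf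 (0, 0))))) (.node (.node (.node (.leaf (69, 1)) (.leaf (766, 2))) (.node (.leaf (338, 0)) (.leaf (0, 0)))) (.node (.node (.leaf (193, 1)) (.leaf (1141, 1))) (.node (.leaf (518, 2)) (.leaf (0, 0)))))) (.node (.node (.node (.node (.leaf (39, 2)) (.leaf (692, 2))) (.node (.leaf (298, 2)) (.leaf (0, 0)))) (.node (.node (.leaf (160, 2)) (.leaf (1010, 2))) (.node (.leaf (467, 0)) (.leaf (0, 0))))) (.node (.node (.node (.leaf (99, 0)) (.leaf (834, 0))) (.node (.leaf (380, 1)) (.leaf (0, 0)))) (.node (.node (.leaf (227, 1)) (.leaf (1338, 2))) (.node (.leaf (564, 1)) (.leaf (0, 0))))))) (.node (.node (.node (.node (.node (.leaf (24, 2)) (.leaf (652, 0))) (.node (.leaf (281, 0)) (.leaf (0, 0)))) (.node (.node (.leaf (145, 1)) (.leaf (966, 2))) (.node (.leaf (444, 0)) (.leaf (0, 0))))) (.node (.node (.node (.leaf (85, 1)) (.leaf (804, 0))) (.node (.leaf (359, 1)) (.leaf (0, 0)))) (.node (.node (.leaf (209, 2)) (.leaf (1218, 0))) (.node (.leaf (539, 2)) (.leaf (0, 0)))))) (.node (.node (.node (.node (.leaf (54, 0))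 (.leaf (729, 0))) (.node (.leaf (315, 2)) (.leaf (0, 0)))) (.node (.node (.leaf (176, 0)) (.leaf (1067, 1))) (.node (.leaf (493, 0)) (.leaf (0, 0))))) (.node (.node (.node (.leaf (114, 2)) (.leaf (880, 1))) (.node (.leaf (402, 0)) (.leaf (0, 0)))) (.node (.node (.leaf (245, 1)) (.leaf (1470, 2))) (.node (.leaf (586, 1)) (.leaf (0, 0))))))))))) (.node (.node (.node (.node (.node (.node (.node (.node (.node (.leaf (0, 1)) (.leaf (591, 2))) (.node (.leaf (248, 2)) (.leaf (0, 0)))) (.node (.node (.leaf (118, 0)) (.leaf (887, 1))) (.node (.leaf (406, 1)) (.leaf (0, 0))))) (.node (.node (.node (.leaf (56, 2)) (.leaf (737, 0))) (.node (.leaf (322, 0)) (.leaf (0, 0)))) (.node (.node (.leaf (178, 2)) (.leaf (1083, 0))) (.node (.leaf (500, 2)) (.leaf (0, 0)))))) (.node (.node (.node (.node (.leaf (27, 2)) (.leaf (657, 1))) (.node (.leaf (283, 1)) (.leaf (0, 0)))) (.node (.node (.leaf (148, 0)) (.leaf (979, 2))) (.node (.leaf (448, 1)) (.leaf (0, 0))))) (.node (.node (.node (.leaf (87, 2)) (.leaf (811, 1))) (.node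 (.leaf (363, 0)) (.leaf (0, 0)))) (.node (.node (.leaf (213, 1)) (.leaf (1239, 2))) (.node (.leaf (544, 0)) (.leaf (0, 0))))))) (.node (.node (.node (.node (.node (.leaf (13, 0)) (.leaf (621, 1))) (.node (.leaf (267, 1)) (.leaf (0, 0)))) (.node (.node (.leaf (133, 2)) (.leaf (934, 2))) (.node (.leaf (429, 0)) (.leaf (0, 0))))) (.node (.node (.node (.leaf (72, 0)) (.leaf (774, 2))) (.node (.leaf (340, 2)) (.leaf (0, 0)))) (.node (.node (.leaf (196, 1)) (.leaf (1150, 0))) (.node (.leaf (522, 2)) (.leaf (0, 0)))))) (.node (.node (.node (.node (.leaf (42, 0)) (.leaf (700, 2))) (.node (.leaf (302, 0)) (.leaf (0, 0)))) (.node (.node (.leaf (163, 2)) (.leaf (1019, 1))) (.node (.leaf (471, 2)) (.leaf (0, 0))))) (.node (.node (.node (.leaf (102, 1)) (.leaf (839, 0))) (.node (.leaf (385, 2)) (.leaf (0, 0)))) (.node (.node (.leaf (230, 2)) (.leaf (1356, 2))) (.node (.leaf (567, 1)) (.leaf (0, 0)))))))) (.node (.node (.node (.node (.node (.node (.leaf (6, 1)) (.leaf (607, 2))) (.node (.leaf (258, 1)) (.leaf (0, 0))))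 (.node (.node (.leaf (126, 0)) (.leaf (909, 0))) (.node (.leaf (417, 1)) (.leaf (0, 0))))) (.node (.node (.node (.leaf (64, 1)) (.leaf (756, 1))) (.node (.leaf (331, 1)) (.leaf (0, 0)))) (.node (.node (.leaf (187, 1)) (.leaf (1117, 2))) (.node (.leaf (509, 0)) (.leaf (0, 0)))))) (.node (.node (.node (.node (.leaf (34, 2)) (.leaf (683, 1))) (.node (.leaf (291, 2)) (.leaf (0, 0)))) (.node (.node (.leaf (156, 0)) (.leaf (996, 0))) (.node (.leaf (459, 1)) (.leaf (0, 0))))) (.node (.node (.node (.leaf (94, 2)) (.leaf (826, 1))) (.node (.leaf (371, 2)) (.leaf (0, 0)))) (.node (.node (.leaf (221, 2)) (.leaf (1286, 1))) (.node (.leaf (557, 2)) (.leaf (0, 0))))))) (.node (.node (.node (.node (.node (.leaf (20, 0)) (.leaf (640, 0))) (.node (.leaf (275, 2)) (.leaf (0, 0)))) (.node (.node (.leaf (141, 0)) (.leaf (947, 2))) (.node (.leaf (438, 1)) (.leaf (0, 0))))) (.node (.node (.node (.leaf (79, 0)) (.leaf (792, 2))) (.node (.leaf (353, 2)) (.leaf (0, 0)))) (.node (.node (.leaf (204, 2)) (.leaf (1190, 2))) (.node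 (.leaf (532, 0)) (.leaf (0, 0)))))) (.node (.node (.node (.node (.leaf (50, 0)) (.leaf (720, 1))) (.node (.leaf (309, 2)) (.leaf (0, 0)))) (.node (.node (.leaf (171, 2)) (.leaf (1047, 2))) (.node (.leaf (485, 1)) (.leaf (0, 0))))) (.node (.node (.node (.leaf (109, 2)) (.leaf (864, 1))) (.node (.leaf (394, 2)) (.leaf (0, 0)))) (.node (.node (.leaf (240, 0)) (.leaf (1398, 0))) (.node (.leaf (579, 0)) (.leaf (0, 0))))))))) (.node (.node (.node (.node (.node (.node (.node (.leaf (3, 0)) (.leaf (600, 0))) (.node (.leaf (254, 1)) (.leaf (0, 0)))) (.node (.node (.leaf (121, 2)) (.leaf (901, 1))) (.node (.leaf (412, 2)) (.leaf (0, 0))))) (.node (.node (.node (.leaf (60, 1)) (.leaf (749, 1))) (.node (.leaf (325, 2)) (.leaf (0, 0)))) (.node (.node (.leaf (183, 0)) (.leaf (1100, 0))) (.node (.leaf (504, 1)) (.leaf (0, 0)))))) (.node (.node (.node (.node (.leaf (31, 1)) (.leaf (670, 2))) (.node (.leaf (288, 0)) (.leaf (0, 0)))) (.node (.node (.leaf (152, 1)) (.leaf (985, 1))) (.node (.leaf (454, 0)) (.leaf (0, 0)))))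 (.node (.node (.node (.leaf (91, 0)) (.leaf (819, 2))) (.node (.leaf (367, 2)) (.leaf (0, 0)))) (.node (.node (.leaf (217, 2)) (.leaf (1255, 2))) (.node (.leaf (552, 1)) (.leaf (0, 0))))))) (.node (.node (.node (.node (.node (.leaf (16, 1)) (.leaf (631, 1))) (.node (.leaf (271, 2)) (.leaf (0, 0)))) (.node (.node (.leaf (137, 0)) (.leaf (941, 0))) (.node (.leaf (433, 2)) (.leaf (0, 0))))) (.node (.node (.node (.leaf (75, 0)) (.leaf (785, 2))) (.node (.leaf (346, 1)) (.leaf (0, 0)))) (.node (.node (.leaf (200, 2)) (.leaf (1170, 0))) (.node (.leaf (527, 1)) (.leaf (0, 0)))))) (.node (.node (.node (.node (.leaf (46, 1)) (.leaf (707, 2))) (.node (.leaf (306, 0)) (.leaf (0, 0)))) (.node (.node (.leaf (167, 2)) (.leaf (1032, 1))) (.node (.leaf (477, 2)) (.leaf (0, 0))))) (.node (.node (.node (.leaf (106, 0)) (.leaf (848, 2))) (.node (.leaf (390, 1)) (.leaf (0, 0)))) (.node (.node (.leaf (235, 0)) (.leaf (1376, 1))) (.node (.leaf (574, 1)) (.leaf (0, 0)))))))) (.node (.node (.node (.node (.node (.node (.leaf (10,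 0)) (.leaf (612, 2))) (.node (.leaf (263, 0)) (.leaf (0, 0)))) (.node (.node (.leaf (129, 2)) (.leaf (921, 2))) (.node (.leaf (423, 0)) (.leaf (0, 0))))) (.node (.node (.node (.leaf (68, 0)) (.leaf (765, 2))) (.node (.leaf (336, 1)) (.leaf (0, 0)))) (.node (.node (.leaf (191, 2)) (.leaf (1139, 0))) (.node (.leaf (516, 2)) (.leaf (0, 0)))))) (.node (.node (.node (.node (.leaf (38, 0)) (.leaf (691, 0))) (.node (.leaf (297, 0)) (.leaf (0, 0)))) (.node (.node (.leaf (160, 0)) (.leaf (1007, 1))) (.node (.leaf (465, 1)) (.leaf (0, 0))))) (.node (.node (.node (.leaf (98, 1)) (.leaf (833, 1))) (.node (.leaf (378, 0)) (.leaf (0, 0)))) (.node (.node (.leaf (226, 0)) (.leaf (1331, 0))) (.node (.leaf (562, 0)) (.leaf (0, 0))))))) (.node (.node (.node (.node (.node (.leaf (24, 0)) (.leaf (651, 1))) (.node (.leaf (280, 0)) (.leaf (0, 0)))) (.node (.node (.leaf (144, 0)) (.leaf (965, 0))) (.node (.leaf (443, 0)) (.leaf (0, 0))))) (.node (.node (.node (.leaf (83, 2)) (.leaf (803, 0))) (.node (.leaf (358, 1)) (.leaf (0,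 0)))) (.node (.node (.leaf (209, 0)) (.leaf (1212, 1))) (.node (.leaf (538, 1)) (.leaf (0, 0)))))) (.node (.node (.node (.node (.leaf (53, 1)) (.leaf (726, 0))) (.node (.leaf (314, 2)) (.leaf (0, 0)))) (.node (.node (.leaf (175, 1)) (.leaf (1060, 2))) (.node (.leaf (492, 1)) (.leaf (0, 0))))) (.node (.node (.node (.leaf (113, 0)) (.leaf (876, 2))) (.node (.leaf (400, 2)) (.leaf (0, 0)))) (.node (.node (.leaf (244, 1)) (.leaf (1466, 2))) (.node (.leaf (584, 2)) (.leaf (0, 0)))))))))) (.node (.node (.node (.node (.node (.node (.node (.node (.leaf (1, 2)) (.leaf (595, 2))) (.node (.leaf (252, 1)) (.leaf (0, 0)))) (.node (.node (.leaf (119, 2)) (.leaf (892, 2))) (.node (.leaf (409, 1)) (.leaf (0, 0))))) (.node (.node (.node (.leaf (58, 2)) (.leaf (741, 2))) (.node (.leaf (323, 2)) (.leaf (0, 0)))) (.node (.node (.leaf (181, 0)) (.leaf (1095, 2))) (.node (.leaf (502, 1)) (.leaf (0, 0)))))) (.node (.node (.node (.node (.leaf (29, 1)) (.leaf (663, 1))) (.node (.leaf (286, 0)) (.leaf (0, 0)))) (.node (.node (.leaf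 (150, 1)) (.leaf (981, 1))) (.node (.leaf (451, 0)) (.leaf (0, 0))))) (.node (.node (.node (.leaf (89, 1)) (.leaf (815, 1))) (.node (.leaf (365, 0)) (.leaf (0, 0)))) (.node (.node (.leaf (215, 1)) (.leaf (1245, 1))) (.node (.leaf (548, 0)) (.leaf (0, 0))))))) (.node (.node (.node (.node (.node (.leaf (14, 2)) (.leaf (627, 2))) (.node (.leaf (269, 2)) (.leaf (0, 0)))) (.node (.node (.leaf (135, 1)) (.leaf (938, 2))) (.node (.leaf (431, 1)) (.leaf (0, 0))))) (.node (.node (.node (.leaf (73, 2)) (.leaf (778, 1))) (.node (.leaf (344, 1)) (.leaf (0, 0)))) (.node (.node (.leaf (198, 2)) (.leaf (1158, 1))) (.node (.leaf (525, 1)) (.leaf (0, 0)))))) (.node (.node (.node (.node (.leaf (44, 0)) (.leaf (705, 0))) (.node (.leaf (304, 0)) (.leaf (0, 0)))) (.node (.node (.leaf (165, 2)) (.leaf (1026, 1))) (.node (.leaf (475, 1)) (.leaf (0, 0))))) (.node (.node (.node (.leaf (104, 0)) (.leaf (845, 1))) (.node (.leaf (387, 2)) (.leaf (0, 0)))) (.node (.node (.leaf (233, 0)) (.leaf (1366, 1))) (.node (.leaf (569, 1)) (.leaf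 (0, 0)))))))) (.node (.node (.node (.node (.node (.node (.leaf (8, 1)) (.leaf (610, 2))) (.node (.leaf (260, 1)) (.leaf (0, 0)))) (.node (.node (.leaf (127, 2)) (.leaf (916, 2))) (.node (.leaf (419, 0)) (.leaf (0, 0))))) (.node (.node (.node (.leaf (66, 0)) (.leaf (760, 1))) (.node (.leaf (334, 1)) (.leaf (0, 0)))) (.node (.node (.leaf (190, 0)) (.leaf (1130, 0))) (.node (.leaf (511, 0)) (.leaf (0, 0)))))) (.node (.node (.node (.node (.leaf (36, 2)) (.leaf (685, 1))) (.node (.leaf (295, 1)) (.leaf (0, 0)))) (.node (.node (.leaf (158, 0)) (.leaf (1001, 2))) (.node (.leaf (462, 1)) (.leaf (0, 0))))) (.node (.node (.node (.leaf (96, 2)) (.leaf (830, 0))) (.node (.leaf (374, 2)) (.leaf (0, 0)))) (.node (.node (.leaf (223, 2)) (.leaf (1310, 2))) (.node (.leaf (560, 0)) (.leaf (0, 0))))))) (.node (.node (.node (.node (.node (.leaf (21, 1)) (.leaf (646, 1))) (.node (.leaf (277, 2)) (.leaf (0, 0)))) (.node (.node (.leaf (142, 2)) (.leaf (955, 0))) (.node (.leaf (440, 0)) (.leaf (0, 0))))) (.node (.node (.node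 (.leaf (81, 2)) (.leaf (796, 2))) (.node (.leaf (356, 0)) (.leaf (0, 0)))) (.node (.node (.leaf (206, 2)) (.leaf (1207, 0))) (.node (.leaf (534, 0)) (.leaf (0, 0)))))) (.node (.node (.node (.node (.leaf (51, 2)) (.leaf (723, 0))) (.node (.leaf (312, 0)) (.leaf (0, 0)))) (.node (.node (.leaf (173, 1)) (.leaf (1055, 1))) (.node (.leaf (487, 0)) (.leaf (0, 0))))) (.node (.node (.node (.leaf (111, 1)) (.leaf (871, 1))) (.node (.leaf (398, 0)) (.leaf (0, 0)))) (.node (.node (.leaf (242, 0)) (.leaf (1423, 0))) (.node (.leaf (582, 1)) (.leaf (0, 0))))))))) (.node (.node (.node (.node (.node (.node (.node (.leaf (5, 0)) (.leaf (603, 0))) (.node (.leaf (256, 2)) (.leaf (0, 0)))) (.node (.node (.leaf (124, 0)) (.leaf (904, 1))) (.node (.leaf (415, 0)) (.leaf (0, 0))))) (.node (.node (.node (.leaf (62, 0)) (.leaf (752, 1))) (.node (.leaf (328, 0)) (.leaf (0, 0)))) (.node (.node (.leaf (185, 2)) (.leaf (1106, 0))) (.node (.leaf (506, 2)) (.leaf (0, 0)))))) (.node (.node (.node (.node (.leaf (33, 0)) (.leaf (677, 1)))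 (.node (.leaf (289, 2)) (.leaf (0, 0)))) (.node (.node (.leaf (154, 0)) (.leaf (989, 0))) (.node (.leaf (457, 0)) (.leaf (0, 0))))) (.node (.node (.node (.leaf (93, 0)) (.leaf (822, 1))) (.node (.leaf (369, 2)) (.leaf (0, 0)))) (.node (.node (.leaf (220, 0)) (.leaf (1263, 1))) (.node (.leaf (554, 1)) (.leaf (0, 0))))))) (.node (.node (.node (.node (.node (.leaf (18, 0)) (.leaf (635, 2))) (.node (.leaf (273, 2)) (.leaf (0, 0)))) (.node (.node (.leaf (139, 1)) (.leaf (943, 2))) (.node (.leaf (435, 2)) (.leaf (0, 0))))) (.node (.node (.node (.leaf (77, 1)) (.leaf (788, 0))) (.node (.leaf (349, 1)) (.leaf (0, 0)))) (.node (.node (.leaf (202, 2)) (.leaf (1176, 2))) (.node (.leaf (529, 1)) (.leaf (0, 0)))))) (.node (.node (.node (.node (.leaf (48, 1)) (.leaf (712, 0))) (.node (.leaf (307, 2)) (.leaf (0, 0)))) (.node (.node (.leaf (170, 0)) (.leaf (1036, 2))) (.node (.leaf (480, 2)) (.leaf (0, 0))))) (.node (.node (.node (.leaf (108, 0)) (.leaf (856, 1))) (.node (.leaf (392, 1)) (.leaf (0, 0)))) (.node (.node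 (.leaf (237, 2)) (.leaf (1385, 0))) (.node (.leaf (576, 0)) (.leaf (0, 0)))))))) (.node (.node (.node (.node (.node (.node (.leaf (11, 2)) (.leaf (617, 2))) (.node (.leaf (265, 0)) (.leaf (0, 0)))) (.node (.node (.leaf (131, 1)) (.leaf (927, 0))) (.node (.leaf (425, 2)) (.leaf (0, 0))))) (.node (.node (.node (.leaf (70, 0)) (.leaf (768, 1))) (.node (.leaf (339, 0)) (.leaf (0, 0)))) (.node (.node (.leaf (194, 0)) (.leaf (1146, 0))) (.node (.leaf (520, 0)) (.leaf (0, 0)))))) (.node (.node (.node (.node (.leaf (40, 1)) (.leaf (697, 1))) (.node (.leaf (299, 2)) (.leaf (0, 0)))) (.node (.node (.leaf (161, 2)) (.leaf (1012, 1))) (.node (.leaf (467, 2)) (.leaf (0, 0))))) (.node (.node (.node (.leaf (100, 2)) (.leaf (835, 1))) (.node (.leaf (382, 0)) (.leaf (0, 0)))) (.node (.node (.leaf (228, 1)) (.leaf (1344, 1))) (.node (.leaf (565, 0)) (.leaf (0, 0))))))) (.node (.node (.node (.node (.node (.leaf (25, 2)) (.leaf (654, 1))) (.node (.leaf (281, 2)) (.leaf (0, 0)))) (.node (.node (.leaf (146, 0)) (.leaf (973,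 0))) (.node (.leaf (445, 1)) (.leaf (0, 0))))) (.node (.node (.node (.leaf (86, 0)) (.leaf (806, 2))) (.node (.leaf (360, 2)) (.leaf (0, 0)))) (.node (.node (.leaf (211, 0)) (.leaf (1227, 1))) (.node (.leaf (541, 0)) (.leaf (0, 0)))))) (.node (.node (.node (.node (.leaf (55, 0)) (.leaf (733, 0))) (.node (.leaf (316, 2)) (.leaf (0, 0)))) (.node (.node (.leaf (177, 0)) (.leaf (1074, 1))) (.node (.leaf (496, 2)) (.leaf (0, 0))))) (.node (.node (.node (.leaf (115, 2)) (.leaf (881, 2))) (.node (.leaf (404, 0)) (.leaf (0, 0)))) (.node (.node (.leaf (246, 0)) (.leaf (1486, 0))) (.node (.leaf (588, 1)) (.leaf (0, 0)))))))))))) (.node (.node (.node (.node (.node (.node (.node (.node (.node (.node (.leaf (0, 0)) (.leaf (591, 1))) (.node (.leaf (248, 0)) (.leaf (0, 0)))) (.node (.node (.leaf (117, 2)) (.leaf (886, 2))) (.node (.leaf (405, 2)) (.leaf (0, 0))))) (.node (.node (.node (.leaf (56, 1)) (.leaf (736, 0))) (.node (.leaf (320, 2)) (.leaf (0, 0)))) (.node (.node (.leaf (178, 1)) (.leaf (1079, 0))) (.node (.leaf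 (499, 2)) (.leaf (0, 0)))))) (.node (.node (.node (.node (.leaf (27, 0)) (.leaf (656, 2))) (.node (.leaf (283, 0)) (.leaf (0, 0)))) (.node (.node (.leaf (147, 2)) (.leaf (979, 0))) (.node (.leaf (447, 0)) (.leaf (0, 0))))) (.node (.node (.node (.leaf (87, 1)) (.leaf (809, 1))) (.node (.leaf (362, 1)) (.leaf (0, 0)))) (.node (.node (.leaf (213, 0)) (.leaf (1236, 2))) (.node (.leaf (543, 1)) (.leaf (0, 0))))))) (.node (.node (.node (.node (.node (.leaf (12, 2)) (.leaf (621, 0))) (.node (.leaf (267, 0)) (.leaf (0, 0)))) (.node (.node (.leaf (133, 0)) (.leaf (932, 1))) (.node (.leaf (428, 1)) (.leaf (0, 0))))) (.node (.node (.node (.leaf (71, 1)) (.leaf (773, 1))) (.node (.leaf (340, 1)) (.leaf (0, 0)))) (.node (.node (.leaf (196, 0)) (.leaf (1148, 1))) (.node (.leaf (522, 0)) (.leaf (0, 0)))))) (.node (.node (.node (.node (.leaf (41, 2)) (.leaf (700, 0))) (.node (.leaf (301, 0)) (.leaf (0, 0)))) (.node (.node (.leaf (163, 0)) (.leaf (1019, 0))) (.node (.leaf (470, 1)) (.leaf (0, 0))))) (.node (.node (.node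 (.leaf (102, 0)) (.leaf (838, 2))) (.node (.leaf (384, 1)) (.leaf (0, 0)))) (.node (.node (.leaf (230, 1)) (.leaf (1353, 2))) (.node (.leaf (567, 0)) (.leaf (0, 0)))))))) (.node (.node (.node (.node (.node (.node (.leaf (6, 0)) (.leaf (605, 2))) (.node (.leaf (258, 0)) (.leaf (0, 0)))) (.node (.node (.leaf (125, 0)) (.leaf (907, 1))) (.node (.leaf (416, 1)) (.leaf (0, 0))))) (.node (.node (.node (.leaf (64, 0)) (.leaf (756, 0))) (.node (.leaf (330, 2)) (.leaf (0, 0)))) (.node (.node (.leaf (187, 0)) (.leaf (1111, 1))) (.node (.leaf (508, 2)) (.leaf (0, 0)))))) (.node (.node (.node (.node (.leaf (34, 1)) (.leaf (682, 2))) (.node (.leaf (291, 1)) (.leaf (0, 0)))) (.node (.node (.leaf (155, 0)) (.leaf (995, 2))) (.node (.leaf (459, 0)) (.leaf (0, 0))))) (.node (.node (.node (.leaf (94, 0)) (.leaf (825, 1))) (.node (.leaf (371, 1)) (.leaf (0, 0)))) (.node (.node (.leaf (221, 0)) (.leaf (1279, 0))) (.node (.leaf (557, 0)) (.leaf (0, 0))))))) (.node (.node (.node (.node (.node (.leaf (19, 2)) (.leaf (639, 0)))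 (.node (.leaf (275, 0)) (.leaf (0, 0)))) (.node (.node (.leaf (140, 2)) (.leaf (947, 0))) (.node (.leaf (438, 0)) (.leaf (0, 0))))) (.node (.node (.node (.leaf (78, 2)) (.leaf (789, 0))) (.node (.leaf (353, 1)) (.leaf (0, 0)))) (.node (.node (.leaf (204, 1)) (.leaf (1187, 1))) (.node (.leaf (531, 1)) (.leaf (0, 0)))))) (.node (.node (.node (.node (.leaf (49, 1)) (.leaf (719, 1))) (.node (.leaf (309, 0)) (.leaf (0, 0)))) (.node (.node (.leaf (171, 0)) (.leaf (1045, 2))) (.node (.leaf (485, 0)) (.leaf (0, 0))))) (.node (.node (.node (.leaf (109, 0)) (.leaf (863, 2))) (.node (.leaf (394, 1)) (.leaf (0, 0)))) (.node (.node (.leaf (239, 2)) (.leaf (1396, 1))) (.node (.leaf (578, 2)) (.leaf (0, 0))))))))) (.node (.node (.node (.node (.node (.node (.node (.leaf (2, 2)) (.leaf (599, 2))) (.node (.leaf (254, 0)) (.leaf (0, 0)))) (.node (.node (.leaf (121, 1)) (.leaf (900, 2))) (.node (.leaf (412, 1)) (.leaf (0, 0))))) (.node (.node (.node (.leaf (60, 0)) (.leaf (748, 1))) (.node (.leaf (325, 1)) (.leaf (0, 0))))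 (.node (.node (.leaf (182, 1)) (.leaf (1099, 0))) (.node (.leaf (503, 2)) (.leaf (0, 0)))))) (.node (.node (.node (.node (.leaf (31, 0)) (.leaf (670, 1))) (.node (.leaf (287, 1)) (.leaf (0, 0)))) (.node (.node (.leaf (151, 2)) (.leaf (985, 0))) (.node (.leaf (453, 2)) (.leaf (0, 0))))) (.node (.node (.node (.leaf (90, 2)) (.leaf (817, 2))) (.node (.leaf (367, 0)) (.leaf (0, 0)))) (.node (.node (.leaf (217, 1)) (.leaf (1250, 2))) (.node (.leaf (551, 2)) (.leaf (0, 0))))))) (.node (.node (.node (.node (.node (.leaf (16, 0)) (.leaf (630, 2))) (.node (.leaf (271, 0)) (.leaf (0, 0)))) (.node (.node (.leaf (136, 1)) (.leaf (940, 2))) (.node (.leaf (433, 0)) (.leaf (0, 0))))) (.node (.node (.node (.leaf (74, 2)) (.leaf (785, 0))) (.node (.leaf (345, 2)) (.leaf (0, 0)))) (.node (.node (.leaf (200, 0)) (.leaf (1166, 2))) (.node (.leaf (527, 0)) (.leaf (0, 0)))))) (.node (.node (.node (.node (.leaf (46, 0)) (.leaf (707, 0))) (.node (.leaf (305, 1)) (.leaf (0, 0)))) (.node (.node (.leaf (167, 1)) (.leaf (1031, 2)))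 (.node (.leaf (477, 1)) (.leaf (0, 0))))) (.node (.node (.node (.leaf (105, 2)) (.leaf (848, 1))) (.node (.leaf (389, 0)) (.leaf (0, 0)))) (.node (.node (.leaf (234, 1)) (.leaf (1372, 1))) (.node (.leaf (574, 0)) (.leaf (0, 0)))))))) (.node (.node (.node (.node (.node (.node (.leaf (9, 1)) (.leaf (612, 1))) (.node (.leaf (262, 1)) (.leaf (0, 0)))) (.node (.node (.leaf (129, 0)) (.leaf (921, 0))) (.node (.leaf (421, 2)) (.leaf (0, 0))))) (.node (.node (.node (.leaf (67, 1)) (.leaf (764, 1))) (.node (.leaf (335, 2)) (.leaf (0, 0)))) (.node (.node (.leaf (191, 0)) (.leaf (1136, 0))) (.node (.leaf (515, 1)) (.leaf (0, 0)))))) (.node (.node (.node (.node (.leaf (37, 2)) (.leaf (687, 1))) (.node (.leaf (296, 2)) (.leaf (0, 0)))) (.node (.node (.leaf (159, 1)) (.leaf (1006, 1))) (.node (.leaf (464, 1)) (.leaf (0, 0))))) (.node (.node (.node (.leaf (98, 0)) (.leaf (832, 0))) (.node (.leaf (376, 2)) (.leaf (0, 0)))) (.node (.node (.leaf (225, 2)) (.leaf (1327, 0))) (.node (.leaf (561, 2)) (.leaf (0, 0))))))) (.node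 (.node (.node (.node (.node (.leaf (23, 1)) (.leaf (651, 0))) (.node (.leaf (279, 2)) (.leaf (0, 0)))) (.node (.node (.leaf (143, 2)) (.leaf (963, 2))) (.node (.leaf (442, 2)) (.leaf (0, 0))))) (.node (.node (.node (.leaf (83, 1)) (.leaf (801, 0))) (.node (.leaf (358, 0)) (.leaf (0, 0)))) (.node (.node (.leaf (208, 1)) (.leaf (1210, 0))) (.node (.leaf (536, 1)) (.leaf (0, 0)))))) (.node (.node (.node (.node (.leaf (53, 0)) (.leaf (724, 0))) (.node (.leaf (314, 1)) (.leaf (0, 0)))) (.node (.node (.leaf (174, 2)) (.leaf (1057, 2))) (.node (.leaf (491, 2)) (.leaf (0, 0))))) (.node (.node (.node (.leaf (112, 2)) (.leaf (875, 2))) (.node (.leaf (399, 1)) (.leaf (0, 0)))) (.node (.node (.leaf (244, 0)) (.leaf (1454, 1))) (.node (.leaf (584, 1)) (.leaf (0, 0)))))))))) (.node (.node (.node (.node (.node (.node (.node (.node (.leaf (1, 1)) (.leaf (594, 1))) (.node (.leaf (250, 2)) (.leaf (0, 0)))) (.node (.node (.leaf (119, 1)) (.leaf (891, 1))) (.node (.leaf (409, 0)) (.leaf (0, 0))))) (.node (.node (.node (.leaf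 (58, 1)) (.leaf (739, 0))) (.node (.leaf (323, 1)) (.leaf (0, 0)))) (.node (.node (.leaf (180, 2)) (.leaf (1093, 1))) (.node (.leaf (502, 0)) (.leaf (0, 0)))))) (.node (.node (.node (.node (.leaf (29, 0)) (.leaf (662, 2))) (.node (.leaf (285, 2)) (.leaf (0, 0)))) (.node (.node (.leaf (150, 0)) (.leaf (981, 0))) (.node (.leaf (449, 2)) (.leaf (0, 0))))) (.node (.node (.node (.leaf (89, 0)) (.leaf (815, 0))) (.node (.leaf (364, 2)) (.leaf (0, 0)))) (.node (.node (.leaf (215, 0)) (.leaf (1243, 1))) (.node (.leaf (547, 1)) (.leaf (0, 0))))))) (.node (.node (.node (.node (.node (.leaf (14, 1)) (.leaf (627, 0))) (.node (.leaf (268, 1)) (.leaf (0, 0)))) (.node (.node (.leaf (135, 0)) (.leaf (938, 0))) (.node (.leaf (430, 1)) (.leaf (0, 0))))) (.node (.node (.node (.leaf (73, 1)) (.leaf (778, 0))) (.node (.leaf (344, 0)) (.leaf (0, 0)))) (.node (.node (.leaf (198, 0)) (.leaf (1157, 0))) (.node (.leaf (524, 1)) (.leaf (0, 0)))))) (.node (.node (.node (.node (.leaf (43, 2)) (.leaf (703, 1))) (.node (.leaf (303,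 1)) (.leaf (0, 0)))) (.node (.node (.leaf (165, 1)) (.leaf (1025, 2))) (.node (.leaf (475, 0)) (.leaf (0, 0))))) (.node (.node (.node (.leaf (103, 1)) (.leaf (844, 1))) (.node (.leaf (387, 1)) (.leaf (0, 0)))) (.node (.node (.leaf (232, 2)) (.leaf (1365, 2))) (.node (.leaf (569, 0)) (.leaf (0, 0)))))))) (.node (.node (.node (.node (.node (.node (.leaf (7, 2)) (.leaf (610, 0))) (.node (.leaf (259, 2)) (.leaf (0, 0)))) (.node (.node (.leaf (127, 0)) (.leaf (914, 1))) (.node (.leaf (418, 2)) (.leaf (0, 0))))) (.node (.node (.node (.leaf (65, 2)) (.leaf (759, 2))) (.node (.leaf (332, 2)) (.leaf (0, 0)))) (.node (.node (.leaf (189, 1)) (.leaf (1129, 1))) (.node (.leaf (510, 2)) (.leaf (0, 0)))))) (.node (.node (.node (.node (.leaf (36, 1)) (.leaf (684, 2))) (.node (.leaf (295, 0)) (.leaf (0, 0)))) (.node (.node (.leaf (157, 1)) (.leaf (1001, 1))) (.node (.leaf (461, 2)) (.leaf (0, 0))))) (.node (.node (.node (.leaf (96, 0)) (.leaf (828, 1))) (.node (.leaf (373, 1)) (.leaf (0, 0)))) (.node (.node (.leaf (223,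 1)) (.leaf (1309, 2))) (.node (.leaf (559, 2)) (.leaf (0, 0))))))) (.node (.node (.node (.node (.node (.leaf (21, 0)) (.leaf (645, 2))) (.node (.leaf (277, 1)) (.leaf (0, 0)))) (.node (.node (.leaf (142, 1)) (.leaf (954, 0))) (.node (.leaf (439, 2)) (.leaf (0, 0))))) (.node (.node (.node (.leaf (81, 0)) (.leaf (796, 1))) (.node (.leaf (355, 0)) (.leaf (0, 0)))) (.node (.node (.leaf (206, 1)) (.leaf (1204, 2))) (.node (.leaf (533, 0)) (.leaf (0, 0)))))) (.node (.node (.node (.node (.leaf (51, 1)) (.leaf (722, 0))) (.node (.leaf (311, 2)) (.leaf (0, 0)))) (.node (.node (.leaf (173, 0)) (.leaf (1053, 0))) (.node (.leaf (486, 2)) (.leaf (0, 0))))) (.node (.node (.node (.leaf (111, 0)) (.leaf (870, 2))) (.node (.leaf (397, 0)) (.leaf (0, 0)))) (.node (.node (.leaf (241, 2)) (.leaf (1418, 1))) (.node (.leaf (581, 1)) (.leaf (0, 0))))))))) (.node (.node (.node (.node (.node (.node (.node (.leaf (4, 2)) (.leaf (602, 1))) (.node (.leaf (256, 0)) (.leaf (0, 0)))) (.node (.node (.leaf (123, 1)) (.leaf (904, 0)))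 (.node (.leaf (414, 1)) (.leaf (0, 0))))) (.node (.node (.node (.leaf (61, 2)) (.leaf (751, 0))) (.node (.leaf (327, 1)) (.leaf (0, 0)))) (.node (.node (.leaf (184, 2)) (.leaf (1104, 1))) (.node (.leaf (506, 0)) (.leaf (0, 0)))))) (.node (.node (.node (.node (.leaf (32, 2)) (.leaf (675, 2))) (.node (.leaf (289, 1)) (.leaf (0, 0)))) (.node (.node (.leaf (153, 2)) (.leaf (987, 2))) (.node (.leaf (456, 0)) (.leaf (0, 0))))) (.node (.node (.node (.leaf (92, 1)) (.leaf (822, 0))) (.node (.leaf (369, 1)) (.leaf (0, 0)))) (.node (.node (.leaf (219, 1)) (.leaf (1260, 2))) (.node (.leaf (554, 0)) (.leaf (0, 0))))))) (.node (.node (.node (.node (.node (.leaf (17, 2)) (.leaf (634, 1))) (.node (.leaf (273, 1)) (.leaf (0, 0)))) (.node (.node (.leaf (138, 2)) (.leaf (943, 1))) (.node (.leaf (435, 1)) (.leaf (0, 0))))) (.node (.node (.node (.leaf (77, 0)) (.leaf (787, 1))) (.node (.leaf (349, 0)) (.leaf (0, 0)))) (.node (.node (.leaf (202, 1)) (.leaf (1175, 1))) (.node (.leaf (528, 2)) (.leaf (0, 0)))))) (.node (.node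 (.node (.node (.leaf (48, 0)) (.leaf (710, 2))) (.node (.leaf (307, 0)) (.leaf (0, 0)))) (.node (.node (.leaf (169, 1)) (.leaf (1035, 0))) (.node (.leaf (480, 1)) (.leaf (0, 0))))) (.node (.node (.node (.leaf (107, 1)) (.leaf (853, 0))) (.node (.leaf (392, 0)) (.leaf (0, 0)))) (.node (.node (.leaf (236, 1)) (.leaf (1383, 1))) (.node (.leaf (575, 2)) (.leaf (0, 0)))))))) (.node (.node (.node (.node (.node (.node (.leaf (11, 0)) (.leaf (617, 0))) (.node (.leaf (264, 0)) (.leaf (0, 0)))) (.node (.node (.leaf (131, 0)) (.leaf (926, 1))) (.node (.leaf (425, 1)) (.leaf (0, 0))))) (.node (.node (.node (.leaf (69, 2)) (.leaf (768, 0))) (.node (.leaf (338, 2)) (.leaf (0, 0)))) (.node (.node (.leaf (193, 2)) (.leaf (1143, 2))) (.node (.leaf (519, 2)) (.leaf (0, 0)))))) (.node (.node (.node (.node (.leaf (40, 0)) (.leaf (696, 1))) (.node (.leaf (299, 0)) (.leaf (0, 0)))) (.node (.node (.leaf (161, 0)) (.leaf (1011, 1))) (.node (.leaf (467, 1)) (.leaf (0, 0))))) (.node (.node (.node (.leaf (100, 0)) (.leaf (834, 2)))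 (.node (.leaf (381, 1)) (.leaf (0, 0)))) (.node (.node (.leaf (228, 0)) (.leaf (1343, 2))) (.node (.leaf (564, 2)) (.leaf (0, 0))))))) (.node (.node (.node (.node (.node (.leaf (25, 0)) (.leaf (653, 0))) (.node (.leaf (281, 1)) (.leaf (0, 0)))) (.node (.node (.leaf (145, 2)) (.leaf (970, 0))) (.node (.leaf (444, 1)) (.leaf (0, 0))))) (.node (.node (.node (.leaf (85, 2)) (.leaf (806, 0))) (.node (.leaf (360, 0)) (.leaf (0, 0)))) (.node (.node (.leaf (210, 0)) (.leaf (1223, 1))) (.node (.leaf (540, 1)) (.leaf (0, 0)))))) (.node (.node (.node (.node (.leaf (54, 2)) (.leaf (731, 1))) (.node (.leaf (316, 0)) (.leaf (0, 0)))) (.node (.node (.leaf (176, 2)) (.leaf (1071, 1))) (.node (.leaf (496, 1)) (.leaf (0, 0))))) (.node (.node (.node (.leaf (115, 1)) (.leaf (881, 1))) (.node (.leaf (403, 1)) (.leaf (0, 0)))) (.node (.node (.leaf (245, 2)) (.leaf (1471, 1))) (.node (.leaf (587, 0)) (.leaf (0, 0))))))))))) (.node (.node (.node (.node (.node (.node (.node (.node (.node (.leaf (0, 2)) (.leaf (593, 0))) (.node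 (.leaf (250, 0)) (.leaf (0, 0)))) (.node (.node (.leaf (118, 1)) (.leaf (888, 0))) (.node (.leaf (407, 0)) (.leaf (0, 0))))) (.node (.node (.node (.leaf (57, 0)) (.leaf (737, 2))) (.node (.leaf (322, 2)) (.leaf (0, 0)))) (.node (.node (.leaf (179, 0)) (.leaf (1092, 0))) (.node (.leaf (501, 0)) (.leaf (0, 0)))))) (.node (.node (.node (.node (.leaf (28, 0)) (.leaf (661, 0))) (.node (.leaf (284, 0)) (.leaf (0, 0)))) (.node (.node (.leaf (149, 0)) (.leaf (980, 0))) (.node (.leaf (448, 2)) (.leaf (0, 0))))) (.node (.node (.node (.leaf (88, 1)) (.leaf (813, 0))) (.node (.leaf (363, 1)) (.leaf (0, 0)))) (.node (.node (.leaf (213, 2)) (.leaf (1240, 1))) (.node (.leaf (545, 1)) (.leaf (0, 0))))))) (.node (.node (.node (.node (.node (.leaf (13, 1)) (.leaf (622, 0))) (.node (.leaf (267, 2)) (.leaf (0, 0)))) (.node (.node (.leaf (134, 0)) (.leaf (935, 1))) (.node (.leaf (429, 2)) (.leaf (0, 0))))) (.node (.node (.node (.leaf (72, 1)) (.leaf (775, 0))) (.node (.leaf (341, 0)) (.leaf (0, 0)))) (.node (.node (.leaf (197,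 1)) (.leaf (1152, 1))) (.node (.leaf (523, 0)) (.leaf (0, 0)))))) (.node (.node (.node (.node (.leaf (42, 2)) (.leaf (701, 1))) (.node (.leaf (302, 2)) (.leaf (0, 0)))) (.node (.node (.leaf (164, 0)) (.leaf (1022, 2))) (.node (.leaf (472, 2)) (.leaf (0, 0))))) (.node (.node (.node (.leaf (102, 2)) (.leaf (842, 1))) (.node (.leaf (386, 1)) (.leaf (0, 0)))) (.node (.node (.leaf (231, 0)) (.leaf (1361, 1))) (.node (.leaf (568, 0)) (.leaf (0, 0)))))))) (.node (.node (.node (.node (.node (.node (.leaf (7, 0)) (.leaf (608, 1))) (.node (.leaf (258, 2)) (.leaf (0, 0)))) (.node (.node (.leaf (126, 1)) (.leaf (909, 1))) (.node (.leaf (417, 2)) (.leaf (0, 0))))) (.node (.node (.node (.leaf (65, 0)) (.leaf (758, 0))) (.node (.leaf (332, 0)) (.leaf (0, 0)))) (.node (.node (.leaf (188, 2)) (.leaf (1123, 2))) (.node (.leaf (510, 0)) (.leaf (0, 0)))))) (.node (.node (.node (.node (.leaf (35, 0)) (.leaf (684, 0))) (.node (.leaf (293, 1)) (.leaf (0, 0)))) (.node (.node (.leaf (156, 2)) (.leaf (997, 1))) (.node (.leaf (460,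 1)) (.leaf (0, 0))))) (.node (.node (.node (.leaf (95, 1)) (.leaf (827, 1))) (.node (.leaf (372, 0)) (.leaf (0, 0)))) (.node (.node (.leaf (222, 0)) (.leaf (1304, 0))) (.node (.leaf (558, 1)) (.leaf (0, 0))))))) (.node (.node (.node (.node (.node (.leaf (20, 1)) (.leaf (640, 1))) (.node (.leaf (276, 0)) (.leaf (0, 0)))) (.node (.node (.leaf (141, 1)) (.leaf (948, 0))) (.node (.leaf (439, 0)) (.leaf (0, 0))))) (.node (.node (.node (.leaf (79, 2)) (.leaf (794, 2))) (.node (.leaf (354, 0)) (.leaf (0, 0)))) (.node (.node (.leaf (205, 0)) (.leaf (1195, 2))) (.node (.leaf (532, 1)) (.leaf (0, 0)))))) (.node (.node (.node (.node (.leaf (50, 1)) (.leaf (721, 0))) (.node (.leaf (310, 1)) (.leaf (0, 0)))) (.node (.node (.leaf (172, 0)) (.leaf (1049, 2))) (.node (.leaf (486, 0)) (.leaf (0, 0))))) (.node (.node (.node (.leaf (110, 1)) (.leaf (866, 0))) (.node (.leaf (396, 0)) (.leaf (0, 0)))) (.node (.node (.leaf (240, 1)) (.leaf (1404, 0))) (.node (.leaf (579, 2)) (.leaf (0, 0))))))))) (.node (.node (.node (.node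 (.node (.node (.node (.leaf (3, 1)) (.leaf (601, 1))) (.node (.leaf (255, 1)) (.leaf (0, 0)))) (.node (.node (.leaf (122, 0)) (.leaf (902, 2))) (.node (.leaf (413, 0)) (.leaf (0, 0))))) (.node (.node (.node (.leaf (61, 0)) (.leaf (749, 2))) (.node (.leaf (326, 0)) (.leaf (0, 0)))) (.node (.node (.leaf (183, 2)) (.leaf (1101, 0))) (.node (.leaf (505, 0)) (.leaf (0, 0)))))) (.node (.node (.node (.node (.leaf (31, 2)) (.leaf (671, 0))) (.node (.leaf (288, 1)) (.leaf (0, 0)))) (.node (.node (.leaf (152, 2)) (.leaf (986, 2))) (.node (.leaf (455, 0)) (.leaf (0, 0))))) (.node (.node (.node (.leaf (91, 2)) (.leaf (821, 0))) (.node (.leaf (368, 1)) (.leaf (0, 0)))) (.node (.node (.leaf (218, 0)) (.leaf (1256, 2))) (.node (.leaf (553, 0)) (.leaf (0, 0))))))) (.node (.node (.node (.node (.node (.leaf (17, 0)) (.leaf (633, 2))) (.node (.leaf (272, 0)) (.leaf (0, 0)))) (.node (.node (.leaf (137, 1)) (.leaf (942, 2))) (.node (.leaf (434, 0)) (.leaf (0, 0))))) (.node (.node (.node (.leaf (75, 1)) (.leaf (786, 0))) (.node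 (.leaf (346, 2)) (.leaf (0, 0)))) (.node (.node (.leaf (201, 1)) (.leaf (1171, 1))) (.node (.leaf (527, 2)) (.leaf (0, 0)))))) (.node (.node (.node (.node (.leaf (46, 2)) (.leaf (708, 2))) (.node (.leaf (306, 1)) (.leaf (0, 0)))) (.node (.node (.leaf (168, 2)) (.leaf (1034, 1))) (.node (.leaf (478, 0)) (.leaf (0, 0))))) (.node (.node (.node (.leaf (106, 2)) (.leaf (851, 2))) (.node (.leaf (390, 2)) (.leaf (0, 0)))) (.node (.node (.leaf (235, 1)) (.leaf (1376, 2))) (.node (.leaf (575, 0)) (.leaf (0, 0)))))))) (.node (.node (.node (.node (.node (.node (.leaf (10, 1)) (.leaf (616, 0))) (.node (.leaf (263, 1)) (.leaf (0, 0)))) (.node (.node (.leaf (130, 0)) (.leaf (923, 1))) (.node (.leaf (424, 1)) (.leaf (0, 0))))) (.node (.node (.node (.leaf (68, 2)) (.leaf (766, 1))) (.node (.leaf (337, 1)) (.leaf (0, 0)))) (.node (.node (.leaf (192, 2)) (.leaf (1139, 1))) (.node (.leaf (517, 0)) (.leaf (0, 0)))))) (.node (.node (.node (.node (.leaf (38, 1)) (.leaf (692, 0))) (.node (.leaf (297, 2)) (.leaf (0, 0)))) (.node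 (.node (.leaf (160, 1)) (.leaf (1008, 2))) (.node (.leaf (466, 0)) (.leaf (0, 0))))) (.node (.node (.node (.leaf (98, 2)) (.leaf (833, 2))) (.node (.leaf (380, 0)) (.leaf (0, 0)))) (.node (.node (.leaf (227, 0)) (.leaf (1335, 2))) (.node (.leaf (563, 1)) (.leaf (0, 0))))))) (.node (.node (.node (.node (.node (.leaf (24, 1)) (.leaf (651, 2))) (.node (.leaf (280, 1)) (.leaf (0, 0)))) (.node (.node (.leaf (144, 1)) (.leaf (966, 1))) (.node (.leaf (443, 2)) (.leaf (0, 0))))) (.node (.node (.node (.leaf (84, 0)) (.leaf (803, 1))) (.node (.leaf (359, 0)) (.leaf (0, 0)))) (.node (.node (.leaf (209, 1)) (.leaf (1212, 2))) (.node (.leaf (539, 0)) (.leaf (0, 0)))))) (.node (.node (.node (.node (.leaf (53, 2)) (.leaf (728, 2))) (.node (.leaf (315, 0)) (.leaf (0, 0)))) (.node (.node (.leaf (175, 2)) (.leaf (1063, 1))) (.node (.leaf (492, 2)) (.leaf (0, 0))))) (.node (.node (.node (.leaf (113, 2)) (.leaf (877, 2))) (.node (.leaf (401, 1)) (.leaf (0, 0)))) (.node (.node (.leaf (245, 0)) (.leaf (1467, 1))) (.node (.leaf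 (585, 0)) (.leaf (0, 0)))))))))) (.node (.node (.node (.node (.node (.node (.node (.node (.leaf (2, 0)) (.leaf (597, 1))) (.node (.leaf (253, 1)) (.leaf (0, 0)))) (.node (.node (.leaf (120, 0)) (.leaf (895, 0))) (.node (.leaf (409, 2)) (.leaf (0, 0))))) (.node (.node (.node (.leaf (59, 0)) (.leaf (742, 1))) (.node (.leaf (324, 0)) (.leaf (0, 0)))) (.node (.node (.leaf (181, 2)) (.leaf (1096, 1))) (.node (.leaf (502, 2)) (.leaf (0, 0)))))) (.node (.node (.node (.node (.leaf (29, 2)) (.leaf (668, 1))) (.node (.leaf (286, 2)) (.leaf (0, 0)))) (.node (.node (.leaf (150, 2)) (.leaf (982, 2))) (.node (.leaf (452, 0)) (.leaf (0, 0))))) (.node (.node (.node (.leaf (90, 0)) (.leaf (816, 0))) (.node (.leaf (365, 2)) (.leaf (0, 0)))) (.node (.node (.leaf (216, 0)) (.leaf (1248, 2))) (.node (.leaf (548, 1)) (.leaf (0, 0))))))) (.node (.node (.node (.node (.node (.leaf (15, 1)) (.leaf (628, 2))) (.node (.leaf (270, 1)) (.leaf (0, 0)))) (.node (.node (.leaf (135, 2)) (.leaf (940, 0))) (.node (.leaf (431, 2)) (.leaf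 (0, 0))))) (.node (.node (.node (.leaf (74, 0)) (.leaf (780, 2))) (.node (.leaf (344, 2)) (.leaf (0, 0)))) (.node (.node (.leaf (199, 1)) (.leaf (1164, 2))) (.node (.leaf (525, 2)) (.leaf (0, 0)))))) (.node (.node (.node (.node (.leaf (44, 2)) (.leaf (706, 1))) (.node (.leaf (304, 1)) (.leaf (0, 0)))) (.node (.node (.leaf (166, 0)) (.leaf (1028, 0))) (.node (.leaf (475, 2)) (.leaf (0, 0))))) (.node (.node (.node (.leaf (104, 2)) (.leaf (846, 0))) (.node (.leaf (388, 0)) (.leaf (0, 0)))) (.node (.node (.leaf (233, 1)) (.leaf (1367, 1))) (.node (.leaf (570, 2)) (.leaf (0, 0)))))))) (.node (.node (.node (.node (.node (.node (.leaf (8, 2)) (.leaf (611, 0))) (.node (.leaf (261, 0)) (.leaf (0, 0)))) (.node (.node (.leaf (128, 1)) (.leaf (918, 2))) (.node (.leaf (419, 2)) (.leaf (0, 0))))) (.node (.node (.node (.leaf (66, 1)) (.leaf (760, 2))) (.node (.leaf (334, 2)) (.leaf (0, 0)))) (.node (.node (.leaf (190, 1)) (.leaf (1132, 2))) (.node (.leaf (512, 0)) (.leaf (0, 0)))))) (.node (.node (.node (.node (.leaf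 (37, 0)) (.leaf (685, 2))) (.node (.leaf (296, 0)) (.leaf (0, 0)))) (.node (.node (.leaf (158, 1)) (.leaf (1004, 0))) (.node (.leaf (462, 2)) (.leaf (0, 0))))) (.node (.node (.node (.leaf (97, 0)) (.leaf (831, 1))) (.node (.leaf (376, 0)) (.leaf (0, 0)))) (.node (.node (.leaf (224, 0)) (.leaf (1314, 1))) (.node (.leaf (561, 0)) (.leaf (0, 0))))))) (.node (.node (.node (.node (.node (.leaf (22, 2)) (.leaf (647, 2))) (.node (.leaf (278, 0)) (.leaf (0, 0)))) (.node (.node (.leaf (143, 0)) (.leaf (961, 0))) (.node (.leaf (440, 1)) (.leaf (0, 0))))) (.node (.node (.node (.leaf (82, 1)) (.leaf (798, 1))) (.node (.leaf (356, 2)) (.leaf (0, 0)))) (.node (.node (.leaf (207, 0)) (.leaf (1208, 1))) (.node (.leaf (535, 0)) (.leaf (0, 0)))))) (.node (.node (.node (.node (.leaf (52, 0)) (.leaf (723, 1))) (.node (.leaf (313, 0)) (.leaf (0, 0)))) (.node (.node (.leaf (173, 2)) (.leaf (1056, 1))) (.node (.leaf (490, 0)) (.leaf (0, 0))))) (.node (.node (.node (.leaf (112, 0)) (.leaf (872, 2))) (.node (.leaf (398, 1)) (.leaf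 (0, 0)))) (.node (.node (.leaf (242, 1)) (.leaf (1436, 0))) (.node (.leaf (583, 1)) (.leaf (0, 0))))))))) (.node (.node (.node (.node (.node (.node (.node (.leaf (5, 1)) (.leaf (604, 1))) (.node (.leaf (257, 0)) (.leaf (0, 0)))) (.node (.node (.leaf (124, 1)) (.leaf (904, 2))) (.node (.leaf (415, 2)) (.leaf (0, 0))))) (.node (.node (.node (.leaf (63, 0)) (.leaf (752, 2))) (.node (.leaf (328, 1)) (.leaf (0, 0)))) (.node (.node (.leaf (186, 0)) (.leaf (1109, 1))) (.node (.leaf (507, 1)) (.leaf (0, 0)))))) (.node (.node (.node (.node (.leaf (33, 1)) (.leaf (678, 0))) (.node (.leaf (290, 0)) (.leaf (0, 0)))) (.node (.node (.leaf (154, 1)) (.leaf (989, 1))) (.node (.leaf (457, 2)) (.leaf (0, 0))))) (.node (.node (.node (.leaf (93, 1)) (.leaf (824, 0))) (.node (.leaf (370, 0)) (.leaf (0, 0)))) (.node (.node (.leaf (220, 1)) (.leaf (1269, 1))) (.node (.leaf (555, 0)) (.leaf (0, 0))))))) (.node (.node (.node (.node (.node (.leaf (18, 2)) (.leaf (638, 0))) (.node (.leaf (274, 1)) (.leaf (0, 0)))) (.node (.node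 (.leaf (139, 2)) (.leaf (944, 0))) (.node (.leaf (436, 0)) (.leaf (0, 0))))) (.node (.node (.node (.leaf (78, 0)) (.leaf (788, 1))) (.node (.leaf (350, 0)) (.leaf (0, 0)))) (.node (.node (.leaf (203, 0)) (.leaf (1184, 1))) (.node (.leaf (530, 0)) (.leaf (0, 0)))))) (.node (.node (.node (.node (.leaf (48, 2)) (.leaf (713, 0))) (.node (.leaf (308, 1)) (.leaf (0, 0)))) (.node (.node (.leaf (170, 1)) (.leaf (1041, 1))) (.node (.leaf (481, 0)) (.leaf (0, 0))))) (.node (.node (.node (.leaf (108, 1)) (.leaf (861, 2))) (.node (.leaf (393, 2)) (.leaf (0, 0)))) (.node (.node (.leaf (238, 1)) (.leaf (1388, 0))) (.node (.leaf (577, 2)) (.leaf (0, 0)))))))) (.node (.node (.node (.node (.node (.node (.leaf (12, 0)) (.leaf (618, 2))) (.node (.leaf (265, 2)) (.leaf (0, 0)))) (.node (.node (.leaf (131, 2)) (.leaf (927, 2))) (.node (.leaf (426, 0)) (.leaf (0, 0))))) (.node (.node (.node (.leaf (70, 2)) (.leaf (770, 0))) (.node (.leaf (339, 1)) (.leaf (0, 0)))) (.node (.node (.leaf (194, 1)) (.leaf (1146, 1))) (.node (.leaf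 (520, 1)) (.leaf (0, 0)))))) (.node (.node (.node (.node (.leaf (41, 0)) (.leaf (698, 0))) (.node (.leaf (300, 0)) (.leaf (0, 0)))) (.node (.node (.leaf (162, 1)) (.leaf (1016, 2))) (.node (.leaf (468, 0)) (.leaf (0, 0))))) (.node (.node (.node (.leaf (101, 0)) (.leaf (836, 2))) (.node (.leaf (382, 1)) (.leaf (0, 0)))) (.node (.node (.leaf (229, 2)) (.leaf (1347, 2))) (.node (.leaf (565, 2)) (.leaf (0, 0))))))) (.node (.node (.node (.node (.node (.leaf (26, 1)) (.leaf (654, 2))) (.node (.leaf (282, 0)) (.leaf (0, 0)))) (.node (.node (.leaf (146, 2)) (.leaf (975, 1))) (.node (.leaf (446, 0)) (.leaf (0, 0))))) (.node (.node (.node (.leaf (86, 1)) (.leaf (807, 1))) (.node (.leaf (361, 2)) (.leaf (0, 0)))) (.node (.node (.leaf (211, 2)) (.leaf (1227, 2))) (.node (.leaf (541, 1)) (.leaf (0, 0)))))) (.node (.node (.node (.node (.leaf (55, 1)) (.leaf (734, 2))) (.node (.leaf (317, 1)) (.leaf (0, 0)))) (.node (.node (.leaf (177, 1)) (.leaf (1077, 0))) (.node (.leaf (497, 1)) (.leaf (0, 0))))) (.node (.node (.node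 (.leaf (116, 0)) (.leaf (882, 0))) (.node (.leaf (404, 1)) (.leaf (0, 0)))) (.node (.node (.leaf (246, 2)) (.leaf (1492, 2))) (.node (.leaf (588, 2)) (.leaf (0, 0)))))))))))))

/-- generators and images -/
def gensB : List (ℕ × ℕ) := [(22656, 53728), (34983, 35754), (39552, 51619)]

/-- the table -/
def tabB : Tree (ℕ × ℕ) :=
  (.node (.node (.node (.node (.node (.node (.node (.node (.node (.node (.node (.leaf (34944, 34944)) (.leaf (22667, 53893))) (.node (.leaf (39875, 51424)) (.leaf (34944, 34944)))) (.node (.node (.leaf (21187, 21184)) (.leaf (39049, 51943))) (.node (.leaf (20878, 20686)) (.leaf (34944, 34944))))) (.node (.node (.node (.leaf (52097, 39073)) (.leaf (35459, 34979))) (.node (.leaf (20653, 21133)) (.leaf (34944, 34944)))) (.node (.node (.leaf (39905, 51937)) (.leaf (20712, 20933))) (.node (.leaf (51652, 39658)) (.leaf (34944, 34944)))))) (.node (.node (.node (.node (.leaf (23424, 53632)) (.leaf (23173, 54155))) (.node (.leaf (53696, 23168)) (.leaf (34944, 34944)))) (.node (.node (.leaf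 (39662, 51438)) (.leaf (20617, 21191))) (.node (.leaf (22663, 54186)) (.leaf (34944, 34944))))) (.node (.node (.node (.leaf (22757, 53419)) (.leaf (51883, 39078))) (.node (.leaf (39373, 51853)) (.leaf (34944, 34944)))) (.node (.node (.leaf (35535, 35535)) (.leaf (35464, 35558))) (.node (.leaf (22734, 53709)) (.leaf (34944, 34944))))))) (.node (.node (.node (.node (.node (.leaf (53377, 23490)) (.leaf (23236, 53897))) (.node (.leaf (54254, 23277)) (.leaf (34944, 34944)))) (.node (.node (.leaf (22726, 53928)) (.leaf (35780, 35017))) (.node (.leaf (23022, 54157)) (.leaf (34944, 34944))))) (.node (.node (.node (.leaf (35815, 35530)) (.leaf (35719, 35274))) (.node (.leaf (35303, 35562)) (.leaf (34944, 34944)))) (.node (.node (.leaf (21188, 20618)) (.leaf (35530, 35815))) (.node (.leaf (51630, 39854)) (.leaf (34944, 34944)))))) (.node (.node (.node (.node (.leaf (39402, 51620)) (.leaf (22666, 53895))) (.node (.leaf (39886, 51886)) (.leaf (34944, 34944)))) (.node (.node (.leaf (21223, 21129)) (.leaf (23202, 54209)))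 (.node (.leaf (39143, 52137)) (.leaf (34944, 34944))))) (.node (.node (.node (.leaf (54185, 22660)) (.leaf (35468, 35788))) (.node (.leaf (54214, 22984)) (.leaf (34944, 34944)))) (.node (.node (.leaf (53957, 22923)) (.leaf (20618, 21188))) (.node (.leaf (35776, 35296)) (.leaf (34944, 34944)))))))) (.node (.node (.node (.node (.node (.node (.leaf (51951, 39628)) (.leaf (23212, 53996))) (.node (.leaf (51943, 39049)) (.leaf (34944, 34944)))) (.node (.node (.leaf (35209, 35460)) (.leaf (22763, 53637))) (.node (.leaf (51620, 39402)) (.leaf (34944, 34944))))) (.node (.node (.node (.leaf (23533, 54190)) (.leaf (35493, 35723))) (.node (.leaf (52129, 39585)) (.leaf (34944, 34944)))) (.node (.node (.leaf (22919, 54250)) (.leaf (51424, 39875))) (.node (.leaf (35788, 35468)) (.leaf (34944, 34944)))))) (.node (.node (.node (.node (.leaf (39808, 51683)) (.leaf (23206, 53640))) (.node (.leaf (23462, 53704)) (.leaf (34944, 34944)))) (.node (.node (.leaf (39849, 51335)) (.leaf (39872, 51427))) (.node (.leaf (35553, 35746))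 (.leaf (34944, 34944))))) (.node (.node (.node (.leaf (35201, 35010)) (.leaf (35502, 35277))) (.node (.leaf (39850, 51332)) (.leaf (34944, 34944)))) (.node (.node (.leaf (21217, 20673)) (.leaf (39104, 51331))) (.node (.leaf (23460, 53705)) (.leaf (34944, 34944))))))) (.node (.node (.node (.node (.node (.leaf (53484, 23180)) (.leaf (20673, 21217))) (.node (.leaf (23526, 53448)) (.leaf (34944, 34944)))) (.node (.node (.leaf (52105, 39655)) (.leaf (54152, 23174))) (.node (.leaf (54248, 22918)) (.leaf (34944, 34944))))) (.node (.node (.node (.leaf (51686, 39147)) (.leaf (22916, 54249))) (.node (.leaf (21133, 20653)) (.leaf (34944, 34944)))) (.node (.node (.leaf (21422, 21230)) (.leaf (39556, 51338))) (.node (.leaf (35266, 35265)) (.leaf (34944, 34944)))))) (.node (.node (.node (.node (.leaf (51623, 39401)) (.leaf (52128, 39587))) (.node (.leaf (21153, 20929)) (.leaf (34944, 34944)))) (.node (.node (.leaf (53675, 22693)) (.leaf (51392, 39363))) (.node (.leaf (39334, 51947)) (.leaf (34944, 34944))))) (.node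 (.node (.node (.leaf (21199, 20908)) (.leaf (39150, 51406))) (.node (.leaf (35533, 35534)) (.leaf (34944, 34944)))) (.node (.node (.leaf (35012, 34985)) (.leaf (51371, 39046))) (.node (.leaf (23268, 53385)) (.leaf (34944, 34944))))))))) (.node (.node (.node (.node (.node (.node (.node (.leaf (34945, 34946)) (.leaf (20718, 21390))) (.node (.leaf (21224, 20965)) (.leaf (34944, 34944)))) (.node (.node (.leaf (22694, 53672)) (.leaf (53390, 22925))) (.node (.leaf (51851, 39590)) (.leaf (34944, 34944))))) (.node (.node (.node (.leaf (53678, 23501)) (.leaf (51397, 39592))) (.node (.leaf (52101, 39880)) (.leaf (34944, 34944)))) (.node (.node (.leaf (54221, 22766)) (.leaf (20672, 21219))) (.node (.leaf (20939, 21382)) (.leaf (34944, 34944)))))) (.node (.node (.node (.node (.leaf (22727, 53930)) (.leaf (53738, 22951))) (.node (.leaf (35814, 35528)) (.leaf (34944, 34944)))) (.node (.node (.leaf (35745, 35554)) (.leaf (35055, 35055))) (.node (.leaf (39310, 52110)) (.leaf (34944, 34944))))) (.node (.node (.node (.leaf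 (51651, 39296)) (.leaf (54208, 23200))) (.node (.leaf (52198, 39115)) (.leaf (34944, 34944)))) (.node (.node (.leaf (39338, 51364)) (.leaf (39116, 51919))) (.node (.leaf (51936, 39907)) (.leaf (34944, 34944))))))) (.node (.node (.node (.node (.node (.leaf (51841, 39137)) (.leaf (53732, 23529))) (.node (.leaf (54153, 23172)) (.leaf (34944, 34944)))) (.node (.node (.leaf (35822, 34957)) (.leaf (39394, 51906))) (.node (.leaf (21382, 20939)) (.leaf (34944, 34944))))) (.node (.node (.node (.leaf (35050, 35271)) (.leaf (51592, 39621))) (.node (.leaf (35782, 35016)) (.leaf (34944, 34944)))) (.node (.node (.leaf (35791, 35471)) (.leaf (35809, 35810))) (.node (.leaf (34979, 35459)) (.leaf (34944, 34944)))))) (.node (.node (.node (.node (.leaf (35237, 35819)) (.leaf (53674, 22695))) (.node (.leaf (35721, 35492)) (.leaf (34944, 34944)))) (.node (.node (.leaf (51940, 39050)) (.leaf (20614, 20907))) (.node (.leaf (35469, 35790)) (.leaf (34944, 34944))))) (.node (.node (.node (.leaf (21478, 21195)) (.leaf (35497, 35044)))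 (.node (.leaf (53413, 23211)) (.leaf (34944, 34944)))) (.node (.node (.leaf (51947, 39334)) (.leaf (51338, 39556))) (.node (.leaf (35016, 35782)) (.leaf (34944, 34944)))))))) (.node (.node (.node (.node (.node (.node (.leaf (20935, 20713)) (.leaf (23520, 53888))) (.node (.leaf (35213, 35758)) (.leaf (34944, 34944)))) (.node (.node (.leaf (23425, 53634)) (.leaf (54178, 22945))) (.node (.leaf (51683, 39808)) (.leaf (34944, 34944))))) (.node (.node (.node (.leaf (23168, 53696)) (.leaf (35491, 35491))) (.node (.leaf (23213, 53998)) (.leaf (34944, 34944)))) (.node (.node (.leaf (53743, 23247)) (.leaf (39621, 51592))) (.node (.leaf (54155, 23173)) (.leaf (34944, 34944)))))) (.node (.node (.node (.node (.leaf (53486, 23181)) (.leaf (23274, 53671))) (.node (.leaf (35786, 35751)) (.leaf (34944, 34944)))) (.node (.node (.leaf (35759, 35215)) (.leaf (23264, 53952))) (.node (.leaf (21131, 21222)) (.leaf (34944, 34944))))) (.node (.node (.node (.leaf (35306, 35207)) (.leaf (35207, 35306))) (.node (.leaf (51654, 39659))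 (.leaf (34944, 34944)))) (.node (.node (.leaf (51946, 39332)) (.leaf (51852, 39375))) (.node (.leaf (52194, 39842)) (.leaf (34944, 34944))))))) (.node (.node (.node (.node (.node (.leaf (20865, 21409)) (.leaf (51335, 39849))) (.node (.leaf (39660, 51439)) (.leaf (34944, 34944)))) (.node (.node (.leaf (39627, 52166)) (.leaf (39118, 51918))) (.node (.leaf (23524, 53449)) (.leaf (34944, 34944))))) (.node (.node (.node (.leaf (39883, 52102)) (.leaf (35555, 35747))) (.node (.leaf (51914, 39844)) (.leaf (34944, 34944)))) (.node (.node (.leaf (35300, 35561)) (.leaf (39075, 52096))) (.node (.leaf (21412, 21450)) (.leaf (34944, 34944)))))) (.node (.node (.node (.node (.leaf (51942, 39051)) (.leaf (23008, 53920))) (.node (.leaf (35245, 35246)) (.leaf (34944, 34944)))) (.node (.node (.leaf (51690, 39364)) (.leaf (51396, 39594))) (.node (.leaf (23431, 54218)) (.leaf (34944, 34944))))) (.node (.node (.node (.leaf (51595, 39622)) (.leaf (20623, 20620))) (.node (.leaf (35531, 35813)) (.leaf (34944, 34944)))) (.node (.node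 (.leaf (21165, 21165)) (.leaf (51429, 39080))) (.node (.leaf (23238, 53896)) (.leaf (34944, 34944)))))))))) (.node (.node (.node (.node (.node (.node (.node (.node (.leaf (53376, 23488)) (.leaf (20652, 21135))) (.node (.leaf (51681, 39809)) (.leaf (34944, 34944)))) (.node (.node (.leaf (21481, 20903)) (.leaf (20644, 21418))) (.node (.leaf (53639, 22762)) (.leaf (34944, 34944))))) (.node (.node (.node (.leaf (35046, 35496)) (.leaf (22944, 54176))) (.node (.leaf (35273, 35716)) (.leaf (34944, 34944)))) (.node (.node (.leaf (21221, 21128)) (.leaf (39142, 52139))) (.node (.leaf (51906, 39394)) (.leaf (34944, 34944)))))) (.node (.node (.node (.node (.leaf (53673, 22692)) (.leaf (51339, 39558))) (.node (.leaf (52203, 39398)) (.leaf (34944, 34944)))) (.node (.node (.leaf (23429, 54219)) (.leaf (34954, 35527))) (.node (.leaf (51844, 39818)) (.leaf (34944, 34944))))) (.node (.node (.node (.leaf (21166, 21166)) (.leaf (35204, 35305))) (.node (.leaf (20869, 20968)) (.leaf (34944, 34944)))) (.node (.node (.leaf (35214,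 35757)) (.leaf (39136, 51843))) (.node (.leaf (22691, 54243)) (.leaf (34944, 34944))))))) (.node (.node (.node (.node (.node (.leaf (35023, 35567)) (.leaf (51872, 39651))) (.node (.leaf (23459, 54147)) (.leaf (34944, 34944)))) (.node (.node (.leaf (23499, 54245)) (.leaf (21440, 21123))) (.node (.leaf (54149, 22731)) (.leaf (34944, 34944))))) (.node (.node (.node (.leaf (51911, 39561)) (.leaf (39554, 51618))) (.node (.leaf (52138, 39140)) (.leaf (34944, 34944)))) (.node (.node (.leaf (23013, 53483)) (.leaf (23205, 53643))) (.node (.leaf (22948, 53737)) (.leaf (34944, 34944)))))) (.node (.node (.node (.node (.leaf (21417, 20647)) (.leaf (35268, 35049))) (.node (.leaf (53985, 22754)) (.leaf (34944, 34944)))) (.node (.node (.leaf (51944, 39333)) (.leaf (53666, 22913))) (.node (.leaf (39405, 51341)) (.leaf (34944, 34944))))) (.node (.node (.node (.leaf (23493, 53963)) (.leaf (20714, 20932))) (.node (.leaf (22753, 53986)) (.leaf (34944, 34944)))) (.node (.node (.leaf (51910, 39563)) (.leaf (20647, 21417))) (.node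 (.leaf (34988, 35308)) (.leaf (34944, 34944)))))))) (.node (.node (.node (.node (.node (.node (.leaf (22729, 54148)) (.leaf (52162, 39330))) (.node (.leaf (39304, 51877)) (.leaf (34944, 34944)))) (.node (.node (.leaf (53702, 23016)) (.leaf (35532, 35532))) (.node (.leaf (51588, 39914)) (.leaf (34944, 34944))))) (.node (.node (.node (.leaf (52165, 39624)) (.leaf (54159, 23023))) (.node (.leaf (23243, 54181)) (.leaf (34944, 34944)))) (.node (.node (.leaf (20968, 20869)) (.leaf (52108, 39311))) (.node (.leaf (51627, 39110)) (.leaf (34944, 34944)))))) (.node (.node (.node (.node (.leaf (53483, 23013)) (.leaf (23181, 53486))) (.node (.leaf (35054, 35053)) (.leaf (34944, 34944)))) (.node (.node (.leaf (53927, 23178)) (.leaf (20684, 20879))) (.node (.leaf (23461, 53707)) (.leaf (34944, 34944))))) (.node (.node (.node (.leaf (54255, 23279)) (.leaf (53966, 22701))) (.node (.leaf (53440, 23232)) (.leaf (34944, 34944)))) (.node (.node (.leaf (54209, 23202)) (.leaf (35460, 35209))) (.node (.leaf (39562, 51908)) (.leaf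 (34944, 34944))))))) (.node (.node (.node (.node (.node (.leaf (51913, 39847)) (.leaf (53669, 23275))) (.node (.leaf (52192, 39843)) (.leaf (34944, 34944)))) (.node (.node (.leaf (53473, 22722)) (.leaf (51874, 39650))) (.node (.leaf (21452, 20975)) (.leaf (34944, 34944))))) (.node (.node (.node (.leaf (39845, 51912)) (.leaf (23242, 54183))) (.node (.leaf (51846, 39819)) (.leaf (34944, 34944)))) (.node (.node (.leaf (22720, 53472)) (.leaf (23017, 53700))) (.node (.leaf (35208, 35462)) (.leaf (34944, 34944)))))) (.node (.node (.node (.node (.leaf (21225, 20967)) (.leaf (22951, 53738))) (.node (.leaf (20964, 21226)) (.leaf (34944, 34944)))) (.node (.node (.leaf (21184, 21187)) (.leaf (23276, 54252))) (.node (.leaf (35465, 35556)) (.leaf (34944, 34944))))) (.node (.node (.node (.leaf (21190, 20619)) (.leaf (39055, 52172))) (.node (.leaf (35758, 35213)) (.leaf (34944, 34944)))) (.node (.node (.leaf (22658, 53729)) (.leaf (39050, 51940))) (.node (.leaf (53926, 23176)) (.leaf (34944, 34944))))))))) (.node (.node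 (.node (.node (.node (.node (.node (.leaf (53419, 22757)) (.leaf (23174, 54152))) (.node (.leaf (22985, 54212)) (.leaf (34944, 34944)))) (.node (.node (.leaf (35267, 35267)) (.leaf (53700, 23017))) (.node (.leaf (39588, 51850)) (.leaf (34944, 34944))))) (.node (.node (.node (.leaf (20873, 21127)) (.leaf (35524, 34953))) (.node (.leaf (21161, 20711)) (.leaf (34944, 34944)))) (.node (.node (.leaf (39918, 51374)) (.leaf (23204, 53641))) (.node (.leaf (51594, 39620)) (.leaf (34944, 34944)))))) (.node (.node (.node (.node (.leaf (53418, 22759)) (.leaf (20621, 20621))) (.node (.leaf (20875, 21126)) (.leaf (34944, 34944)))) (.node (.node (.leaf (23269, 53387)) (.leaf (23170, 53697))) (.node (.leaf (52170, 39908)) (.leaf (34944, 34944))))) (.node (.node (.node (.leaf (39374, 51854)) (.leaf (54156, 23020))) (.node (.leaf (52109, 39309)) (.leaf (34944, 34944)))) (.node (.node (.leaf (35205, 35307)) (.leaf (39111, 51625))) (.node (.leaf (21444, 20682)) (.leaf (34944, 34944))))))) (.node (.node (.node (.node (.node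 (.leaf (39333, 51944)) (.leaf (51373, 39917))) (.node (.leaf (35244, 35244)) (.leaf (34944, 34944)))) (.node (.node (.leaf (35790, 35469)) (.leaf (51938, 39906))) (.node (.leaf (21472, 20611)) (.leaf (34944, 34944))))) (.node (.node (.node (.leaf (21226, 20964)) (.leaf (22978, 53409))) (.node (.leaf (23203, 54211)) (.leaf (34944, 34944)))) (.node (.node (.leaf (39813, 51400)) (.leaf (35471, 35791))) (.node (.leaf (39367, 51689)) (.leaf (34944, 34944)))))) (.node (.node (.node (.node (.leaf (53455, 22671)) (.leaf (20963, 20640))) (.node (.leaf (39873, 51425)) (.leaf (34944, 34944)))) (.node (.node (.leaf (20909, 21197)) (.leaf (51434, 39300))) (.node (.leaf (21409, 20865)) (.leaf (34944, 34944))))) (.node (.node (.node (.leaf (23535, 54191)) (.leaf (53989, 23435))) (.node (.leaf (23277, 54254)) (.leaf (34944, 34944)))) (.node (.node (.leaf (53967, 22703)) (.leaf (51342, 39406))) (.node (.leaf (35821, 34958)) (.leaf (34944, 34944)))))))) (.node (.node (.node (.node (.node (.node (.leaf (53632, 23424)) (.leaf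 (35756, 35212))) (.node (.leaf (35270, 35048)) (.leaf (34944, 34944)))) (.node (.node (.leaf (53672, 22694)) (.leaf (51586, 39042))) (.node (.leaf (21219, 20672)) (.leaf (34944, 34944))))) (.node (.node (.node (.leaf (52202, 39396)) (.leaf (23496, 54246))) (.node (.leaf (20906, 20612)) (.leaf (34944, 34944)))) (.node (.node (.leaf (34980, 35753)) (.leaf (54146, 23457))) (.node (.leaf (34959, 35823)) (.leaf (34944, 34944)))))) (.node (.node (.node (.node (.leaf (51950, 39630)) (.leaf (22662, 54184))) (.node (.leaf (51367, 39337)) (.leaf (34944, 34944)))) (.node (.node (.leaf (39847, 51913)) (.leaf (51400, 39813))) (.node (.leaf (22953, 53444)) (.leaf (34944, 34944))))) (.node (.node (.node (.leaf (53409, 22978)) (.leaf (22984, 54214))) (.node (.leaf (39907, 51936)) (.leaf (34944, 34944)))) (.node (.node (.leaf (54157, 23022)) (.leaf (39147, 51686))) (.node (.leaf (52172, 39055)) (.leaf (34944, 34944))))))) (.node (.node (.node (.node (.node (.leaf (53703, 23018)) (.leaf (51689, 39367))) (.node (.leaf (39624,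 52165)) (.leaf (34944, 34944)))) (.node (.node (.leaf (53931, 22725)) (.leaf (20643, 20960))) (.node (.leaf (23534, 54189)) (.leaf (34944, 34944))))) (.node (.node (.node (.leaf (35022, 35565)) (.leaf (35461, 35211))) (.node (.leaf (39311, 52108)) (.leaf (34944, 34944)))) (.node (.node (.leaf (35246, 35245)) (.leaf (53890, 23521))) (.node (.leaf (35235, 35523)) (.leaf (34944, 34944)))))) (.node (.node (.node (.node (.leaf (39305, 51879)) (.leaf (54250, 22919))) (.node (.leaf (52161, 39329)) (.leaf (34944, 34944)))) (.node (.node (.leaf (39878, 51659)) (.leaf (20620, 20623))) (.node (.leaf (53923, 23011)) (.leaf (34944, 34944))))) (.node (.node (.node (.leaf (39593, 51399)) (.leaf (39298, 51650))) (.node (.leaf (22732, 53708)) (.leaf (34944, 34944)))) (.node (.node (.leaf (51648, 39299)) (.leaf (39106, 51330))) (.node (.leaf (53388, 22924)) (.leaf (34944, 34944))))))))))) (.node (.node (.node (.node (.node (.node (.node (.node (.node (.leaf (34983, 35754)) (.leaf (20619, 21190))) (.node (.leaf (22923, 53957))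 (.leaf (34944, 34944)))) (.node (.node (.leaf (39398, 52203)) (.leaf (53953, 23266))) (.node (.leaf (52163, 39328)) (.leaf (34944, 34944))))) (.node (.node (.node (.leaf (53633, 23426)) (.leaf (21157, 21384))) (.node (.leaf (20965, 21224)) (.leaf (34944, 34944)))) (.node (.node (.leaf (23009, 53922)) (.leaf (39084, 51663))) (.node (.leaf (51842, 39138)) (.leaf (34944, 34944)))))) (.node (.node (.node (.node (.leaf (53737, 22948)) (.leaf (51393, 39361))) (.node (.leaf (35748, 35785)) (.leaf (34944, 34944)))) (.node (.node (.leaf (39589, 51848)) (.leaf (53474, 22721))) (.node (.leaf (35560, 35302)) (.leaf (34944, 34944))))) (.node (.node (.node (.leaf (39653, 52104)) (.leaf (23426, 53633))) (.node (.leaf (20970, 20868)) (.leaf (34944, 34944)))) (.node (.node (.leaf (21475, 20608)) (.leaf (35298, 35777))) (.node (.leaf (35534, 35533)) (.leaf (34944, 34944))))))) (.node (.node (.node (.node (.node (.leaf (51584, 39043)) (.leaf (35725, 35726))) (.node (.leaf (21387, 21158)) (.leaf (34944, 34944)))) (.node (.node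 (.leaf (23435, 53989)) (.leaf (22927, 53391))) (.node (.leaf (39912, 51589)) (.leaf (34944, 34944))))) (.node (.node (.node (.leaf (53415, 23210)) (.leaf (53665, 22914))) (.node (.leaf (20711, 21161)) (.leaf (34944, 34944)))) (.node (.node (.leaf (21124, 20874)) (.leaf (35466, 35559))) (.node (.leaf (53480, 23014)) (.leaf (34944, 34944)))))) (.node (.node (.node (.node (.leaf (39329, 52161)) (.leaf (35215, 35759))) (.node (.leaf (39597, 51693)) (.leaf (34944, 34944)))) (.node (.node (.leaf (51880, 39077)) (.leaf (35755, 34981))) (.node (.leaf (39081, 51431)) (.leaf (34944, 34944))))) (.node (.node (.node (.leaf (21453, 20973)) (.leaf (53902, 22957))) (.node (.leaf (22925, 53390)) (.leaf (34944, 34944)))) (.node (.node (.leaf (52133, 39368)) (.leaf (51330, 39106))) (.node (.leaf (22670, 53453)) (.leaf (34944, 34944)))))))) (.node (.node (.node (.node (.node (.node (.leaf (51887, 39884)) (.leaf (51438, 39662))) (.node (.leaf (39362, 51394)) (.leaf (34944, 34944)))) (.node (.node (.leaf (52134, 39371)) (.leaf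 (39853, 51629))) (.node (.leaf (51650, 39298)) (.leaf (34944, 34944))))) (.node (.node (.node (.leaf (23469, 53934)) (.leaf (35722, 35495))) (.node (.leaf (51375, 39916)) (.leaf (34944, 34944)))) (.node (.node (.leaf (35052, 35052)) (.leaf (22693, 53675))) (.node (.leaf (54252, 23276)) (.leaf (34944, 34944)))))) (.node (.node (.node (.node (.leaf (22912, 53664)) (.leaf (51432, 39301))) (.node (.leaf (20679, 20649)) (.leaf (34944, 34944)))) (.node (.node (.leaf (39626, 52164)) (.leaf (22764, 54220))) (.node (.leaf (21420, 21231)) (.leaf (34944, 34944))))) (.node (.node (.node (.leaf (22766, 54221)) (.leaf (21378, 21378))) (.node (.leaf (22986, 54215)) (.leaf (34944, 34944)))) (.node (.node (.leaf (22697, 53380)) (.leaf (20681, 21447))) (.node (.leaf (21218, 20674)) (.leaf (34944, 34944))))))) (.node (.node (.node (.node (.node (.leaf (53417, 22756)) (.leaf (51437, 39661))) (.node (.leaf (53679, 23503)) (.leaf (34944, 34944)))) (.node (.node (.leaf (35777, 35298)) (.leaf (35309, 34990))) (.node (.leaf (54184,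 22662)) (.leaf (34944, 34944))))) (.node (.node (.node (.leaf (51617, 39553)) (.leaf (22947, 54179))) (.node (.leaf (21192, 21477)) (.leaf (34944, 34944)))) (.node (.node (.leaf (35278, 35501)) (.leaf (35010, 35201))) (.node (.leaf (21384, 21157)) (.leaf (34944, 34944)))))) (.node (.node (.node (.node (.leaf (35049, 35268)) (.leaf (39822, 52142))) (.node (.leaf (51855, 39372)) (.leaf (34944, 34944)))) (.node (.node (.leaf (34957, 35822)) (.leaf (20717, 21389))) (.node (.leaf (54158, 23021)) (.leaf (34944, 34944))))) (.node (.node (.node (.leaf (39628, 51951)) (.leaf (39105, 51329))) (.node (.leaf (21421, 21229)) (.leaf (34944, 34944)))) (.node (.node (.leaf (51631, 39852)) (.leaf (39087, 51660))) (.node (.leaf (23240, 54182)) (.leaf (34944, 34944))))))))) (.node (.node (.node (.node (.node (.node (.node (.leaf (20864, 21411)) (.leaf (23210, 53415))) (.node (.leaf (21160, 20709)) (.leaf (34944, 34944)))) (.node (.node (.leaf (54215, 22986)) (.leaf (52160, 39331))) (.node (.leaf (39652, 52106)) (.leaf (34944,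 34944))))) (.node (.node (.node (.leaf (53742, 23245)) (.leaf (35467, 35557))) (.node (.leaf (51433, 39303)) (.leaf (34944, 34944)))) (.node (.node (.leaf (54253, 23278)) (.leaf (51341, 39405))) (.node (.leaf (21127, 20873)) (.leaf (34944, 34944)))))) (.node (.node (.node (.node (.leaf (35021, 35566)) (.leaf (20650, 20676))) (.node (.leaf (53414, 23208)) (.leaf (34944, 34944)))) (.node (.node (.leaf (23215, 53999)) (.leaf (23522, 53889))) (.node (.leaf (53891, 23523)) (.leaf (34944, 34944))))) (.node (.node (.node (.leaf (51589, 39912)) (.leaf (22724, 53929))) (.node (.leaf (53699, 23171)) (.leaf (34944, 34944)))) (.node (.node (.leaf (54177, 22946)) (.leaf (35241, 34948))) (.node (.leaf (54176, 22944)) (.leaf (34944, 34944))))))) (.node (.node (.node (.node (.node (.leaf (51905, 39393)) (.leaf (22723, 53475))) (.node (.leaf (35308, 34988)) (.leaf (34944, 34944)))) (.node (.node (.leaf (23271, 53386)) (.leaf (53479, 23466))) (.node (.leaf (35243, 34949)) (.leaf (34944, 34944))))) (.node (.node (.node (.leaf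 (20971, 20870)) (.leaf (53423, 23439))) (.node (.leaf (23272, 53670)) (.leaf (34944, 34944)))) (.node (.node (.leaf (22979, 53411)) (.leaf (23178, 53927))) (.node (.leaf (39308, 52111)) (.leaf (34944, 34944)))))) (.node (.node (.node (.node (.leaf (39371, 52134)) (.leaf (34956, 35820))) (.node (.leaf (23201, 54210)) (.leaf (34944, 34944)))) (.node (.node (.leaf (51949, 39629)) (.leaf (20676, 20650))) (.node (.leaf (20709, 21160)) (.leaf (34944, 34944))))) (.node (.node (.node (.leaf (21419, 20646)) (.leaf (39073, 52097))) (.node (.leaf (21222, 21131)) (.leaf (34944, 34944)))) (.node (.node (.leaf (23467, 53477)) (.leaf (23180, 53484))) (.node (.leaf (23428, 54217)) (.leaf (34944, 34944)))))))) (.node (.node (.node (.node (.node (.node (.leaf (52096, 39075)) (.leaf (20641, 20961))) (.node (.leaf (21414, 21451)) (.leaf (34944, 34944)))) (.node (.node (.leaf (53736, 22950)) (.leaf (35720, 35494))) (.node (.leaf (21194, 21476)) (.leaf (34944, 34944))))) (.node (.node (.node (.leaf (35817, 35236)) (.leaf (34985,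 35012))) (.node (.leaf (39821, 52141)) (.leaf (34944, 34944)))) (.node (.node (.leaf (34984, 35014)) (.leaf (21159, 21385))) (.node (.leaf (22945, 54178)) (.leaf (34944, 34944)))))) (.node (.node (.node (.node (.leaf (51695, 39596)) (.leaf (21448, 21413))) (.node (.leaf (35718, 35272)) (.leaf (34944, 34944)))) (.node (.node (.leaf (23239, 53898)) (.leaf (51374, 39918))) (.node (.leaf (39404, 51343)) (.leaf (34944, 34944))))) (.node (.node (.node (.leaf (39301, 51432)) (.leaf (35488, 35488))) (.node (.leaf (21135, 20652)) (.leaf (34944, 34944)))) (.node (.node (.leaf (51885, 39885)) (.leaf (53896, 23238))) (.node (.leaf (35823, 34959)) (.leaf (34944, 34944))))))) (.node (.node (.node (.node (.node (.leaf (52135, 39369)) (.leaf (23267, 53955))) (.node (.leaf (53889, 23522)) (.leaf (34944, 34944)))) (.node (.node (.leaf (53965, 22702)) (.leaf (35499, 35045))) (.node (.leaf (21418, 20644)) (.leaf (34944, 34944))))) (.node (.node (.node (.leaf (22955, 53445)) (.leaf (54216, 23430))) (.node (.leaf (51850, 39588))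 (.leaf (34944, 34944)))) (.node (.node (.leaf (21454, 20974)) (.leaf (35490, 35489))) (.node (.leaf (21390, 20718)) (.leaf (34944, 34944)))))) (.node (.node (.node (.node (.leaf (39363, 51392)) (.leaf (54220, 22764))) (.node (.leaf (20685, 20877)) (.leaf (34944, 34944)))) (.node (.node (.leaf (39823, 52140)) (.leaf (22752, 53984))) (.node (.leaf (53988, 23433)) (.leaf (34944, 34944))))) (.node (.node (.node (.leaf (51660, 39087)) (.leaf (54241, 22690))) (.node (.leaf (51591, 39913)) (.leaf (34944, 34944)))) (.node (.node (.leaf (21229, 21421)) (.leaf (39138, 51842))) (.node (.leaf (39846, 51915)) (.leaf (34944, 34944)))))))))) (.node (.node (.node (.node (.node (.node (.node (.node (.leaf (51840, 39139)) (.leaf (34952, 35526))) (.node (.leaf (39567, 52204)) (.leaf (34944, 34944)))) (.node (.node (.leaf (35305, 35204)) (.leaf (20707, 20704))) (.node (.leaf (20961, 20641)) (.leaf (34944, 34944))))) (.node (.node (.node (.leaf (23527, 53450)) (.leaf (39559, 51337))) (.node (.leaf (20649, 20679)) (.leaf (34944,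 34944)))) (.node (.node (.leaf (21197, 20909)) (.leaf (53634, 23425))) (.node (.leaf (20868, 20970)) (.leaf (34944, 34944)))))) (.node (.node (.node (.node (.leaf (20943, 20940)) (.leaf (51430, 39083))) (.node (.leaf (52142, 39822)) (.leaf (34944, 34944)))) (.node (.node (.leaf (35820, 34956)) (.leaf (23463, 53706))) (.node (.leaf (35498, 35047)) (.leaf (34944, 34944))))) (.node (.node (.node (.leaf (21230, 21422)) (.leaf (53386, 23271))) (.node (.leaf (20938, 21380)) (.leaf (34944, 34944)))) (.node (.node (.leaf (23427, 53635)) (.leaf (39054, 52174))) (.node (.leaf (53987, 22755)) (.leaf (34944, 34944))))))) (.node (.node (.node (.node (.node (.leaf (21167, 21164)) (.leaf (22735, 53711))) (.node (.leaf (39299, 51648)) (.leaf (34944, 34944)))) (.node (.node (.leaf (52195, 39840)) (.leaf (35212, 35756))) (.node (.leaf (34978, 35457)) (.leaf (34944, 34944))))) (.node (.node (.node (.leaf (51915, 39846)) (.leaf (39618, 51362))) (.node (.leaf (35723, 35493)) (.leaf (34944, 34944)))) (.node (.node (.leaf (53422,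 23437)) (.leaf (39584, 52131))) (.node (.leaf (51599, 39340)) (.leaf (34944, 34944)))))) (.node (.node (.node (.node (.leaf (21477, 21192)) (.leaf (39331, 52160))) (.node (.leaf (39561, 51911)) (.leaf (34944, 34944)))) (.node (.node (.leaf (51876, 39306)) (.leaf (20640, 20963))) (.node (.leaf (35523, 35235)) (.leaf (34944, 34944))))) (.node (.node (.node (.leaf (23525, 53451)) (.leaf (21442, 21122))) (.node (.leaf (39649, 51873)) (.leaf (34944, 34944)))) (.node (.node (.leaf (35503, 35279)) (.leaf (20610, 21474))) (.node (.leaf (23488, 53376)) (.leaf (34944, 34944)))))))) (.node (.node (.node (.node (.node (.node (.leaf (34982, 35752)) (.leaf (35053, 35054))) (.node (.leaf (21441, 21121)) (.leaf (34944, 34944)))) (.node (.node (.leaf (35008, 35200)) (.leaf (23019, 53701))) (.node (.leaf (39817, 51847)) (.leaf (34944, 34944))))) (.node (.node (.node (.leaf (35785, 35748)) (.leaf (35564, 35020))) (.node (.leaf (23270, 53384)) (.leaf (34944, 34944)))) (.node (.node (.leaf (52207, 39564)) (.leaf (22668, 53452)))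 (.node (.leaf (34950, 35240)) (.leaf (34944, 34944)))))) (.node (.node (.node (.node (.leaf (39631, 51948)) (.leaf (23200, 54208))) (.node (.leaf (23523, 53891)) (.leaf (34944, 34944)))) (.node (.node (.leaf (39663, 51436)) (.leaf (20648, 20677))) (.node (.leaf (35015, 34986)) (.leaf (34944, 34944))))) (.node (.node (.node (.leaf (35242, 34951)) (.leaf (35013, 34987))) (.node (.leaf (23020, 54156)) (.leaf (34944, 34944)))) (.node (.node (.leaf (39040, 51587)) (.leaf (23010, 53921))) (.node (.leaf (53958, 22920)) (.leaf (34944, 34944))))))) (.node (.node (.node (.node (.node (.leaf (51849, 39591)) (.leaf (20611, 21472))) (.node (.leaf (53728, 22656)) (.leaf (34944, 34944)))) (.node (.node (.leaf (51937, 39905)) (.leaf (51875, 39648))) (.node (.leaf (23492, 53961)) (.leaf (34944, 34944))))) (.node (.node (.node (.leaf (23021, 54158)) (.leaf (53411, 22979))) (.node (.leaf (39368, 52133)) (.leaf (34944, 34944)))) (.node (.node (.leaf (54145, 23458)) (.leaf (23207, 53642))) (.node (.leaf (51873, 39649)) (.leaf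 (34944, 34944)))))) (.node (.node (.node (.node (.leaf (51878, 39307)) (.leaf (39904, 51939))) (.node (.leaf (20907, 20614)) (.leaf (34944, 34944)))) (.node (.node (.leaf (51628, 39855)) (.leaf (51407, 39148))) (.node (.leaf (35526, 34952)) (.leaf (34944, 34944))))) (.node (.node (.node (.leaf (21126, 20875)) (.leaf (39043, 51584))) (.node (.leaf (54183, 23242)) (.leaf (34944, 34944)))) (.node (.node (.leaf (20908, 21199)) (.leaf (39085, 51661))) (.node (.leaf (52098, 39074)) (.leaf (34944, 34944))))))))) (.node (.node (.node (.node (.node (.node (.node (.leaf (53487, 23183)) (.leaf (52102, 39883))) (.node (.leaf (53443, 23235)) (.leaf (34944, 34944)))) (.node (.node (.leaf (21385, 21159)) (.leaf (20962, 20642))) (.node (.leaf (20899, 20896)) (.leaf (34944, 34944))))) (.node (.node (.node (.leaf (22689, 54242)) (.leaf (35562, 35303))) (.node (.leaf (23265, 53954)) (.leaf (34944, 34944)))) (.node (.node (.leaf (22983, 53994)) (.leaf (39112, 52197))) (.node (.leaf (53421, 23438)) (.leaf (34944, 34944))))))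 (.node (.node (.node (.node (.leaf (51659, 39878)) (.leaf (23233, 53442))) (.node (.leaf (34955, 35525)) (.leaf (34944, 34944)))) (.node (.node (.leaf (23241, 54180)) (.leaf (53984, 22752))) (.node (.leaf (51881, 39079)) (.leaf (34944, 34944))))) (.node (.node (.node (.leaf (21377, 21377)) (.leaf (23529, 53732))) (.node (.leaf (53645, 22990)) (.leaf (34944, 34944)))) (.node (.node (.leaf (35041, 35714)) (.leaf (39048, 51941))) (.node (.leaf (35272, 35718)) (.leaf (34944, 34944))))))) (.node (.node (.node (.node (.node (.leaf (39407, 51340)) (.leaf (20705, 20705))) (.node (.leaf (21129, 21223)) (.leaf (34944, 34944)))) (.node (.node (.leaf (52173, 39053)) (.leaf (54242, 22689))) (.node (.leaf (35296, 35776)) (.leaf (34944, 34944))))) (.node (.node (.node (.leaf (21162, 20708)) (.leaf (39812, 51402))) (.node (.leaf (35754, 34983)) (.leaf (34944, 34944)))) (.node (.node (.leaf (22917, 54251)) (.leaf (39139, 51840))) (.node (.leaf (21487, 21484)) (.leaf (34944, 34944)))))) (.node (.node (.node (.node (.leaf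 (53446, 22952)) (.leaf (39622, 51595))) (.node (.leaf (20937, 21383)) (.leaf (34944, 34944)))) (.node (.node (.leaf (52171, 39910)) (.leaf (51334, 39851))) (.node (.leaf (20677, 20648)) (.leaf (34944, 34944))))) (.node (.node (.node (.leaf (34991, 35311)) (.leaf (21152, 20931))) (.node (.leaf (54244, 23497)) (.leaf (34944, 34944)))) (.node (.node (.leaf (39307, 51878)) (.leaf (51332, 39850))) (.node (.leaf (35744, 35552)) (.leaf (34944, 34944)))))))) (.node (.node (.node (.node (.node (.node (.leaf (35047, 35498)) (.leaf (20960, 20643))) (.node (.leaf (51918, 39118)) (.leaf (34944, 34944)))) (.node (.node (.leaf (20942, 20942)) (.leaf (51618, 39554))) (.node (.leaf (35811, 35811)) (.leaf (34944, 34944))))) (.node (.node (.node (.leaf (52143, 39820)) (.leaf (20903, 21481))) (.node (.leaf (53994, 22983)) (.leaf (34944, 34944)))) (.node (.node (.leaf (20933, 20712)) (.leaf (35500, 35276))) (.node (.leaf (51656, 39877)) (.leaf (34944, 34944)))))) (.node (.node (.node (.node (.leaf (51886, 39886)) (.leaf (39360,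 51395))) (.node (.leaf (39811, 51680)) (.leaf (34944, 34944)))) (.node (.node (.leaf (20879, 20684)) (.leaf (53900, 22956))) (.node (.leaf (39113, 52199)) (.leaf (34944, 34944))))) (.node (.node (.node (.leaf (54249, 22916)) (.leaf (39144, 51685))) (.node (.leaf (35563, 35301)) (.leaf (34944, 34944)))) (.node (.node (.leaf (23528, 53734)) (.leaf (20642, 20962))) (.node (.leaf (52104, 39653)) (.leaf (34944, 34944))))))) (.node (.node (.node (.node (.node (.leaf (35009, 35202)) (.leaf (23247, 53743))) (.node (.leaf (23464, 53478)) (.leaf (34944, 34944)))) (.node (.node (.leaf (53997, 23214)) (.leaf (53932, 23468))) (.node (.leaf (53477, 23467)) (.leaf (34944, 34944))))) (.node (.node (.node (.leaf (20911, 21196)) (.leaf (39650, 51874))) (.node (.leaf (22692, 53673)) (.leaf (34944, 34944)))) (.node (.node (.leaf (51847, 39817)) (.leaf (35522, 35233))) (.node (.leaf (35014, 34984)) (.leaf (34944, 34944)))))) (.node (.node (.node (.node (.leaf (20934, 20715)) (.leaf (54154, 23175))) (.node (.leaf (20715, 20934))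 (.leaf (34944, 34944)))) (.node (.node (.leaf (54187, 22661)) (.leaf (51395, 39360))) (.node (.leaf (39620, 51594)) (.leaf (34944, 34944))))) (.node (.node (.node (.leaf (21123, 21440)) (.leaf (39078, 51883))) (.node (.leaf (52168, 39909)) (.leaf (34944, 34944)))) (.node (.node (.leaf (51590, 39915)) (.leaf (20616, 21189))) (.node (.leaf (20898, 20898)) (.leaf (34944, 34944)))))))))))) (.node (.node (.node (.node (.node (.node (.node (.node (.node (.node (.leaf (22656, 53728)) (.leaf (53920, 23008))) (.node (.leaf (39819, 51846)) (.leaf (34944, 34944)))) (.node (.node (.leaf (51912, 39845)) (.leaf (39110, 51627))) (.node (.leaf (34958, 35821)) (.leaf (34944, 34944))))) (.node (.node (.node (.leaf (20904, 20613)) (.leaf (35494, 35720))) (.node (.leaf (34990, 35309)) (.leaf (34944, 34944)))) (.node (.node (.leaf (51597, 39341)) (.leaf (51333, 39848))) (.node (.leaf (53412, 23209)) (.leaf (34944, 34944)))))) (.node (.node (.node (.node (.leaf (52201, 39399)) (.leaf (23521, 53890))) (.node (.leaf (23169, 53698))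 (.leaf (34944, 34944)))) (.node (.node (.leaf (35017, 35780)) (.leaf (51682, 39810))) (.node (.leaf (35463, 35210)) (.leaf (34944, 34944))))) (.node (.node (.node (.leaf (34947, 34947)) (.leaf (21474, 20610))) (.node (.leaf (51907, 39392)) (.leaf (34944, 34944)))) (.node (.node (.leaf (51882, 39076)) (.leaf (20686, 20878))) (.node (.leaf (54150, 22728)) (.leaf (34944, 34944))))))) (.node (.node (.node (.node (.node (.leaf (21227, 20966)) (.leaf (23273, 53668))) (.node (.leaf (51939, 39904)) (.leaf (34944, 34944)))) (.node (.node (.leaf (39563, 51910)) (.leaf (22920, 53958))) (.node (.leaf (39840, 52195)) (.leaf (34944, 34944))))) (.node (.node (.node (.leaf (53647, 22991)) (.leaf (52100, 39882))) (.node (.leaf (53901, 22958)) (.leaf (34944, 34944)))) (.node (.node (.leaf (51694, 39598)) (.leaf (54210, 23201))) (.node (.leaf (51688, 39365)) (.leaf (34944, 34944)))))) (.node (.node (.node (.node (.leaf (35279, 35503)) (.leaf (21391, 20716))) (.node (.leaf (52206, 39566)) (.leaf (34944, 34944)))) (.node (.node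 (.leaf (53448, 23526)) (.leaf (23182, 53485))) (.node (.leaf (39079, 51881)) (.leaf (34944, 34944))))) (.node (.node (.node (.leaf (51909, 39560)) (.leaf (39146, 51684))) (.node (.leaf (39877, 51656)) (.leaf (34944, 34944)))) (.node (.node (.leaf (23497, 54244)) (.leaf (20719, 21388))) (.node (.leaf (53472, 22720)) (.leaf (34944, 34944)))))))) (.node (.node (.node (.node (.node (.node (.leaf (39296, 51651)) (.leaf (51331, 39104))) (.node (.leaf (21446, 20683)) (.leaf (34944, 34944)))) (.node (.node (.leaf (53385, 23268)) (.leaf (39874, 51426))) (.node (.leaf (21231, 21420)) (.leaf (34944, 34944))))) (.node (.node (.node (.leaf (53888, 23520)) (.leaf (23278, 54253))) (.node (.leaf (51439, 39660)) (.leaf (34944, 34944)))) (.node (.node (.leaf (22699, 53381)) (.leaf (51360, 39619))) (.node (.leaf (22976, 53408)) (.leaf (34944, 34944)))))) (.node (.node (.node (.node (.leaf (51629, 39853)) (.leaf (51368, 39045))) (.node (.leaf (53996, 23212)) (.leaf (34944, 34944)))) (.node (.node (.leaf (52169, 39911)) (.leaf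 (53708, 22732))) (.node (.leaf (51845, 39816)) (.leaf (34944, 34944))))) (.node (.node (.node (.leaf (39406, 51342)) (.leaf (54247, 23498))) (.node (.leaf (51687, 39145)) (.leaf (34944, 34944)))) (.node (.node (.leaf (39369, 52135)) (.leaf (22926, 53389))) (.node (.leaf (35042, 35713)) (.leaf (34944, 34944))))))) (.node (.node (.node (.node (.node (.leaf (21191, 20617)) (.leaf (51435, 39302))) (.node (.leaf (52175, 39052)) (.leaf (34944, 34944)))) (.node (.node (.leaf (53641, 23204)) (.leaf (21485, 21485))) (.node (.leaf (35457, 34978)) (.leaf (34944, 34944))))) (.node (.node (.node (.leaf (22987, 54213)) (.leaf (34948, 35241))) (.node (.leaf (53475, 22723)) (.leaf (34944, 34944)))) (.node (.node (.leaf (39403, 51622)) (.leaf (35724, 35724))) (.node (.leaf (35202, 35009)) (.leaf (34944, 34944)))))) (.node (.node (.node (.node (.leaf (21228, 21423)) (.leaf (22690, 54241))) (.node (.leaf (53391, 22927)) (.leaf (34944, 34944)))) (.node (.node (.leaf (20877, 20685)) (.leaf (53677, 23502))) (.node (.leaf (35558,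 35464)) (.leaf (34944, 34944))))) (.node (.node (.node (.leaf (22700, 53964)) (.leaf (39137, 51841))) (.node (.leaf (54213, 22987)) (.leaf (34944, 34944)))) (.node (.node (.leaf (21156, 21386)) (.leaf (23234, 53441))) (.node (.leaf (39908, 52170)) (.leaf (34944, 34944))))))))) (.node (.node (.node (.node (.node (.node (.node (.leaf (39655, 52105)) (.leaf (51406, 39150))) (.node (.leaf (51587, 39040)) (.leaf (34944, 34944)))) (.node (.node (.leaf (21486, 21486)) (.leaf (22722, 53473))) (.node (.leaf (34946, 34945)) (.leaf (34944, 34944))))) (.node (.node (.node (.leaf (35751, 35786)) (.leaf (23235, 53443))) (.node (.leaf (23175, 54154)) (.leaf (34944, 34944)))) (.node (.node (.leaf (22977, 53410)) (.leaf (35206, 35304))) (.node (.leaf (34987, 35013)) (.leaf (34944, 34944)))))) (.node (.node (.node (.node (.leaf (22731, 54149)) (.leaf (53952, 23264))) (.node (.leaf (53646, 22989)) (.leaf (34944, 34944)))) (.node (.node (.leaf (20929, 21153)) (.leaf (53935, 23471))) (.node (.leaf (20655, 21132)) (.leaf (34944,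 34944))))) (.node (.node (.node (.leaf (22959, 53903)) (.leaf (39041, 51585))) (.node (.leaf (52131, 39584)) (.leaf (34944, 34944)))) (.node (.node (.leaf (21449, 21415)) (.leaf (20622, 20622))) (.node (.leaf (54240, 22688)) (.leaf (34944, 34944))))))) (.node (.node (.node (.node (.node (.leaf (39375, 51852)) (.leaf (53739, 22949))) (.node (.leaf (21484, 21487)) (.leaf (34944, 34944)))) (.node (.node (.leaf (53638, 22760)) (.leaf (35271, 35050))) (.node (.leaf (21451, 21414)) (.leaf (34944, 34944))))) (.node (.node (.node (.leaf (39629, 51949)) (.leaf (51663, 39084))) (.node (.leaf (20902, 21483)) (.leaf (34944, 34944)))) (.node (.node (.leaf (39843, 52192)) (.leaf (39082, 51428))) (.node (.leaf (21480, 20901)) (.leaf (34944, 34944)))))) (.node (.node (.node (.node (.leaf (21455, 20972)) (.leaf (20876, 20687))) (.node (.leaf (53664, 22912)) (.leaf (34944, 34944)))) (.node (.node (.leaf (22659, 53731)) (.leaf (20612, 20906))) (.node (.leaf (53903, 22959)) (.leaf (34944, 34944))))) (.node (.node (.node (.leaf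 (54223, 22767)) (.leaf (35527, 34954))) (.node (.leaf (23237, 53899)) (.leaf (34944, 34944)))) (.node (.node (.leaf (21379, 21376)) (.leaf (51431, 39081))) (.node (.leaf (53992, 22982)) (.leaf (34944, 34944)))))))) (.node (.node (.node (.node (.node (.node (.leaf (39617, 51361)) (.leaf (53963, 23493))) (.node (.leaf (35277, 35502)) (.leaf (34944, 34944)))) (.node (.node (.leaf (52200, 39397)) (.leaf (21128, 21221))) (.node (.leaf (22990, 53645)) (.leaf (34944, 34944))))) (.node (.node (.node (.leaf (35749, 35787)) (.leaf (22755, 53987))) (.node (.leaf (39885, 51885)) (.leaf (34944, 34944)))) (.node (.node (.leaf (20936, 21381)) (.leaf (39648, 51875))) (.node (.leaf (39816, 51845)) (.leaf (34944, 34944)))))) (.node (.node (.node (.node (.leaf (21189, 20616)) (.leaf (52130, 39586))) (.node (.leaf (39854, 51630)) (.leaf (34944, 34944)))) (.node (.node (.leaf (53734, 23528)) (.leaf (35716, 35273))) (.node (.leaf (21195, 21478)) (.leaf (34944, 34944))))) (.node (.node (.node (.leaf (21473, 20609)) (.leaf (53383,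 22698))) (.node (.leaf (22954, 53447)) (.leaf (34944, 34944)))) (.node (.node (.leaf (22725, 53931)) (.leaf (53986, 22753))) (.node (.leaf (23503, 53679)) (.leaf (34944, 34944))))))) (.node (.node (.node (.node (.node (.leaf (39590, 51851)) (.leaf (53676, 23500))) (.node (.leaf (23532, 54188)) (.leaf (34944, 34944)))) (.node (.node (.leaf (34989, 35310)) (.leaf (22733, 53710))) (.node (.leaf (54222, 22765)) (.leaf (34944, 34944))))) (.node (.node (.node (.leaf (51655, 39657)) (.leaf (21216, 20675))) (.node (.leaf (39396, 52202)) (.leaf (34944, 34944)))) (.node (.node (.leaf (35236, 35817)) (.leaf (35496, 35046))) (.node (.leaf (35240, 34950)) (.leaf (34944, 34944)))))) (.node (.node (.node (.node (.leaf (21447, 20681)) (.leaf (34976, 35456))) (.node (.leaf (53990, 23432)) (.leaf (34944, 34944)))) (.node (.node (.leaf (53482, 23015)) (.leaf (51369, 39047))) (.node (.leaf (39342, 51598)) (.leaf (34944, 34944))))) (.node (.node (.node (.leaf (23015, 53482)) (.leaf (20680, 21445))) (.node (.leaf (54211, 23203))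 (.leaf (34944, 34944)))) (.node (.node (.leaf (51622, 39403)) (.leaf (39109, 51624))) (.node (.leaf (35778, 35297)) (.leaf (34944, 34944)))))))))) (.node (.node (.node (.node (.node (.node (.node (.node (.leaf (22703, 53967)) (.leaf (20716, 21391))) (.node (.leaf (22988, 53644)) (.leaf (34944, 34944)))) (.node (.node (.leaf (39309, 52109)) (.leaf (20708, 21162))) (.node (.leaf (52136, 39141)) (.leaf (34944, 34944))))) (.node (.node (.node (.leaf (52107, 39654)) (.leaf (54189, 23534))) (.node (.leaf (53955, 23267)) (.leaf (34944, 34944)))) (.node (.node (.leaf (35813, 35531)) (.leaf (51336, 39557))) (.node (.leaf (52204, 39567)) (.leaf (34944, 34944)))))) (.node (.node (.node (.node (.leaf (52167, 39625)) (.leaf (51366, 39339))) (.node (.leaf (23494, 53960)) (.leaf (34944, 34944)))) (.node (.node (.leaf (23209, 53412)) (.leaf (53898, 23239))) (.node (.leaf (22762, 53639)) (.leaf (34944, 34944))))) (.node (.node (.node (.leaf (51621, 39400)) (.leaf (35040, 35712))) (.node (.leaf (53741, 23246)) (.leaf (34944,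 34944)))) (.node (.node (.leaf (53999, 23215)) (.leaf (39072, 52099))) (.node (.leaf (54219, 23429)) (.leaf (34944, 34944))))))) (.node (.node (.node (.node (.node (.leaf (53445, 22955)) (.leaf (39343, 51596))) (.node (.leaf (35302, 35560)) (.leaf (34944, 34944)))) (.node (.node (.leaf (39598, 51694)) (.leaf (21388, 20719))) (.node (.leaf (22952, 53446)) (.leaf (34944, 34944))))) (.node (.node (.node (.leaf (22756, 53417)) (.leaf (20932, 20714))) (.node (.leaf (23279, 54255)) (.leaf (34944, 34944)))) (.node (.node (.leaf (51662, 39086)) (.leaf (35565, 35022))) (.node (.leaf (23012, 53481)) (.leaf (34944, 34944)))))) (.node (.node (.node (.node (.leaf (54144, 23456)) (.leaf (51884, 39887))) (.node (.leaf (23437, 53422)) (.leaf (34944, 34944)))) (.node (.node (.leaf (22730, 54151)) (.leaf (20704, 20707))) (.node (.leaf (22981, 53995)) (.leaf (34944, 34944))))) (.node (.node (.node (.leaf (35265, 35266)) (.leaf (52199, 39113))) (.node (.leaf (34951, 35242)) (.leaf (34944, 34944)))) (.node (.node (.leaf (54182,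 23240)) (.leaf (20674, 21218))) (.node (.leaf (53964, 22700)) (.leaf (34944, 34944)))))))) (.node (.node (.node (.node (.node (.node (.leaf (51879, 39305)) (.leaf (20973, 21453))) (.node (.leaf (22664, 53894)) (.leaf (34944, 34944)))) (.node (.node (.leaf (20896, 20899)) (.leaf (54212, 22985))) (.node (.leaf (53380, 22697)) (.leaf (34944, 34944))))) (.node (.node (.node (.leaf (23465, 53476)) (.leaf (51626, 39108))) (.node (.leaf (51365, 39336)) (.leaf (34944, 34944)))) (.node (.node (.leaf (39566, 52206)) (.leaf (20901, 21480))) (.node (.leaf (22918, 54248)) (.leaf (34944, 34944)))))) (.node (.node (.node (.node (.leaf (35048, 35270)) (.leaf (51427, 39872))) (.node (.leaf (53934, 23469)) (.leaf (34944, 34944)))) (.node (.node (.leaf (23530, 53735)) (.leaf (53954, 23265))) (.node (.leaf (39365, 51688)) (.leaf (34944, 34944))))) (.node (.node (.node (.leaf (21450, 21412)) (.leaf (23490, 53377))) (.node (.leaf (39844, 51914)) (.leaf (34944, 34944)))) (.node (.node (.leaf (35495, 35722)) (.leaf (22949, 53739)))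 (.node (.leaf (23434, 53991)) (.leaf (34944, 34944))))))) (.node (.node (.node (.node (.node (.leaf (39399, 52201)) (.leaf (20675, 21216))) (.node (.leaf (20872, 21125)) (.leaf (34944, 34944)))) (.node (.node (.leaf (22671, 53455)) (.leaf (51854, 39374))) (.node (.leaf (54180, 23241)) (.leaf (34944, 34944))))) (.node (.node (.node (.leaf (39917, 51373)) (.leaf (21193, 21479))) (.node (.leaf (21479, 21193)) (.leaf (34944, 34944)))) (.node (.node (.leaf (21416, 20645)) (.leaf (51402, 39812))) (.node (.leaf (53384, 23270)) (.leaf (34944, 34944)))))) (.node (.node (.node (.node (.leaf (22728, 54150)) (.leaf (54186, 22663))) (.node (.leaf (53709, 22734)) (.leaf (34944, 34944)))) (.node (.node (.leaf (39809, 51681)) (.leaf (23232, 53440))) (.node (.leaf (39151, 51404)) (.leaf (34944, 34944))))) (.node (.node (.node (.leaf (51692, 39599)) (.leaf (39107, 51328))) (.node (.leaf (23211, 53413)) (.leaf (34944, 34944)))) (.node (.node (.leaf (51948, 39631)) (.leaf (51362, 39618))) (.node (.leaf (23531, 53733)) (.leaf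 (34944, 34944))))))))) (.node (.node (.node (.node (.node (.node (.node (.leaf (21120, 21443)) (.leaf (35747, 35555))) (.node (.leaf (51619, 39552)) (.leaf (34944, 34944)))) (.node (.node (.leaf (35203, 35011)) (.leaf (52139, 39142))) (.node (.leaf (20972, 21455)) (.leaf (34944, 34944))))) (.node (.node (.node (.leaf (53729, 22658)) (.leaf (39841, 52193))) (.node (.leaf (39916, 51375)) (.leaf (34944, 34944)))) (.node (.node (.leaf (35787, 35749)) (.leaf (23176, 53926))) (.node (.leaf (51661, 39085)) (.leaf (34944, 34944)))))) (.node (.node (.node (.node (.leaf (21121, 21441)) (.leaf (20682, 21444))) (.node (.leaf (39596, 51695)) (.leaf (34944, 34944)))) (.node (.node (.leaf (39909, 52168)) (.leaf (39810, 51682))) (.node (.leaf (21482, 20900)) (.leaf (34944, 34944))))) (.node (.node (.node (.leaf (51904, 39395)) (.leaf (53924, 23177))) (.node (.leaf (20900, 21482)) (.leaf (34944, 34944)))) (.node (.node (.leaf (35269, 35051)) (.leaf (20645, 21416))) (.node (.leaf (23500, 53676)) (.leaf (34944, 34944)))))))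 (.node (.node (.node (.node (.node (.leaf (35200, 35008)) (.leaf (20710, 21163))) (.node (.leaf (53410, 22977)) (.leaf (34944, 34944)))) (.node (.node (.leaf (20910, 21198)) (.leaf (21386, 21156))) (.node (.leaf (39300, 51434)) (.leaf (34944, 34944))))) (.node (.node (.node (.leaf (51585, 39041)) (.leaf (22914, 53665))) (.node (.leaf (23183, 53487)) (.leaf (34944, 34944)))) (.node (.node (.leaf (51624, 39109)) (.leaf (39148, 51407))) (.node (.leaf (22695, 53674)) (.leaf (34944, 34944)))))) (.node (.node (.node (.node (.leaf (35020, 35564)) (.leaf (53706, 23463))) (.node (.leaf (35753, 34980)) (.leaf (34944, 34944)))) (.node (.node (.leaf (39658, 51652)) (.leaf (21130, 21220))) (.node (.leaf (53998, 23213)) (.leaf (34944, 34944))))) (.node (.node (.node (.leaf (35211, 35461)) (.leaf (21413, 21448))) (.node (.leaf (35501, 35278)) (.leaf (34944, 34944)))) (.node (.node (.leaf (23491, 53379)) (.leaf (51394, 39362))) (.node (.leaf (39880, 52101)) (.leaf (34944, 34944)))))))) (.node (.node (.node (.node (.node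 (.node (.leaf (20967, 21225)) (.leaf (35808, 35808))) (.node (.leaf (53478, 23464)) (.leaf (34944, 34944)))) (.node (.node (.leaf (52166, 39627)) (.leaf (51685, 39144))) (.node (.leaf (39815, 51401)) (.leaf (34944, 34944))))) (.node (.node (.node (.leaf (23495, 53962)) (.leaf (52110, 39310))) (.node (.leaf (35018, 35783)) (.leaf (34944, 34944)))) (.node (.node (.leaf (39555, 51616)) (.leaf (22924, 53388))) (.node (.leaf (21122, 21442)) (.leaf (34944, 34944)))))) (.node (.node (.node (.node (.leaf (39297, 51649)) (.leaf (51941, 39048))) (.node (.leaf (23171, 53699)) (.leaf (34944, 34944)))) (.node (.node (.leaf (35727, 35727)) (.leaf (39820, 52143))) (.node (.leaf (35566, 35021)) (.leaf (34944, 34944))))) (.node (.node (.node (.leaf (51945, 39335)) (.leaf (39080, 51429))) (.node (.leaf (22922, 53959)) (.leaf (34944, 34944)))) (.node (.node (.leaf (53925, 23179)) (.leaf (20706, 20706))) (.node (.leaf (23456, 54144)) (.leaf (34944, 34944))))))) (.node (.node (.node (.node (.node (.leaf (20897, 20897)) (.leaf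 (21196, 20911))) (.node (.leaf (52164, 39626)) (.leaf (34944, 34944)))) (.node (.node (.leaf (20608, 21475)) (.leaf (35552, 35744))) (.node (.leaf (35210, 35463)) (.leaf (34944, 34944))))) (.node (.node (.node (.leaf (39592, 51397)) (.leaf (22754, 53985))) (.node (.leaf (39364, 51690)) (.leaf (34944, 34944)))) (.node (.node (.leaf (53454, 22669)) (.leaf (35567, 35023))) (.node (.leaf (35299, 35779)) (.leaf (34944, 34944)))))) (.node (.node (.node (.node (.leaf (22665, 53892)) (.leaf (21132, 20655))) (.node (.leaf (35307, 35205)) (.leaf (34944, 34944)))) (.node (.node (.leaf (22950, 53736)) (.leaf (51428, 39082))) (.node (.leaf (35043, 35715)) (.leaf (34944, 34944))))) (.node (.node (.node (.leaf (53416, 22758)) (.leaf (35520, 35232))) (.node (.leaf (39657, 51655)) (.leaf (34944, 34944)))) (.node (.node (.leaf (22956, 53900)) (.leaf (39042, 51586))) (.node (.leaf (53449, 23524)) (.leaf (34944, 34944))))))))))) (.node (.node (.node (.node (.node (.node (.node (.node (.node (.leaf (39552, 51619)) (.leaf (35276,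 35500))) (.node (.leaf (39852, 51631)) (.leaf (34944, 34944)))) (.node (.node (.leaf (51848, 39589)) (.leaf (53895, 22666))) (.node (.leaf (52103, 39881)) (.leaf (34944, 34944))))) (.node (.node (.node (.leaf (20966, 21227)) (.leaf (35781, 35019))) (.node (.leaf (35045, 35499)) (.leaf (34944, 34944)))) (.node (.node (.leaf (34977, 35458)) (.leaf (39051, 51942))) (.node (.leaf (39372, 51855)) (.leaf (34944, 34944)))))) (.node (.node (.node (.node (.leaf (35712, 35040)) (.leaf (39141, 52136))) (.node (.leaf (35816, 35238)) (.leaf (34944, 34944)))) (.node (.node (.leaf (53993, 22980)) (.leaf (20874, 21124))) (.node (.leaf (39119, 51916)) (.leaf (34944, 34944))))) (.node (.node (.node (.leaf (53444, 22953)) (.leaf (21380, 20938))) (.node (.leaf (39564, 52207)) (.leaf (34944, 34944)))) (.node (.node (.leaf (54218, 23431)) (.leaf (35234, 35521))) (.node (.leaf (51917, 39117)) (.leaf (34944, 34944))))))) (.node (.node (.node (.node (.node (.leaf (21163, 20710)) (.leaf (52137, 39143))) (.node (.leaf (54243, 22691))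 (.leaf (34944, 34944)))) (.node (.node (.leaf (53959, 22922)) (.leaf (22991, 53647))) (.node (.leaf (23016, 53702)) (.leaf (34944, 34944))))) (.node (.node (.node (.leaf (22760, 53638)) (.leaf (35752, 34982))) (.node (.leaf (53962, 23495)) (.leaf (34944, 34944)))) (.node (.node (.leaf (51593, 39623)) (.leaf (35492, 35721))) (.node (.leaf (39876, 51658)) (.leaf (34944, 34944)))))) (.node (.node (.node (.node (.leaf (22721, 53474)) (.leaf (39393, 51905))) (.node (.leaf (23501, 53678)) (.leaf (34944, 34944)))) (.node (.node (.leaf (39335, 51945)) (.leaf (53730, 22657))) (.node (.leaf (22698, 53383)) (.leaf (34944, 34944))))) (.node (.node (.node (.leaf (54181, 23243)) (.leaf (53928, 22726))) (.node (.leaf (22989, 53646)) (.leaf (34944, 34944)))) (.node (.node (.leaf (21445, 20680)) (.leaf (53733, 23531))) (.node (.leaf (20940, 20943)) (.leaf (34944, 34944)))))))) (.node (.node (.node (.node (.node (.node (.leaf (53447, 22954)) (.leaf (39915, 51590))) (.node (.leaf (35238, 35816)) (.leaf (34944, 34944))))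 (.node (.node (.leaf (20975, 21452)) (.leaf (51680, 39811))) (.node (.leaf (22958, 53901)) (.leaf (34944, 34944))))) (.node (.node (.node (.leaf (39625, 52167)) (.leaf (35559, 35466))) (.node (.leaf (53701, 23019)) (.leaf (34944, 34944)))) (.node (.node (.leaf (39630, 51950)) (.leaf (35233, 35522))) (.node (.leaf (39814, 51403)) (.leaf (34944, 34944)))))) (.node (.node (.node (.node (.leaf (51691, 39366)) (.leaf (53731, 22659))) (.node (.leaf (39560, 51909)) (.leaf (34944, 34944)))) (.node (.node (.leaf (23466, 53479)) (.leaf (53991, 23434))) (.node (.leaf (35232, 35520)) (.leaf (34944, 34944))))) (.node (.node (.node (.leaf (21383, 20937)) (.leaf (35311, 34991))) (.node (.leaf (51616, 39555)) (.leaf (34944, 34944)))) (.node (.node (.leaf (35529, 35812)) (.leaf (35554, 35745))) (.node (.leaf (21154, 20930)) (.leaf (34944, 34944))))))) (.node (.node (.node (.node (.node (.leaf (22758, 53416)) (.leaf (20615, 20905))) (.node (.leaf (35750, 35784)) (.leaf (34944, 34944)))) (.node (.node (.leaf (53705, 23460))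 (.leaf (23432, 53990))) (.node (.leaf (51908, 39562)) (.leaf (34944, 34944))))) (.node (.node (.node (.leaf (53441, 23234)) (.leaf (53450, 23527))) (.node (.leaf (39400, 51621)) (.leaf (34944, 34944)))) (.node (.node (.leaf (39328, 52163)) (.leaf (35810, 35809))) (.node (.leaf (39341, 51597)) (.leaf (34944, 34944)))))) (.node (.node (.node (.node (.leaf (53379, 23491)) (.leaf (39879, 51657))) (.node (.leaf (51919, 39116)) (.leaf (34944, 34944)))) (.node (.node (.leaf (51658, 39876)) (.leaf (20683, 21446))) (.node (.leaf (23023, 54159)) (.leaf (34944, 34944))))) (.node (.node (.node (.leaf (53485, 23182)) (.leaf (20713, 20935))) (.node (.leaf (21198, 20910)) (.leaf (34944, 34944)))) (.node (.node (.leaf (21220, 21130)) (.leaf (51340, 39407))) (.node (.leaf (39848, 51333)) (.leaf (34944, 34944))))))))) (.node (.node (.node (.node (.node (.node (.node (.leaf (39591, 51849)) (.leaf (39818, 51844))) (.node (.leaf (51684, 39146)) (.leaf (34944, 34944)))) (.node (.node (.leaf (21411, 20864)) (.leaf (53636, 22761)))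 (.node (.leaf (20867, 21408)) (.leaf (34944, 34944))))) (.node (.node (.node (.leaf (52193, 39841)) (.leaf (39149, 51405))) (.node (.leaf (23244, 53740)) (.leaf (34944, 34944)))) (.node (.node (.leaf (51693, 39597)) (.leaf (51370, 39044))) (.node (.leaf (39910, 52171)) (.leaf (34944, 34944)))))) (.node (.node (.node (.node (.leaf (39595, 51398)) (.leaf (53894, 22664))) (.node (.leaf (22761, 53636)) (.leaf (34944, 34944)))) (.node (.node (.leaf (51328, 39107)) (.leaf (39855, 51628))) (.node (.leaf (53930, 22727)) (.leaf (34944, 34944))))) (.node (.node (.node (.leaf (53381, 22699)) (.leaf (35556, 35465))) (.node (.leaf (53635, 23427)) (.leaf (34944, 34944)))) (.node (.node (.leaf (21381, 20936)) (.leaf (39145, 51687))) (.node (.leaf (51916, 39119)) (.leaf (34944, 34944))))))) (.node (.node (.node (.node (.node (.leaf (21376, 21379)) (.leaf (20646, 21419))) (.node (.leaf (23433, 53988)) (.leaf (34944, 34944)))) (.node (.node (.leaf (35715, 35043)) (.leaf (54191, 23535))) (.node (.leaf (23470, 53933)) (.leaf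 (34944, 34944))))) (.node (.node (.node (.leaf (39565, 52205)) (.leaf (39842, 52194))) (.node (.leaf (51399, 39593)) (.leaf (34944, 34944)))) (.node (.node (.leaf (22915, 53667)) (.leaf (35521, 35234))) (.node (.leaf (35304, 35206)) (.leaf (34944, 34944)))))) (.node (.node (.node (.node (.leaf (35247, 35247)) (.leaf (53637, 22763))) (.node (.leaf (35812, 35529)) (.leaf (34944, 34944)))) (.node (.node (.leaf (39594, 51396)) (.leaf (23172, 54153))) (.node (.leaf (53960, 23494)) (.leaf (34944, 34944))))) (.node (.node (.node (.leaf (35275, 35717)) (.leaf (39392, 51907))) (.node (.leaf (53453, 22670)) (.leaf (34944, 34944)))) (.node (.node (.leaf (35310, 34989)) (.leaf (51426, 39874))) (.node (.leaf (23208, 53414)) (.leaf (34944, 34944)))))))) (.node (.node (.node (.node (.node (.node (.leaf (20905, 20615)) (.leaf (23177, 53924))) (.node (.leaf (39395, 51904)) (.leaf (34944, 34944)))) (.node (.node (.leaf (35713, 35042)) (.leaf (54148, 22729))) (.node (.leaf (35818, 35239)) (.leaf (34944, 34944))))) (.node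 (.node (.node (.leaf (20969, 20871)) (.leaf (52197, 39112))) (.node (.leaf (52196, 39114)) (.leaf (34944, 34944)))) (.node (.node (.leaf (51877, 39304)) (.leaf (39906, 51938))) (.node (.leaf (54188, 23532)) (.leaf (34944, 34944)))))) (.node (.node (.node (.node (.leaf (21125, 20872)) (.leaf (39302, 51435))) (.node (.leaf (20870, 20971)) (.leaf (34944, 34944)))) (.node (.node (.leaf (35779, 35299)) (.leaf (51364, 39338))) (.node (.leaf (53481, 23012)) (.leaf (34944, 34944))))) (.node (.node (.node (.leaf (35297, 35778)) (.leaf (39047, 51369))) (.node (.leaf (21158, 21387)) (.leaf (34944, 34944)))) (.node (.node (.leaf (35557, 35467)) (.leaf (39046, 51371))) (.node (.leaf (35714, 35041)) (.leaf (34944, 34944))))))) (.node (.node (.node (.node (.node (.leaf (20974, 21454)) (.leaf (51404, 39151))) (.node (.leaf (23468, 53932)) (.leaf (34944, 34944)))) (.node (.node (.leaf (23489, 53378)) (.leaf (53961, 23492))) (.node (.leaf (35274, 35719)) (.leaf (34944, 34944))))) (.node (.node (.node (.leaf (35019, 35781))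 (.leaf (22980, 53993))) (.node (.leaf (21483, 20902)) (.leaf (34944, 34944)))) (.node (.node (.leaf (39370, 52132)) (.leaf (39045, 51368))) (.node (.leaf (21443, 21120)) (.leaf (34944, 34944)))))) (.node (.node (.node (.node (.leaf (35239, 35818)) (.leaf (22982, 53992))) (.node (.leaf (53921, 23010)) (.leaf (34944, 34944)))) (.node (.node (.leaf (35819, 35237)) (.leaf (53644, 22988))) (.node (.leaf (20687, 20876)) (.leaf (34944, 34944))))) (.node (.node (.node (.leaf (53420, 23436)) (.leaf (20654, 21134))) (.node (.leaf (22661, 54187)) (.leaf (34944, 34944)))) (.node (.node (.leaf (39884, 51887)) (.leaf (39074, 52098))) (.node (.leaf (35726, 35725)) (.leaf (34944, 34944)))))))))) (.node (.node (.node (.node (.node (.node (.node (.node (.leaf (22759, 53418)) (.leaf (53892, 22665))) (.node (.leaf (53378, 23489)) (.leaf (34944, 34944)))) (.node (.node (.leaf (39366, 51691)) (.leaf (51598, 39342))) (.node (.leaf (53704, 23462)) (.leaf (34944, 34944))))) (.node (.node (.node (.leaf (52174, 39054)) (.leaf (39623,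 51593))) (.node (.leaf (53893, 22667)) (.leaf (34944, 34944)))) (.node (.node (.leaf (35757, 35214)) (.leaf (53698, 23169))) (.node (.leaf (53740, 23244)) (.leaf (34944, 34944)))))) (.node (.node (.node (.node (.leaf (53671, 23274)) (.leaf (20866, 21410))) (.node (.leaf (53710, 22733)) (.leaf (34944, 34944)))) (.node (.node (.leaf (39881, 52103)) (.leaf (20678, 20651))) (.node (.leaf (23438, 53421)) (.leaf (34944, 34944))))) (.node (.node (.node (.leaf (39887, 51884)) (.leaf (35528, 35814))) (.node (.leaf (34986, 35015)) (.leaf (34944, 34944)))) (.node (.node (.leaf (23498, 54247)) (.leaf (39052, 52175))) (.node (.leaf (23439, 53423)) (.leaf (34944, 34944))))))) (.node (.node (.node (.node (.node (.leaf (22702, 53965)) (.leaf (53668, 23273))) (.node (.leaf (21408, 20867)) (.leaf (34944, 34944)))) (.node (.node (.leaf (23502, 53677)) (.leaf (21415, 21449))) (.node (.leaf (39557, 51336)) (.leaf (34944, 34944))))) (.node (.node (.node (.leaf (22701, 53966)) (.leaf (35044, 35497))) (.node (.leaf (39919, 51372))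 (.leaf (34944, 34944)))) (.node (.node (.leaf (39914, 51588)) (.leaf (39108, 51626))) (.node (.leaf (23011, 53923)) (.leaf (34944, 34944)))))) (.node (.node (.node (.node (.leaf (35301, 35563)) (.leaf (20930, 21154))) (.node (.leaf (52132, 39370)) (.leaf (34944, 34944)))) (.node (.node (.leaf (39339, 51366)) (.leaf (51436, 39663))) (.node (.leaf (39077, 51880)) (.leaf (34944, 34944))))) (.node (.node (.node (.leaf (39397, 52200)) (.leaf (39401, 51623))) (.node (.leaf (51653, 39656)) (.leaf (34944, 34944)))) (.node (.node (.leaf (54246, 23496)) (.leaf (23266, 53953))) (.node (.leaf (20609, 21473)) (.leaf (34944, 34944)))))))) (.node (.node (.node (.node (.node (.node (.leaf (39553, 51617)) (.leaf (53933, 23470))) (.node (.leaf (21389, 20717)) (.leaf (34944, 34944)))) (.node (.node (.leaf (52140, 39823)) (.leaf (39558, 51339))) (.node (.leaf (22921, 53956)) (.leaf (34944, 34944))))) (.node (.node (.node (.leaf (53697, 23170)) (.leaf (39115, 52198))) (.node (.leaf (51401, 39815)) (.leaf (34944, 34944))))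 (.node (.node (.leaf (20871, 20969)) (.leaf (53667, 22915))) (.node (.leaf (21155, 20928)) (.leaf (34944, 34944)))))) (.node (.node (.node (.node (.leaf (34981, 35755)) (.leaf (51343, 39404))) (.node (.leaf (23246, 53741)) (.leaf (34944, 34944)))) (.node (.node (.leaf (52099, 39072)) (.leaf (23245, 53742))) (.node (.leaf (39585, 52129)) (.leaf (34944, 34944))))) (.node (.node (.node (.leaf (23471, 53935)) (.leaf (39330, 52162))) (.node (.leaf (39882, 52100)) (.leaf (34944, 34944)))) (.node (.node (.leaf (35561, 35300)) (.leaf (22946, 54177))) (.node (.leaf (39599, 51692)) (.leaf (34944, 34944))))))) (.node (.node (.node (.node (.node (.leaf (39654, 52107)) (.leaf (20613, 20904))) (.node (.leaf (22688, 54240)) (.leaf (34944, 34944)))) (.node (.node (.leaf (20941, 20941)) (.leaf (35462, 35208))) (.node (.leaf (35264, 35264)) (.leaf (34944, 34944))))) (.node (.node (.node (.leaf (22957, 53902)) (.leaf (35783, 35018))) (.node (.leaf (22696, 53382)) (.leaf (34944, 34944)))) (.node (.node (.leaf (21476, 21194))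 (.leaf (35525, 34955))) (.node (.leaf (51853, 39373)) (.leaf (34944, 34944)))))) (.node (.node (.node (.node (.leaf (39337, 51367)) (.leaf (51596, 39343))) (.node (.leaf (22765, 54222)) (.leaf (34944, 34944)))) (.node (.node (.leaf (22913, 53666)) (.leaf (23275, 53669))) (.node (.leaf (53995, 22981)) (.leaf (34944, 34944))))) (.node (.node (.node (.leaf (39911, 52169)) (.leaf (39053, 52173))) (.node (.leaf (23018, 53703)) (.leaf (34944, 34944)))) (.node (.node (.leaf (39659, 51654)) (.leaf (35458, 34977))) (.node (.leaf (53735, 23530)) (.leaf (34944, 34944))))))))) (.node (.node (.node (.node (.node (.node (.node (.leaf (22657, 53730)) (.leaf (51337, 39559))) (.node (.leaf (39336, 51365)) (.leaf (34944, 34944)))) (.node (.node (.leaf (39340, 51599)) (.leaf (53707, 23461))) (.node (.leaf (35011, 35203)) (.leaf (34944, 34944))))) (.node (.node (.node (.leaf (39661, 51437)) (.leaf (39117, 51917))) (.node (.leaf (35717, 35275)) (.leaf (34944, 34944)))) (.node (.node (.leaf (54251, 22917)) (.leaf (51405, 39149)))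 (.node (.leaf (39913, 51591)) (.leaf (34944, 34944)))))) (.node (.node (.node (.node (.leaf (21185, 21185)) (.leaf (23179, 53925))) (.node (.leaf (53899, 23237)) (.leaf (34944, 34944)))) (.node (.node (.leaf (35789, 35470)) (.leaf (23436, 53420))) (.node (.leaf (54217, 23428)) (.leaf (34944, 34944))))) (.node (.node (.node (.leaf (39332, 51946)) (.leaf (53956, 22921))) (.node (.leaf (22669, 53454)) (.leaf (34944, 34944)))) (.node (.node (.leaf (53387, 23269)) (.leaf (39140, 52138))) (.node (.leaf (53897, 23236)) (.leaf (34944, 34944))))))) (.node (.node (.node (.node (.node (.leaf (22767, 54223)) (.leaf (51403, 39814))) (.node (.leaf (52106, 39652)) (.leaf (34944, 34944)))) (.node (.node (.leaf (23457, 54146)) (.leaf (23458, 54145))) (.node (.leaf (53408, 22976)) (.leaf (34944, 34944))))) (.node (.node (.node (.leaf (39851, 51334)) (.leaf (51625, 39111))) (.node (.leaf (52111, 39308)) (.leaf (34944, 34944)))) (.node (.node (.leaf (34949, 35243)) (.leaf (35746, 35553))) (.node (.leaf (21410, 20866)) (.leaf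 (34944, 34944)))))) (.node (.node (.node (.node (.leaf (21164, 21167)) (.leaf (39651, 51872))) (.node (.leaf (53451, 23525)) (.leaf (34944, 34944)))) (.node (.node (.leaf (20931, 21152)) (.leaf (51372, 39919))) (.node (.leaf (53929, 22724)) (.leaf (34944, 34944))))) (.node (.node (.node (.leaf (53476, 23465)) (.leaf (39086, 51662))) (.node (.leaf (51649, 39297)) (.leaf (34944, 34944)))) (.node (.node (.leaf (34953, 35524)) (.leaf (39114, 52196))) (.node (.leaf (51329, 39105)) (.leaf (34944, 34944)))))))) (.node (.node (.node (.node (.node (.node (.leaf (35051, 35269)) (.leaf (51425, 39873))) (.node (.leaf (54190, 23533)) (.leaf (34944, 34944)))) (.node (.node (.leaf (53670, 23272)) (.leaf (53442, 23233))) (.node (.leaf (54179, 22947)) (.leaf (34944, 34944))))) (.node (.node (.node (.leaf (53711, 22735)) (.leaf (39587, 52128))) (.node (.leaf (23430, 54216)) (.leaf (34944, 34944)))) (.node (.node (.leaf (39619, 51360)) (.leaf (54245, 23499))) (.node (.leaf (21186, 21186)) (.leaf (34944, 34944)))))) (.node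 (.node (.node (.node (.leaf (21423, 21228)) (.leaf (39306, 51876))) (.node (.leaf (23214, 53997)) (.leaf (34944, 34944)))) (.node (.node (.leaf (53389, 22926)) (.leaf (51398, 39595))) (.node (.leaf (35489, 35490)) (.leaf (34944, 34944))))) (.node (.node (.node (.leaf (35456, 34976)) (.leaf (22660, 54185))) (.node (.leaf (54147, 23459)) (.leaf (34944, 34944)))) (.node (.node (.leaf (39361, 51393)) (.leaf (53642, 23207))) (.node (.leaf (53640, 23206)) (.leaf (34944, 34944))))))) (.node (.node (.node (.node (.node (.leaf (52141, 39821)) (.leaf (51361, 39617))) (.node (.leaf (35784, 35750)) (.leaf (34944, 34944)))) (.node (.node (.leaf (52205, 39565)) (.leaf (53922, 23009))) (.node (.leaf (39303, 51433)) (.leaf (34944, 34944))))) (.node (.node (.node (.leaf (39656, 51653)) (.leaf (39586, 52130))) (.node (.leaf (51843, 39136)) (.leaf (34944, 34944)))) (.node (.node (.leaf (54151, 22730)) (.leaf (39076, 51882))) (.node (.leaf (53452, 22668)) (.leaf (34944, 34944)))))) (.node (.node (.node (.node (.leaf (39616,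 51363)) (.leaf (39083, 51430))) (.node (.leaf (20651, 20678)) (.leaf (34944, 34944)))) (.node (.node (.leaf (23014, 53480)) (.leaf (51363, 39616))) (.node (.leaf (21134, 20654)) (.leaf (34944, 34944))))) (.node (.node (.node (.leaf (51657, 39879)) (.leaf (35470, 35789))) (.node (.leaf (20928, 21155)) (.leaf (34944, 34944)))) (.node (.node (.leaf (53382, 22696)) (.leaf (39044, 51370))) (.node (.leaf (53643, 23205)) (.leaf (34944, 34944)))))))))))))

/-- parents -/
def parB : Tree (ℕ × ℕ) :=
  (.node (.node (.node (.node (.node (.node (.node (.node (.node (.node (.node (.leaf (0, 0)) (.leaf (590, 0))) (.node (.leaf (247, 1)) (.leaf (0, 0)))) (.node (.node (.leaf (116, 1)) (.leaf (884, 2))) (.node (.leaf (405, 0)) (.leaf (0, 0))))) (.node (.node (.node (.leaf (56, 0)) (.leaf (735, 0))) (.node (.leaf (318, 2)) (.leaf (0, 0)))) (.node (.node (.leaf (178, 0)) (.leaf (1077, 1))) (.node (.leaf (499, 0)) (.leaf (0, 0)))))) (.node (.node (.node (.node (.leaf (26, 2)) (.leaf (655, 0))) (.node (.leaf (282, 1)) (.leaf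 (0, 0)))) (.node (.node (.leaf (147, 1)) (.leaf (975, 2))) (.node (.leaf (446, 2)) (.leaf (0, 0))))) (.node (.node (.node (.leaf (87, 0)) (.leaf (809, 0))) (.node (.leaf (362, 0)) (.leaf (0, 0)))) (.node (.node (.leaf (212, 0)) (.leaf (1232, 1))) (.node (.leaf (542, 2)) (.leaf (0, 0))))))) (.node (.node (.node (.node (.node (.leaf (12, 1)) (.leaf (619, 0))) (.node (.leaf (266, 1)) (.leaf (0, 0)))) (.node (.node (.leaf (132, 0)) (.leaf (931, 2))) (.node (.leaf (426, 1)) (.leaf (0, 0))))) (.node (.node (.node (.leaf (71, 0)) (.leaf (772, 0))) (.node (.leaf (340, 0)) (.leaf (0, 0)))) (.node (.node (.leaf (195, 2)) (.leaf (1148, 0))) (.node (.leaf (521, 1)) (.leaf (0, 0)))))) (.node (.node (.node (.node (.leaf (41, 1)) (.leaf (698, 2))) (.node (.leaf (300, 2)) (.leaf (0, 0)))) (.node (.node (.leaf (162, 2)) (.leaf (1017, 0))) (.node (.leaf (469, 2)) (.leaf (0, 0))))) (.node (.node (.node (.leaf (101, 1)) (.leaf (838, 1))) (.node (.leaf (383, 0)) (.leaf (0, 0)))) (.node (.node (.leaf (230, 0)) (.leaf (1349,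 2))) (.node (.leaf (566, 0)) (.leaf (0, 0)))))))) (.node (.node (.node (.node (.node (.node (.leaf (5, 2)) (.leaf (605, 1))) (.node (.leaf (257, 1)) (.leaf (0, 0)))) (.node (.node (.leaf (124, 2)) (.leaf (905, 0))) (.node (.leaf (416, 0)) (.leaf (0, 0))))) (.node (.node (.node (.leaf (63, 2)) (.leaf (753, 0))) (.node (.leaf (329, 0)) (.leaf (0, 0)))) (.node (.node (.leaf (186, 1)) (.leaf (1110, 2))) (.node (.leaf (507, 2)) (.leaf (0, 0)))))) (.node (.node (.node (.node (.leaf (34, 0)) (.leaf (680, 0))) (.node (.leaf (290, 1)) (.leaf (0, 0)))) (.node (.node (.leaf (154, 2)) (.leaf (992, 2))) (.node (.leaf (458, 0)) (.leaf (0, 0))))) (.node (.node (.node (.leaf (93, 2)) (.leaf (825, 0))) (.node (.leaf (371, 0)) (.leaf (0, 0)))) (.node (.node (.leaf (220, 2)) (.leaf (1277, 2))) (.node (.leaf (555, 1)) (.leaf (0, 0))))))) (.node (.node (.node (.node (.node (.leaf (19, 1)) (.leaf (638, 1))) (.node (.leaf (274, 2)) (.leaf (0, 0)))) (.node (.node (.leaf (140, 0)) (.leaf (946, 2))) (.node (.leaf (437, 2)) (.leaf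 (0, 0))))) (.node (.node (.node (.leaf (78, 1)) (.leaf (788, 2))) (.node (.leaf (351, 2)) (.leaf (0, 0)))) (.node (.node (.leaf (204, 0)) (.leaf (1185, 0))) (.node (.leaf (530, 2)) (.leaf (0, 0)))))) (.node (.node (.node (.node (.leaf (49, 0)) (.leaf (716, 1))) (.node (.leaf (308, 2)) (.leaf (0, 0)))) (.node (.node (.leaf (170, 2)) (.leaf (1042, 1))) (.node (.leaf (484, 0)) (.leaf (0, 0))))) (.node (.node (.node (.leaf (108, 2)) (.leaf (862, 1))) (.node (.leaf (394, 0)) (.leaf (0, 0)))) (.node (.node (.leaf (239, 0)) (.leaf (1395, 0))) (.node (.leaf (578, 0)) (.leaf (0, 0))))))))) (.node (.node (.node (.node (.node (.node (.node (.leaf (2, 1)) (.leaf (597, 2))) (.node (.leaf (253, 2)) (.leaf (0, 0)))) (.node (.node (.leaf (120, 2)) (.leaf (895, 2))) (.node (.leaf (411, 1)) (.leaf (0, 0))))) (.node (.node (.node (.leaf (59, 2)) (.leaf (745, 2))) (.node (.leaf (324, 2)) (.leaf (0, 0)))) (.node (.node (.leaf (182, 0)) (.leaf (1097, 2))) (.node (.leaf (503, 0)) (.leaf (0, 0)))))) (.node (.node (.node (.node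 (.leaf (30, 0)) (.leaf (668, 2))) (.node (.leaf (287, 0)) (.leaf (0, 0)))) (.node (.node (.leaf (151, 0)) (.leaf (983, 2))) (.node (.leaf (452, 2)) (.leaf (0, 0))))) (.node (.node (.node (.leaf (90, 1)) (.leaf (816, 1))) (.node (.leaf (366, 1)) (.leaf (0, 0)))) (.node (.node (.leaf (216, 2)) (.leaf (1249, 1))) (.node (.leaf (551, 0)) (.leaf (0, 0))))))) (.node (.node (.node (.node (.node (.leaf (15, 2)) (.leaf (629, 1))) (.node (.leaf (270, 2)) (.leaf (0, 0)))) (.node (.node (.leaf (136, 0)) (.leaf (940, 1))) (.node (.leaf (432, 1)) (.leaf (0, 0))))) (.node (.node (.node (.leaf (74, 1)) (.leaf (784, 1))) (.node (.leaf (345, 0)) (.leaf (0, 0)))) (.node (.node (.leaf (199, 2)) (.leaf (1165, 2))) (.node (.leaf (526, 0)) (.leaf (0, 0)))))) (.node (.node (.node (.node (.leaf (45, 1)) (.leaf (706, 2))) (.node (.leaf (305, 0)) (.leaf (0, 0)))) (.node (.node (.leaf (166, 1)) (.leaf (1028, 1))) (.node (.leaf (476, 0)) (.leaf (0, 0))))) (.node (.node (.node (.leaf (105, 1)) (.leaf (847, 0))) (.node (.leaf (388,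 2)) (.leaf (0, 0)))) (.node (.node (.leaf (234, 0)) (.leaf (1371, 1))) (.node (.leaf (572, 2)) (.leaf (0, 0)))))))) (.node (.node (.node (.node (.node (.node (.leaf (9, 0)) (.leaf (611, 1))) (.node (.leaf (261, 2)) (.leaf (0, 0)))) (.node (.node (.leaf (128, 2)) (.leaf (920, 1))) (.node (.leaf (421, 1)) (.leaf (0, 0))))) (.node (.node (.node (.leaf (67, 0)) (.leaf (761, 0))) (.node (.leaf (335, 0)) (.leaf (0, 0)))) (.node (.node (.leaf (190, 2)) (.leaf (1135, 1))) (.node (.leaf (514, 0)) (.leaf (0, 0)))))) (.node (.node (.node (.node (.leaf (37, 1)) (.leaf (686, 0))) (.node (.leaf (296, 1)) (.leaf (0, 0)))) (.node (.node (.leaf (159, 0)) (.leaf (1006, 0))) (.node (.leaf (463, 2)) (.leaf (0, 0))))) (.node (.node (.node (.leaf (97, 1)) (.leaf (831, 2))) (.node (.leaf (376, 1)) (.leaf (0, 0)))) (.node (.node (.leaf (225, 1)) (.leaf (1317, 0))) (.node (.leaf (561, 1)) (.leaf (0, 0))))))) (.node (.node (.node (.node (.node (.leaf (23, 0)) (.leaf (649, 2))) (.node (.leaf (279, 0)) (.leaf (0, 0)))) (.node (.node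 (.leaf (143, 1)) (.leaf (962, 2))) (.node (.leaf (441, 0)) (.leaf (0, 0))))) (.node (.node (.node (.leaf (83, 0)) (.leaf (799, 0))) (.node (.leaf (357, 2)) (.leaf (0, 0)))) (.node (.node (.leaf (207, 2)) (.leaf (1208, 2))) (.node (.leaf (535, 1)) (.leaf (0, 0)))))) (.node (.node (.node (.node (.leaf (52, 1)) (.leaf (723, 2))) (.node (.leaf (314, 0)) (.leaf (0, 0)))) (.node (.node (.leaf (174, 0)) (.leaf (1056, 2))) (.node (.leaf (490, 1)) (.leaf (0, 0))))) (.node (.node (.node (.leaf (112, 1)) (.leaf (873, 2))) (.node (.leaf (399, 0)) (.leaf (0, 0)))) (.node (.node (.leaf (243, 2)) (.leaf (1444, 2))) (.node (.leaf (584, 0)) (.leaf (0, 0)))))))))) (.node (.node (.node (.node (.node (.node (.node (.node (.leaf (1, 0)) (.leaf (593, 2))) (.node (.leaf (250, 1)) (.leaf (0, 0)))) (.node (.node (.leaf (119, 0)) (.leaf (890, 2))) (.node (.leaf (407, 2)) (.leaf (0, 0))))) (.node (.node (.node (.leaf (57, 2)) (.leaf (738, 1))) (.node (.leaf (323, 0)) (.leaf (0, 0)))) (.node (.node (.leaf (180, 0)) (.leaf (1093,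 0))) (.node (.leaf (501, 1)) (.leaf (0, 0)))))) (.node (.node (.node (.node (.leaf (28, 1)) (.leaf (661, 1))) (.node (.leaf (285, 1)) (.leaf (0, 0)))) (.node (.node (.leaf (149, 1)) (.leaf (980, 2))) (.node (.leaf (449, 1)) (.leaf (0, 0))))) (.node (.node (.node (.leaf (88, 2)) (.leaf (813, 2))) (.node (.leaf (364, 1)) (.leaf (0, 0)))) (.node (.node (.leaf (214, 1)) (.leaf (1242, 2))) (.node (.leaf (545, 2)) (.leaf (0, 0))))))) (.node (.node (.node (.node (.node (.leaf (14, 0)) (.leaf (626, 1))) (.node (.leaf (268, 0)) (.leaf (0, 0)))) (.node (.node (.leaf (134, 1)) (.leaf (937, 1))) (.node (.leaf (430, 0)) (.leaf (0, 0))))) (.node (.node (.node (.leaf (72, 2)) (.leaf (777, 2))) (.node (.leaf (341, 2)) (.leaf (0, 0)))) (.node (.node (.leaf (197, 2)) (.leaf (1155, 0))) (.node (.leaf (523, 2)) (.leaf (0, 0)))))) (.node (.node (.node (.node (.leaf (43, 1)) (.leaf (701, 2))) (.node (.leaf (303, 0)) (.leaf (0, 0)))) (.node (.node (.leaf (164, 1)) (.leaf (1023, 1))) (.node (.leaf (474, 0)) (.leaf (0, 0)))))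 (.node (.node (.node (.leaf (103, 0)) (.leaf (843, 2))) (.node (.leaf (387, 0)) (.leaf (0, 0)))) (.node (.node (.leaf (232, 0)) (.leaf (1363, 2))) (.node (.leaf (568, 2)) (.leaf (0, 0)))))))) (.node (.node (.node (.node (.node (.node (.leaf (7, 1)) (.leaf (609, 1))) (.node (.leaf (259, 0)) (.leaf (0, 0)))) (.node (.node (.leaf (126, 2)) (.leaf (914, 0))) (.node (.leaf (418, 0)) (.leaf (0, 0))))) (.node (.node (.node (.leaf (65, 1)) (.leaf (758, 1))) (.node (.leaf (332, 1)) (.leaf (0, 0)))) (.node (.node (.leaf (189, 0)) (.leaf (1129, 0))) (.node (.leaf (510, 1)) (.leaf (0, 0)))))) (.node (.node (.node (.node (.leaf (35, 2)) (.leaf (684, 1))) (.node (.leaf (293, 2)) (.leaf (0, 0)))) (.node (.node (.leaf (157, 0)) (.leaf (997, 2))) (.node (.leaf (461, 0)) (.leaf (0, 0))))) (.node (.node (.node (.leaf (95, 2)) (.leaf (828, 0))) (.node (.leaf (372, 2)) (.leaf (0, 0)))) (.node (.node (.leaf (222, 1)) (.leaf (1307, 0))) (.node (.leaf (559, 0)) (.leaf (0, 0))))))) (.node (.node (.node (.node (.node (.leaf (20,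 2)) (.leaf (642, 2))) (.node (.leaf (277, 0)) (.leaf (0, 0)))) (.node (.node (.leaf (142, 0)) (.leaf (951, 1))) (.node (.leaf (439, 1)) (.leaf (0, 0))))) (.node (.node (.node (.leaf (80, 1)) (.leaf (795, 0))) (.node (.leaf (354, 1)) (.leaf (0, 0)))) (.node (.node (.leaf (205, 2)) (.leaf (1199, 2))) (.node (.leaf (532, 2)) (.leaf (0, 0)))))) (.node (.node (.node (.node (.leaf (50, 2)) (.leaf (721, 2))) (.node (.leaf (311, 1)) (.leaf (0, 0)))) (.node (.node (.leaf (172, 1)) (.leaf (1052, 0))) (.node (.leaf (486, 1)) (.leaf (0, 0))))) (.node (.node (.node (.leaf (110, 2)) (.leaf (866, 1))) (.node (.leaf (396, 2)) (.leaf (0, 0)))) (.node (.node (.leaf (241, 1)) (.leaf (1410, 1))) (.node (.leaf (581, 0)) (.leaf (0, 0))))))))) (.node (.node (.node (.node (.node (.node (.node (.leaf (4, 1)) (.leaf (602, 0))) (.node (.leaf (255, 2)) (.leaf (0, 0)))) (.node (.node (.leaf (122, 2)) (.leaf (903, 1))) (.node (.leaf (413, 1)) (.leaf (0, 0))))) (.node (.node (.node (.leaf (61, 1)) (.leaf (750, 0))) (.node (.leaf (327,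 0)) (.leaf (0, 0)))) (.node (.node (.leaf (184, 1)) (.leaf (1103, 1))) (.node (.leaf (505, 1)) (.leaf (0, 0)))))) (.node (.node (.node (.node (.leaf (32, 1)) (.leaf (673, 2))) (.node (.leaf (289, 0)) (.leaf (0, 0)))) (.node (.node (.leaf (153, 0)) (.leaf (987, 0))) (.node (.leaf (455, 2)) (.leaf (0, 0))))) (.node (.node (.node (.leaf (92, 0)) (.leaf (821, 1))) (.node (.leaf (369, 0)) (.leaf (0, 0)))) (.node (.node (.leaf (218, 2)) (.leaf (1257, 2))) (.node (.leaf (553, 1)) (.leaf (0, 0))))))) (.node (.node (.node (.node (.node (.leaf (17, 1)) (.leaf (634, 0))) (.node (.leaf (272, 1)) (.leaf (0, 0)))) (.node (.node (.leaf (138, 0)) (.leaf (943, 0))) (.node (.leaf (435, 0)) (.leaf (0, 0))))) (.node (.node (.node (.leaf (76, 2)) (.leaf (786, 2))) (.node (.leaf (347, 0)) (.leaf (0, 0)))) (.node (.node (.leaf (202, 0)) (.leaf (1172, 0))) (.node (.leaf (528, 0)) (.leaf (0, 0)))))) (.node (.node (.node (.node (.leaf (47, 0)) (.leaf (710, 1))) (.node (.leaf (306, 2)) (.leaf (0, 0)))) (.node (.node (.leaf (169,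 0)) (.leaf (1034, 2))) (.node (.leaf (479, 0)) (.leaf (0, 0))))) (.node (.node (.node (.leaf (107, 0)) (.leaf (852, 0))) (.node (.leaf (391, 0)) (.leaf (0, 0)))) (.node (.node (.leaf (236, 0)) (.leaf (1377, 2))) (.node (.leaf (575, 1)) (.leaf (0, 0)))))))) (.node (.node (.node (.node (.node (.node (.leaf (10, 2)) (.leaf (616, 1))) (.node (.leaf (263, 2)) (.leaf (0, 0)))) (.node (.node (.leaf (130, 1)) (.leaf (925, 0))) (.node (.leaf (425, 0)) (.leaf (0, 0))))) (.node (.node (.node (.leaf (69, 1)) (.leaf (766, 2))) (.node (.leaf (338, 0)) (.leaf (0, 0)))) (.node (.node (.leaf (193, 1)) (.leaf (1141, 1))) (.node (.leaf (518, 2)) (.leaf (0, 0)))))) (.node (.node (.node (.node (.leaf (39, 2)) (.leaf (692, 2))) (.node (.leaf (298, 2)) (.leaf (0, 0)))) (.node (.node (.leaf (160, 2)) (.leaf (1010, 2))) (.node (.leaf (467, 0)) (.leaf (0, 0))))) (.node (.node (.node (.leaf (99, 0)) (.leaf (834, 0))) (.node (.leaf (380, 1)) (.leaf (0, 0)))) (.node (.node (.leaf (227, 1)) (.leaf (1338, 2))) (.node (.leaf (564, 1))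 (.leaf (0, 0))))))) (.node (.node (.node (.node (.node (.leaf (24, 2)) (.leaf (652, 0))) (.node (.leaf (281, 0)) (.leaf (0, 0)))) (.node (.node (.leaf (145, 1)) (.leaf (966, 2))) (.node (.leaf (444, 0)) (.leaf (0, 0))))) (.node (.node (.node (.leaf (85, 1)) (.leaf (804, 0))) (.node (.leaf (359, 1)) (.leaf (0, 0)))) (.node (.node (.leaf (209, 2)) (.leaf (1218, 0))) (.node (.leaf (539, 2)) (.leaf (0, 0)))))) (.node (.node (.node (.node (.leaf (54, 0)) (.leaf (729, 0))) (.node (.leaf (315, 2)) (.leaf (0, 0)))) (.node (.node (.leaf (176, 0)) (.leaf (1067, 1))) (.node (.leaf (493, 0)) (.leaf (0, 0))))) (.node (.node (.node (.leaf (114, 2)) (.leaf (880, 1))) (.node (.leaf (402, 0)) (.leaf (0, 0)))) (.node (.node (.leaf (245, 1)) (.leaf (1470, 2))) (.node (.leaf (586, 1)) (.leaf (0, 0))))))))))) (.node (.node (.node (.node (.node (.node (.node (.node (.node (.leaf (0, 1)) (.leaf (591, 2))) (.node (.leaf (248, 2)) (.leaf (0, 0)))) (.node (.node (.leaf (118, 0)) (.leaf (887, 1))) (.node (.leaf (406, 1)) (.leaf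 (0, 0))))) (.node (.node (.node (.leaf (56, 2)) (.leaf (737, 0))) (.node (.leaf (322, 0)) (.leaf (0, 0)))) (.node (.node (.leaf (178, 2)) (.leaf (1083, 0))) (.node (.leaf (500, 2)) (.leaf (0, 0)))))) (.node (.node (.node (.node (.leaf (27, 2)) (.leaf (657, 1))) (.node (.leaf (283, 1)) (.leaf (0, 0)))) (.node (.node (.leaf (148, 0)) (.leaf (979, 2))) (.node (.leaf (448, 1)) (.leaf (0, 0))))) (.node (.node (.node (.leaf (87, 2)) (.leaf (811, 1))) (.node (.leaf (363, 0)) (.leaf (0, 0)))) (.node (.node (.leaf (213, 1)) (.leaf (1239, 2))) (.node (.leaf (544, 0)) (.leaf (0, 0))))))) (.node (.node (.node (.node (.node (.leaf (13, 0)) (.leaf (621, 1))) (.node (.leaf (267, 1)) (.leaf (0, 0)))) (.node (.node (.leaf (133, 2)) (.leaf (934, 2))) (.node (.leaf (429, 0)) (.leaf (0, 0))))) (.node (.node (.node (.leaf (72, 0)) (.leaf (774, 2))) (.node (.leaf (340, 2)) (.leaf (0, 0)))) (.node (.node (.leaf (196, 1)) (.leaf (1150, 0))) (.node (.leaf (522, 2)) (.leaf (0, 0)))))) (.node (.node (.node (.node (.leaf (42, 0))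 (.leaf (700, 2))) (.node (.leaf (302, 0)) (.leaf (0, 0)))) (.node (.node (.leaf (163, 2)) (.leaf (1019, 1))) (.node (.leaf (471, 2)) (.leaf (0, 0))))) (.node (.node (.node (.leaf (102, 1)) (.leaf (839, 0))) (.node (.leaf (385, 2)) (.leaf (0, 0)))) (.node (.node (.leaf (230, 2)) (.leaf (1356, 2))) (.node (.leaf (567, 1)) (.leaf (0, 0)))))))) (.node (.node (.node (.node (.node (.node (.leaf (6, 1)) (.leaf (607, 2))) (.node (.leaf (258, 1)) (.leaf (0, 0)))) (.node (.node (.leaf (126, 0)) (.leaf (909, 0))) (.node (.leaf (417, 1)) (.leaf (0, 0))))) (.node (.node (.node (.leaf (64, 1)) (.leaf (756, 1))) (.node (.leaf (331, 1)) (.leaf (0, 0)))) (.node (.node (.leaf (187, 1)) (.leaf (1117, 2))) (.node (.leaf (509, 0)) (.leaf (0, 0)))))) (.node (.node (.node (.node (.leaf (34, 2)) (.leaf (683, 1))) (.node (.leaf (291, 2)) (.leaf (0, 0)))) (.node (.node (.leaf (156, 0)) (.leaf (996, 0))) (.node (.leaf (459, 1)) (.leaf (0, 0))))) (.node (.node (.node (.leaf (94, 2)) (.leaf (826, 1))) (.node (.leaf (371, 2)) (.leaf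 (0, 0)))) (.node (.node (.leaf (221, 2)) (.leaf (1286, 1))) (.node (.leaf (557, 2)) (.leaf (0, 0))))))) (.node (.node (.node (.node (.node (.leaf (20, 0)) (.leaf (640, 0))) (.node (.leaf (275, 2)) (.leaf (0, 0)))) (.node (.node (.leaf (141, 0)) (.leaf (947, 2))) (.node (.leaf (438, 1)) (.leaf (0, 0))))) (.node (.node (.node (.leaf (79, 0)) (.leaf (792, 2))) (.node (.leaf (353, 2)) (.leaf (0, 0)))) (.node (.node (.leaf (204, 2)) (.leaf (1190, 2))) (.node (.leaf (532, 0)) (.leaf (0, 0)))))) (.node (.node (.node (.node (.leaf (50, 0)) (.leaf (720, 1))) (.node (.leaf (309, 2)) (.leaf (0, 0)))) (.node (.node (.leaf (171, 2)) (.leaf (1047, 2))) (.node (.leaf (485, 1)) (.leaf (0, 0))))) (.node (.node (.node (.leaf (109, 2)) (.leaf (864, 1))) (.node (.leaf (394, 2)) (.leaf (0, 0)))) (.node (.node (.leaf (240, 0)) (.leaf (1398, 0))) (.node (.leaf (579, 0)) (.leaf (0, 0))))))))) (.node (.node (.node (.node (.node (.node (.node (.leaf (3, 0)) (.leaf (600, 0))) (.node (.leaf (254, 1)) (.leaf (0, 0)))) (.node (.node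 (.leaf (121, 2)) (.leaf (901, 1))) (.node (.leaf (412, 2)) (.leaf (0, 0))))) (.node (.node (.node (.leaf (60, 1)) (.leaf (749, 1))) (.node (.leaf (325, 2)) (.leaf (0, 0)))) (.node (.node (.leaf (183, 0)) (.leaf (1100, 0))) (.node (.leaf (504, 1)) (.leaf (0, 0)))))) (.node (.node (.node (.node (.leaf (31, 1)) (.leaf (670, 2))) (.node (.leaf (288, 0)) (.leaf (0, 0)))) (.node (.node (.leaf (152, 1)) (.leaf (985, 1))) (.node (.leaf (454, 0)) (.leaf (0, 0))))) (.node (.node (.node (.leaf (91, 0)) (.leaf (819, 2))) (.node (.leaf (367, 2)) (.leaf (0, 0)))) (.node (.node (.leaf (217, 2)) (.leaf (1255, 2))) (.node (.leaf (552, 1)) (.leaf (0, 0))))))) (.node (.node (.node (.node (.node (.leaf (16, 1)) (.leaf (631, 1))) (.node (.leaf (271, 2)) (.leaf (0, 0)))) (.node (.node (.leaf (137, 0)) (.leaf (941, 0))) (.node (.leaf (433, 2)) (.leaf (0, 0))))) (.node (.node (.node (.leaf (75, 0)) (.leaf (785, 2))) (.node (.leaf (346, 1)) (.leaf (0, 0)))) (.node (.node (.leaf (200, 2)) (.leaf (1170, 0))) (.node (.leaf (527,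 1)) (.leaf (0, 0)))))) (.node (.node (.node (.node (.leaf (46, 1)) (.leaf (707, 2))) (.node (.leaf (306, 0)) (.leaf (0, 0)))) (.node (.node (.leaf (167, 2)) (.leaf (1032, 1))) (.node (.leaf (477, 2)) (.leaf (0, 0))))) (.node (.node (.node (.leaf (106, 0)) (.leaf (848, 2))) (.node (.leaf (390, 1)) (.leaf (0, 0)))) (.node (.node (.leaf (235, 0)) (.leaf (1376, 1))) (.node (.leaf (574, 1)) (.leaf (0, 0)))))))) (.node (.node (.node (.node (.node (.node (.leaf (10, 0)) (.leaf (612, 2))) (.node (.leaf (263, 0)) (.leaf (0, 0)))) (.node (.node (.leaf (129, 2)) (.leaf (921, 2))) (.node (.leaf (423, 0)) (.leaf (0, 0))))) (.node (.node (.node (.leaf (68, 0)) (.leaf (765, 2))) (.node (.leaf (336, 1)) (.leaf (0, 0)))) (.node (.node (.leaf (191, 2)) (.leaf (1139, 0))) (.node (.leaf (516, 2)) (.leaf (0, 0)))))) (.node (.node (.node (.node (.leaf (38, 0)) (.leaf (691, 0))) (.node (.leaf (297, 0)) (.leaf (0, 0)))) (.node (.node (.leaf (160, 0)) (.leaf (1007, 1))) (.node (.leaf (465, 1)) (.leaf (0, 0))))) (.node (.node (.node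 (.leaf (98, 1)) (.leaf (833, 1))) (.node (.leaf (378, 0)) (.leaf (0, 0)))) (.node (.node (.leaf (226, 0)) (.leaf (1331, 0))) (.node (.leaf (562, 0)) (.leaf (0, 0))))))) (.node (.node (.node (.node (.node (.leaf (24, 0)) (.leaf (651, 1))) (.node (.leaf (280, 0)) (.leaf (0, 0)))) (.node (.node (.leaf (144, 0)) (.leaf (965, 0))) (.node (.leaf (443, 0)) (.leaf (0, 0))))) (.node (.node (.node (.leaf (83, 2)) (.leaf (803, 0))) (.node (.leaf (358, 1)) (.leaf (0, 0)))) (.node (.node (.leaf (209, 0)) (.leaf (1212, 1))) (.node (.leaf (538, 1)) (.leaf (0, 0)))))) (.node (.node (.node (.node (.leaf (53, 1)) (.leaf (726, 0))) (.node (.leaf (314, 2)) (.leaf (0, 0)))) (.node (.node (.leaf (175, 1)) (.leaf (1060, 2))) (.node (.leaf (492, 1)) (.leaf (0, 0))))) (.node (.node (.node (.leaf (113, 0)) (.leaf (876, 2))) (.node (.leaf (400, 2)) (.leaf (0, 0)))) (.node (.node (.leaf (244, 1)) (.leaf (1466, 2))) (.node (.leaf (584, 2)) (.leaf (0, 0)))))))))) (.node (.node (.node (.node (.node (.node (.node (.node (.leaf (1, 2))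 (.leaf (595, 2))) (.node (.leaf (252, 1)) (.leaf (0, 0)))) (.node (.node (.leaf (119, 2)) (.leaf (892, 2))) (.node (.leaf (409, 1)) (.leaf (0, 0))))) (.node (.node (.node (.leaf (58, 2)) (.leaf (741, 2))) (.node (.leaf (323, 2)) (.leaf (0, 0)))) (.node (.node (.leaf (181, 0)) (.leaf (1095, 2))) (.node (.leaf (502, 1)) (.leaf (0, 0)))))) (.node (.node (.node (.node (.leaf (29, 1)) (.leaf (663, 1))) (.node (.leaf (286, 0)) (.leaf (0, 0)))) (.node (.node (.leaf (150, 1)) (.leaf (981, 1))) (.node (.leaf (451, 0)) (.leaf (0, 0))))) (.node (.node (.node (.leaf (89, 1)) (.leaf (815, 1))) (.node (.leaf (365, 0)) (.leaf (0, 0)))) (.node (.node (.leaf (215, 1)) (.leaf (1245, 1))) (.node (.leaf (548, 0)) (.leaf (0, 0))))))) (.node (.node (.node (.node (.node (.leaf (14, 2)) (.leaf (627, 2))) (.node (.leaf (269, 2)) (.leaf (0, 0)))) (.node (.node (.leaf (135, 1)) (.leaf (938, 2))) (.node (.leaf (431, 1)) (.leaf (0, 0))))) (.node (.node (.node (.leaf (73, 2)) (.leaf (778, 1))) (.node (.leaf (344, 1)) (.leaf (0, 0))))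 (.node (.node (.leaf (198, 2)) (.leaf (1158, 1))) (.node (.leaf (525, 1)) (.leaf (0, 0)))))) (.node (.node (.node (.node (.leaf (44, 0)) (.leaf (705, 0))) (.node (.leaf (304, 0)) (.leaf (0, 0)))) (.node (.node (.leaf (165, 2)) (.leaf (1026, 1))) (.node (.leaf (475, 1)) (.leaf (0, 0))))) (.node (.node (.node (.leaf (104, 0)) (.leaf (845, 1))) (.node (.leaf (387, 2)) (.leaf (0, 0)))) (.node (.node (.leaf (233, 0)) (.leaf (1366, 1))) (.node (.leaf (569, 1)) (.leaf (0, 0)))))))) (.node (.node (.node (.node (.node (.node (.leaf (8, 1)) (.leaf (610, 2))) (.node (.leaf (260, 1)) (.leaf (0, 0)))) (.node (.node (.leaf (127, 2)) (.leaf (916, 2))) (.node (.leaf (419, 0)) (.leaf (0, 0))))) (.node (.node (.node (.leaf (66, 0)) (.leaf (760, 1))) (.node (.leaf (334, 1)) (.leaf (0, 0)))) (.node (.node (.leaf (190, 0)) (.leaf (1130, 0))) (.node (.leaf (511, 0)) (.leaf (0, 0)))))) (.node (.node (.node (.node (.leaf (36, 2)) (.leaf (685, 1))) (.node (.leaf (295, 1)) (.leaf (0, 0)))) (.node (.node (.leaf (158, 0)) (.leaf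 (1001, 2))) (.node (.leaf (462, 1)) (.leaf (0, 0))))) (.node (.node (.node (.leaf (96, 2)) (.leaf (830, 0))) (.node (.leaf (374, 2)) (.leaf (0, 0)))) (.node (.node (.leaf (223, 2)) (.leaf (1310, 2))) (.node (.leaf (560, 0)) (.leaf (0, 0))))))) (.node (.node (.node (.node (.node (.leaf (21, 1)) (.leaf (646, 1))) (.node (.leaf (277, 2)) (.leaf (0, 0)))) (.node (.node (.leaf (142, 2)) (.leaf (955, 0))) (.node (.leaf (440, 0)) (.leaf (0, 0))))) (.node (.node (.node (.leaf (81, 2)) (.leaf (796, 2))) (.node (.leaf (356, 0)) (.leaf (0, 0)))) (.node (.node (.leaf (206, 2)) (.leaf (1207, 0))) (.node (.leaf (534, 0)) (.leaf (0, 0)))))) (.node (.node (.node (.node (.leaf (51, 2)) (.leaf (723, 0))) (.node (.leaf (312, 0)) (.leaf (0, 0)))) (.node (.node (.leaf (173, 1)) (.leaf (1055, 1))) (.node (.leaf (487, 0)) (.leaf (0, 0))))) (.node (.node (.node (.leaf (111, 1)) (.leaf (871, 1))) (.node (.leaf (398, 0)) (.leaf (0, 0)))) (.node (.node (.leaf (242, 0)) (.leaf (1423, 0))) (.node (.leaf (582, 1)) (.leaf (0, 0)))))))))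 (.node (.node (.node (.node (.node (.node (.node (.leaf (5, 0)) (.leaf (603, 0))) (.node (.leaf (256, 2)) (.leaf (0, 0)))) (.node (.node (.leaf (124, 0)) (.leaf (904, 1))) (.node (.leaf (415, 0)) (.leaf (0, 0))))) (.node (.node (.node (.leaf (62, 0)) (.leaf (752, 1))) (.node (.leaf (328, 0)) (.leaf (0, 0)))) (.node (.node (.leaf (185, 2)) (.leaf (1106, 0))) (.node (.leaf (506, 2)) (.leaf (0, 0)))))) (.node (.node (.node (.node (.leaf (33, 0)) (.leaf (677, 1))) (.node (.leaf (289, 2)) (.leaf (0, 0)))) (.node (.node (.leaf (154, 0)) (.leaf (989, 0))) (.node (.leaf (457, 0)) (.leaf (0, 0))))) (.node (.node (.node (.leaf (93, 0)) (.leaf (822, 1))) (.node (.leaf (369, 2)) (.leaf (0, 0)))) (.node (.node (.leaf (220, 0)) (.leaf (1263, 1))) (.node (.leaf (554, 1)) (.leaf (0, 0))))))) (.node (.node (.node (.node (.node (.leaf (18, 0)) (.leaf (635, 2))) (.node (.leaf (273, 2)) (.leaf (0, 0)))) (.node (.node (.leaf (139, 1)) (.leaf (943, 2))) (.node (.leaf (435, 2)) (.leaf (0, 0))))) (.node (.node (.node (.leaf (77,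 1)) (.leaf (788, 0))) (.node (.leaf (349, 1)) (.leaf (0, 0)))) (.node (.node (.leaf (202, 2)) (.leaf (1176, 2))) (.node (.leaf (529, 1)) (.leaf (0, 0)))))) (.node (.node (.node (.node (.leaf (48, 1)) (.leaf (712, 0))) (.node (.leaf (307, 2)) (.leaf (0, 0)))) (.node (.node (.leaf (170, 0)) (.leaf (1036, 2))) (.node (.leaf (480, 2)) (.leaf (0, 0))))) (.node (.node (.node (.leaf (108, 0)) (.leaf (856, 1))) (.node (.leaf (392, 1)) (.leaf (0, 0)))) (.node (.node (.leaf (237, 2)) (.leaf (1385, 0))) (.node (.leaf (576, 0)) (.leaf (0, 0)))))))) (.node (.node (.node (.node (.node (.node (.leaf (11, 2)) (.leaf (617, 2))) (.node (.leaf (265, 0)) (.leaf (0, 0)))) (.node (.node (.leaf (131, 1)) (.leaf (927, 0))) (.node (.leaf (425, 2)) (.leaf (0, 0))))) (.node (.node (.node (.leaf (70, 0)) (.leaf (768, 1))) (.node (.leaf (339, 0)) (.leaf (0, 0)))) (.node (.node (.leaf (194, 0)) (.leaf (1146, 0))) (.node (.leaf (520, 0)) (.leaf (0, 0)))))) (.node (.node (.node (.node (.leaf (40, 1)) (.leaf (697, 1))) (.node (.leaf (299,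 2)) (.leaf (0, 0)))) (.node (.node (.leaf (161, 2)) (.leaf (1012, 1))) (.node (.leaf (467, 2)) (.leaf (0, 0))))) (.node (.node (.node (.leaf (100, 2)) (.leaf (835, 1))) (.node (.leaf (382, 0)) (.leaf (0, 0)))) (.node (.node (.leaf (228, 1)) (.leaf (1344, 1))) (.node (.leaf (565, 0)) (.leaf (0, 0))))))) (.node (.node (.node (.node (.node (.leaf (25, 2)) (.leaf (654, 1))) (.node (.leaf (281, 2)) (.leaf (0, 0)))) (.node (.node (.leaf (146, 0)) (.leaf (973, 0))) (.node (.leaf (445, 1)) (.leaf (0, 0))))) (.node (.node (.node (.leaf (86, 0)) (.leaf (806, 2))) (.node (.leaf (360, 2)) (.leaf (0, 0)))) (.node (.node (.leaf (211, 0)) (.leaf (1227, 1))) (.node (.leaf (541, 0)) (.leaf (0, 0)))))) (.node (.node (.node (.node (.leaf (55, 0)) (.leaf (733, 0))) (.node (.leaf (316, 2)) (.leaf (0, 0)))) (.node (.node (.leaf (177, 0)) (.leaf (1074, 1))) (.node (.leaf (496, 2)) (.leaf (0, 0))))) (.node (.node (.node (.leaf (115, 2)) (.leaf (881, 2))) (.node (.leaf (404, 0)) (.leaf (0, 0)))) (.node (.node (.leaf (246, 0))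 (.leaf (1486, 0))) (.node (.leaf (588, 1)) (.leaf (0, 0)))))))))))) (.node (.node (.node (.node (.node (.node (.node (.node (.node (.node (.leaf (0, 0)) (.leaf (591, 1))) (.node (.leaf (248, 0)) (.leaf (0, 0)))) (.node (.node (.leaf (117, 2)) (.leaf (886, 2))) (.node (.leaf (405, 2)) (.leaf (0, 0))))) (.node (.node (.node (.leaf (56, 1)) (.leaf (736, 0))) (.node (.leaf (320, 2)) (.leaf (0, 0)))) (.node (.node (.leaf (178, 1)) (.leaf (1079, 0))) (.node (.leaf (499, 2)) (.leaf (0, 0)))))) (.node (.node (.node (.node (.leaf (27, 0)) (.leaf (656, 2))) (.node (.leaf (283, 0)) (.leaf (0, 0)))) (.node (.node (.leaf (147, 2)) (.leaf (979, 0))) (.node (.leaf (447, 0)) (.leaf (0, 0))))) (.node (.node (.node (.leaf (87, 1)) (.leaf (809, 1))) (.node (.leaf (362, 1)) (.leaf (0, 0)))) (.node (.node (.leaf (213, 0)) (.leaf (1236, 2))) (.node (.leaf (543, 1)) (.leaf (0, 0))))))) (.node (.node (.node (.node (.node (.leaf (12, 2)) (.leaf (621, 0))) (.node (.leaf (267, 0)) (.leaf (0, 0)))) (.node (.node (.leaf (133, 0))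 (.leaf (932, 1))) (.node (.leaf (428, 1)) (.leaf (0, 0))))) (.node (.node (.node (.leaf (71, 1)) (.leaf (773, 1))) (.node (.leaf (340, 1)) (.leaf (0, 0)))) (.node (.node (.leaf (196, 0)) (.leaf (1148, 1))) (.node (.leaf (522, 0)) (.leaf (0, 0)))))) (.node (.node (.node (.node (.leaf (41, 2)) (.leaf (700, 0))) (.node (.leaf (301, 0)) (.leaf (0, 0)))) (.node (.node (.leaf (163, 0)) (.leaf (1019, 0))) (.node (.leaf (470, 1)) (.leaf (0, 0))))) (.node (.node (.node (.leaf (102, 0)) (.leaf (838, 2))) (.node (.leaf (384, 1)) (.leaf (0, 0)))) (.node (.node (.leaf (230, 1)) (.leaf (1353, 2))) (.node (.leaf (567, 0)) (.leaf (0, 0)))))))) (.node (.node (.node (.node (.node (.node (.leaf (6, 0)) (.leaf (605, 2))) (.node (.leaf (258, 0)) (.leaf (0, 0)))) (.node (.node (.leaf (125, 0)) (.leaf (907, 1))) (.node (.leaf (416, 1)) (.leaf (0, 0))))) (.node (.node (.node (.leaf (64, 0)) (.leaf (756, 0))) (.node (.leaf (330, 2)) (.leaf (0, 0)))) (.node (.node (.leaf (187, 0)) (.leaf (1111, 1))) (.node (.leaf (508, 2)) (.leaf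 (0, 0)))))) (.node (.node (.node (.node (.leaf (34, 1)) (.leaf (682, 2))) (.node (.leaf (291, 1)) (.leaf (0, 0)))) (.node (.node (.leaf (155, 0)) (.leaf (995, 2))) (.node (.leaf (459, 0)) (.leaf (0, 0))))) (.node (.node (.node (.leaf (94, 0)) (.leaf (825, 1))) (.node (.leaf (371, 1)) (.leaf (0, 0)))) (.node (.node (.leaf (221, 0)) (.leaf (1279, 0))) (.node (.leaf (557, 0)) (.leaf (0, 0))))))) (.node (.node (.node (.node (.node (.leaf (19, 2)) (.leaf (639, 0))) (.node (.leaf (275, 0)) (.leaf (0, 0)))) (.node (.node (.leaf (140, 2)) (.leaf (947, 0))) (.node (.leaf (438, 0)) (.leaf (0, 0))))) (.node (.node (.node (.leaf (78, 2)) (.leaf (789, 0))) (.node (.leaf (353, 1)) (.leaf (0, 0)))) (.node (.node (.leaf (204, 1)) (.leaf (1187, 1))) (.node (.leaf (531, 1)) (.leaf (0, 0)))))) (.node (.node (.node (.node (.leaf (49, 1)) (.leaf (719, 1))) (.node (.leaf (309, 0)) (.leaf (0, 0)))) (.node (.node (.leaf (171, 0)) (.leaf (1045, 2))) (.node (.leaf (485, 0)) (.leaf (0, 0))))) (.node (.node (.node (.leaf (109, 0))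 (.leaf (863, 2))) (.node (.leaf (394, 1)) (.leaf (0, 0)))) (.node (.node (.leaf (239, 2)) (.leaf (1396, 1))) (.node (.leaf (578, 2)) (.leaf (0, 0))))))))) (.node (.node (.node (.node (.node (.node (.node (.leaf (2, 2)) (.leaf (599, 2))) (.node (.leaf (254, 0)) (.leaf (0, 0)))) (.node (.node (.leaf (121, 1)) (.leaf (900, 2))) (.node (.leaf (412, 1)) (.leaf (0, 0))))) (.node (.node (.node (.leaf (60, 0)) (.leaf (748, 1))) (.node (.leaf (325, 1)) (.leaf (0, 0)))) (.node (.node (.leaf (182, 1)) (.leaf (1099, 0))) (.node (.leaf (503, 2)) (.leaf (0, 0)))))) (.node (.node (.node (.node (.leaf (31, 0)) (.leaf (670, 1))) (.node (.leaf (287, 1)) (.leaf (0, 0)))) (.node (.node (.leaf (151, 2)) (.leaf (985, 0))) (.node (.leaf (453, 2)) (.leaf (0, 0))))) (.node (.node (.node (.leaf (90, 2)) (.leaf (817, 2))) (.node (.leaf (367, 0)) (.leaf (0, 0)))) (.node (.node (.leaf (217, 1)) (.leaf (1250, 2))) (.node (.leaf (551, 2)) (.leaf (0, 0))))))) (.node (.node (.node (.node (.node (.leaf (16, 0)) (.leaf (630, 2))) (.node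 (.leaf (271, 0)) (.leaf (0, 0)))) (.node (.node (.leaf (136, 1)) (.leaf (940, 2))) (.node (.leaf (433, 0)) (.leaf (0, 0))))) (.node (.node (.node (.leaf (74, 2)) (.leaf (785, 0))) (.node (.leaf (345, 2)) (.leaf (0, 0)))) (.node (.node (.leaf (200, 0)) (.leaf (1166, 2))) (.node (.leaf (527, 0)) (.leaf (0, 0)))))) (.node (.node (.node (.node (.leaf (46, 0)) (.leaf (707, 0))) (.node (.leaf (305, 1)) (.leaf (0, 0)))) (.node (.node (.leaf (167, 1)) (.leaf (1031, 2))) (.node (.leaf (477, 1)) (.leaf (0, 0))))) (.node (.node (.node (.leaf (105, 2)) (.leaf (848, 1))) (.node (.leaf (389, 0)) (.leaf (0, 0)))) (.node (.node (.leaf (234, 1)) (.leaf (1372, 1))) (.node (.leaf (574, 0)) (.leaf (0, 0)))))))) (.node (.node (.node (.node (.node (.node (.leaf (9, 1)) (.leaf (612, 1))) (.node (.leaf (262, 1)) (.leaf (0, 0)))) (.node (.node (.leaf (129, 0)) (.leaf (921, 0))) (.node (.leaf (421, 2)) (.leaf (0, 0))))) (.node (.node (.node (.leaf (67, 1)) (.leaf (764, 1))) (.node (.leaf (335, 2)) (.leaf (0, 0)))) (.node (.node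 (.leaf (191, 0)) (.leaf (1136, 0))) (.node (.leaf (515, 1)) (.leaf (0, 0)))))) (.node (.node (.node (.node (.leaf (37, 2)) (.leaf (687, 1))) (.node (.leaf (296, 2)) (.leaf (0, 0)))) (.node (.node (.leaf (159, 1)) (.leaf (1006, 1))) (.node (.leaf (464, 1)) (.leaf (0, 0))))) (.node (.node (.node (.leaf (98, 0)) (.leaf (832, 0))) (.node (.leaf (376, 2)) (.leaf (0, 0)))) (.node (.node (.leaf (225, 2)) (.leaf (1327, 0))) (.node (.leaf (561, 2)) (.leaf (0, 0))))))) (.node (.node (.node (.node (.node (.leaf (23, 1)) (.leaf (651, 0))) (.node (.leaf (279, 2)) (.leaf (0, 0)))) (.node (.node (.leaf (143, 2)) (.leaf (963, 2))) (.node (.leaf (442, 2)) (.leaf (0, 0))))) (.node (.node (.node (.leaf (83, 1)) (.leaf (801, 0))) (.node (.leaf (358, 0)) (.leaf (0, 0)))) (.node (.node (.leaf (208, 1)) (.leaf (1210, 0))) (.node (.leaf (536, 1)) (.leaf (0, 0)))))) (.node (.node (.node (.node (.leaf (53, 0)) (.leaf (724, 0))) (.node (.leaf (314, 1)) (.leaf (0, 0)))) (.node (.node (.leaf (174, 2)) (.leaf (1057, 2))) (.node (.leaf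 (491, 2)) (.leaf (0, 0))))) (.node (.node (.node (.leaf (112, 2)) (.leaf (875, 2))) (.node (.leaf (399, 1)) (.leaf (0, 0)))) (.node (.node (.leaf (244, 0)) (.leaf (1454, 1))) (.node (.leaf (584, 1)) (.leaf (0, 0)))))))))) (.node (.node (.node (.node (.node (.node (.node (.node (.leaf (1, 1)) (.leaf (594, 1))) (.node (.leaf (250, 2)) (.leaf (0, 0)))) (.node (.node (.leaf (119, 1)) (.leaf (891, 1))) (.node (.leaf (409, 0)) (.leaf (0, 0))))) (.node (.node (.node (.leaf (58, 1)) (.leaf (739, 0))) (.node (.leaf (323, 1)) (.leaf (0, 0)))) (.node (.node (.leaf (180, 2)) (.leaf (1093, 1))) (.node (.leaf (502, 0)) (.leaf (0, 0)))))) (.node (.node (.node (.node (.leaf (29, 0)) (.leaf (662, 2))) (.node (.leaf (285, 2)) (.leaf (0, 0)))) (.node (.node (.leaf (150, 0)) (.leaf (981, 0))) (.node (.leaf (449, 2)) (.leaf (0, 0))))) (.node (.node (.node (.leaf (89, 0)) (.leaf (815, 0))) (.node (.leaf (364, 2)) (.leaf (0, 0)))) (.node (.node (.leaf (215, 0)) (.leaf (1243, 1))) (.node (.leaf (547, 1)) (.leaf (0, 0))))))) (.node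 (.node (.node (.node (.node (.leaf (14, 1)) (.leaf (627, 0))) (.node (.leaf (268, 1)) (.leaf (0, 0)))) (.node (.node (.leaf (135, 0)) (.leaf (938, 0))) (.node (.leaf (430, 1)) (.leaf (0, 0))))) (.node (.node (.node (.leaf (73, 1)) (.leaf (778, 0))) (.node (.leaf (344, 0)) (.leaf (0, 0)))) (.node (.node (.leaf (198, 0)) (.leaf (1157, 0))) (.node (.leaf (524, 1)) (.leaf (0, 0)))))) (.node (.node (.node (.node (.leaf (43, 2)) (.leaf (703, 1))) (.node (.leaf (303, 1)) (.leaf (0, 0)))) (.node (.node (.leaf (165, 1)) (.leaf (1025, 2))) (.node (.leaf (475, 0)) (.leaf (0, 0))))) (.node (.node (.node (.leaf (103, 1)) (.leaf (844, 1))) (.node (.leaf (387, 1)) (.leaf (0, 0)))) (.node (.node (.leaf (232, 2)) (.leaf (1365, 2))) (.node (.leaf (569, 0)) (.leaf (0, 0)))))))) (.node (.node (.node (.node (.node (.node (.leaf (7, 2)) (.leaf (610, 0))) (.node (.leaf (259, 2)) (.leaf (0, 0)))) (.node (.node (.leaf (127, 0)) (.leaf (914, 1))) (.node (.leaf (418, 2)) (.leaf (0, 0))))) (.node (.node (.node (.leaf (65, 2)) (.leaf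 (759, 2))) (.node (.leaf (332, 2)) (.leaf (0, 0)))) (.node (.node (.leaf (189, 1)) (.leaf (1129, 1))) (.node (.leaf (510, 2)) (.leaf (0, 0)))))) (.node (.node (.node (.node (.leaf (36, 1)) (.leaf (684, 2))) (.node (.leaf (295, 0)) (.leaf (0, 0)))) (.node (.node (.leaf (157, 1)) (.leaf (1001, 1))) (.node (.leaf (461, 2)) (.leaf (0, 0))))) (.node (.node (.node (.leaf (96, 0)) (.leaf (828, 1))) (.node (.leaf (373, 1)) (.leaf (0, 0)))) (.node (.node (.leaf (223, 1)) (.leaf (1309, 2))) (.node (.leaf (559, 2)) (.leaf (0, 0))))))) (.node (.node (.node (.node (.node (.leaf (21, 0)) (.leaf (645, 2))) (.node (.leaf (277, 1)) (.leaf (0, 0)))) (.node (.node (.leaf (142, 1)) (.leaf (954, 0))) (.node (.leaf (439, 2)) (.leaf (0, 0))))) (.node (.node (.node (.leaf (81, 0)) (.leaf (796, 1))) (.node (.leaf (355, 0)) (.leaf (0, 0)))) (.node (.node (.leaf (206, 1)) (.leaf (1204, 2))) (.node (.leaf (533, 0)) (.leaf (0, 0)))))) (.node (.node (.node (.node (.leaf (51, 1)) (.leaf (722, 0))) (.node (.leaf (311, 2)) (.leaf (0,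 0)))) (.node (.node (.leaf (173, 0)) (.leaf (1053, 0))) (.node (.leaf (486, 2)) (.leaf (0, 0))))) (.node (.node (.node (.leaf (111, 0)) (.leaf (870, 2))) (.node (.leaf (397, 0)) (.leaf (0, 0)))) (.node (.node (.leaf (241, 2)) (.leaf (1418, 1))) (.node (.leaf (581, 1)) (.leaf (0, 0))))))))) (.node (.node (.node (.node (.node (.node (.node (.leaf (4, 2)) (.leaf (602, 1))) (.node (.leaf (256, 0)) (.leaf (0, 0)))) (.node (.node (.leaf (123, 1)) (.leaf (904, 0))) (.node (.leaf (414, 1)) (.leaf (0, 0))))) (.node (.node (.node (.leaf (61, 2)) (.leaf (751, 0))) (.node (.leaf (327, 1)) (.leaf (0, 0)))) (.node (.node (.leaf (184, 2)) (.leaf (1104, 1))) (.node (.leaf (506, 0)) (.leaf (0, 0)))))) (.node (.node (.node (.node (.leaf (32, 2)) (.leaf (675, 2))) (.node (.leaf (289, 1)) (.leaf (0, 0)))) (.node (.node (.leaf (153, 2)) (.leaf (987, 2))) (.node (.leaf (456, 0)) (.leaf (0, 0))))) (.node (.node (.node (.leaf (92, 1)) (.leaf (822, 0))) (.node (.leaf (369, 1)) (.leaf (0, 0)))) (.node (.node (.leaf (219, 1)) (.leaf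 (1260, 2))) (.node (.leaf (554, 0)) (.leaf (0, 0))))))) (.node (.node (.node (.node (.node (.leaf (17, 2)) (.leaf (634, 1))) (.node (.leaf (273, 1)) (.leaf (0, 0)))) (.node (.node (.leaf (138, 2)) (.leaf (943, 1))) (.node (.leaf (435, 1)) (.leaf (0, 0))))) (.node (.node (.node (.leaf (77, 0)) (.leaf (787, 1))) (.node (.leaf (349, 0)) (.leaf (0, 0)))) (.node (.node (.leaf (202, 1)) (.leaf (1175, 1))) (.node (.leaf (528, 2)) (.leaf (0, 0)))))) (.node (.node (.node (.node (.leaf (48, 0)) (.leaf (710, 2))) (.node (.leaf (307, 0)) (.leaf (0, 0)))) (.node (.node (.leaf (169, 1)) (.leaf (1035, 0))) (.node (.leaf (480, 1)) (.leaf (0, 0))))) (.node (.node (.node (.leaf (107, 1)) (.leaf (853, 0))) (.node (.leaf (392, 0)) (.leaf (0, 0)))) (.node (.node (.leaf (236, 1)) (.leaf (1383, 1))) (.node (.leaf (575, 2)) (.leaf (0, 0)))))))) (.node (.node (.node (.node (.node (.node (.leaf (11, 0)) (.leaf (617, 0))) (.node (.leaf (264, 0)) (.leaf (0, 0)))) (.node (.node (.leaf (131, 0)) (.leaf (926, 1))) (.node (.leaf (425,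 1)) (.leaf (0, 0))))) (.node (.node (.node (.leaf (69, 2)) (.leaf (768, 0))) (.node (.leaf (338, 2)) (.leaf (0, 0)))) (.node (.node (.leaf (193, 2)) (.leaf (1143, 2))) (.node (.leaf (519, 2)) (.leaf (0, 0)))))) (.node (.node (.node (.node (.leaf (40, 0)) (.leaf (696, 1))) (.node (.leaf (299, 0)) (.leaf (0, 0)))) (.node (.node (.leaf (161, 0)) (.leaf (1011, 1))) (.node (.leaf (467, 1)) (.leaf (0, 0))))) (.node (.node (.node (.leaf (100, 0)) (.leaf (834, 2))) (.node (.leaf (381, 1)) (.leaf (0, 0)))) (.node (.node (.leaf (228, 0)) (.leaf (1343, 2))) (.node (.leaf (564, 2)) (.leaf (0, 0))))))) (.node (.node (.node (.node (.node (.leaf (25, 0)) (.leaf (653, 0))) (.node (.leaf (281, 1)) (.leaf (0, 0)))) (.node (.node (.leaf (145, 2)) (.leaf (970, 0))) (.node (.leaf (444, 1)) (.leaf (0, 0))))) (.node (.node (.node (.leaf (85, 2)) (.leaf (806, 0))) (.node (.leaf (360, 0)) (.leaf (0, 0)))) (.node (.node (.leaf (210, 0)) (.leaf (1223, 1))) (.node (.leaf (540, 1)) (.leaf (0, 0)))))) (.node (.node (.node (.node (.leaf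 (54, 2)) (.leaf (731, 1))) (.node (.leaf (316, 0)) (.leaf (0, 0)))) (.node (.node (.leaf (176, 2)) (.leaf (1071, 1))) (.node (.leaf (496, 1)) (.leaf (0, 0))))) (.node (.node (.node (.leaf (115, 1)) (.leaf (881, 1))) (.node (.leaf (403, 1)) (.leaf (0, 0)))) (.node (.node (.leaf (245, 2)) (.leaf (1471, 1))) (.node (.leaf (587, 0)) (.leaf (0, 0))))))))))) (.node (.node (.node (.node (.node (.node (.node (.node (.node (.leaf (0, 2)) (.leaf (593, 0))) (.node (.leaf (250, 0)) (.leaf (0, 0)))) (.node (.node (.leaf (118, 1)) (.leaf (888, 0))) (.node (.leaf (407, 0)) (.leaf (0, 0))))) (.node (.node (.node (.leaf (57, 0)) (.leaf (737, 2))) (.node (.leaf (322, 2)) (.leaf (0, 0)))) (.node (.node (.leaf (179, 0)) (.leaf (1092, 0))) (.node (.leaf (501, 0)) (.leaf (0, 0)))))) (.node (.node (.node (.node (.leaf (28, 0)) (.leaf (661, 0))) (.node (.leaf (284, 0)) (.leaf (0, 0)))) (.node (.node (.leaf (149, 0)) (.leaf (980, 0))) (.node (.leaf (448, 2)) (.leaf (0, 0))))) (.node (.node (.node (.leaf (88, 1)) (.leaf (813, 0)))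 (.node (.leaf (363, 1)) (.leaf (0, 0)))) (.node (.node (.leaf (213, 2)) (.leaf (1240, 1))) (.node (.leaf (545, 1)) (.leaf (0, 0))))))) (.node (.node (.node (.node (.node (.leaf (13, 1)) (.leaf (622, 0))) (.node (.leaf (267, 2)) (.leaf (0, 0)))) (.node (.node (.leaf (134, 0)) (.leaf (935, 1))) (.node (.leaf (429, 2)) (.leaf (0, 0))))) (.node (.node (.node (.leaf (72, 1)) (.leaf (775, 0))) (.node (.leaf (341, 0)) (.leaf (0, 0)))) (.node (.node (.leaf (197, 1)) (.leaf (1152, 1))) (.node (.leaf (523, 0)) (.leaf (0, 0)))))) (.node (.node (.node (.node (.leaf (42, 2)) (.leaf (701, 1))) (.node (.leaf (302, 2)) (.leaf (0, 0)))) (.node (.node (.leaf (164, 0)) (.leaf (1022, 2))) (.node (.leaf (472, 2)) (.leaf (0, 0))))) (.node (.node (.node (.leaf (102, 2)) (.leaf (842, 1))) (.node (.leaf (386, 1)) (.leaf (0, 0)))) (.node (.node (.leaf (231, 0)) (.leaf (1361, 1))) (.node (.leaf (568, 0)) (.leaf (0, 0)))))))) (.node (.node (.node (.node (.node (.node (.leaf (7, 0)) (.leaf (608, 1))) (.node (.leaf (258, 2)) (.leaf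 (0, 0)))) (.node (.node (.leaf (126, 1)) (.leaf (909, 1))) (.node (.leaf (417, 2)) (.leaf (0, 0))))) (.node (.node (.node (.leaf (65, 0)) (.leaf (758, 0))) (.node (.leaf (332, 0)) (.leaf (0, 0)))) (.node (.node (.leaf (188, 2)) (.leaf (1123, 2))) (.node (.leaf (510, 0)) (.leaf (0, 0)))))) (.node (.node (.node (.node (.leaf (35, 0)) (.leaf (684, 0))) (.node (.leaf (293, 1)) (.leaf (0, 0)))) (.node (.node (.leaf (156, 2)) (.leaf (997, 1))) (.node (.leaf (460, 1)) (.leaf (0, 0))))) (.node (.node (.node (.leaf (95, 1)) (.leaf (827, 1))) (.node (.leaf (372, 0)) (.leaf (0, 0)))) (.node (.node (.leaf (222, 0)) (.leaf (1304, 0))) (.node (.leaf (558, 1)) (.leaf (0, 0))))))) (.node (.node (.node (.node (.node (.leaf (20, 1)) (.leaf (640, 1))) (.node (.leaf (276, 0)) (.leaf (0, 0)))) (.node (.node (.leaf (141, 1)) (.leaf (948, 0))) (.node (.leaf (439, 0)) (.leaf (0, 0))))) (.node (.node (.node (.leaf (79, 2)) (.leaf (794, 2))) (.node (.leaf (354, 0)) (.leaf (0, 0)))) (.node (.node (.leaf (205, 0)) (.leaf (1195, 2)))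 (.node (.leaf (532, 1)) (.leaf (0, 0)))))) (.node (.node (.node (.node (.leaf (50, 1)) (.leaf (721, 0))) (.node (.leaf (310, 1)) (.leaf (0, 0)))) (.node (.node (.leaf (172, 0)) (.leaf (1049, 2))) (.node (.leaf (486, 0)) (.leaf (0, 0))))) (.node (.node (.node (.leaf (110, 1)) (.leaf (866, 0))) (.node (.leaf (396, 0)) (.leaf (0, 0)))) (.node (.node (.leaf (240, 1)) (.leaf (1404, 0))) (.node (.leaf (579, 2)) (.leaf (0, 0))))))))) (.node (.node (.node (.node (.node (.node (.node (.leaf (3, 1)) (.leaf (601, 1))) (.node (.leaf (255, 1)) (.leaf (0, 0)))) (.node (.node (.leaf (122, 0)) (.leaf (902, 2))) (.node (.leaf (413, 0)) (.leaf (0, 0))))) (.node (.node (.node (.leaf (61, 0)) (.leaf (749, 2))) (.node (.leaf (326, 0)) (.leaf (0, 0)))) (.node (.node (.leaf (183, 2)) (.leaf (1101, 0))) (.node (.leaf (505, 0)) (.leaf (0, 0)))))) (.node (.node (.node (.node (.leaf (31, 2)) (.leaf (671, 0))) (.node (.leaf (288, 1)) (.leaf (0, 0)))) (.node (.node (.leaf (152, 2)) (.leaf (986, 2))) (.node (.leaf (455, 0)) (.leaf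 (0, 0))))) (.node (.node (.node (.leaf (91, 2)) (.leaf (821, 0))) (.node (.leaf (368, 1)) (.leaf (0, 0)))) (.node (.node (.leaf (218, 0)) (.leaf (1256, 2))) (.node (.leaf (553, 0)) (.leaf (0, 0))))))) (.node (.node (.node (.node (.node (.leaf (17, 0)) (.leaf (633, 2))) (.node (.leaf (272, 0)) (.leaf (0, 0)))) (.node (.node (.leaf (137, 1)) (.leaf (942, 2))) (.node (.leaf (434, 0)) (.leaf (0, 0))))) (.node (.node (.node (.leaf (75, 1)) (.leaf (786, 0))) (.node (.leaf (346, 2)) (.leaf (0, 0)))) (.node (.node (.leaf (201, 1)) (.leaf (1171, 1))) (.node (.leaf (527, 2)) (.leaf (0, 0)))))) (.node (.node (.node (.node (.leaf (46, 2)) (.leaf (708, 2))) (.node (.leaf (306, 1)) (.leaf (0, 0)))) (.node (.node (.leaf (168, 2)) (.leaf (1034, 1))) (.node (.leaf (478, 0)) (.leaf (0, 0))))) (.node (.node (.node (.leaf (106, 2)) (.leaf (851, 2))) (.node (.leaf (390, 2)) (.leaf (0, 0)))) (.node (.node (.leaf (235, 1)) (.leaf (1376, 2))) (.node (.leaf (575, 0)) (.leaf (0, 0)))))))) (.node (.node (.node (.node (.node (.node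 (.leaf (10, 1)) (.leaf (616, 0))) (.node (.leaf (263, 1)) (.leaf (0, 0)))) (.node (.node (.leaf (130, 0)) (.leaf (923, 1))) (.node (.leaf (424, 1)) (.leaf (0, 0))))) (.node (.node (.node (.leaf (68, 2)) (.leaf (766, 1))) (.node (.leaf (337, 1)) (.leaf (0, 0)))) (.node (.node (.leaf (192, 2)) (.leaf (1139, 1))) (.node (.leaf (517, 0)) (.leaf (0, 0)))))) (.node (.node (.node (.node (.leaf (38, 1)) (.leaf (692, 0))) (.node (.leaf (297, 2)) (.leaf (0, 0)))) (.node (.node (.leaf (160, 1)) (.leaf (1008, 2))) (.node (.leaf (466, 0)) (.leaf (0, 0))))) (.node (.node (.node (.leaf (98, 2)) (.leaf (833, 2))) (.node (.leaf (380, 0)) (.leaf (0, 0)))) (.node (.node (.leaf (227, 0)) (.leaf (1335, 2))) (.node (.leaf (563, 1)) (.leaf (0, 0))))))) (.node (.node (.node (.node (.node (.leaf (24, 1)) (.leaf (651, 2))) (.node (.leaf (280, 1)) (.leaf (0, 0)))) (.node (.node (.leaf (144, 1)) (.leaf (966, 1))) (.node (.leaf (443, 2)) (.leaf (0, 0))))) (.node (.node (.node (.leaf (84, 0)) (.leaf (803, 1))) (.node (.leaf (359, 0))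 (.leaf (0, 0)))) (.node (.node (.leaf (209, 1)) (.leaf (1212, 2))) (.node (.leaf (539, 0)) (.leaf (0, 0)))))) (.node (.node (.node (.node (.leaf (53, 2)) (.leaf (728, 2))) (.node (.leaf (315, 0)) (.leaf (0, 0)))) (.node (.node (.leaf (175, 2)) (.leaf (1063, 1))) (.node (.leaf (492, 2)) (.leaf (0, 0))))) (.node (.node (.node (.leaf (113, 2)) (.leaf (877, 2))) (.node (.leaf (401, 1)) (.leaf (0, 0)))) (.node (.node (.leaf (245, 0)) (.leaf (1467, 1))) (.node (.leaf (585, 0)) (.leaf (0, 0)))))))))) (.node (.node (.node (.node (.node (.node (.node (.node (.leaf (2, 0)) (.leaf (597, 1))) (.node (.leaf (253, 1)) (.leaf (0, 0)))) (.node (.node (.leaf (120, 0)) (.leaf (895, 0))) (.node (.leaf (409, 2)) (.leaf (0, 0))))) (.node (.node (.node (.leaf (59, 0)) (.leaf (742, 1))) (.node (.leaf (324, 0)) (.leaf (0, 0)))) (.node (.node (.leaf (181, 2)) (.leaf (1096, 1))) (.node (.leaf (502, 2)) (.leaf (0, 0)))))) (.node (.node (.node (.node (.leaf (29, 2)) (.leaf (668, 1))) (.node (.leaf (286, 2)) (.leaf (0, 0)))) (.node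 (.node (.leaf (150, 2)) (.leaf (982, 2))) (.node (.leaf (452, 0)) (.leaf (0, 0))))) (.node (.node (.node (.leaf (90, 0)) (.leaf (816, 0))) (.node (.leaf (365, 2)) (.leaf (0, 0)))) (.node (.node (.leaf (216, 0)) (.leaf (1248, 2))) (.node (.leaf (548, 1)) (.leaf (0, 0))))))) (.node (.node (.node (.node (.node (.leaf (15, 1)) (.leaf (628, 2))) (.node (.leaf (270, 1)) (.leaf (0, 0)))) (.node (.node (.leaf (135, 2)) (.leaf (940, 0))) (.node (.leaf (431, 2)) (.leaf (0, 0))))) (.node (.node (.node (.leaf (74, 0)) (.leaf (780, 2))) (.node (.leaf (344, 2)) (.leaf (0, 0)))) (.node (.node (.leaf (199, 1)) (.leaf (1164, 2))) (.node (.leaf (525, 2)) (.leaf (0, 0)))))) (.node (.node (.node (.node (.leaf (44, 2)) (.leaf (706, 1))) (.node (.leaf (304, 1)) (.leaf (0, 0)))) (.node (.node (.leaf (166, 0)) (.leaf (1028, 0))) (.node (.leaf (475, 2)) (.leaf (0, 0))))) (.node (.node (.node (.leaf (104, 2)) (.leaf (846, 0))) (.node (.leaf (388, 0)) (.leaf (0, 0)))) (.node (.node (.leaf (233, 1)) (.leaf (1367, 1))) (.node (.leaf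 (570, 2)) (.leaf (0, 0)))))))) (.node (.node (.node (.node (.node (.node (.leaf (8, 2)) (.leaf (611, 0))) (.node (.leaf (261, 0)) (.leaf (0, 0)))) (.node (.node (.leaf (128, 1)) (.leaf (918, 2))) (.node (.leaf (419, 2)) (.leaf (0, 0))))) (.node (.node (.node (.leaf (66, 1)) (.leaf (760, 2))) (.node (.leaf (334, 2)) (.leaf (0, 0)))) (.node (.node (.leaf (190, 1)) (.leaf (1132, 2))) (.node (.leaf (512, 0)) (.leaf (0, 0)))))) (.node (.node (.node (.node (.leaf (37, 0)) (.leaf (685, 2))) (.node (.leaf (296, 0)) (.leaf (0, 0)))) (.node (.node (.leaf (158, 1)) (.leaf (1004, 0))) (.node (.leaf (462, 2)) (.leaf (0, 0))))) (.node (.node (.node (.leaf (97, 0)) (.leaf (831, 1))) (.node (.leaf (376, 0)) (.leaf (0, 0)))) (.node (.node (.leaf (224, 0)) (.leaf (1314, 1))) (.node (.leaf (561, 0)) (.leaf (0, 0))))))) (.node (.node (.node (.node (.node (.leaf (22, 2)) (.leaf (647, 2))) (.node (.leaf (278, 0)) (.leaf (0, 0)))) (.node (.node (.leaf (143, 0)) (.leaf (961, 0))) (.node (.leaf (440, 1)) (.leaf (0, 0))))) (.node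 (.node (.node (.leaf (82, 1)) (.leaf (798, 1))) (.node (.leaf (356, 2)) (.leaf (0, 0)))) (.node (.node (.leaf (207, 0)) (.leaf (1208, 1))) (.node (.leaf (535, 0)) (.leaf (0, 0)))))) (.node (.node (.node (.node (.leaf (52, 0)) (.leaf (723, 1))) (.node (.leaf (313, 0)) (.leaf (0, 0)))) (.node (.node (.leaf (173, 2)) (.leaf (1056, 1))) (.node (.leaf (490, 0)) (.leaf (0, 0))))) (.node (.node (.node (.leaf (112, 0)) (.leaf (872, 2))) (.node (.leaf (398, 1)) (.leaf (0, 0)))) (.node (.node (.leaf (242, 1)) (.leaf (1436, 0))) (.node (.leaf (583, 1)) (.leaf (0, 0))))))))) (.node (.node (.node (.node (.node (.node (.node (.leaf (5, 1)) (.leaf (604, 1))) (.node (.leaf (257, 0)) (.leaf (0, 0)))) (.node (.node (.leaf (124, 1)) (.leaf (904, 2))) (.node (.leaf (415, 2)) (.leaf (0, 0))))) (.node (.node (.node (.leaf (63, 0)) (.leaf (752, 2))) (.node (.leaf (328, 1)) (.leaf (0, 0)))) (.node (.node (.leaf (186, 0)) (.leaf (1109, 1))) (.node (.leaf (507, 1)) (.leaf (0, 0)))))) (.node (.node (.node (.node (.leaf (33, 1))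 (.leaf (678, 0))) (.node (.leaf (290, 0)) (.leaf (0, 0)))) (.node (.node (.leaf (154, 1)) (.leaf (989, 1))) (.node (.leaf (457, 2)) (.leaf (0, 0))))) (.node (.node (.node (.leaf (93, 1)) (.leaf (824, 0))) (.node (.leaf (370, 0)) (.leaf (0, 0)))) (.node (.node (.leaf (220, 1)) (.leaf (1269, 1))) (.node (.leaf (555, 0)) (.leaf (0, 0))))))) (.node (.node (.node (.node (.node (.leaf (18, 2)) (.leaf (638, 0))) (.node (.leaf (274, 1)) (.leaf (0, 0)))) (.node (.node (.leaf (139, 2)) (.leaf (944, 0))) (.node (.leaf (436, 0)) (.leaf (0, 0))))) (.node (.node (.node (.leaf (78, 0)) (.leaf (788, 1))) (.node (.leaf (350, 0)) (.leaf (0, 0)))) (.node (.node (.leaf (203, 0)) (.leaf (1184, 1))) (.node (.leaf (530, 0)) (.leaf (0, 0)))))) (.node (.node (.node (.node (.leaf (48, 2)) (.leaf (713, 0))) (.node (.leaf (308, 1)) (.leaf (0, 0)))) (.node (.node (.leaf (170, 1)) (.leaf (1041, 1))) (.node (.leaf (481, 0)) (.leaf (0, 0))))) (.node (.node (.node (.leaf (108, 1)) (.leaf (861, 2))) (.node (.leaf (393, 2)) (.leaf (0, 0))))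 (.node (.node (.leaf (238, 1)) (.leaf (1388, 0))) (.node (.leaf (577, 2)) (.leaf (0, 0)))))))) (.node (.node (.node (.node (.node (.node (.leaf (12, 0)) (.leaf (618, 2))) (.node (.leaf (265, 2)) (.leaf (0, 0)))) (.node (.node (.leaf (131, 2)) (.leaf (927, 2))) (.node (.leaf (426, 0)) (.leaf (0, 0))))) (.node (.node (.node (.leaf (70, 2)) (.leaf (770, 0))) (.node (.leaf (339, 1)) (.leaf (0, 0)))) (.node (.node (.leaf (194, 1)) (.leaf (1146, 1))) (.node (.leaf (520, 1)) (.leaf (0, 0)))))) (.node (.node (.node (.node (.leaf (41, 0)) (.leaf (698, 0))) (.node (.leaf (300, 0)) (.leaf (0, 0)))) (.node (.node (.leaf (162, 1)) (.leaf (1016, 2))) (.node (.leaf (468, 0)) (.leaf (0, 0))))) (.node (.node (.node (.leaf (101, 0)) (.leaf (836, 2))) (.node (.leaf (382, 1)) (.leaf (0, 0)))) (.node (.node (.leaf (229, 2)) (.leaf (1347, 2))) (.node (.leaf (565, 2)) (.leaf (0, 0))))))) (.node (.node (.node (.node (.node (.leaf (26, 1)) (.leaf (654, 2))) (.node (.leaf (282, 0)) (.leaf (0, 0)))) (.node (.node (.leaf (146, 2))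 (.leaf (975, 1))) (.node (.leaf (446, 0)) (.leaf (0, 0))))) (.node (.node (.node (.leaf (86, 1)) (.leaf (807, 1))) (.node (.leaf (361, 2)) (.leaf (0, 0)))) (.node (.node (.leaf (211, 2)) (.leaf (1227, 2))) (.node (.leaf (541, 1)) (.leaf (0, 0)))))) (.node (.node (.node (.node (.leaf (55, 1)) (.leaf (734, 2))) (.node (.leaf (317, 1)) (.leaf (0, 0)))) (.node (.node (.leaf (177, 1)) (.leaf (1077, 0))) (.node (.leaf (497, 1)) (.leaf (0, 0))))) (.node (.node (.node (.leaf (116, 0)) (.leaf (882, 0))) (.node (.leaf (404, 1)) (.leaf (0, 0)))) (.node (.node (.leaf (246, 2)) (.leaf (1492, 2))) (.node (.leaf (588, 2)) (.leaf (0, 0)))))))))))))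

end CfsgLib.HeUnique
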