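import Cfsg.Agent.Lib.HeUnique.Cert
import Cfsg.Agent.Lib.HeUnique.DataTab
import Cfsg.Agent.Lib.HeUnique.DataRel
import Cfsg.Agent.Lib.HeUnique.DataGood
import Cfsg.Agent.Lib.HeUnique.DataBad
import Cfsg.Agent.Lib.CosetEnum.Basic

/-!
The checks of the derivations.
-/

set_option autoImplicit false

namespace CfsgLib.HeUnique

/-- The inverse of a word. -/
def invW (w : List ℕ) : List ℕ := w.reverse.map fun t => bif decide (t < 65536) then cinv t else t

/-- The cube relator. -/
def cubeW (k q c : ℕ) : List ℕ := [65536 + k, q, 65536 + k, q, 65536 + k, q, cinv c]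

/-- The relators for a value of the loop. -/
def relsW (c : ℕ) : List (List ℕ) :=
  [cubeW 0 qA cubeA, invW (cubeW 0 qA cubeA), cubeW 1 qB cubeB, invW (cubeW 1 qB cubeB),
    loopW ++ [cinv c], invW (loopW ++ [cinv c])]

/-- The derivation for the good value. -/
def certGood : Cert := ⟨factsGood, nGood, defsGood, tabA, tabB, 1536, relsW loopC⟩

/-- The images of the seven generators, as words. -/
def imgW : List (List ℕ) :=
  [[sixW.getD 0 0], [sixW.getD 1 0], [sixW.getD 2 0], dW, [sixW.getD 3 0], [sixW.getD 4 0],
    [sixW.getD 5 0]]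

/-- Expansion of a word in the seven generators. -/
def expand (w : List ℕ) : List ℕ := w.flatMap fun i => imgW.getD i []

/-- The relators of the presentation involving the fourth generator. -/
def dRels : List (List ℕ) :=
  [[3, 3], [3, 1, 3, 1], [3, 0, 3, 0], [3, 4, 3, 4, 3, 4], [3, 5, 3, 5, 3, 5], [3, 6, 3, 6, 3, 6],
    [2, 3, 2, 3, 2, 3, 2, 3, 2, 3, 1], [2, 3, 5, 6, 2, 3, 5, 6, 2, 3, 5, 6, 2, 3, 5, 6]]

/-- The targets. -/
def targets : List (List ℕ × ℕ) := (dRels.map fun r => (r, one)) ++ cWords

theorem good_facts : certGood.factsOK = true := by decide +kernel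

theorem good_targets : ((List.range 10).all fun i =>
    certGood.evalOK (expand (targets.getD i ([], 0)).1) (witGood.getD i [])
      (targets.getD i ([], 0)).2) = true := by decide +kernel

/-- The check of one bad value. -/
def badOK (b : ℕ × Tree (Fct × Why) × List (ℕ × ℕ × ℕ) × ℕ × ℕ × ℕ) : Bool :=
  let C : Cert := ⟨b.2.1, b.2.2.2.1, b.2.2.1, tabA, tabB, 1536, relsW b.1⟩
  C.factsOK && C.contraOK b.2.2.2.2.1 b.2.2.2.2.2

theorem bad_all : badList.all badOK = true := by decide +kernel

/-- One entry of a table follows from its parent. -/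
def tabStep (gens : List (ℕ × ℕ)) (tab par : Tree (ℕ × ℕ)) (m : ℕ) : Bool :=
  bif m == 0 then (tab.get 0).1 == one && (tab.get 0).2 == one
  else decide ((par.get m).1 < m) && decide ((par.get m).2 < gens.length) && ok (tab.get m).1 &&
    ok (tab.get m).2 &&
    (tab.get m).1 == cmul (tab.get (par.get m).1).1 (gens.getD (par.get m).2 (0, 0)).1 &&
    (tab.get m).2 == cmul (tab.get (par.get m).1).2 (gens.getD (par.get m).2 (0, 0)).2

theorem tabA_ok : CosetEnum.allUp
    (fun m => bif decide (m < 1536) then tabStep gensA tabA parA m else true) 11 0 = true := by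
  decide +kernel

theorem tabB_ok : CosetEnum.allUp
    (fun m => bif decide (m < 1536) then tabStep gensB tabB parB m else true) 11 0 = true := by
  decide +kernel

/-- The two tables correspond under the outer automorphism. -/
theorem gens_theta :
    gensB = gensA.map (fun p => (theta p.1, theta p.2)) ∧ qB = theta qA ∧ cubeB = theta cubeA := by
  decide +kernel

end CfsgLib.HeUnique
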