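import Cfsg.Agent.Lib.HeUnique.Good

/-!
A complete table of edges turns two groups with the same relations into a homomorphism.
-/

set_option autoImplicit false

namespace CfsgLib.HeUnique

variable {P Q : Type*} [Group P] [Group Q]

/-- A pair of coordinate maps. -/
def pairI {α : Type*} (f : α → P) (g : α → Q) (x : α) : P × Q := (f x, g x)

theorem wval_pair (ι σ : ℕ → P) (ι0 σ0 : ℕ → Q) (w : List ℕ) :
    wval (pairI ι ι0) (pairI σ σ0) w = (wval ι σ w, wval ι0 σ0 w) := by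
  induction w with
  | nil => rfl
  | cons t w ih =>
    simp only [wval] at ih
    by_cases h : t < 65536 <;> simp [wval, val, h, ih, pairI]

theorem Sound.prod {ι σ : ℕ → P} {ι0 σ0 : ℕ → Q} {C : Cert} (S : Sound ι σ C)
    (S0 : Sound ι0 σ0 C) : Sound (pairI ι ι0) (pairI σ σ0) C := by
  refine ⟨fun x y hx hy => ?_, ?_, fun k hk => ?_, fun k hk m hm => ?_, fun r hr => ?_⟩
  · simp [pairI, S.hmul x y hx hy, S0.hmul x y hx hy]
  · simp [pairI, S.hone, S0.hone]
  · simp [pairI, S.hsq k hk, S0.hsq k hk]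
  · simp [pairI, S.htab k hk m hm, S0.htab k hk m hm]
  · rw [wval_pair, S.hrel r hr, S0.hrel r hr]
    rfl

theorem wl_pair (ι σ : ℕ → P) (ι0 σ0 : ℕ → Q) (defs : List (ℕ × ℕ × ℕ)) (i : ℕ) :
    (wl (pairI ι ι0) (pairI σ σ0) defs).getD i 1 =
      ((wl ι σ defs).getD i 1, (wl ι0 σ0 defs).getD i 1) := by
  induction defs using List.reverseRecOn generalizing i with
  | nil => rcases i with - | i <;> rfl
  | append_singleton l d ih =>
    simp only [wl_concat]
    rcases Nat.lt_or_ge i (l.length + 1) with h | h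
    · rw [List.getD_append _ _ _ _ (by rw [wl_length]; omega),
        List.getD_append _ _ _ _ (by rw [wl_length]; omega),
        List.getD_append _ _ _ _ (by rw [wl_length]; omega), ih]
    · rw [List.getD_append_right _ _ _ _ (by rw [wl_length]; omega),
        List.getD_append_right _ _ _ _ (by rw [wl_length]; omega),
        List.getD_append_right _ _ _ _ (by rw [wl_length]; omega)]
      simp only [wl_length]
      generalize i - (l.length + 1) = j
      rcases j with - | j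
      · simp only [List.getD_cons_zero, ih, pairI, Prod.mk_mul_mk]
      · rfl

/-- The table at node `i` for the involution `k` is complete on the orbit `orb` of `ak`. -/
def Cert.coverOK (C : Cert) (k ak : ℕ) (orb : List ℕ) (wit : List (List (ℕ × ℕ))) : Bool :=
  (List.range (C.defs.length + 1)).all fun i => (List.range orb.length).all fun j =>
    let p := (wit.getD i []).getD j (0, 0)
    decide (p.1 < C.n) && decide (p.2 < C.n) && (C.fct p.1).tag == 1 && (C.fct p.2).tag == 0 &&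
      (C.fct p.1).i == i && (C.fct p.2).i == i && (C.fct p.2).k == k &&
      decide ((C.fct p.2).j ≤ C.defs.length) &&
      conj (cmul (C.fct p.1).c (C.fct p.2).c) ak == orb.getD j 0

/-- The set of elements reached by the table. -/
def InX (ι : ℕ → P) (W : List P) (g : P) : Prop :=
  ∃ a i b, ok a = true ∧ ok b = true ∧ i < W.length ∧ g = ι a * W.getD i 1 * ι b

variable {G : Type*} [Group G] {z : G} {ι : ℕ → G}

theorem InX.mul_ι {ι σ : ℕ → P} {C : Cert} (S : Sound ι σ C) {W : List P} {g : P}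
    (h : InX ι W g) {c : ℕ} (hc : ok c = true) : InX ι W (g * ι c) := by
  obtain ⟨a, i, b, oa, ob, hi, rfl⟩ := h
  exact ⟨a, i, cmul b c, oa, ok_cmul ob hc, hi, by rw [S.hmul _ _ ob hc]; group⟩

theorem InX.mul_σ (R : Rep z ι) {ι' σ : ℕ → P} {C : Cert} (S : Sound ι' σ C)
    (hf : C.factsOK = true) {k ak : ℕ} (hk : k < 2) (oak : ok ak = true) {orb : List ℕ}
    {wit : List (List (ℕ × ℕ))} (hcov : C.coverOK k ak orb wit = true)
    (horb : ∀ x, ok x = true → conj x ak ∈ orb)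
    (hK : ∀ x, ok x = true → cmul x ak = cmul ak x →
      ∃ m < C.tn, (C.ent k m).1 = x ∧ ok (C.ent k m).2 = true)
    {g : P} (h : InX ι' (wl ι' σ C.defs) g) : InX ι' (wl ι' σ C.defs) (g * σ k) := by
  obtain ⟨a, i, b, oa, ob, hi, rfl⟩ := h
  rw [wl_length] at hi
  obtain ⟨j, hj, hjb⟩ := List.getElem_of_mem (horb b ob)
  have hc := range_all (range_all hcov hi) hj
  simp only [Bool.and_eq_true, decide_eq_true_eq, beq_iff_eq] at hc
  rw [List.getD_eq_getElem _ _ hj, hjb] at hc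
  generalize (wit.getD i []).getD j (0, 0) = p at hc
  obtain ⟨⟨⟨⟨⟨⟨⟨⟨hs, he⟩, hts⟩, hte⟩, hsi⟩, hei⟩, hek⟩, hjl⟩, hq⟩ := hc
  obtain ⟨os, Hs⟩ := facts_hold S hf _ hs
  obtain ⟨oe, He⟩ := facts_hold S hf _ he
  simp only [Cert.okF, Bool.and_eq_true, decide_eq_true_eq] at os oe
  simp only [Holds, hts, hte, hsi, hei, hek, if_true, one_ne_zero, if_false] at Hs He
  have osc := os.1.1.1.1
  have oec := oe.1.1.1.1
  set x := cmul (C.fct p.1).c (C.fct p.2).c with hx
  have ox : ok x = true := ok_cmul osc oec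
  set kk := cmul (cinv x) b with hkk
  have okk : ok kk = true := ok_cmul (inv_facts ox).1 ob
  have hxk : cmul x kk = b := by
    rw [hkk, ← cmul_assoc ox (inv_facts ox).1 ob, (inv_facts ox).2, (cmul_one ob).2]
  have hcomm : cmul kk ak = cmul ak kk := by
    rw [R.commute_iff okk oak]
    have e := congrArg ι hq
    rw [R.conj_eq ox oak, R.conj_eq ob oak] at e
    rw [hkk, R.hmul _ _ (inv_facts ox).1 ob, R.inv ox]
    calc (ι x)⁻¹ * ι b * ι ak = (ι x)⁻¹ * (ι b * ι ak * (ι b)⁻¹) * ι b := by group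
      _ = (ι x)⁻¹ * (ι x * ι ak * (ι x)⁻¹) * ι b := by rw [e]
      _ = _ := by group
  obtain ⟨m, hm, e1, o2⟩ := hK kk okk hcomm
  refine ⟨cmul (cmul a (C.fct p.1).g) (C.fct p.2).g, (C.fct p.2).j,
    cmul (C.fct p.2).d (C.ent k m).2, ok_cmul (ok_cmul oa os.1.1.1.2) oe.1.1.1.2,
    ok_cmul oe.1.1.2 o2, by rw [wl_length]; omega, ?_⟩
  have T := S.htab k hk m hm
  rw [e1] at T
  rw [S.hmul _ _ (ok_cmul oa os.1.1.1.2) oe.1.1.1.2, S.hmul _ _ oa os.1.1.1.2,
    S.hmul _ _ oe.1.1.2 o2]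
  conv_lhs => rw [← hxk, S.hmul _ _ ox okk, hx, S.hmul _ _ osc oec]
  calc ι' a * (wl ι' σ C.defs).getD i 1 * (ι' (C.fct p.1).c * ι' (C.fct p.2).c * ι' kk) * σ k
      = ι' a * ((wl ι' σ C.defs).getD i 1 * ι' (C.fct p.1).c) * ι' (C.fct p.2).c *
          (ι' kk * σ k) := by group
    _ = ι' a * ι' (C.fct p.1).g * ((wl ι' σ C.defs).getD i 1 * ι' (C.fct p.2).c * σ k) *
          ι' (C.ent k m).2 := by rw [Hs, T]; group
    _ = _ := by rw [He]; group

/-- The graph of the homomorphism. -/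
def graph (ι σ : ℕ → G) {T : Type*} [Group T] (ι0 σ0 : ℕ → T) (nk : ℕ) : Subgroup (G × T) :=
  Subgroup.closure ({p | ∃ c, ok c = true ∧ p = pairI ι ι0 c} ∪ {p | ∃ k < nk, p = pairI σ σ0 k})

theorem exists_hom_of_cert [Finite G] (R : Rep z ι) {T : Type*} [Group T] [Finite T]
    {σ : ℕ → G} {ι0 σ0 : ℕ → T} {C : Cert} (S : Sound ι σ C) (S0 : Sound ι0 σ0 C)
    (hf : C.factsOK = true) {nk : ℕ} (hnk : nk ≤ 2) (akL : List ℕ) (orb : List (List ℕ))
    (wit : List (List (List (ℕ × ℕ))))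
    (oak : ∀ k < nk, ok (akL.getD k 0) = true)
    (hcov : ∀ k < nk, C.coverOK k (akL.getD k 0) (orb.getD k []) (wit.getD k []) = true)
    (horb : ∀ k < nk, ∀ x, ok x = true → conj x (akL.getD k 0) ∈ orb.getD k [])
    (hK : ∀ k < nk, ∀ x, ok x = true → cmul x (akL.getD k 0) = cmul (akL.getD k 0) x →
      ∃ m < C.tn, (C.ent k m).1 = x ∧ ok (C.ent k m).2 = true)
    (hgen : Subgroup.closure ({p : T | ∃ c, ok c = true ∧ p = ι0 c} ∪
      {p | ∃ k < nk, p = σ0 k}) = ⊤)
    (hsep : ∀ i ≤ C.defs.length, i ≠ 0 →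
      (wl ι0 σ0 C.defs).getD i 1 * ι0 zc ≠ ι0 zc * (wl ι0 σ0 C.defs).getD i 1)
    (hinj : ∀ c, ok c = true → ι0 c = 1 → c = one) :
    ∃ φ : T →* G, (∀ c, ok c = true → φ (ι0 c) = ι c) ∧ ∀ k < nk, φ (σ0 k) = σ k := by
  have SP := S.prod S0
  set W := wl (pairI ι ι0) (pairI σ σ0) C.defs with hW
  have hone : InX (pairI ι ι0) W (1 : G × T) :=
    ⟨one, 0, one, ok_one, ok_one, by rw [hW, wl_length]; omega,
      by rw [hW, SP.hone, wl_zero]; simp⟩
  have hX : ∀ p ∈ graph ι σ ι0 σ0 nk, InX (pairI ι ι0) W p := by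
    intro p hp
    have hp' : p ∈ Submonoid.closure
        ({p : G × T | ∃ c, ok c = true ∧ p = pairI ι ι0 c} ∪
          {p | ∃ k < nk, p = pairI σ σ0 k}) := by
      rw [← Subgroup.closure_toSubmonoid_of_finite]
      exact hp
    induction hp' using Submonoid.closure_induction_right with
    | one => exact hone
    | mul_right x hx y hy ih =>
      have ihx := ih (by
        rw [← Subgroup.mem_toSubmonoid, graph, Subgroup.closure_toSubmonoid_of_finite]
        exact hx)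
      rcases hy with ⟨c, hc, rfl⟩ | ⟨k, hk, rfl⟩
      · exact ihx.mul_ι SP hc
      · exact ihx.mul_σ R SP hf (by omega) (oak k hk) (hcov k hk) (horb k hk) (hK k hk)
  let π : graph ι σ ι0 σ0 nk →* T := (MonoidHom.snd G T).comp (graph ι σ ι0 σ0 nk).subtype
  have hker : Function.Injective π := by
    rw [injective_iff_map_eq_one]
    rintro ⟨p, hp⟩ h1
    obtain ⟨a, i, b, oa, ob, hi, rfl⟩ := hX p hp
    rw [hW, wl_length] at hi
    simp only [π, hW, wl_pair, pairI, MonoidHom.comp_apply, Subgroup.coe_subtype,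
      MonoidHom.coe_snd, Prod.mk_mul_mk] at h1
    have hzz : ∀ c, ok c = true → ι0 c * ι0 zc = ι0 zc * ι0 c := fun c hc => by
      rw [← S0.hmul _ _ hc ok_zc, ← S0.hmul _ _ ok_zc hc, zc_comm hc]
    have hinv : ∀ c, ok c = true → (ι0 c)⁻¹ = ι0 (cinv c) := fun c hc =>
      inv_eq_of_mul_eq_one_right (by rw [← S0.hmul _ _ hc (inv_facts hc).1, (inv_facts hc).2, S0.hone])
    have hWi : (wl ι0 σ0 C.defs).getD i 1 = ι0 (cmul (cinv a) (cinv b)) := by
      rw [S0.hmul _ _ (inv_facts oa).1 (inv_facts ob).1, ← hinv a oa, ← hinv b ob]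
      calc _ = (ι0 a)⁻¹ * (ι0 a * (wl ι0 σ0 C.defs).getD i 1 * ι0 b) * (ι0 b)⁻¹ := by group
        _ = _ := by rw [h1]; group
    obtain rfl : i = 0 := by
      by_contra hi0
      refine hsep i (by omega) hi0 ?_
      rw [hWi]
      exact hzz _ (ok_cmul (inv_facts oa).1 (inv_facts ob).1)
    rw [wl_zero, mul_one, ← S0.hmul _ _ oa ob] at h1
    have hab := hinj _ (ok_cmul oa ob) h1
    refine Subtype.ext ?_
    simp only [hW, wl_pair, pairI, wl_zero, Prod.mk_mul_mk, mul_one, OneMemClass.coe_one]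
    rw [← S.hmul _ _ oa ob, hab, S.hone, ← S0.hmul _ _ oa ob, hab, S0.hone]
    rfl
  have hsurj : Function.Surjective π := by
    rw [← MonoidHom.range_eq_top, eq_top_iff, ← hgen, Subgroup.closure_le]
    rintro t (⟨c, hc, rfl⟩ | ⟨k, hk, rfl⟩)
    · exact ⟨⟨pairI ι ι0 c, Subgroup.subset_closure (Or.inl ⟨c, hc, rfl⟩)⟩, rfl⟩
    · exact ⟨⟨pairI σ σ0 k, Subgroup.subset_closure (Or.inr ⟨k, hk, rfl⟩)⟩, rfl⟩
  let e := MulEquiv.ofBijective π ⟨hker, hsurj⟩
  refine ⟨(MonoidHom.fst G T).comp ((graph ι σ ι0 σ0 nk).subtype.comp e.symm.toMonoidHom),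
    fun c hc => ?_, fun k hk => ?_⟩
  · have h : e ⟨pairI ι ι0 c, Subgroup.subset_closure (Or.inl ⟨c, hc, rfl⟩)⟩ = ι0 c := rfl
    simp only [MonoidHom.comp_apply, MulEquiv.coe_toMonoidHom]
    rw [← h, e.symm_apply_apply]
    rfl
  · have h : e ⟨pairI σ σ0 k, Subgroup.subset_closure (Or.inr ⟨k, hk, rfl⟩)⟩ = σ0 k := rfl
    simp only [MonoidHom.comp_apply, MulEquiv.coe_toMonoidHom]
    rw [← h, e.symm_apply_apply]
    rfl

end CfsgLib.HeUnique
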