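import Cfsg.Agent.Lib.HeUnique.Loop
import Cfsg.Agent.Lib.HeUnique.Graph

/-!
Certificates of the configurations.
-/

set_option autoImplicit false

namespace CfsgLib.HeUnique

/-- Data of a configuration. -/
structure Conf where
  /-- first table -/
  t0 : Tree (ℕ × ℕ)
  /-- second table -/
  t1 : Tree (ℕ × ℕ)
  /-- cubes -/
  cubes : List (ℕ × ℕ × ℕ)
  /-- loop words -/
  words : List (List ℕ)
  /-- witnesses for the centre -/
  centre : List (List ℕ)
  /-- tracked elements -/
  acts : List (List (ℕ × ℕ × List ℕ))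

namespace Conf

variable (K : Conf)

/-- The loops with values. -/
def loopsV (v : List (ℕ × ℕ)) : List (List ℕ × ℕ) := v.map fun p => (K.words.getD p.1 [], p.2)

/-- A certificate. -/
def cert (v : List (ℕ × ℕ)) (f : Tree (Fct × Why)) (n : ℕ) (d : List (ℕ × ℕ × ℕ)) : Cert :=
  ⟨f, n, d, K.t0, K.t1, 1536, withInv (baseW K.cubes (K.loopsV v))⟩

/-- A refuted value. -/
def badOK (b : ℕ × List (ℕ × ℕ) × Tree (Fct × Why) × ℕ × List (ℕ × ℕ × ℕ) × ℕ × ℕ) : Bool :=
  (K.cert b.2.1 b.2.2.1 b.2.2.2.1 b.2.2.2.2.1).factsOK &&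
    (K.cert b.2.1 b.2.2.1 b.2.2.2.1 b.2.2.2.2.1).contraOK b.2.2.2.2.2.1 b.2.2.2.2.2.2

/-- The words are made of letters. -/
def lettersAll : Bool :=
  K.words.all lettersOK && K.cubes.all (fun e => ok e.2.2 && lettersOK (cubeW e.1 e.2.1 e.2.2))

/-- The loops fix the centre and move the tracked elements as said. -/
def trackAll : Bool :=
  (List.range K.words.length).all fun j =>
    track K.t0 K.t1 (K.words.getD j []) (K.centre.getD j []) zc == some zc &&
      (K.acts.getD j []).all fun e => ok e.1 &&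
        track K.t0 K.t1 (K.words.getD j []) e.2.2 e.1 == some e.2.1

/-- What is known about the involutions. -/
structure Hold {G : Type*} [Group G] (K : Conf) (ι σ : ℕ → G) : Prop where
  sq : ∀ k < 2, σ k * σ k = 1
  act0 : TabAct ι K.t0 (σ 0)
  act1 : TabAct ι K.t1 (σ 1)
  cube : ∀ e ∈ K.cubes, wval ι σ (cubeW e.1 e.2.1 e.2.2) = 1

variable {K} {G : Type*} [Group G] {z : G} {ι σ : ℕ → G}

theorem Hold.sound (H : K.Hold ι σ) (R : Rep z ι) (hl : K.lettersAll = true)
    {v : List (ℕ × ℕ)} (hlt : ∀ p ∈ v, p.1 < K.words.length)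
    (hv : ∀ p ∈ v, ok p.2 = true ∧ wval ι σ (K.words.getD p.1 []) = ι p.2)
    {f : Tree (Fct × Why)} {n : ℕ} {d : List (ℕ × ℕ × ℕ)} : Sound ι σ (K.cert v f n d) := by
  simp only [Conf.lettersAll, Bool.and_eq_true, List.all_eq_true] at hl
  refine sound_mk R.hmul R.hone H.sq (fun k hk m hm => ?_) (cubes := K.cubes)
    (loops := K.loopsV v) rfl ?_ H.cube ?_
  · interval_cases k
    · exact htab_of_tabAct (H.sq 0 (by norm_num)) H.act0 m hm
    · exact htab_of_tabAct (H.sq 1 (by norm_num)) H.act1 m hm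
  · intro w hw
    rw [baseW, List.mem_append, List.mem_map, List.mem_map] at hw
    rcases hw with ⟨e, he, rfl⟩ | ⟨e, he, rfl⟩
    · exact (hl.2 e he).2
    · simp only [Conf.loopsV, List.mem_map] at he
      obtain ⟨p, hp, rfl⟩ := he
      have hw' : lettersOK (K.words.getD p.1 []) = true := by
        rw [List.getD_eq_getElem _ _ (hlt p hp)]
        exact hl.1 _ (List.getElem_mem _)
      obtain ⟨oi, -⟩ := inv_facts (hv p hp).1
      simp only [lettersOK, List.all_append, Bool.and_eq_true] at hw' ⊢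
      exact ⟨hw', by simp [ok_lt oi, oi]⟩
  · intro e he
    simp only [Conf.loopsV, List.mem_map] at he
    obtain ⟨p, hp, rfl⟩ := he
    exact hv p hp

theorem Hold.value (H : K.Hold ι σ) (R : Rep z ι) (ht : K.trackAll = true) {j : ℕ}
    (hj : j < K.words.length) {allowed : List ℕ}
    (hv : loopVals (K.acts.getD j []) allowed = true) :
    ∃ c ∈ allowed, ok c = true ∧ wval ι σ (K.words.getD j []) = ι c := by
  have h := range_all ht hj
  simp only [Bool.and_eq_true, beq_iff_eq] at h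
  exact loop_cases R H.act0 H.act1 h.1 h.2 hv

theorem Hold.not_bad (H : K.Hold ι σ) (R : Rep z ι) (hl : K.lettersAll = true)
    {bad : List (ℕ × List (ℕ × ℕ) × Tree (Fct × Why) × ℕ × List (ℕ × ℕ × ℕ) × ℕ × ℕ)}
    (hbad : bad.all K.badOK = true) {v : List (ℕ × ℕ)}
    (hmem : v ∈ bad.map fun b => b.2.1) (hlt : ∀ p ∈ v, p.1 < K.words.length)
    (hv : ∀ p ∈ v, ok p.2 = true ∧ wval ι σ (K.words.getD p.1 []) = ι p.2) : False := by
  obtain ⟨b, hb, rfl⟩ := List.mem_map.mp hmem
  have h := mem_all hbad hb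
  simp only [Conf.badOK, Bool.and_eq_true] at h
  exact contra_spec (H.sound R hl hlt hv) h.1 h.2 R.inj

end Conf

end CfsgLib.HeUnique
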