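import Cfsg.Agent.Lib.HeUnique.Cert

/-!
Derivations for one of the configurations.
-/

set_option autoImplicit false
set_option linter.style.longLine false
set_option maxRecDepth 100000

namespace CfsgLib.HeUnique

/-- loop words -/
def wordsFive : List (List ℕ) := [[34944, 65536, 14181, 65536, 13813, 65536, 34944],
  [34944, 65537, 59957, 65537, 13813, 65537, 34944],
  [34944, 65537, 27399, 65536, 14881, 65537, 13813, 65536, 34944]]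

/-- witnesses for the centre -/
def centreFive : List (List ℕ) := [[8, 1030, 777], [8, 924, 777], [8, 278, 223, 777]]

/-- tracked elements -/
def actsFive : List (List (ℕ × ℕ × List ℕ)) := [[(34945, 34945, [8, 1030, 777]), (34952, 34957, [278, 1413, 45]), (34960, 35040, [777, 8, 1030]), (34976, 34961, [1201, 1348, 193]), (35008, 34977, [1030, 741, 918]), (43136, 20704, [223, 387, 331]), (51328, 44189, [470, 908, 851])],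
  [(34945, 34945, [8, 924, 777]), (34946, 34958, [777, 8, 495]), (34948, 34956, [1201, 193, 1030]), (34952, 34952, [1030, 918, 1130]), (35008, 35040, [278, 942, 945]), (39040, 20608, [470, 798, 1413]), (35456, 21376, [223, 462, 1401])],
  [(34945, 34945, [8, 278, 223, 777]), (34948, 34955, [1145, 127, 67, 924]), (34952, 34953, [278, 1488, 987, 769]), (34960, 34976, [777, 8, 278, 987]), (35040, 35041, [1130, 462, 3, 45]), (43136, 51360, [223, 431, 462, 954]), (35968, 51616, [45, 741, 1221, 942]), (20608, 35714, [317, 987, 918, 1145])]]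

/-- the orbits -/
def orbFive : List (List ℕ) := [[34960, 34961, 34976, 34977, 34992, 34993, 35008, 35009, 35024, 35025, 35040, 35041, 35056, 35057], [34946, 34947, 34948, 34949, 34950, 34951, 34952, 34953, 34954, 34955, 34956, 34957, 34958, 34959]]

/-- the facts -/
def factsFive0 : Tree (Fct × Why) :=
  (.node (.node (.node (.node (.node (.node (.node (.node (.node (.leaf (⟨0, 0, 34944, 0, 34944, 1, 34944⟩, .dfn)) (.leaf (⟨1, 6, 14784, 0, 22128, 6, 34944⟩, .mul 247 247))) (.node (.leaf (⟨1, 2, 35045, 0, 35204, 2, 34944⟩, .mul 127 90)) (.leaf (⟨0, 0, 34944, 0, 34944, 1, 34944⟩, .dfn)))) (.node (.node (.leaf (⟨1, 1, 53460, 0, 31921, 1, 34944⟩, .mul 63 3)) (.leaf (⟨0, 0, 34944, 0, 34944, 1, 34944⟩, .dfn))) (.node (.leaf (⟨1, 4, 35304, 0, 21756, 4, 34944⟩, .mul 168 167)) (.leaf (⟨0, 0, 34944, 0, 34944,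 1, 34944⟩, .dfn))))) (.node (.node (.node (.leaf (⟨1, 1, 21632, 0, 39117, 1, 34944⟩, .mul 31 7)) (.leaf (⟨0, 0, 34944, 0, 34944, 1, 34944⟩, .dfn))) (.node (.leaf (⟨1, 3, 21126, 0, 52448, 3, 34944⟩, .mul 147 136)) (.leaf (⟨0, 0, 34944, 0, 34944, 1, 34944⟩, .dfn)))) (.node (.node (.leaf (⟨1, 2, 54186, 0, 23462, 2, 34944⟩, .mul 95 90)) (.leaf (⟨0, 0, 34944, 0, 34944, 1, 34944⟩, .dfn))) (.node (.leaf (⟨0, 5, 14881, 1, 58894, 5, 27173⟩, .fill 8 3 2 [27399, 65537, 34944, 58874, 34944, 65536, 54904] 2 34944 [⟨106, 198, 0⟩] [⟨125, 107, 1166⟩, ⟨106, 198, 485⟩])) (.leaf (⟨0, 0, 34944, 0, 34944, 1, 34944⟩, .dfn)))))) (.node (.node (.node (.node (.leaf (⟨1, 1, 31892, 0, 62708, 1, 34944⟩, .mul 15 7)) (.leaf (⟨1, 6, 20240, 0, 20240, 6, 34944⟩, .mul 271 247))) (.node (.leaf (⟨1, 3, 35460, 0, 44272, 3, 34944⟩, .mul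 136 136)) (.leaf (⟨0, 0, 34944, 0, 34944, 1, 34944⟩, .dfn)))) (.node (.node (.leaf (⟨1, 1, 47256, 0, 28905, 1, 34944⟩, .mul 79 5)) (.leaf (⟨0, 0, 34944, 0, 34944, 1, 34944⟩, .dfn))) (.node (.leaf (⟨1, 5, 40080, 0, 51586, 5, 34944⟩, .mul 206 204)) (.leaf (⟨0, 0, 34944, 0, 34944, 1, 34944⟩, .dfn))))) (.node (.node (.node (.leaf (⟨1, 1, 60580, 0, 60597, 1, 34944⟩, .mul 47 5)) (.leaf (⟨0, 0, 34944, 0, 34944, 1, 34944⟩, .dfn))) (.node (.leaf (⟨0, 4, 34303, 0, 35978, 4, 50534⟩, .fill 8 3 4 [27399, 65537, 34944, 58874, 34944] 1 34946 [⟨26, 25, 0⟩, ⟨3, 163, 719⟩] [⟨54, 163, 693⟩])) (.leaf (⟨0, 0, 34944, 0, 34944, 1, 34944⟩, .dfn)))) (.node (.node (.leaf (⟨1, 2, 51884, 0, 21446, 2, 34944⟩, .mul 111 88)) (.leaf (⟨0, 0, 34944, 0, 34944, 1, 34944⟩, .dfn))) (.node (.leaf (⟨1, 6, 31952, 0, 54512, 6, 34944⟩, .mul 238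 238)) (.leaf (⟨0, 0, 34944, 0, 34944, 1, 34944⟩, .dfn))))))) (.node (.node (.node (.node (.node (.leaf (⟨1, 1, 21725, 0, 40108, 1, 34944⟩, .mul 5 7)) (.leaf (⟨1, 6, 24016, 0, 26160, 6, 34944⟩, .mul 263 247))) (.node (.leaf (⟨1, 3, 39304, 0, 21664, 3, 34944⟩, .sync ⟨135, 132, 1163⟩)) (.leaf (⟨0, 0, 34944, 0, 34944, 1, 34944⟩, .dfn)))) (.node (.node (.leaf (⟨1, 1, 20636, 0, 40145, 1, 34944⟩, .mul 71 5)) (.leaf (⟨0, 0, 34944, 0, 34944, 1, 34944⟩, .dfn))) (.node (.leaf (⟨1, 5, 62688, 0, 53386, 5, 34944⟩, .sync ⟨117, 198, 179⟩)) (.leaf (⟨0, 0, 34944, 0, 34944, 1, 34944⟩, .dfn))))) (.node (.node (.node (.leaf (⟨1, 1, 22736, 0, 53377, 1, 34944⟩, .mul 14 3)) (.leaf (⟨0, 0, 34944, 0, 34944, 1, 34944⟩, .dfn))) (.node (.leaf (⟨1, 4, 51689, 0, 28905, 4, 34944⟩, .sync ⟨80, 163, 774⟩)) (.leaf (⟨0, 0, 34944, 0, 34944,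 1, 34944⟩, .dfn)))) (.node (.node (.leaf (⟨1, 0, 52187, 0, 52187, 0, 34944⟩, .base)) (.leaf (⟨0, 0, 34944, 0, 34944, 1, 34944⟩, .dfn))) (.node (.leaf (⟨1, 5, 47264, 0, 51844, 5, 34944⟩, .mul 209 202)) (.leaf (⟨0, 0, 34944, 0, 34944, 1, 34944⟩, .dfn)))))) (.node (.node (.node (.node (.leaf (⟨1, 0, 31898, 0, 31898, 0, 34944⟩, .base)) (.leaf (⟨1, 0, 51896, 0, 51896, 0, 34944⟩, .base))) (.node (.leaf (⟨1, 3, 21130, 0, 60640, 3, 34944⟩, .mul 144 138)) (.leaf (⟨0, 0, 34944, 0, 34944, 1, 34944⟩, .dfn)))) (.node (.node (.leaf (⟨1, 2, 23269, 0, 53704, 2, 34944⟩, .sync ⟨87, 83, 775⟩)) (.leaf (⟨0, 0, 34944, 0, 34944, 1, 34944⟩, .dfn))) (.node (.leaf (⟨0, 5, 18237, 0, 39855, 5, 15880⟩, .fill 4 5 4 [54904, 65536, 56861] 2 34944 [⟨106, 198, 0⟩] [⟨90, 198, 1138⟩])) (.leaf (⟨0, 0, 34944, 0, 34944, 1, 34944⟩, .dfn)))))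 (.node (.node (.node (.leaf (⟨1, 1, 29828, 0, 48341, 1, 34944⟩, .mul 55 7)) (.leaf (⟨0, 0, 34944, 0, 34944, 1, 34944⟩, .dfn))) (.node (.leaf (⟨1, 4, 52098, 0, 35060, 4, 34944⟩, .mul 166 167)) (.leaf (⟨0, 0, 34944, 0, 34944, 1, 34944⟩, .dfn)))) (.node (.node (.leaf (⟨1, 2, 39307, 0, 39150, 2, 34944⟩, .mul 86 90)) (.leaf (⟨0, 0, 34944, 0, 34944, 1, 34944⟩, .dfn))) (.node (.leaf (⟨1, 6, 29536, 0, 43776, 6, 34944⟩, .mul 238 247)) (.leaf (⟨0, 0, 34944, 0, 34944, 1, 34944⟩, .dfn)))))))) (.node (.node (.node (.node (.node (.node (.leaf (⟨1, 0, 30869, 0, 30869, 0, 34944⟩, .base)) (.leaf (⟨1, 6, 39872, 0, 13280, 6, 34944⟩, .mul 259 247))) (.node (.leaf (⟨0, 1, 34944, 1, 34944, 3, 34944⟩, .dfn)) (.leaf (⟨0, 0, 34944, 0, 34944, 1, 34944⟩, .dfn)))) (.node (.node (.leaf (⟨1, 1, 36052, 0, 44284, 1, 34944⟩, .mul 18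 5)) (.leaf (⟨0, 0, 34944, 0, 34944, 1, 34944⟩, .dfn))) (.node (.leaf (⟨1, 2, 35265, 0, 35555, 2, 34944⟩, .mul 195 88)) (.leaf (⟨0, 0, 34944, 0, 34944, 1, 34944⟩, .dfn))))) (.node (.node (.node (.leaf (⟨1, 1, 62628, 0, 31989, 1, 34944⟩, .mul 35 3)) (.leaf (⟨0, 0, 34944, 0, 34944, 1, 34944⟩, .dfn))) (.node (.leaf (⟨0, 4, 34944, 1, 34944, 1, 36710⟩, .inv 163)) (.leaf (⟨0, 0, 34944, 0, 34944, 1, 34944⟩, .dfn)))) (.node (.node (.leaf (⟨1, 2, 52174, 0, 21156, 2, 34944⟩, .mul 99 88)) (.leaf (⟨0, 0, 34944, 0, 34944, 1, 34944⟩, .dfn))) (.node (.leaf (⟨1, 5, 21680, 0, 39306, 5, 34944⟩, .mul 221 200)) (.leaf (⟨0, 0, 34944, 0, 34944, 1, 34944⟩, .dfn)))))) (.node (.node (.node (.node (.leaf (⟨1, 1, 60669, 0, 52420, 1, 34944⟩, .mul 19 3)) (.leaf (⟨1, 6, 42928, 0, 55280, 6, 34944⟩, .mul 275 247))) (.node (.leaf (⟨1,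 3, 22914, 0, 23696, 3, 34944⟩, .mul 136 138)) (.leaf (⟨0, 0, 34944, 0, 34944, 1, 34944⟩, .dfn)))) (.node (.node (.leaf (⟨0, 2, 34944, 1, 34944, 0, 34944⟩, .inv 83)) (.leaf (⟨0, 0, 34944, 0, 34944, 1, 34944⟩, .dfn))) (.node (.leaf (⟨0, 5, 34946, 0, 51329, 5, 54487⟩, .fill 0 0 2 [51360, 34946, 65536, 34946] 2 34944 [⟨106, 198, 0⟩] [⟨95, 198, 50⟩])) (.leaf (⟨0, 0, 34944, 0, 34944, 1, 34944⟩, .dfn))))) (.node (.node (.node (.leaf (⟨1, 1, 59621, 0, 60616, 1, 34944⟩, .mul 51 3)) (.leaf (⟨0, 0, 34944, 0, 34944, 1, 34944⟩, .dfn))) (.node (.leaf (⟨0, 4, 14305, 0, 20352, 4, 15087⟩, .fill 8 3 4 [27399, 65537, 34944, 58874, 34944] 1 34048 [⟨57, 28, 1120⟩, ⟨15, 163, 1443⟩] [⟨54, 163, 970⟩])) (.leaf (⟨0, 0, 34944, 0, 34944, 1, 34944⟩, .dfn)))) (.node (.node (.leaf (⟨1, 0, 43612, 0, 43612, 0, 34944⟩, .base)) (.leaf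 (⟨0, 0, 34944, 0, 34944, 1, 34944⟩, .dfn))) (.node (.leaf (⟨0, 6, 44357, 1, 47309, 6, 20227⟩, .fill 8 7 4 [54904, 65537, 11825, 65536, 27399] 3 34944 [⟨154, 236, 0⟩] [⟨156, 155, 1524⟩, ⟨152, 236, 559⟩])) (.leaf (⟨0, 0, 34944, 0, 34944, 1, 34944⟩, .dfn))))))) (.node (.node (.node (.node (.node (.leaf (⟨1, 1, 43140, 0, 44184, 1, 34944⟩, .mul 7 3)) (.leaf (⟨1, 6, 48976, 0, 13152, 6, 34944⟩, .mul 267 247))) (.node (.leaf (⟨1, 3, 53386, 0, 62688, 3, 34944⟩, .mul 138 136)) (.leaf (⟨0, 0, 34944, 0, 34944, 1, 34944⟩, .dfn)))) (.node (.node (.leaf (⟨1, 1, 35028, 0, 44273, 1, 34944⟩, .mul 7 7)) (.leaf (⟨0, 0, 34944, 0, 34944, 1, 34944⟩, .dfn))) (.node (.leaf (⟨1, 5, 28832, 0, 39310, 5, 34944⟩, .sync ⟨203, 198, 1405⟩)) (.leaf (⟨0, 0, 34944, 0, 34944, 1, 34944⟩, .dfn))))) (.node (.node (.node (.leaf (⟨1, 0, 13813,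 0, 13813, 0, 34944⟩, .base)) (.leaf (⟨0, 0, 34944, 0, 34944, 1, 34944⟩, .dfn))) (.node (.leaf (⟨0, 4, 26130, 0, 58648, 2, 27399⟩, .inv 171)) (.leaf (⟨0, 0, 34944, 0, 34944, 1, 34944⟩, .dfn)))) (.node (.node (.leaf (⟨1, 2, 51425, 0, 20876, 2, 34944⟩, .mul 97 90)) (.leaf (⟨0, 0, 34944, 0, 34944, 1, 34944⟩, .dfn))) (.node (.leaf (⟨0, 3, 34944, 0, 34944, 6, 34944⟩, .dfn)) (.leaf (⟨0, 0, 34944, 0, 34944, 1, 34944⟩, .dfn)))))) (.node (.node (.node (.node (.leaf (⟨0, 1, 14181, 0, 56861, 1, 27232⟩, .fill 4 1 2 [34944, 45423, 34944, 65536, 54904] 0 34944 [⟨23, 0, 0⟩] [⟨27, 0, 477⟩])) (.leaf (⟨0, 0, 34944, 0, 34944, 1, 34944⟩, .dfn))) (.node (.leaf (⟨1, 3, 22662, 0, 30928, 3, 34944⟩, .mul 151 138)) (.leaf (⟨0, 0, 34944, 0, 34944, 1, 34944⟩, .dfn)))) (.node (.node (.leaf (⟨1, 2, 52194, 0, 20910, 2, 34944⟩, .mul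 91 86)) (.leaf (⟨0, 0, 34944, 0, 34944, 1, 34944⟩, .dfn))) (.node (.leaf (⟨1, 5, 30912, 0, 22660, 5, 34944⟩, .mul 200 200)) (.leaf (⟨0, 0, 34944, 0, 34944, 1, 34944⟩, .dfn))))) (.node (.node (.node (.leaf (⟨1, 1, 23688, 0, 61677, 1, 34944⟩, .mul 59 3)) (.leaf (⟨0, 0, 34944, 0, 34944, 1, 34944⟩, .dfn))) (.node (.leaf (⟨1, 4, 35747, 0, 44268, 4, 34944⟩, .mul 181 166)) (.leaf (⟨0, 0, 34944, 0, 34944, 1, 34944⟩, .dfn)))) (.node (.node (.leaf (⟨1, 2, 53641, 0, 22759, 2, 34944⟩, .mul 123 90)) (.leaf (⟨0, 0, 34944, 0, 34944, 1, 34944⟩, .dfn))) (.node (.leaf (⟨1, 6, 59520, 0, 39104, 6, 34944⟩, .mul 251 239)) (.leaf (⟨0, 0, 34944, 0, 34944, 1, 34944⟩, .dfn))))))))) (.node (.node (.node (.node (.node (.node (.node (.leaf (⟨1, 0, 21721, 0, 21721, 0, 34944⟩, .base)) (.leaf (⟨1, 6, 15696, 0, 21216, 6, 34944⟩, .mul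 257 239))) (.node (.leaf (⟨1, 2, 51943, 0, 20937, 2, 34944⟩, .mul 95 88)) (.leaf (⟨0, 0, 34944, 0, 34944, 1, 34944⟩, .dfn)))) (.node (.node (.leaf (⟨1, 1, 62668, 0, 23733, 1, 34944⟩, .mul 65 3)) (.leaf (⟨0, 0, 34944, 0, 34944, 1, 34944⟩, .dfn))) (.node (.leaf (⟨1, 2, 53731, 0, 23016, 2, 34944⟩, .mul 193 88)) (.leaf (⟨0, 0, 34944, 0, 34944, 1, 34944⟩, .dfn))))) (.node (.node (.node (.leaf (⟨1, 1, 60608, 0, 51429, 1, 34944⟩, .mul 7 5)) (.leaf (⟨0, 0, 34944, 0, 34944, 1, 34944⟩, .dfn))) (.node (.leaf (⟨1, 3, 39052, 0, 28896, 3, 34944⟩, .mul 161 138)) (.leaf (⟨0, 0, 34944, 0, 34944, 1, 34944⟩, .dfn)))) (.node (.node (.leaf (⟨1, 2, 54185, 0, 23461, 2, 34944⟩, .mul 88 88)) (.leaf (⟨0, 0, 34944, 0, 34944, 1, 34944⟩, .dfn))) (.node (.leaf (⟨1, 5, 62704, 0, 53384, 5, 34944⟩, .mul 225 200)) (.leaf (⟨0, 0, 34944,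 0, 34944, 1, 34944⟩, .dfn)))))) (.node (.node (.node (.node (.leaf (⟨1, 1, 31984, 0, 53412, 1, 34944⟩, .mul 17 5)) (.leaf (⟨1, 6, 45408, 0, 57040, 6, 34944⟩, .mul 250 238))) (.node (.leaf (⟨1, 3, 22668, 0, 31952, 3, 34944⟩, .mul 145 136)) (.leaf (⟨0, 0, 34944, 0, 34944, 1, 34944⟩, .dfn)))) (.node (.node (.leaf (⟨1, 1, 40080, 0, 20716, 1, 34944⟩, .mul 81 5)) (.leaf (⟨0, 0, 34944, 0, 34944, 1, 34944⟩, .dfn))) (.node (.leaf (⟨1, 5, 61584, 0, 53890, 5, 34944⟩, .mul 209 200)) (.leaf (⟨0, 0, 34944, 0, 34944, 1, 34944⟩, .dfn))))) (.node (.node (.node (.leaf (⟨1, 1, 51448, 0, 59585, 1, 34944⟩, .mul 49 3)) (.leaf (⟨0, 0, 34944, 0, 34944, 1, 34944⟩, .dfn))) (.node (.leaf (⟨0, 4, 13219, 1, 51376, 4, 28866⟩, .fill 6 3 2 [11223, 65537, 34944, 60544, 34944] 1 34048 [⟨26, 163, 180⟩] [⟨15, 163, 161⟩])) (.leaf (⟨0, 0,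 34944, 0, 34944, 1, 34944⟩, .dfn)))) (.node (.node (.leaf (⟨1, 0, 14181, 0, 14181, 0, 34944⟩, .base)) (.leaf (⟨0, 0, 34944, 0, 34944, 1, 34944⟩, .dfn))) (.node (.leaf (⟨0, 6, 14881, 1, 34066, 5, 35559⟩, .fill 8 3 2 [27399, 65537, 34944, 58874, 34944, 65536, 54904] 3 34944 [⟨154, 236, 0⟩] [⟨138, 174, 476⟩, ⟨190, 215, 369⟩])) (.leaf (⟨0, 0, 34944, 0, 34944, 1, 34944⟩, .dfn))))))) (.node (.node (.node (.node (.node (.leaf (⟨1, 1, 48360, 0, 28837, 1, 34944⟩, .mul 9 3)) (.leaf (⟨1, 6, 31040, 0, 26288, 6, 34944⟩, .mul 265 239))) (.node (.leaf (⟨1, 3, 21388, 0, 51376, 3, 34944⟩, .sync ⟨15, 132, 1087⟩)) (.leaf (⟨0, 0, 34944, 0, 34944, 1, 34944⟩, .dfn)))) (.node (.node (.leaf (⟨1, 1, 43201, 0, 35064, 1, 34944⟩, .mul 73 7)) (.leaf (⟨0, 0, 34944, 0, 34944, 1, 34944⟩, .dfn))) (.node (.leaf (⟨1, 5, 48368, 0, 52110,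 5, 34944⟩, .sync ⟨201, 198, 1273⟩)) (.leaf (⟨0, 0, 34944, 0, 34944, 1, 34944⟩, .dfn))))) (.node (.node (.node (.leaf (⟨1, 1, 31901, 0, 54500, 1, 34944⟩, .mul 41 3)) (.leaf (⟨0, 0, 34944, 0, 34944, 1, 34944⟩, .dfn))) (.node (.leaf (⟨1, 4, 51587, 0, 44164, 4, 34944⟩, .mul 165 166)) (.leaf (⟨0, 0, 34944, 0, 34944, 1, 34944⟩, .dfn)))) (.node (.node (.leaf (⟨1, 2, 34944, 0, 34944, 2, 34944⟩, .unit)) (.leaf (⟨0, 0, 34944, 0, 34944, 1, 34944⟩, .dfn))) (.node (.leaf (⟨1, 5, 48352, 0, 52108, 5, 34944⟩, .mul 225 202)) (.leaf (⟨0, 0, 34944, 0, 34944, 1, 34944⟩, .dfn)))))) (.node (.node (.node (.node (.leaf (⟨1, 1, 34944, 0, 34944, 1, 34944⟩, .unit)) (.leaf (⟨1, 0, 38868, 0, 38868, 0, 34944⟩, .base))) (.node (.leaf (⟨1, 3, 34944, 0, 34944, 3, 34944⟩, .unit)) (.leaf (⟨0, 0, 34944, 0, 34944, 1, 34944⟩, .dfn)))) (.node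 (.node (.leaf (⟨1, 2, 39848, 0, 39855, 2, 34944⟩, .sync ⟨89, 83, 1355⟩)) (.leaf (⟨0, 0, 34944, 0, 34944, 1, 34944⟩, .dfn))) (.node (.leaf (⟨1, 5, 51392, 0, 20878, 5, 34944⟩, .mul 217 202)) (.leaf (⟨0, 0, 34944, 0, 34944, 1, 34944⟩, .dfn))))) (.node (.node (.node (.leaf (⟨1, 1, 30917, 0, 62600, 1, 34944⟩, .mul 5 5)) (.leaf (⟨0, 0, 34944, 0, 34944, 1, 34944⟩, .dfn))) (.node (.leaf (⟨1, 4, 35040, 0, 20717, 4, 34944⟩, .mul 181 169)) (.leaf (⟨0, 0, 34944, 0, 34944, 1, 34944⟩, .dfn)))) (.node (.node (.leaf (⟨1, 0, 11223, 0, 11223, 0, 34944⟩, .base)) (.leaf (⟨0, 0, 34944, 0, 34944, 1, 34944⟩, .dfn))) (.node (.leaf (⟨1, 6, 20368, 0, 27520, 6, 34944⟩, .mul 249 247)) (.leaf (⟨0, 0, 34944, 0, 34944, 1, 34944⟩, .dfn)))))))) (.node (.node (.node (.node (.node (.node (.leaf (⟨1, 0, 21693, 0, 21693, 0, 34944⟩, .base))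 (.leaf (⟨1, 6, 28896, 0, 21744, 6, 34944⟩, .mul 238 239))) (.node (.leaf (⟨1, 1, 43200, 0, 35048, 1, 34944⟩, .mul 47 3)) (.leaf (⟨0, 0, 34944, 0, 34944, 1, 34944⟩, .dfn)))) (.node (.node (.leaf (⟨1, 1, 44224, 0, 35045, 1, 34944⟩, .mul 69 3)) (.leaf (⟨0, 0, 34944, 0, 34944, 1, 34944⟩, .dfn))) (.node (.leaf (⟨0, 2, 34944, 0, 34944, 5, 34944⟩, .dfn)) (.leaf (⟨0, 0, 34944, 0, 34944, 1, 34944⟩, .dfn))))) (.node (.node (.node (.leaf (⟨1, 1, 61628, 0, 23801, 1, 34944⟩, .mul 37 7)) (.leaf (⟨0, 0, 34944, 0, 34944, 1, 34944⟩, .dfn))) (.node (.leaf (⟨1, 4, 35491, 0, 44269, 4, 34944⟩, .sync ⟨9, 163, 306⟩)) (.leaf (⟨0, 0, 34944, 0, 34944, 1, 34944⟩, .dfn)))) (.node (.node (.leaf (⟨1, 2, 35526, 0, 35525, 2, 34944⟩, .mul 90 90)) (.leaf (⟨0, 0, 34944, 0, 34944, 1, 34944⟩, .dfn))) (.node (.leaf (⟨1, 5, 44160, 0, 34950,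 5, 34944⟩, .mul 229 204)) (.leaf (⟨0, 0, 34944, 0, 34944, 1, 34944⟩, .dfn)))))) (.node (.node (.node (.node (.leaf (⟨1, 1, 44165, 0, 44165, 1, 34944⟩, .mul 3 7)) (.leaf (⟨1, 0, 11087, 0, 11087, 0, 34944⟩, .base))) (.node (.leaf (⟨1, 3, 23436, 0, 31968, 3, 34944⟩, .mul 149 136)) (.leaf (⟨0, 0, 34944, 0, 34944, 1, 34944⟩, .dfn)))) (.node (.node (.leaf (⟨1, 2, 35552, 0, 35266, 2, 34944⟩, .sync ⟨85, 83, 944⟩)) (.leaf (⟨0, 0, 34944, 0, 34944, 1, 34944⟩, .dfn))) (.node (.leaf (⟨0, 5, 14181, 0, 59102, 4, 29450⟩, .fill 4 1 2 [34944, 45423, 34944, 65536, 54904] 2 34944 [⟨106, 198, 0⟩] [⟨102, 171, 404⟩])) (.leaf (⟨0, 0, 34944, 0, 34944, 1, 34944⟩, .dfn))))) (.node (.node (.node (.leaf (⟨1, 1, 20621, 0, 40128, 1, 34944⟩, .mul 5 3)) (.leaf (⟨0, 0, 34944, 0, 34944, 1, 34944⟩, .dfn))) (.node (.leaf (⟨1, 4, 51872,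 0, 35048, 4, 34944⟩, .mul 181 165)) (.leaf (⟨0, 0, 34944, 0, 34944, 1, 34944⟩, .dfn)))) (.node (.node (.leaf (⟨1, 2, 52129, 0, 21421, 2, 34944⟩, .mul 117 90)) (.leaf (⟨0, 0, 34944, 0, 34944, 1, 34944⟩, .dfn))) (.node (.leaf (⟨0, 6, 52375, 1, 23794, 5, 11223⟩, .fill 6 3 6 [11223] 5 34944 [⟨213, 243, 881⟩, ⟨240, 245, 435⟩] [])) (.leaf (⟨0, 0, 34944, 0, 34944, 1, 34944⟩, .dfn))))))) (.node (.node (.node (.node (.node (.leaf (⟨1, 1, 59557, 0, 60584, 1, 34944⟩, .mul 13 5)) (.leaf (⟨1, 6, 11792, 0, 59776, 6, 34944⟩, .mul 256 238))) (.node (.leaf (⟨1, 3, 53890, 0, 61584, 3, 34944⟩, .mul 141 136)) (.leaf (⟨0, 0, 34944, 0, 34944, 1, 34944⟩, .dfn)))) (.node (.node (.leaf (⟨1, 1, 62712, 0, 30852, 1, 34944⟩, .mul 77 5)) (.leaf (⟨0, 0, 34944, 0, 34944, 1, 34944⟩, .dfn))) (.node (.leaf (⟨1, 5, 22720, 0, 22664, 5,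 34944⟩, .mul 202 204)) (.leaf (⟨0, 0, 34944, 0, 34944, 1, 34944⟩, .dfn))))) (.node (.node (.node (.leaf (⟨1, 0, 59118, 0, 59118, 0, 34944⟩, .base)) (.leaf (⟨0, 0, 34944, 0, 34944, 1, 34944⟩, .dfn))) (.node (.leaf (⟨0, 3, 52352, 1, 21721, 4, 26578⟩, .fill 6 5 4 [54904, 65537, 11223] 1 34944 [⟨26, 132, 0⟩] [⟨3, 163, 1116⟩])) (.leaf (⟨0, 0, 34944, 0, 34944, 1, 34944⟩, .dfn)))) (.node (.node (.leaf (⟨1, 2, 53705, 0, 23271, 2, 34944⟩, .mul 98 86)) (.leaf (⟨0, 0, 34944, 0, 34944, 1, 34944⟩, .dfn))) (.node (.leaf (⟨1, 6, 54512, 0, 31952, 6, 34944⟩, .sync ⟨146, 236, 815⟩)) (.leaf (⟨0, 0, 34944, 0, 34944, 1, 34944⟩, .dfn)))))) (.node (.node (.node (.node (.leaf (⟨1, 1, 28809, 0, 47320, 1, 34944⟩, .mul 29 3)) (.leaf (⟨0, 0, 34944, 0, 34944, 1, 34944⟩, .dfn))) (.node (.leaf (⟨0, 3, 27399, 0, 26112, 3, 26556⟩, .fill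 8 1 2 [34944, 58874, 34944, 65536, 54904, 65537, 11825] 1 34944 [⟨26, 132, 0⟩] [⟨57, 28, 498⟩, ⟨26, 132, 1109⟩])) (.leaf (⟨0, 0, 34944, 0, 34944, 1, 34944⟩, .dfn)))) (.node (.node (.leaf (⟨1, 2, 23460, 0, 54187, 2, 34944⟩, .mul 86 88)) (.leaf (⟨0, 0, 34944, 0, 34944, 1, 34944⟩, .dfn))) (.node (.leaf (⟨1, 5, 61664, 0, 53376, 5, 34944⟩, .mul 221 204)) (.leaf (⟨0, 0, 34944, 0, 34944, 1, 34944⟩, .dfn))))) (.node (.node (.node (.leaf (⟨1, 1, 22660, 0, 62704, 1, 34944⟩, .mul 61 3)) (.leaf (⟨0, 0, 34944, 0, 34944, 1, 34944⟩, .dfn))) (.node (.leaf (⟨1, 4, 35234, 0, 34972, 4, 34944⟩, .mul 170 167)) (.leaf (⟨0, 0, 34944, 0, 34944, 1, 34944⟩, .dfn)))) (.node (.node (.leaf (⟨1, 2, 20972, 0, 51683, 2, 34944⟩, .mul 120 88)) (.leaf (⟨0, 0, 34944, 0, 34944, 1, 34944⟩, .dfn))) (.node (.leaf (⟨1, 6, 34944, 0, 34944, 6,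 34944⟩, .unit)) (.leaf (⟨0, 0, 34944, 0, 34944, 1, 34944⟩, .dfn)))))))))) (.node (.node (.node (.node (.node (.node (.node (.node (.leaf (⟨0, 1, 34944, 0, 34944, 0, 34944⟩, .inv 0)) (.leaf (⟨1, 6, 12176, 0, 31680, 6, 34944⟩, .mul 256 239))) (.node (.leaf (⟨1, 2, 23201, 0, 54220, 2, 34944⟩, .mul 128 88)) (.leaf (⟨0, 0, 34944, 0, 34944, 1, 34944⟩, .dfn)))) (.node (.node (.leaf (⟨1, 1, 28849, 0, 39161, 1, 34944⟩, .mul 64 7)) (.leaf (⟨0, 0, 34944, 0, 34944, 1, 34944⟩, .dfn))) (.node (.leaf (⟨1, 2, 22924, 0, 53477, 2, 34944⟩, .mul 130 90)) (.leaf (⟨0, 0, 34944, 0, 34944, 1, 34944⟩, .dfn))))) (.node (.node (.node (.leaf (⟨1, 1, 53436, 0, 23793, 1, 34944⟩, .mul 32 3)) (.leaf (⟨0, 0, 34944, 0, 34944, 1, 34944⟩, .dfn))) (.node (.leaf (⟨1, 3, 23428, 0, 30960, 3, 34944⟩, .mul 160 137)) (.leaf (⟨0, 0, 34944, 0,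 34944, 1, 34944⟩, .dfn)))) (.node (.node (.leaf (⟨1, 2, 22980, 0, 53993, 2, 34944⟩, .mul 94 86)) (.leaf (⟨0, 0, 34944, 0, 34944, 1, 34944⟩, .dfn))) (.node (.leaf (⟨1, 5, 34960, 0, 34946, 5, 34944⟩, .mul 220 200)) (.leaf (⟨0, 0, 34944, 0, 34944, 1, 34944⟩, .dfn)))))) (.node (.node (.node (.node (.leaf (⟨1, 1, 61597, 0, 23753, 1, 34944⟩, .mul 9 5)) (.leaf (⟨1, 6, 56656, 0, 20112, 6, 34944⟩, .mul 270 247))) (.node (.leaf (⟨1, 3, 52102, 0, 47328, 3, 34944⟩, .mul 144 137)) (.leaf (⟨0, 0, 34944, 0, 34944, 1, 34944⟩, .dfn)))) (.node (.node (.leaf (⟨1, 1, 28868, 0, 48312, 1, 34944⟩, .mul 55 3)) (.leaf (⟨0, 0, 34944, 0, 34944, 1, 34944⟩, .dfn))) (.node (.leaf (⟨1, 5, 36032, 0, 35208, 5, 34944⟩, .mul 202 202)) (.leaf (⟨0, 0, 34944, 0, 34944, 1, 34944⟩, .dfn))))) (.node (.node (.node (.leaf (⟨1, 1, 23761, 0, 53404,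 1, 34944⟩, .mul 48 3)) (.leaf (⟨0, 0, 34944, 0, 34944, 1, 34944⟩, .dfn))) (.node (.leaf (⟨0, 4, 39861, 1, 21721, 4, 52155⟩, .fill 2 0 2 [39044, 34960, 65537, 34960] 1 34048 [⟨26, 163, 180⟩] [⟨3, 163, 551⟩])) (.leaf (⟨0, 0, 34944, 0, 34944, 1, 34944⟩, .dfn)))) (.node (.node (.leaf (⟨1, 2, 54244, 0, 22959, 2, 34944⟩, .mul 93 88)) (.leaf (⟨0, 0, 34944, 0, 34944, 1, 34944⟩, .dfn))) (.node (.leaf (⟨0, 6, 34946, 0, 40128, 6, 34978⟩, .fill 0 0 2 [51360, 34946, 65536, 34946] 3 34944 [⟨154, 236, 0⟩] [⟨137, 236, 1201⟩])) (.leaf (⟨0, 0, 34944, 0, 34944, 1, 34944⟩, .dfn))))))) (.node (.node (.node (.node (.node (.leaf (⟨1, 1, 36037, 0, 44269, 1, 34944⟩, .mul 3 3)) (.leaf (⟨1, 6, 52096, 0, 18352, 6, 34944⟩, .mul 264 239))) (.node (.leaf (⟨1, 3, 51330, 0, 40128, 3, 34944⟩, .sync ⟨54, 132, 1100⟩)) (.leaf (⟨0, 0, 34944,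 0, 34944, 1, 34944⟩, .dfn)))) (.node (.node (.leaf (⟨1, 1, 48377, 0, 28852, 1, 34944⟩, .mul 72 5)) (.leaf (⟨0, 0, 34944, 0, 34944, 1, 34944⟩, .dfn))) (.node (.leaf (⟨1, 2, 20644, 0, 52110, 2, 34944⟩, .mul 131 86)) (.leaf (⟨0, 0, 34944, 0, 34944, 1, 34944⟩, .dfn))))) (.node (.node (.node (.leaf (⟨1, 1, 52473, 0, 59612, 1, 34944⟩, .mul 40 3)) (.leaf (⟨0, 0, 34944, 0, 34944, 1, 34944⟩, .dfn))) (.node (.leaf (⟨1, 4, 35296, 0, 20716, 4, 34944⟩, .sync ⟨82, 163, 957⟩)) (.leaf (⟨0, 0, 34944, 0, 34944, 1, 34944⟩, .dfn)))) (.node (.node (.leaf (⟨0, 2, 34960, 1, 52187, 2, 53720⟩, .fill 2 0 2 [39044, 34960, 65537, 34960] 0 34944 [⟨23, 83, 0⟩] [⟨104, 83, 332⟩])) (.leaf (⟨0, 0, 34944, 0, 34944, 1, 34944⟩, .dfn))) (.node (.leaf (⟨1, 5, 52400, 0, 21382, 5, 34944⟩, .mul 210 204)) (.leaf (⟨0, 0, 34944, 0, 34944, 1, 34944⟩,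 .dfn)))))) (.node (.node (.node (.node (.leaf (⟨0, 1, 34946, 0, 31898, 1, 21723⟩, .fill 0 0 2 [51360, 34946, 65536, 34946] 0 34944 [⟨23, 0, 0⟩] [⟨24, 0, 250⟩])) (.leaf (⟨1, 0, 36710, 0, 36710, 0, 34944⟩, .base))) (.node (.leaf (⟨0, 3, 34960, 1, 44273, 3, 39568⟩, .fill 2 0 2 [39044, 34960, 65537, 34960] 1 34944 [⟨26, 132, 0⟩] [⟨76, 132, 1488⟩])) (.leaf (⟨0, 0, 34944, 0, 34944, 1, 34944⟩, .dfn)))) (.node (.node (.leaf (⟨1, 0, 39855, 0, 39855, 0, 34944⟩, .base)) (.leaf (⟨0, 0, 34944, 0, 34944, 1, 34944⟩, .dfn))) (.node (.leaf (⟨1, 5, 30960, 0, 23428, 5, 34944⟩, .mul 207 204)) (.leaf (⟨0, 0, 34944, 0, 34944, 1, 34944⟩, .dfn))))) (.node (.node (.node (.leaf (⟨1, 1, 61624, 0, 30953, 1, 34944⟩, .mul 56 3)) (.leaf (⟨0, 0, 34944, 0, 34944, 1, 34944⟩, .dfn))) (.node (.leaf (⟨1, 4, 35817, 0, 28812, 4, 34944⟩, .mul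 184 168)) (.leaf (⟨0, 0, 34944, 0, 34944, 1, 34944⟩, .dfn)))) (.node (.node (.leaf (⟨1, 0, 50637, 0, 50637, 0, 34944⟩, .base)) (.leaf (⟨0, 0, 34944, 0, 34944, 1, 34944⟩, .dfn))) (.node (.leaf (⟨1, 6, 39360, 0, 24144, 6, 34944⟩, .mul 248 238)) (.leaf (⟨0, 0, 34944, 0, 34944, 1, 34944⟩, .dfn)))))))) (.node (.node (.node (.node (.node (.node (.leaf (⟨1, 1, 62697, 0, 30869, 1, 34944⟩, .sync ⟨4, 0, 761⟩)) (.leaf (⟨1, 6, 52496, 0, 11920, 6, 34944⟩, .mul 260 238))) (.node (.leaf (⟨0, 3, 34944, 1, 34944, 1, 34944⟩, .inv 132)) (.leaf (⟨0, 0, 34944, 0, 34944, 1, 34944⟩, .dfn)))) (.node (.node (.leaf (⟨1, 1, 39097, 0, 28881, 1, 34944⟩, .mul 68 7)) (.leaf (⟨0, 0, 34944, 0, 34944, 1, 34944⟩, .dfn))) (.node (.leaf (⟨1, 4, 51944, 0, 21656, 4, 34944⟩, .mul 192 165)) (.leaf (⟨0, 0, 34944, 0, 34944, 1, 34944⟩, .dfn)))))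 (.node (.node (.node (.leaf (⟨1, 1, 20689, 0, 39089, 1, 34944⟩, .mul 36 3)) (.leaf (⟨0, 0, 34944, 0, 34944, 1, 34944⟩, .dfn))) (.node (.leaf (⟨1, 4, 52128, 0, 35049, 4, 34944⟩, .sync ⟨11, 163, 95⟩)) (.leaf (⟨0, 0, 34944, 0, 34944, 1, 34944⟩, .dfn)))) (.node (.node (.leaf (⟨1, 2, 39405, 0, 39401, 2, 34944⟩, .mul 91 88)) (.leaf (⟨0, 0, 34944, 0, 34944, 1, 34944⟩, .dfn))) (.node (.leaf (⟨1, 5, 28880, 0, 39820, 5, 34944⟩, .mul 200 202)) (.leaf (⟨0, 0, 34944, 0, 34944, 1, 34944⟩, .dfn)))))) (.node (.node (.node (.node (.leaf (⟨1, 1, 22729, 0, 61584, 1, 34944⟩, .mul 20 7)) (.leaf (⟨1, 6, 14320, 0, 48064, 6, 34944⟩, .mul 264 247))) (.node (.leaf (⟨1, 3, 51846, 0, 47280, 3, 34944⟩, .mul 148 136)) (.leaf (⟨0, 0, 34944, 0, 34944, 1, 34944⟩, .dfn)))) (.node (.node (.leaf (⟨1, 0, 35266, 0, 35266, 0, 34944⟩, .base))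 (.leaf (⟨0, 0, 34944, 0, 34944, 1, 34944⟩, .dfn))) (.node (.leaf (⟨1, 5, 34944, 0, 34944, 5, 34944⟩, .unit)) (.leaf (⟨0, 0, 34944, 0, 34944, 1, 34944⟩, .dfn))))) (.node (.node (.node (.leaf (⟨1, 0, 54904, 0, 54904, 0, 34944⟩, .base)) (.leaf (⟨0, 0, 34944, 0, 34944, 1, 34944⟩, .dfn))) (.node (.leaf (⟨1, 4, 35200, 0, 34945, 4, 34944⟩, .mul 165 165)) (.leaf (⟨0, 0, 34944, 0, 34944, 1, 34944⟩, .dfn)))) (.node (.node (.leaf (⟨1, 2, 22661, 0, 53386, 2, 34944⟩, .mul 88 86)) (.leaf (⟨0, 0, 34944, 0, 34944, 1, 34944⟩, .dfn))) (.node (.leaf (⟨0, 6, 55265, 1, 43527, 6, 39317⟩, .fill 6 1 2 [34944, 60544, 34944, 65537, 54904] 5 34944 [⟨213, 243, 881⟩] [⟨200, 243, 603⟩])) (.leaf (⟨0, 0, 34944, 0, 34944, 1, 34944⟩, .dfn))))))) (.node (.node (.node (.node (.node (.leaf (⟨1, 1, 39096, 0, 28865, 1, 34944⟩, .mul 12 3))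 (.leaf (⟨1, 6, 60160, 0, 26416, 6, 34944⟩, .mul 262 247))) (.node (.leaf (⟨1, 3, 20870, 0, 52432, 3, 34944⟩, .mul 140 136)) (.leaf (⟨0, 0, 34944, 0, 34944, 1, 34944⟩, .dfn)))) (.node (.node (.leaf (⟨1, 1, 34961, 0, 34961, 1, 34944⟩, .mul 58 5)) (.leaf (⟨0, 0, 34944, 0, 34944, 1, 34944⟩, .dfn))) (.node (.leaf (⟨1, 5, 51408, 0, 20876, 5, 34944⟩, .mul 200 204)) (.leaf (⟨0, 0, 34944, 0, 34944, 1, 34944⟩, .dfn))))) (.node (.node (.node (.leaf (⟨1, 0, 27399, 0, 27399, 0, 34944⟩, .base)) (.leaf (⟨0, 0, 34944, 0, 34944, 1, 34944⟩, .dfn))) (.node (.leaf (⟨1, 4, 34944, 0, 34944, 4, 34944⟩, .unit)) (.leaf (⟨0, 0, 34944, 0, 34944, 1, 34944⟩, .dfn)))) (.node (.node (.leaf (⟨1, 2, 39597, 0, 39880, 2, 34944⟩, .mul 108 88)) (.leaf (⟨0, 0, 34944, 0, 34944, 1, 34944⟩, .dfn))) (.node (.leaf (⟨0, 6, 34944, 0, 34944, 3,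 34944⟩, .inv 236)) (.leaf (⟨0, 0, 34944, 0, 34944, 1, 34944⟩, .dfn)))))) (.node (.node (.node (.node (.leaf (⟨1, 1, 54509, 0, 23693, 1, 34944⟩, .mul 12 5)) (.leaf (⟨0, 0, 34944, 0, 34944, 1, 34944⟩, .dfn))) (.node (.leaf (⟨1, 3, 51844, 0, 47264, 3, 34944⟩, .mul 142 138)) (.leaf (⟨0, 0, 34944, 0, 34944, 1, 34944⟩, .dfn)))) (.node (.node (.leaf (⟨1, 2, 23177, 0, 53442, 2, 34944⟩, .mul 92 90)) (.leaf (⟨0, 0, 34944, 0, 34944, 1, 34944⟩, .dfn))) (.node (.leaf (⟨1, 5, 51360, 0, 21390, 5, 34944⟩, .mul 220 202)) (.leaf (⟨0, 0, 34944, 0, 34944, 1, 34944⟩, .dfn))))) (.node (.node (.node (.leaf (⟨1, 1, 59616, 0, 51400, 1, 34944⟩, .mul 60 7)) (.leaf (⟨0, 0, 34944, 0, 34944, 1, 34944⟩, .dfn))) (.node (.leaf (⟨1, 4, 51842, 0, 35061, 4, 34944⟩, .mul 167 166)) (.leaf (⟨0, 0, 34944, 0, 34944, 1, 34944⟩, .dfn)))) (.node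 (.node (.leaf (⟨1, 2, 35298, 0, 35298, 2, 34944⟩, .mul 124 88)) (.leaf (⟨0, 0, 34944, 0, 34944, 1, 34944⟩, .dfn))) (.node (.leaf (⟨1, 6, 42800, 0, 62304, 6, 34944⟩, .mul 252 247)) (.leaf (⟨0, 0, 34944, 0, 34944, 1, 34944⟩, .dfn))))))))) (.node (.node (.node (.node (.node (.node (.node (.leaf (⟨1, 1, 47292, 0, 21721, 1, 34944⟩, .sync ⟨2, 0, 1154⟩)) (.leaf (⟨1, 6, 42416, 0, 47680, 6, 34944⟩, .mul 247 238))) (.node (.leaf (⟨1, 2, 21188, 0, 51916, 2, 34944⟩, .mul 96 90)) (.leaf (⟨0, 0, 34944, 0, 34944, 1, 34944⟩, .dfn)))) (.node (.node (.leaf (⟨1, 1, 52448, 0, 51405, 1, 34944⟩, .mul 21 3)) (.leaf (⟨0, 0, 34944, 0, 34944, 1, 34944⟩, .dfn))) (.node (.leaf (⟨1, 2, 53706, 0, 23268, 2, 34944⟩, .mul 96 86)) (.leaf (⟨0, 0, 34944, 0, 34944, 1, 34944⟩, .dfn))))) (.node (.node (.node (.leaf (⟨1, 1, 28824, 0, 47305,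 1, 34944⟩, .mul 34 5)) (.leaf (⟨0, 0, 34944, 0, 34944, 1, 34944⟩, .dfn))) (.node (.leaf (⟨0, 1, 36710, 1, 34944, 4, 34944⟩, .dfn)) (.leaf (⟨0, 0, 34944, 0, 34944, 1, 34944⟩, .dfn)))) (.node (.node (.leaf (⟨1, 2, 21191, 0, 51919, 2, 34944⟩, .mul 98 90)) (.leaf (⟨0, 0, 34944, 0, 34944, 1, 34944⟩, .dfn))) (.node (.leaf (⟨1, 5, 30928, 0, 22662, 5, 34944⟩, .mul 226 200)) (.leaf (⟨0, 0, 34944, 0, 34944, 1, 34944⟩, .dfn)))))) (.node (.node (.node (.node (.leaf (⟨1, 1, 30932, 0, 62617, 1, 34944⟩, .mul 15 3)) (.leaf (⟨1, 6, 59776, 0, 11792, 6, 34944⟩, .mul 248 247))) (.node (.leaf (⟨1, 3, 53642, 0, 62640, 3, 34944⟩, .mul 136 137)) (.leaf (⟨0, 0, 34944, 0, 34944, 1, 34944⟩, .dfn)))) (.node (.node (.leaf (⟨0, 0, 34944, 1, 34944, 2, 34944⟩, .dfn)) (.leaf (⟨0, 0, 34944, 0, 34944, 1, 34944⟩, .dfn))) (.node (.leaf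 (⟨1, 5, 52432, 0, 20870, 5, 34944⟩, .mul 202 200)) (.leaf (⟨0, 0, 34944, 0, 34944, 1, 34944⟩, .dfn))))) (.node (.node (.node (.leaf (⟨1, 1, 31948, 0, 54421, 1, 34944⟩, .mul 50 7)) (.leaf (⟨0, 0, 34944, 0, 34944, 1, 34944⟩, .dfn))) (.node (.leaf (⟨1, 4, 35457, 0, 44272, 4, 34944⟩, .mul 165 167)) (.leaf (⟨0, 0, 34944, 0, 34944, 1, 34944⟩, .dfn)))) (.node (.node (.leaf (⟨1, 0, 60726, 0, 60726, 0, 34944⟩, .base)) (.leaf (⟨0, 0, 34944, 0, 34944, 1, 34944⟩, .dfn))) (.node (.leaf (⟨0, 5, 35559, 1, 34084, 6, 14881⟩, .inv 242)) (.leaf (⟨0, 0, 34944, 0, 34944, 1, 34944⟩, .dfn))))))) (.node (.node (.node (.node (.node (.leaf (⟨1, 1, 43216, 0, 35049, 1, 34944⟩, .mul 10 7)) (.leaf (⟨1, 6, 60560, 0, 47296, 6, 34944⟩, .mul 239 238))) (.node (.leaf (⟨1, 3, 54150, 0, 54480, 3, 34944⟩, .mul 137 138)) (.leaf (⟨0, 0, 34944,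 0, 34944, 1, 34944⟩, .dfn)))) (.node (.node (.leaf (⟨1, 1, 48300, 0, 21717, 1, 34944⟩, .mul 74 7)) (.leaf (⟨0, 0, 34944, 0, 34944, 1, 34944⟩, .dfn))) (.node (.leaf (⟨1, 2, 39144, 0, 39310, 2, 34944⟩, .mul 196 90)) (.leaf (⟨0, 0, 34944, 0, 34944, 1, 34944⟩, .dfn))))) (.node (.node (.node (.leaf (⟨1, 0, 34659, 0, 34659, 0, 34944⟩, .base)) (.leaf (⟨0, 0, 34944, 0, 34944, 1, 34944⟩, .dfn))) (.node (.leaf (⟨0, 2, 27399, 0, 58664, 4, 26130⟩, .fill 8 1 2 [34944, 58874, 34944, 65536, 54904, 65537, 11825] 0 34944 [⟨23, 83, 0⟩] [⟨43, 0, 1211⟩, ⟨58, 163, 419⟩])) (.leaf (⟨0, 0, 34944, 0, 34944, 1, 34944⟩, .dfn)))) (.node (.node (.leaf (⟨0, 2, 59957, 1, 59118, 2, 31043⟩, .fill 6 1 2 [34944, 60544, 34944, 65537, 54904] 0 34944 [⟨23, 83, 0⟩] [⟨46, 83, 1196⟩])) (.leaf (⟨0, 0, 34944, 0, 34944, 1, 34944⟩, .dfn))) (.node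 (.leaf (⟨1, 5, 52416, 0, 20868, 5, 34944⟩, .mul 234 200)) (.leaf (⟨0, 0, 34944, 0, 34944, 1, 34944⟩, .dfn)))))) (.node (.node (.node (.node (.leaf (⟨1, 0, 56861, 0, 56861, 0, 34944⟩, .base)) (.leaf (⟨1, 0, 59854, 0, 59854, 0, 34944⟩, .base))) (.node (.leaf (⟨0, 3, 59957, 1, 30869, 3, 29942⟩, .fill 6 1 2 [34944, 60544, 34944, 65537, 54904] 1 34944 [⟨26, 132, 0⟩] [⟨5, 132, 1285⟩])) (.leaf (⟨0, 0, 34944, 0, 34944, 1, 34944⟩, .dfn)))) (.node (.node (.leaf (⟨1, 2, 51586, 0, 20716, 2, 34944⟩, .mul 88 90)) (.leaf (⟨0, 0, 34944, 0, 34944, 1, 34944⟩, .dfn))) (.node (.leaf (⟨1, 5, 21648, 0, 39560, 5, 34944⟩, .mul 218 200)) (.leaf (⟨0, 0, 34944, 0, 34944, 1, 34944⟩, .dfn))))) (.node (.node (.node (.leaf (⟨1, 1, 60652, 0, 52437, 1, 34944⟩, .mul 58 3)) (.leaf (⟨0, 0, 34944, 0, 34944, 1, 34944⟩, .dfn))) (.node (.leaf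 (⟨1, 4, 52192, 0, 20617, 4, 34944⟩, .mul 186 165)) (.leaf (⟨0, 0, 34944, 0, 34944, 1, 34944⟩, .dfn)))) (.node (.node (.leaf (⟨1, 2, 21230, 0, 51651, 2, 34944⟩, .mul 95 86)) (.leaf (⟨0, 0, 34944, 0, 34944, 1, 34944⟩, .dfn))) (.node (.leaf (⟨1, 6, 31952, 0, 54512, 6, 34944⟩, .mul 238 238)) (.leaf (⟨0, 0, 34944, 0, 34944, 1, 34944⟩, .dfn)))))))) (.node (.node (.node (.node (.node (.node (.leaf (⟨1, 1, 40172, 0, 21693, 1, 34944⟩, .sync ⟨6, 0, 172⟩)) (.leaf (⟨1, 6, 36624, 0, 22384, 6, 34944⟩, .mul 239 247))) (.node (.leaf (⟨1, 1, 39149, 0, 21664, 1, 34944⟩, .mul 134 3)) (.leaf (⟨0, 0, 34944, 0, 34944, 1, 34944⟩, .dfn)))) (.node (.node (.leaf (⟨1, 1, 52420, 0, 60669, 1, 34944⟩, .mul 10 5)) (.leaf (⟨0, 0, 34944, 0, 34944, 1, 34944⟩, .dfn))) (.node (.leaf (⟨0, 5, 34944, 0, 34944, 2, 34944⟩, .inv 198)) (.leaf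 (⟨0, 0, 34944, 0, 34944, 1, 34944⟩, .dfn))))) (.node (.node (.node (.leaf (⟨1, 1, 21705, 0, 47293, 1, 34944⟩, .mul 38 3)) (.leaf (⟨0, 0, 34944, 0, 34944, 1, 34944⟩, .dfn))) (.node (.leaf (⟨1, 4, 51361, 0, 44184, 4, 34944⟩, .sync ⟨12, 163, 1317⟩)) (.leaf (⟨0, 0, 34944, 0, 34944, 1, 34944⟩, .dfn)))) (.node (.node (.leaf (⟨1, 2, 23491, 0, 53934, 2, 34944⟩, .mul 102 88)) (.leaf (⟨0, 0, 34944, 0, 34944, 1, 34944⟩, .dfn))) (.node (.leaf (⟨1, 5, 53472, 0, 53388, 5, 34944⟩, .mul 230 200)) (.leaf (⟨0, 0, 34944, 0, 34944, 1, 34944⟩, .dfn)))))) (.node (.node (.node (.node (.leaf (⟨1, 0, 34944, 0, 34944, 0, 34944⟩, .base)) (.leaf (⟨1, 0, 30672, 0, 30672, 0, 34944⟩, .base))) (.node (.leaf (⟨1, 3, 39822, 0, 28864, 3, 34944⟩, .mul 144 136)) (.leaf (⟨0, 0, 34944, 0, 34944, 1, 34944⟩, .dfn)))) (.node (.node (.leaf (⟨1,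 0, 53704, 0, 53704, 0, 34944⟩, .base)) (.leaf (⟨0, 0, 34944, 0, 34944, 1, 34944⟩, .dfn))) (.node (.leaf (⟨0, 4, 29450, 0, 29971, 5, 14181⟩, .inv 214)) (.leaf (⟨0, 0, 34944, 0, 34944, 1, 34944⟩, .dfn))))) (.node (.node (.node (.leaf (⟨1, 1, 54449, 0, 22780, 1, 34944⟩, .mul 54 3)) (.leaf (⟨0, 0, 34944, 0, 34944, 1, 34944⟩, .dfn))) (.node (.leaf (⟨1, 4, 35561, 0, 28813, 4, 34944⟩, .mul 168 165)) (.leaf (⟨0, 0, 34944, 0, 34944, 1, 34944⟩, .dfn)))) (.node (.node (.leaf (⟨1, 2, 39055, 0, 39051, 2, 34944⟩, .mul 118 88)) (.leaf (⟨0, 0, 34944, 0, 34944, 1, 34944⟩, .dfn))) (.node (.leaf (⟨1, 6, 18224, 0, 61200, 6, 34944⟩, .close 2 0 34944 [⟨240, 246, 1501⟩, ⟨204, 243, 785⟩, ⟨240, 244, 456⟩])) (.leaf (⟨0, 0, 34944, 0, 34944, 1, 34944⟩, .dfn))))))) (.node (.node (.node (.node (.node (.leaf (⟨1, 1, 51361, 0, 51376,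 1, 34944⟩, .mul 3 5)) (.leaf (⟨1, 6, 39104, 0, 59520, 6, 34944⟩, .mul 262 238))) (.node (.leaf (⟨1, 3, 20616, 0, 60560, 3, 34944⟩, .mul 139 136)) (.leaf (⟨0, 0, 34944, 0, 34944, 1, 34944⟩, .dfn)))) (.node (.node (.leaf (⟨1, 1, 21708, 0, 40125, 1, 34944⟩, .mul 78 7)) (.leaf (⟨0, 0, 34944, 0, 34944, 1, 34944⟩, .dfn))) (.node (.leaf (⟨1, 5, 40112, 0, 51840, 5, 34944⟩, .mul 204 200)) (.leaf (⟨0, 0, 34944, 0, 34944, 1, 34944⟩, .dfn))))) (.node (.node (.node (.leaf (⟨1, 1, 40121, 0, 28892, 1, 34944⟩, .mul 22 3)) (.leaf (⟨0, 0, 34944, 0, 34944, 1, 34944⟩, .dfn))) (.node (.leaf (⟨0, 4, 26578, 1, 28837, 3, 52352⟩, .inv 174)) (.leaf (⟨0, 0, 34944, 0, 34944, 1, 34944⟩, .dfn)))) (.node (.node (.leaf (⟨1, 2, 20708, 0, 51598, 2, 34944⟩, .mul 110 90)) (.leaf (⟨0, 0, 34944, 0, 34944, 1, 34944⟩, .dfn))) (.node (.leaf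 (⟨1, 6, 47296, 0, 60560, 6, 34944⟩, .sync ⟨143, 236, 1382⟩)) (.leaf (⟨0, 0, 34944, 0, 34944, 1, 34944⟩, .dfn)))))) (.node (.node (.node (.node (.leaf (⟨1, 1, 62645, 0, 31972, 1, 34944⟩, .mul 30 3)) (.leaf (⟨0, 0, 34944, 0, 34944, 1, 34944⟩, .dfn))) (.node (.leaf (⟨1, 3, 51338, 0, 39120, 3, 34944⟩, .mul 150 136)) (.leaf (⟨0, 0, 34944, 0, 34944, 1, 34944⟩, .dfn)))) (.node (.node (.leaf (⟨1, 2, 20622, 0, 51329, 2, 34944⟩, .mul 90 88)) (.leaf (⟨0, 0, 34944, 0, 34944, 1, 34944⟩, .dfn))) (.node (.leaf (⟨1, 5, 31936, 0, 22670, 5, 34944⟩, .mul 222 200)) (.leaf (⟨0, 0, 34944, 0, 34944, 1, 34944⟩, .dfn))))) (.node (.node (.node (.leaf (⟨1, 1, 21673, 0, 47357, 1, 34944⟩, .mul 17 3)) (.leaf (⟨0, 0, 34944, 0, 34944, 1, 34944⟩, .dfn))) (.node (.leaf (⟨1, 4, 35713, 0, 44273, 4, 34944⟩, .mul 167 165)) (.leaf (⟨0, 0,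 34944, 0, 34944, 1, 34944⟩, .dfn)))) (.node (.node (.leaf (⟨1, 2, 39368, 0, 39661, 2, 34944⟩, .mul 90 86)) (.leaf (⟨0, 0, 34944, 0, 34944, 1, 34944⟩, .dfn))) (.node (.leaf (⟨1, 6, 63344, 0, 34608, 6, 34944⟩, .mul 251 247)) (.leaf (⟨0, 0, 34944, 0, 34944, 1, 34944⟩, .dfn)))))))))))

/-- definitions -/
def defsFive0 : List (ℕ × ℕ × ℕ) := [(0, 34944, 0), (0, 34944, 1), (1, 34944, 1), (1, 36710, 1), (2, 34944, 0), (3, 34944, 0)]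

/-- number of facts -/
def nFive0 : ℕ := 284

/-- values of the loops -/
def valsFive0 : List ℕ := [45423, 60544, 58874]

/-- witnesses of completeness -/
def coverFive0 : List (List (List (ℕ × ℕ))) := [[[(23, 0), (24, 0), (43, 0), (46, 0), (53, 0), (85, 0), (44, 0), (278, 0), (104, 0), (116, 0), (27, 0), (45, 0), (279, 0), (280, 0)],
  [(26, 1), (26, 25), (57, 28), (33, 28), (39, 28), (66, 28), (26, 28), (47, 28), (70, 28), (75, 28), (42, 28), (62, 28), (67, 28), (52, 28)],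
  [(106, 198), (95, 198), (101, 171), (90, 171), (90, 198), (94, 198), (100, 171), (194, 171), (86, 198), (98, 198), (102, 171), (106, 171), (120, 198), (88, 198)],
  [(154, 236), (137, 236), (151, 158), (136, 158), (151, 236), (152, 236), (159, 158), (142, 158), (144, 236), (148, 236), (144, 158), (154, 158), (138, 236), (136, 236)],
  [(191, 215), (184, 215), (173, 172), (173, 176), (197, 215), (189, 215), (173, 180), (183, 180), (167, 215), (190, 215), (165, 180), (168, 180), (173, 215), (170, 215)],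
  [(213, 199), (213, 212), (231, 214), (213, 216), (219, 214), (211, 216), (213, 214), (206, 216), (232, 214), (204, 216), (223, 214), (200, 216), (233, 214), (207, 216)],
  [(254, 237), (254, 241), (247, 237), (247, 241), (268, 237), (268, 241), (256, 237), (256, 241), (255, 237), (255, 241), (272, 237), (272, 241), (248, 237), (248, 241)]],
[[(23, 83), (104, 83), (281, 83), (53, 83), (121, 83), (282, 83), (45, 83), (116, 83), (283, 83), (122, 83), (114, 83), (115, 83), (46, 83), (44, 83)],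
  [(26, 132), (76, 132), (26, 163), (3, 163), (7, 132), (8, 132), (54, 163), (5, 163), (12, 132), (3, 132), (58, 163), (15, 163), (5, 132), (16, 132)],
  [(106, 84), (106, 105), (126, 107), (95, 107), (103, 107), (129, 107), (125, 107), (106, 107), (100, 107), (112, 107), (101, 107), (119, 107), (113, 107), (109, 107)],
  [(154, 133), (154, 153), (151, 174), (156, 155), (154, 174), (138, 155), (138, 174), (154, 155), (142, 174), (157, 155), (161, 174), (162, 155), (137, 174), (139, 155)],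
  [(173, 164), (173, 177), (182, 175), (170, 175), (165, 175), (187, 175), (182, 178), (185, 178), (173, 178), (168, 178), (166, 175), (179, 175), (188, 175), (173, 175)],
  [(213, 243), (205, 243), (228, 224), (227, 224), (209, 243), (211, 243), (213, 224), (235, 224), (204, 243), (229, 243), (208, 224), (231, 224), (200, 243), (202, 243)],
  [(250, 242), (258, 244), (269, 244), (251, 242), (261, 244), (277, 242), (254, 242), (253, 244), (276, 242), (266, 244), (254, 244), (273, 242), (274, 244), (260, 242)]]]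

/-- the involutions in the model -/
def invFive0 : List (List ℕ) := [[9, 4, 2, 8, 24], [4, 2, 1, 26, 16]]

/-- words for generators of the model group -/
def genFive0 : List (List ℕ) := [[34945],
  [34960],
  [34976],
  [35008],
  [62593, 65536, 52187, 65537, 52187, 65537, 65536],
  [47287, 65536, 13813, 52187, 52187],
  [30860, 65536, 13813, 65536],
  [44205, 65536, 52187, 13813, 65536],
  [23031, 65537, 52187],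
  [34946],
  [35200],
  [35456],
  [24117, 65537, 13813],
  [34948],
  [35968],
  [39040],
  [47736, 65537, 52187, 13813, 13813],
  [34952],
  [43136],
  [51328]]

/-- the facts -/
def factsFive1 : Tree (Fct × Why) :=
  (.node (.node (.node (.node (.node (.node (.node (.node (.node (.leaf (⟨0, 0, 34944, 0, 34944, 1, 34944⟩, .dfn)) (.leaf (⟨1, 6, 13184, 0, 39840, 6, 34944⟩, .mul 255 244))) (.node (.leaf (⟨1, 2, 35045, 0, 35204, 2, 34944⟩, .mul 127 90)) (.leaf (⟨0, 0, 34944, 0, 34944, 1, 34944⟩, .dfn)))) (.node (.node (.leaf (⟨1, 1, 53460, 0, 31921, 1, 34944⟩, .mul 63 3)) (.leaf (⟨0, 0, 34944, 0, 34944, 1, 34944⟩, .dfn))) (.node (.leaf (⟨1, 2, 53731, 0, 23016, 2, 34944⟩, .mul 191 88)) (.leaf (⟨0, 0, 34944, 0, 34944, 1, 34944⟩, .dfn))))) (.node (.node (.node (.leaf (⟨1, 1, 21632, 0, 39117, 1, 34944⟩, .mul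 31 7)) (.leaf (⟨0, 0, 34944, 0, 34944, 1, 34944⟩, .dfn))) (.node (.leaf (⟨1, 3, 21126, 0, 52448, 3, 34944⟩, .mul 147 136)) (.leaf (⟨0, 0, 34944, 0, 34944, 1, 34944⟩, .dfn)))) (.node (.node (.leaf (⟨1, 2, 54186, 0, 23462, 2, 34944⟩, .mul 95 90)) (.leaf (⟨0, 0, 34944, 0, 34944, 1, 34944⟩, .dfn))) (.node (.leaf (⟨1, 5, 30928, 0, 22662, 5, 34944⟩, .mul 223 197)) (.leaf (⟨0, 0, 34944, 0, 34944, 1, 34944⟩, .dfn)))))) (.node (.node (.node (.node (.leaf (⟨1, 1, 31892, 0, 62708, 1, 34944⟩, .mul 15 7)) (.leaf (⟨1, 6, 21152, 0, 15712, 6, 34944⟩, .mul 267 235))) (.node (.leaf (⟨1, 3, 35460, 0, 44272, 3, 34944⟩, .mul 136 136)) (.leaf (⟨0, 0, 34944, 0, 34944, 1, 34944⟩, .dfn)))) (.node (.node (.leaf (⟨1, 1, 47256, 0, 28905, 1, 34944⟩, .mul 79 5)) (.leaf (⟨0, 0, 34944, 0, 34944, 1, 34944⟩, .dfn))) (.node (.leaf (⟨1,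 5, 52432, 0, 20870, 5, 34944⟩, .mul 199 197)) (.leaf (⟨0, 0, 34944, 0, 34944, 1, 34944⟩, .dfn))))) (.node (.node (.node (.leaf (⟨1, 1, 60580, 0, 60597, 1, 34944⟩, .mul 47 5)) (.leaf (⟨0, 0, 34944, 0, 34944, 1, 34944⟩, .dfn))) (.node (.leaf (⟨0, 4, 34303, 0, 35978, 4, 50677⟩, .fill 8 3 4 [27399, 65537, 34944, 58729, 34944] 1 34946 [⟨26, 25, 0⟩, ⟨3, 163, 719⟩] [⟨54, 163, 693⟩])) (.leaf (⟨0, 0, 34944, 0, 34944, 1, 34944⟩, .dfn)))) (.node (.node (.leaf (⟨1, 2, 51884, 0, 21446, 2, 34944⟩, .mul 111 88)) (.leaf (⟨0, 0, 34944, 0, 34944, 1, 34944⟩, .dfn))) (.node (.leaf (⟨0, 5, 35044, 1, 34103, 6, 14881⟩, .inv 239)) (.leaf (⟨0, 0, 34944, 0, 34944, 1, 34944⟩, .dfn))))))) (.node (.node (.node (.node (.node (.leaf (⟨1, 1, 21725, 0, 40108, 1, 34944⟩, .mul 5 7)) (.leaf (⟨1, 6, 11984, 0, 52512, 6, 34944⟩, .mul 257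 235))) (.node (.leaf (⟨1, 3, 39304, 0, 21664, 3, 34944⟩, .sync ⟨135, 132, 1163⟩)) (.leaf (⟨0, 0, 34944, 0, 34944, 1, 34944⟩, .dfn)))) (.node (.node (.leaf (⟨1, 1, 20636, 0, 40145, 1, 34944⟩, .mul 71 5)) (.leaf (⟨0, 0, 34944, 0, 34944, 1, 34944⟩, .dfn))) (.node (.leaf (⟨1, 2, 39144, 0, 39310, 2, 34944⟩, .mul 194 90)) (.leaf (⟨0, 0, 34944, 0, 34944, 1, 34944⟩, .dfn))))) (.node (.node (.node (.leaf (⟨1, 1, 22736, 0, 53377, 1, 34944⟩, .mul 14 3)) (.leaf (⟨0, 0, 34944, 0, 34944, 1, 34944⟩, .dfn))) (.node (.leaf (⟨1, 4, 51689, 0, 28905, 4, 34944⟩, .sync ⟨80, 163, 774⟩)) (.leaf (⟨0, 0, 34944, 0, 34944, 1, 34944⟩, .dfn)))) (.node (.node (.leaf (⟨1, 0, 52187, 0, 52187, 0, 34944⟩, .base)) (.leaf (⟨0, 0, 34944, 0, 34944, 1, 34944⟩, .dfn))) (.node (.leaf (⟨1, 5, 52416, 0, 20868, 5, 34944⟩, .mul 231 197)) (.leaf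 (⟨0, 0, 34944, 0, 34944, 1, 34944⟩, .dfn)))))) (.node (.node (.node (.node (.leaf (⟨1, 0, 31898, 0, 31898, 0, 34944⟩, .base)) (.leaf (⟨0, 0, 34944, 0, 34944, 1, 34944⟩, .dfn))) (.node (.leaf (⟨1, 3, 21130, 0, 60640, 3, 34944⟩, .mul 144 138)) (.leaf (⟨0, 0, 34944, 0, 34944, 1, 34944⟩, .dfn)))) (.node (.node (.leaf (⟨1, 2, 23269, 0, 53704, 2, 34944⟩, .sync ⟨87, 83, 775⟩)) (.leaf (⟨0, 0, 34944, 0, 34944, 1, 34944⟩, .dfn))) (.node (.leaf (⟨1, 5, 21648, 0, 39560, 5, 34944⟩, .mul 215 197)) (.leaf (⟨0, 0, 34944, 0, 34944, 1, 34944⟩, .dfn))))) (.node (.node (.node (.leaf (⟨1, 1, 29828, 0, 48341, 1, 34944⟩, .mul 55 7)) (.leaf (⟨0, 0, 34944, 0, 34944, 1, 34944⟩, .dfn))) (.node (.leaf (⟨1, 4, 52098, 0, 35060, 4, 34944⟩, .mul 166 167)) (.leaf (⟨0, 0, 34944, 0, 34944, 1, 34944⟩, .dfn)))) (.node (.node (.leaf (⟨1,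 2, 39307, 0, 39150, 2, 34944⟩, .mul 86 90)) (.leaf (⟨0, 0, 34944, 0, 34944, 1, 34944⟩, .dfn))) (.node (.leaf (⟨1, 6, 62928, 0, 52800, 6, 34944⟩, .mul 244 235)) (.leaf (⟨0, 0, 34944, 0, 34944, 1, 34944⟩, .dfn)))))))) (.node (.node (.node (.node (.node (.node (.leaf (⟨1, 0, 30869, 0, 30869, 0, 34944⟩, .base)) (.leaf (⟨1, 6, 34768, 0, 54144, 6, 34944⟩, .mul 259 244))) (.node (.leaf (⟨0, 1, 34944, 1, 34944, 3, 34944⟩, .dfn)) (.leaf (⟨0, 0, 34944, 0, 34944, 1, 34944⟩, .dfn)))) (.node (.node (.leaf (⟨1, 1, 36052, 0, 44284, 1, 34944⟩, .mul 18 5)) (.leaf (⟨0, 0, 34944, 0, 34944, 1, 34944⟩, .dfn))) (.node (.leaf (⟨0, 5, 34944, 0, 34944, 2, 34944⟩, .inv 195)) (.leaf (⟨0, 0, 34944, 0, 34944, 1, 34944⟩, .dfn))))) (.node (.node (.node (.leaf (⟨1, 1, 62628, 0, 31989, 1, 34944⟩, .mul 35 3)) (.leaf (⟨0, 0, 34944, 0,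 34944, 1, 34944⟩, .dfn))) (.node (.leaf (⟨0, 4, 34944, 1, 34944, 1, 36710⟩, .inv 163)) (.leaf (⟨0, 0, 34944, 0, 34944, 1, 34944⟩, .dfn)))) (.node (.node (.leaf (⟨1, 2, 52174, 0, 21156, 2, 34944⟩, .mul 99 88)) (.leaf (⟨0, 0, 34944, 0, 34944, 1, 34944⟩, .dfn))) (.node (.leaf (⟨1, 5, 53472, 0, 53388, 5, 34944⟩, .mul 227 197)) (.leaf (⟨0, 0, 34944, 0, 34944, 1, 34944⟩, .dfn)))))) (.node (.node (.node (.node (.leaf (⟨1, 1, 60669, 0, 52420, 1, 34944⟩, .mul 19 3)) (.leaf (⟨1, 0, 36710, 0, 36710, 0, 34944⟩, .base))) (.node (.leaf (⟨1, 3, 22914, 0, 23696, 3, 34944⟩, .mul 136 138)) (.leaf (⟨0, 0, 34944, 0, 34944, 1, 34944⟩, .dfn)))) (.node (.node (.leaf (⟨0, 2, 34944, 1, 34944, 0, 34944⟩, .inv 83)) (.leaf (⟨0, 0, 34944, 0, 34944, 1, 34944⟩, .dfn))) (.node (.leaf (⟨0, 4, 29001, 0, 29971, 5, 14181⟩, .inv 211)) (.leaf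 (⟨0, 0, 34944, 0, 34944, 1, 34944⟩, .dfn))))) (.node (.node (.node (.leaf (⟨1, 1, 59621, 0, 60616, 1, 34944⟩, .mul 51 3)) (.leaf (⟨0, 0, 34944, 0, 34944, 1, 34944⟩, .dfn))) (.node (.leaf (⟨0, 4, 14305, 0, 20352, 4, 14972⟩, .fill 8 3 4 [27399, 65537, 34944, 58729, 34944] 1 34048 [⟨57, 28, 1120⟩, ⟨15, 163, 1443⟩] [⟨54, 163, 970⟩])) (.leaf (⟨0, 0, 34944, 0, 34944, 1, 34944⟩, .dfn)))) (.node (.node (.leaf (⟨1, 0, 43612, 0, 43612, 0, 34944⟩, .base)) (.leaf (⟨0, 0, 34944, 0, 34944, 1, 34944⟩, .dfn))) (.node (.leaf (⟨1, 6, 43888, 0, 29456, 6, 34944⟩, .close 2 0 34944 [⟨237, 242, 546⟩, ⟨237, 243, 218⟩, ⟨201, 240, 728⟩])) (.leaf (⟨0, 0, 34944, 0, 34944, 1, 34944⟩, .dfn))))))) (.node (.node (.node (.node (.node (.leaf (⟨1, 1, 43140, 0, 44184, 1, 34944⟩, .mul 7 3)) (.leaf (⟨1, 6, 28896, 0, 21744, 6, 34944⟩, .mul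 235 236))) (.node (.leaf (⟨1, 3, 53386, 0, 62688, 3, 34944⟩, .mul 138 136)) (.leaf (⟨0, 0, 34944, 0, 34944, 1, 34944⟩, .dfn)))) (.node (.node (.leaf (⟨1, 1, 35028, 0, 44273, 1, 34944⟩, .mul 7 7)) (.leaf (⟨0, 0, 34944, 0, 34944, 1, 34944⟩, .dfn))) (.node (.leaf (⟨1, 5, 40112, 0, 51840, 5, 34944⟩, .mul 201 197)) (.leaf (⟨0, 0, 34944, 0, 34944, 1, 34944⟩, .dfn))))) (.node (.node (.node (.leaf (⟨1, 0, 13813, 0, 13813, 0, 34944⟩, .base)) (.leaf (⟨0, 0, 34944, 0, 34944, 1, 34944⟩, .dfn))) (.node (.leaf (⟨0, 4, 26241, 0, 58648, 2, 27399⟩, .inv 171)) (.leaf (⟨0, 0, 34944, 0, 34944, 1, 34944⟩, .dfn)))) (.node (.node (.leaf (⟨1, 2, 51425, 0, 20876, 2, 34944⟩, .mul 97 90)) (.leaf (⟨0, 0, 34944, 0, 34944, 1, 34944⟩, .dfn))) (.node (.leaf (⟨1, 6, 47296, 0, 60560, 6, 34944⟩, .sync ⟨143, 233, 1382⟩)) (.leaf (⟨0, 0,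 34944, 0, 34944, 1, 34944⟩, .dfn)))))) (.node (.node (.node (.node (.leaf (⟨0, 1, 14181, 0, 56861, 1, 27232⟩, .fill 4 1 2 [34944, 45423, 34944, 65536, 54904] 0 34944 [⟨23, 0, 0⟩] [⟨27, 0, 477⟩])) (.leaf (⟨0, 0, 34944, 0, 34944, 1, 34944⟩, .dfn))) (.node (.leaf (⟨1, 3, 22662, 0, 30928, 3, 34944⟩, .mul 151 138)) (.leaf (⟨0, 0, 34944, 0, 34944, 1, 34944⟩, .dfn)))) (.node (.node (.leaf (⟨1, 2, 52194, 0, 20910, 2, 34944⟩, .mul 91 86)) (.leaf (⟨0, 0, 34944, 0, 34944, 1, 34944⟩, .dfn))) (.node (.leaf (⟨1, 5, 31936, 0, 22670, 5, 34944⟩, .mul 219 197)) (.leaf (⟨0, 0, 34944, 0, 34944, 1, 34944⟩, .dfn))))) (.node (.node (.node (.leaf (⟨1, 1, 23688, 0, 61677, 1, 34944⟩, .mul 59 3)) (.leaf (⟨0, 0, 34944, 0, 34944, 1, 34944⟩, .dfn))) (.node (.leaf (⟨1, 4, 35747, 0, 44268, 4, 34944⟩, .mul 181 166)) (.leaf (⟨0, 0, 34944,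 0, 34944, 1, 34944⟩, .dfn)))) (.node (.node (.leaf (⟨1, 2, 53641, 0, 22759, 2, 34944⟩, .mul 123 90)) (.leaf (⟨0, 0, 34944, 0, 34944, 1, 34944⟩, .dfn))) (.node (.leaf (⟨1, 6, 39392, 0, 24064, 6, 34944⟩, .mul 244 236)) (.leaf (⟨0, 0, 34944, 0, 34944, 1, 34944⟩, .dfn))))))))) (.node (.node (.node (.node (.node (.node (.node (.leaf (⟨1, 0, 21721, 0, 21721, 0, 34944⟩, .base)) (.leaf (⟨1, 6, 48640, 0, 34192, 6, 34944⟩, .mul 252 244))) (.node (.leaf (⟨1, 2, 51943, 0, 20937, 2, 34944⟩, .mul 95 88)) (.leaf (⟨0, 0, 34944, 0, 34944, 1, 34944⟩, .dfn)))) (.node (.node (.leaf (⟨1, 1, 62668, 0, 23733, 1, 34944⟩, .mul 65 3)) (.leaf (⟨0, 0, 34944, 0, 34944, 1, 34944⟩, .dfn))) (.node (.leaf (⟨1, 2, 35265, 0, 35555, 2, 34944⟩, .mul 193 88)) (.leaf (⟨0, 0, 34944, 0, 34944, 1, 34944⟩, .dfn))))) (.node (.node (.node (.leaf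 (⟨1, 1, 60608, 0, 51429, 1, 34944⟩, .mul 7 5)) (.leaf (⟨0, 0, 34944, 0, 34944, 1, 34944⟩, .dfn))) (.node (.leaf (⟨1, 3, 39052, 0, 28896, 3, 34944⟩, .mul 161 138)) (.leaf (⟨0, 0, 34944, 0, 34944, 1, 34944⟩, .dfn)))) (.node (.node (.leaf (⟨1, 2, 54185, 0, 23461, 2, 34944⟩, .mul 88 88)) (.leaf (⟨0, 0, 34944, 0, 34944, 1, 34944⟩, .dfn))) (.node (.leaf (⟨1, 5, 28880, 0, 39820, 5, 34944⟩, .mul 197 199)) (.leaf (⟨0, 0, 34944, 0, 34944, 1, 34944⟩, .dfn)))))) (.node (.node (.node (.node (.leaf (⟨1, 1, 31984, 0, 53412, 1, 34944⟩, .mul 17 5)) (.leaf (⟨1, 0, 30672, 0, 30672, 0, 34944⟩, .base))) (.node (.leaf (⟨1, 3, 22668, 0, 31952, 3, 34944⟩, .mul 145 136)) (.leaf (⟨0, 0, 34944, 0, 34944, 1, 34944⟩, .dfn)))) (.node (.node (.leaf (⟨1, 1, 40080, 0, 20716, 1, 34944⟩, .mul 81 5)) (.leaf (⟨0, 0, 34944, 0, 34944, 1,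 34944⟩, .dfn))) (.node (.leaf (⟨1, 5, 34944, 0, 34944, 5, 34944⟩, .unit)) (.leaf (⟨0, 0, 34944, 0, 34944, 1, 34944⟩, .dfn))))) (.node (.node (.node (.leaf (⟨1, 1, 51448, 0, 59585, 1, 34944⟩, .mul 49 3)) (.leaf (⟨0, 0, 34944, 0, 34944, 1, 34944⟩, .dfn))) (.node (.leaf (⟨0, 4, 13219, 1, 51376, 4, 28866⟩, .fill 6 3 2 [11223, 65537, 34944, 60544, 34944] 1 34048 [⟨26, 163, 180⟩] [⟨15, 163, 161⟩])) (.leaf (⟨0, 0, 34944, 0, 34944, 1, 34944⟩, .dfn)))) (.node (.node (.leaf (⟨1, 0, 14181, 0, 14181, 0, 34944⟩, .base)) (.leaf (⟨0, 0, 34944, 0, 34944, 1, 34944⟩, .dfn))) (.node (.leaf (⟨0, 6, 55192, 1, 43606, 6, 39340⟩, .fill 6 1 2 [34944, 60544, 34944, 65537, 54904] 5 34944 [⟨210, 240, 643⟩] [⟨197, 240, 1079⟩])) (.leaf (⟨0, 0, 34944, 0, 34944, 1, 34944⟩, .dfn))))))) (.node (.node (.node (.node (.node (.leaf (⟨1,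 1, 48360, 0, 28837, 1, 34944⟩, .mul 9 3)) (.leaf (⟨1, 6, 48032, 0, 14224, 6, 34944⟩, .mul 265 244))) (.node (.leaf (⟨1, 3, 21388, 0, 51376, 3, 34944⟩, .sync ⟨15, 132, 1087⟩)) (.leaf (⟨0, 0, 34944, 0, 34944, 1, 34944⟩, .dfn)))) (.node (.node (.leaf (⟨1, 1, 43201, 0, 35064, 1, 34944⟩, .mul 73 7)) (.leaf (⟨0, 0, 34944, 0, 34944, 1, 34944⟩, .dfn))) (.node (.leaf (⟨1, 5, 51408, 0, 20876, 5, 34944⟩, .mul 197 201)) (.leaf (⟨0, 0, 34944, 0, 34944, 1, 34944⟩, .dfn))))) (.node (.node (.node (.leaf (⟨1, 1, 31901, 0, 54500, 1, 34944⟩, .mul 41 3)) (.leaf (⟨0, 0, 34944, 0, 34944, 1, 34944⟩, .dfn))) (.node (.leaf (⟨1, 4, 51587, 0, 44164, 4, 34944⟩, .mul 165 166)) (.leaf (⟨0, 0, 34944, 0, 34944, 1, 34944⟩, .dfn)))) (.node (.node (.leaf (⟨1, 2, 34944, 0, 34944, 2, 34944⟩, .unit)) (.leaf (⟨0, 0, 34944, 0, 34944, 1, 34944⟩,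 .dfn))) (.node (.leaf (⟨0, 6, 34944, 0, 34944, 3, 34944⟩, .inv 233)) (.leaf (⟨0, 0, 34944, 0, 34944, 1, 34944⟩, .dfn)))))) (.node (.node (.node (.node (.leaf (⟨1, 1, 34944, 0, 34944, 1, 34944⟩, .unit)) (.leaf (⟨0, 0, 34944, 0, 34944, 1, 34944⟩, .dfn))) (.node (.leaf (⟨1, 3, 34944, 0, 34944, 3, 34944⟩, .unit)) (.leaf (⟨0, 0, 34944, 0, 34944, 1, 34944⟩, .dfn)))) (.node (.node (.leaf (⟨1, 2, 39848, 0, 39855, 2, 34944⟩, .sync ⟨89, 83, 1355⟩)) (.leaf (⟨0, 0, 34944, 0, 34944, 1, 34944⟩, .dfn))) (.node (.leaf (⟨1, 5, 51360, 0, 21390, 5, 34944⟩, .mul 217 199)) (.leaf (⟨0, 0, 34944, 0, 34944, 1, 34944⟩, .dfn))))) (.node (.node (.node (.leaf (⟨1, 1, 30917, 0, 62600, 1, 34944⟩, .mul 5 5)) (.leaf (⟨0, 0, 34944, 0, 34944, 1, 34944⟩, .dfn))) (.node (.leaf (⟨1, 4, 35040, 0, 20717, 4, 34944⟩, .mul 181 169)) (.leaf (⟨0,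 0, 34944, 0, 34944, 1, 34944⟩, .dfn)))) (.node (.node (.leaf (⟨1, 0, 11223, 0, 11223, 0, 34944⟩, .base)) (.leaf (⟨0, 0, 34944, 0, 34944, 1, 34944⟩, .dfn))) (.node (.leaf (⟨1, 6, 18160, 0, 32096, 6, 34944⟩, .mul 249 244)) (.leaf (⟨0, 0, 34944, 0, 34944, 1, 34944⟩, .dfn)))))))) (.node (.node (.node (.node (.node (.node (.leaf (⟨1, 0, 21693, 0, 21693, 0, 34944⟩, .base)) (.leaf (⟨1, 6, 13072, 0, 48928, 6, 34944⟩, .mul 261 244))) (.node (.leaf (⟨1, 1, 43200, 0, 35048, 1, 34944⟩, .mul 47 3)) (.leaf (⟨0, 0, 34944, 0, 34944, 1, 34944⟩, .dfn)))) (.node (.node (.leaf (⟨1, 1, 44224, 0, 35045, 1, 34944⟩, .mul 69 3)) (.leaf (⟨0, 0, 34944, 0, 34944, 1, 34944⟩, .dfn))) (.node (.leaf (⟨1, 2, 20644, 0, 52110, 2, 34944⟩, .mul 131 86)) (.leaf (⟨0, 0, 34944, 0, 34944, 1, 34944⟩, .dfn))))) (.node (.node (.node (.leaf (⟨1,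 1, 61628, 0, 23801, 1, 34944⟩, .mul 37 7)) (.leaf (⟨0, 0, 34944, 0, 34944, 1, 34944⟩, .dfn))) (.node (.leaf (⟨1, 4, 35491, 0, 44269, 4, 34944⟩, .sync ⟨9, 163, 306⟩)) (.leaf (⟨0, 0, 34944, 0, 34944, 1, 34944⟩, .dfn)))) (.node (.node (.leaf (⟨1, 2, 35526, 0, 35525, 2, 34944⟩, .mul 90 90)) (.leaf (⟨0, 0, 34944, 0, 34944, 1, 34944⟩, .dfn))) (.node (.leaf (⟨1, 5, 52400, 0, 21382, 5, 34944⟩, .mul 207 201)) (.leaf (⟨0, 0, 34944, 0, 34944, 1, 34944⟩, .dfn)))))) (.node (.node (.node (.node (.leaf (⟨1, 1, 44165, 0, 44165, 1, 34944⟩, .mul 3 7)) (.leaf (⟨1, 0, 59854, 0, 59854, 0, 34944⟩, .base))) (.node (.leaf (⟨1, 3, 23436, 0, 31968, 3, 34944⟩, .mul 149 136)) (.leaf (⟨0, 0, 34944, 0, 34944, 1, 34944⟩, .dfn)))) (.node (.node (.leaf (⟨1, 2, 35552, 0, 35266, 2, 34944⟩, .sync ⟨85, 83, 944⟩)) (.leaf (⟨0, 0, 34944, 0,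 34944, 1, 34944⟩, .dfn))) (.node (.leaf (⟨1, 5, 30960, 0, 23428, 5, 34944⟩, .mul 204 201)) (.leaf (⟨0, 0, 34944, 0, 34944, 1, 34944⟩, .dfn))))) (.node (.node (.node (.leaf (⟨1, 1, 20621, 0, 40128, 1, 34944⟩, .mul 5 3)) (.leaf (⟨0, 0, 34944, 0, 34944, 1, 34944⟩, .dfn))) (.node (.leaf (⟨1, 4, 51872, 0, 35048, 4, 34944⟩, .mul 181 165)) (.leaf (⟨0, 0, 34944, 0, 34944, 1, 34944⟩, .dfn)))) (.node (.node (.leaf (⟨1, 2, 52129, 0, 21421, 2, 34944⟩, .mul 117 90)) (.leaf (⟨0, 0, 34944, 0, 34944, 1, 34944⟩, .dfn))) (.node (.leaf (⟨1, 6, 38208, 0, 64128, 6, 34944⟩, .mul 245 235)) (.leaf (⟨0, 0, 34944, 0, 34944, 1, 34944⟩, .dfn))))))) (.node (.node (.node (.node (.node (.leaf (⟨1, 1, 59557, 0, 60584, 1, 34944⟩, .mul 13 5)) (.leaf (⟨1, 6, 52368, 0, 48336, 6, 34944⟩, .mul 269 235))) (.node (.leaf (⟨1, 3, 53890, 0, 61584,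 3, 34944⟩, .mul 141 136)) (.leaf (⟨0, 0, 34944, 0, 34944, 1, 34944⟩, .dfn)))) (.node (.node (.leaf (⟨1, 1, 62712, 0, 30852, 1, 34944⟩, .mul 77 5)) (.leaf (⟨0, 0, 34944, 0, 34944, 1, 34944⟩, .dfn))) (.node (.leaf (⟨1, 5, 36032, 0, 35208, 5, 34944⟩, .mul 199 199)) (.leaf (⟨0, 0, 34944, 0, 34944, 1, 34944⟩, .dfn))))) (.node (.node (.node (.leaf (⟨1, 0, 59118, 0, 59118, 0, 34944⟩, .base)) (.leaf (⟨0, 0, 34944, 0, 34944, 1, 34944⟩, .dfn))) (.node (.leaf (⟨0, 3, 52352, 1, 21721, 4, 26578⟩, .fill 6 5 4 [54904, 65537, 11223] 1 34944 [⟨26, 132, 0⟩] [⟨3, 163, 1116⟩])) (.leaf (⟨0, 0, 34944, 0, 34944, 1, 34944⟩, .dfn)))) (.node (.node (.leaf (⟨1, 2, 53705, 0, 23271, 2, 34944⟩, .mul 98 86)) (.leaf (⟨0, 0, 34944, 0, 34944, 1, 34944⟩, .dfn))) (.node (.leaf (⟨0, 6, 34946, 0, 40128, 6, 34978⟩, .fill 0 0 2 [51360, 34946,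 65536, 34946] 3 34944 [⟨154, 233, 0⟩] [⟨137, 233, 1201⟩])) (.leaf (⟨0, 0, 34944, 0, 34944, 1, 34944⟩, .dfn)))))) (.node (.node (.node (.node (.leaf (⟨1, 1, 28809, 0, 47320, 1, 34944⟩, .mul 29 3)) (.leaf (⟨0, 0, 34944, 0, 34944, 1, 34944⟩, .dfn))) (.node (.leaf (⟨0, 3, 27399, 0, 26112, 3, 26415⟩, .fill 8 1 2 [34944, 58729, 34944, 65536, 54904, 65537, 11825] 1 34944 [⟨26, 132, 0⟩] [⟨57, 28, 971⟩, ⟨26, 132, 1060⟩])) (.leaf (⟨0, 0, 34944, 0, 34944, 1, 34944⟩, .dfn)))) (.node (.node (.leaf (⟨1, 2, 23460, 0, 54187, 2, 34944⟩, .mul 86 88)) (.leaf (⟨0, 0, 34944, 0, 34944, 1, 34944⟩, .dfn))) (.node (.leaf (⟨1, 5, 34960, 0, 34946, 5, 34944⟩, .mul 217 197)) (.leaf (⟨0, 0, 34944, 0, 34944, 1, 34944⟩, .dfn))))) (.node (.node (.node (.leaf (⟨1, 1, 22660, 0, 62704, 1, 34944⟩, .mul 61 3)) (.leaf (⟨0, 0, 34944, 0, 34944,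 1, 34944⟩, .dfn))) (.node (.leaf (⟨1, 4, 35234, 0, 34972, 4, 34944⟩, .mul 170 167)) (.leaf (⟨0, 0, 34944, 0, 34944, 1, 34944⟩, .dfn)))) (.node (.node (.leaf (⟨1, 2, 20972, 0, 51683, 2, 34944⟩, .mul 120 88)) (.leaf (⟨0, 0, 34944, 0, 34944, 1, 34944⟩, .dfn))) (.node (.leaf (⟨1, 6, 31952, 0, 54512, 6, 34944⟩, .mul 235 235)) (.leaf (⟨0, 0, 34944, 0, 34944, 1, 34944⟩, .dfn)))))))))) (.node (.node (.node (.node (.node (.node (.node (.node (.leaf (⟨0, 1, 34944, 0, 34944, 0, 34944⟩, .inv 0)) (.leaf (⟨1, 6, 14704, 0, 29344, 6, 34944⟩, .mul 256 235))) (.node (.leaf (⟨1, 2, 23201, 0, 54220, 2, 34944⟩, .mul 128 88)) (.leaf (⟨0, 0, 34944, 0, 34944, 1, 34944⟩, .dfn)))) (.node (.node (.leaf (⟨1, 1, 28849, 0, 39161, 1, 34944⟩, .mul 64 7)) (.leaf (⟨0, 0, 34944, 0, 34944, 1, 34944⟩, .dfn))) (.node (.leaf (⟨1, 2, 53706,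 0, 23268, 2, 34944⟩, .mul 96 86)) (.leaf (⟨0, 0, 34944, 0, 34944, 1, 34944⟩, .dfn))))) (.node (.node (.node (.leaf (⟨1, 1, 53436, 0, 23793, 1, 34944⟩, .mul 32 3)) (.leaf (⟨0, 0, 34944, 0, 34944, 1, 34944⟩, .dfn))) (.node (.leaf (⟨1, 3, 23428, 0, 30960, 3, 34944⟩, .mul 160 137)) (.leaf (⟨0, 0, 34944, 0, 34944, 1, 34944⟩, .dfn)))) (.node (.node (.leaf (⟨1, 2, 22980, 0, 53993, 2, 34944⟩, .mul 94 86)) (.leaf (⟨0, 0, 34944, 0, 34944, 1, 34944⟩, .dfn))) (.node (.leaf (⟨1, 5, 21680, 0, 39306, 5, 34944⟩, .mul 218 197)) (.leaf (⟨0, 0, 34944, 0, 34944, 1, 34944⟩, .dfn)))))) (.node (.node (.node (.node (.leaf (⟨1, 1, 61597, 0, 23753, 1, 34944⟩, .mul 9 5)) (.leaf (⟨1, 0, 11087, 0, 11087, 0, 34944⟩, .base))) (.node (.leaf (⟨1, 3, 52102, 0, 47328, 3, 34944⟩, .mul 144 137)) (.leaf (⟨0, 0, 34944, 0, 34944, 1, 34944⟩,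 .dfn)))) (.node (.node (.leaf (⟨1, 1, 28868, 0, 48312, 1, 34944⟩, .mul 55 3)) (.leaf (⟨0, 0, 34944, 0, 34944, 1, 34944⟩, .dfn))) (.node (.leaf (⟨0, 5, 34946, 0, 51329, 5, 54487⟩, .fill 0 0 2 [51360, 34946, 65536, 34946] 2 34944 [⟨106, 195, 0⟩] [⟨95, 195, 50⟩])) (.leaf (⟨0, 0, 34944, 0, 34944, 1, 34944⟩, .dfn))))) (.node (.node (.node (.leaf (⟨1, 1, 23761, 0, 53404, 1, 34944⟩, .mul 48 3)) (.leaf (⟨0, 0, 34944, 0, 34944, 1, 34944⟩, .dfn))) (.node (.leaf (⟨0, 4, 39861, 1, 21721, 4, 52155⟩, .fill 2 0 2 [39044, 34960, 65537, 34960] 1 34048 [⟨26, 163, 180⟩] [⟨3, 163, 551⟩])) (.leaf (⟨0, 0, 34944, 0, 34944, 1, 34944⟩, .dfn)))) (.node (.node (.leaf (⟨1, 2, 54244, 0, 22959, 2, 34944⟩, .mul 93 88)) (.leaf (⟨0, 0, 34944, 0, 34944, 1, 34944⟩, .dfn))) (.node (.leaf (⟨0, 6, 58728, 1, 47309, 6, 20227⟩, .fill 8 7 4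 [54904, 65537, 11825, 65536, 27399] 3 34944 [⟨154, 233, 0⟩] [⟨156, 155, 1524⟩, ⟨152, 233, 559⟩])) (.leaf (⟨0, 0, 34944, 0, 34944, 1, 34944⟩, .dfn))))))) (.node (.node (.node (.node (.node (.leaf (⟨1, 1, 36037, 0, 44269, 1, 34944⟩, .mul 3 3)) (.leaf (⟨1, 6, 34624, 0, 63232, 6, 34944⟩, .mul 254 244))) (.node (.leaf (⟨1, 3, 51330, 0, 40128, 3, 34944⟩, .sync ⟨54, 132, 1100⟩)) (.leaf (⟨0, 0, 34944, 0, 34944, 1, 34944⟩, .dfn)))) (.node (.node (.leaf (⟨1, 1, 48377, 0, 28852, 1, 34944⟩, .mul 72 5)) (.leaf (⟨0, 0, 34944, 0, 34944, 1, 34944⟩, .dfn))) (.node (.leaf (⟨1, 5, 28832, 0, 39310, 5, 34944⟩, .sync ⟨200, 195, 1405⟩)) (.leaf (⟨0, 0, 34944, 0, 34944, 1, 34944⟩, .dfn))))) (.node (.node (.node (.leaf (⟨1, 1, 52473, 0, 59612, 1, 34944⟩, .mul 40 3)) (.leaf (⟨0, 0, 34944, 0, 34944, 1, 34944⟩, .dfn))) (.node (.leaf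 (⟨1, 4, 35296, 0, 20716, 4, 34944⟩, .sync ⟨82, 163, 957⟩)) (.leaf (⟨0, 0, 34944, 0, 34944, 1, 34944⟩, .dfn)))) (.node (.node (.leaf (⟨0, 2, 34960, 1, 52187, 2, 53720⟩, .fill 2 0 2 [39044, 34960, 65537, 34960] 0 34944 [⟨23, 83, 0⟩] [⟨104, 83, 332⟩])) (.leaf (⟨0, 0, 34944, 0, 34944, 1, 34944⟩, .dfn))) (.node (.leaf (⟨0, 3, 34944, 0, 34944, 6, 34944⟩, .dfn)) (.leaf (⟨0, 0, 34944, 0, 34944, 1, 34944⟩, .dfn)))))) (.node (.node (.node (.node (.leaf (⟨0, 1, 34946, 0, 31898, 1, 21723⟩, .fill 0 0 2 [51360, 34946, 65536, 34946] 0 34944 [⟨23, 0, 0⟩] [⟨24, 0, 250⟩])) (.leaf (⟨0, 0, 34944, 0, 34944, 1, 34944⟩, .dfn))) (.node (.leaf (⟨0, 3, 34960, 1, 44273, 3, 39568⟩, .fill 2 0 2 [39044, 34960, 65537, 34960] 1 34944 [⟨26, 132, 0⟩] [⟨76, 132, 1488⟩])) (.leaf (⟨0, 0, 34944, 0, 34944, 1, 34944⟩, .dfn)))) (.node (.node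 (.leaf (⟨1, 0, 39855, 0, 39855, 0, 34944⟩, .base)) (.leaf (⟨0, 0, 34944, 0, 34944, 1, 34944⟩, .dfn))) (.node (.leaf (⟨1, 5, 30912, 0, 22660, 5, 34944⟩, .mul 197 197)) (.leaf (⟨0, 0, 34944, 0, 34944, 1, 34944⟩, .dfn))))) (.node (.node (.node (.leaf (⟨1, 1, 61624, 0, 30953, 1, 34944⟩, .mul 56 3)) (.leaf (⟨0, 0, 34944, 0, 34944, 1, 34944⟩, .dfn))) (.node (.leaf (⟨1, 4, 35817, 0, 28812, 4, 34944⟩, .mul 184 168)) (.leaf (⟨0, 0, 34944, 0, 34944, 1, 34944⟩, .dfn)))) (.node (.node (.leaf (⟨1, 0, 50637, 0, 50637, 0, 34944⟩, .base)) (.leaf (⟨0, 0, 34944, 0, 34944, 1, 34944⟩, .dfn))) (.node (.leaf (⟨1, 6, 24064, 0, 39392, 6, 34944⟩, .mul 248 235)) (.leaf (⟨0, 0, 34944, 0, 34944, 1, 34944⟩, .dfn)))))))) (.node (.node (.node (.node (.node (.node (.leaf (⟨1, 1, 62697, 0, 30869, 1, 34944⟩, .sync ⟨4, 0, 761⟩)) (.leaf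 (⟨1, 6, 60560, 0, 47296, 6, 34944⟩, .mul 236 235))) (.node (.leaf (⟨0, 3, 34944, 1, 34944, 1, 34944⟩, .inv 132)) (.leaf (⟨0, 0, 34944, 0, 34944, 1, 34944⟩, .dfn)))) (.node (.node (.leaf (⟨1, 1, 39097, 0, 28881, 1, 34944⟩, .mul 68 7)) (.leaf (⟨0, 0, 34944, 0, 34944, 1, 34944⟩, .dfn))) (.node (.leaf (⟨1, 5, 62688, 0, 53386, 5, 34944⟩, .sync ⟨117, 195, 179⟩)) (.leaf (⟨0, 0, 34944, 0, 34944, 1, 34944⟩, .dfn))))) (.node (.node (.node (.leaf (⟨1, 1, 20689, 0, 39089, 1, 34944⟩, .mul 36 3)) (.leaf (⟨0, 0, 34944, 0, 34944, 1, 34944⟩, .dfn))) (.node (.leaf (⟨1, 4, 52128, 0, 35049, 4, 34944⟩, .sync ⟨11, 163, 95⟩)) (.leaf (⟨0, 0, 34944, 0, 34944, 1, 34944⟩, .dfn)))) (.node (.node (.leaf (⟨1, 2, 39405, 0, 39401, 2, 34944⟩, .mul 91 88)) (.leaf (⟨0, 0, 34944, 0, 34944, 1, 34944⟩, .dfn))) (.node (.leaf (⟨1, 5, 47264,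 0, 51844, 5, 34944⟩, .mul 206 199)) (.leaf (⟨0, 0, 34944, 0, 34944, 1, 34944⟩, .dfn)))))) (.node (.node (.node (.node (.leaf (⟨1, 1, 22729, 0, 61584, 1, 34944⟩, .mul 20 7)) (.leaf (⟨1, 0, 38868, 0, 38868, 0, 34944⟩, .base))) (.node (.leaf (⟨1, 3, 51846, 0, 47280, 3, 34944⟩, .mul 148 136)) (.leaf (⟨0, 0, 34944, 0, 34944, 1, 34944⟩, .dfn)))) (.node (.node (.leaf (⟨1, 0, 35266, 0, 35266, 0, 34944⟩, .base)) (.leaf (⟨0, 0, 34944, 0, 34944, 1, 34944⟩, .dfn))) (.node (.leaf (⟨0, 5, 18237, 0, 39855, 5, 15880⟩, .fill 4 5 4 [54904, 65536, 56861] 2 34944 [⟨106, 195, 0⟩] [⟨90, 195, 1138⟩])) (.leaf (⟨0, 0, 34944, 0, 34944, 1, 34944⟩, .dfn))))) (.node (.node (.node (.leaf (⟨1, 0, 54904, 0, 54904, 0, 34944⟩, .base)) (.leaf (⟨0, 0, 34944, 0, 34944, 1, 34944⟩, .dfn))) (.node (.leaf (⟨1, 4, 35200, 0, 34945, 4, 34944⟩,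 .mul 165 165)) (.leaf (⟨0, 0, 34944, 0, 34944, 1, 34944⟩, .dfn)))) (.node (.node (.leaf (⟨1, 2, 22661, 0, 53386, 2, 34944⟩, .mul 88 86)) (.leaf (⟨0, 0, 34944, 0, 34944, 1, 34944⟩, .dfn))) (.node (.leaf (⟨1, 6, 27616, 0, 20464, 6, 34944⟩, .mul 244 244)) (.leaf (⟨0, 0, 34944, 0, 34944, 1, 34944⟩, .dfn))))))) (.node (.node (.node (.node (.node (.leaf (⟨1, 1, 39096, 0, 28865, 1, 34944⟩, .mul 12 3)) (.leaf (⟨1, 6, 39104, 0, 59520, 6, 34944⟩, .mul 268 235))) (.node (.leaf (⟨1, 3, 20870, 0, 52432, 3, 34944⟩, .mul 140 136)) (.leaf (⟨0, 0, 34944, 0, 34944, 1, 34944⟩, .dfn)))) (.node (.node (.leaf (⟨1, 1, 34961, 0, 34961, 1, 34944⟩, .mul 58 5)) (.leaf (⟨0, 0, 34944, 0, 34944, 1, 34944⟩, .dfn))) (.node (.leaf (⟨1, 5, 40080, 0, 51586, 5, 34944⟩, .mul 203 201)) (.leaf (⟨0, 0, 34944, 0, 34944, 1, 34944⟩, .dfn)))))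 (.node (.node (.node (.leaf (⟨1, 0, 27399, 0, 27399, 0, 34944⟩, .base)) (.leaf (⟨0, 0, 34944, 0, 34944, 1, 34944⟩, .dfn))) (.node (.leaf (⟨1, 4, 34944, 0, 34944, 4, 34944⟩, .unit)) (.leaf (⟨0, 0, 34944, 0, 34944, 1, 34944⟩, .dfn)))) (.node (.node (.leaf (⟨1, 2, 39597, 0, 39880, 2, 34944⟩, .mul 108 88)) (.leaf (⟨0, 0, 34944, 0, 34944, 1, 34944⟩, .dfn))) (.node (.leaf (⟨1, 6, 31952, 0, 54512, 6, 34944⟩, .mul 235 235)) (.leaf (⟨0, 0, 34944, 0, 34944, 1, 34944⟩, .dfn)))))) (.node (.node (.node (.node (.leaf (⟨1, 1, 54509, 0, 23693, 1, 34944⟩, .mul 12 5)) (.leaf (⟨0, 0, 34944, 0, 34944, 1, 34944⟩, .dfn))) (.node (.leaf (⟨1, 3, 51844, 0, 47264, 3, 34944⟩, .mul 142 138)) (.leaf (⟨0, 0, 34944, 0, 34944, 1, 34944⟩, .dfn)))) (.node (.node (.leaf (⟨1, 2, 23177, 0, 53442, 2, 34944⟩, .mul 92 90)) (.leaf (⟨0, 0, 34944,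 0, 34944, 1, 34944⟩, .dfn))) (.node (.leaf (⟨0, 5, 14881, 1, 58894, 5, 60012⟩, .fill 8 3 2 [27399, 65537, 34944, 58729, 34944, 65536, 54904] 2 34944 [⟨106, 195, 0⟩] [⟨125, 107, 1166⟩, ⟨106, 195, 37⟩])) (.leaf (⟨0, 0, 34944, 0, 34944, 1, 34944⟩, .dfn))))) (.node (.node (.node (.leaf (⟨1, 1, 59616, 0, 51400, 1, 34944⟩, .mul 60 7)) (.leaf (⟨0, 0, 34944, 0, 34944, 1, 34944⟩, .dfn))) (.node (.leaf (⟨1, 4, 52170, 0, 21636, 4, 34944⟩, .mul 168 166)) (.leaf (⟨0, 0, 34944, 0, 34944, 1, 34944⟩, .dfn)))) (.node (.node (.leaf (⟨1, 2, 35298, 0, 35298, 2, 34944⟩, .mul 124 88)) (.leaf (⟨0, 0, 34944, 0, 34944, 1, 34944⟩, .dfn))) (.node (.leaf (⟨1, 6, 34944, 0, 34944, 6, 34944⟩, .unit)) (.leaf (⟨0, 0, 34944, 0, 34944, 1, 34944⟩, .dfn))))))))) (.node (.node (.node (.node (.node (.node (.node (.leaf (⟨1, 1, 47292, 0, 21721,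 1, 34944⟩, .sync ⟨2, 0, 1154⟩)) (.leaf (⟨1, 6, 32544, 0, 11120, 6, 34944⟩, .mul 236 244))) (.node (.leaf (⟨1, 2, 21188, 0, 51916, 2, 34944⟩, .mul 96 90)) (.leaf (⟨0, 0, 34944, 0, 34944, 1, 34944⟩, .dfn)))) (.node (.node (.leaf (⟨1, 1, 52448, 0, 51405, 1, 34944⟩, .mul 21 3)) (.leaf (⟨0, 0, 34944, 0, 34944, 1, 34944⟩, .dfn))) (.node (.leaf (⟨0, 2, 34944, 0, 34944, 5, 34944⟩, .dfn)) (.leaf (⟨0, 0, 34944, 0, 34944, 1, 34944⟩, .dfn))))) (.node (.node (.node (.leaf (⟨1, 1, 28824, 0, 47305, 1, 34944⟩, .mul 34 5)) (.leaf (⟨0, 0, 34944, 0, 34944, 1, 34944⟩, .dfn))) (.node (.leaf (⟨0, 1, 36710, 1, 34944, 4, 34944⟩, .dfn)) (.leaf (⟨0, 0, 34944, 0, 34944, 1, 34944⟩, .dfn)))) (.node (.node (.leaf (⟨1, 2, 21191, 0, 51919, 2, 34944⟩, .mul 98 90)) (.leaf (⟨0, 0, 34944, 0, 34944, 1, 34944⟩, .dfn))) (.node (.leaf (⟨1,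 5, 44160, 0, 34950, 5, 34944⟩, .mul 226 201)) (.leaf (⟨0, 0, 34944, 0, 34944, 1, 34944⟩, .dfn)))))) (.node (.node (.node (.node (.leaf (⟨1, 1, 30932, 0, 62617, 1, 34944⟩, .mul 15 3)) (.leaf (⟨1, 0, 51896, 0, 51896, 0, 34944⟩, .base))) (.node (.leaf (⟨1, 3, 53642, 0, 62640, 3, 34944⟩, .mul 136 137)) (.leaf (⟨0, 0, 34944, 0, 34944, 1, 34944⟩, .dfn)))) (.node (.node (.leaf (⟨0, 0, 34944, 1, 34944, 2, 34944⟩, .dfn)) (.leaf (⟨0, 0, 34944, 0, 34944, 1, 34944⟩, .dfn))) (.node (.leaf (⟨0, 5, 14181, 0, 59102, 4, 29001⟩, .fill 4 1 2 [34944, 45423, 34944, 65536, 54904] 2 34944 [⟨106, 195, 0⟩] [⟨102, 171, 404⟩])) (.leaf (⟨0, 0, 34944, 0, 34944, 1, 34944⟩, .dfn))))) (.node (.node (.node (.leaf (⟨1, 1, 31948, 0, 54421, 1, 34944⟩, .mul 50 7)) (.leaf (⟨0, 0, 34944, 0, 34944, 1, 34944⟩, .dfn))) (.node (.leaf (⟨1, 4,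 35457, 0, 44272, 4, 34944⟩, .mul 165 167)) (.leaf (⟨0, 0, 34944, 0, 34944, 1, 34944⟩, .dfn)))) (.node (.node (.leaf (⟨1, 0, 60726, 0, 60726, 0, 34944⟩, .base)) (.leaf (⟨0, 0, 34944, 0, 34944, 1, 34944⟩, .dfn))) (.node (.leaf (⟨0, 6, 52353, 1, 23780, 5, 11223⟩, .fill 6 3 6 [11223] 5 34944 [⟨210, 240, 643⟩, ⟨237, 242, 947⟩] [])) (.leaf (⟨0, 0, 34944, 0, 34944, 1, 34944⟩, .dfn))))))) (.node (.node (.node (.node (.node (.leaf (⟨1, 1, 43216, 0, 35049, 1, 34944⟩, .mul 10 7)) (.leaf (⟨1, 6, 60704, 0, 10944, 6, 34944⟩, .mul 266 235))) (.node (.leaf (⟨1, 3, 54150, 0, 54480, 3, 34944⟩, .mul 137 138)) (.leaf (⟨0, 0, 34944, 0, 34944, 1, 34944⟩, .dfn)))) (.node (.node (.leaf (⟨1, 1, 48300, 0, 21717, 1, 34944⟩, .mul 74 7)) (.leaf (⟨0, 0, 34944, 0, 34944, 1, 34944⟩, .dfn))) (.node (.leaf (⟨1, 5, 22720, 0, 22664, 5,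 34944⟩, .mul 199 201)) (.leaf (⟨0, 0, 34944, 0, 34944, 1, 34944⟩, .dfn))))) (.node (.node (.node (.leaf (⟨1, 0, 34659, 0, 34659, 0, 34944⟩, .base)) (.leaf (⟨0, 0, 34944, 0, 34944, 1, 34944⟩, .dfn))) (.node (.leaf (⟨0, 2, 27399, 0, 58664, 4, 26241⟩, .fill 8 1 2 [34944, 58729, 34944, 65536, 54904, 65537, 11825] 0 34944 [⟨23, 83, 0⟩] [⟨43, 0, 1462⟩, ⟨58, 163, 844⟩])) (.leaf (⟨0, 0, 34944, 0, 34944, 1, 34944⟩, .dfn)))) (.node (.node (.leaf (⟨0, 2, 59957, 1, 59118, 2, 31043⟩, .fill 6 1 2 [34944, 60544, 34944, 65537, 54904] 0 34944 [⟨23, 83, 0⟩] [⟨46, 83, 1196⟩])) (.leaf (⟨0, 0, 34944, 0, 34944, 1, 34944⟩, .dfn))) (.node (.leaf (⟨1, 6, 54512, 0, 31952, 6, 34944⟩, .sync ⟨146, 233, 815⟩)) (.leaf (⟨0, 0, 34944, 0, 34944, 1, 34944⟩, .dfn)))))) (.node (.node (.node (.node (.leaf (⟨1, 0, 56861, 0, 56861, 0, 34944⟩,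 .base)) (.leaf (⟨0, 0, 34944, 0, 34944, 1, 34944⟩, .dfn))) (.node (.leaf (⟨0, 3, 59957, 1, 30869, 3, 29942⟩, .fill 6 1 2 [34944, 60544, 34944, 65537, 54904] 1 34944 [⟨26, 132, 0⟩] [⟨5, 132, 1285⟩])) (.leaf (⟨0, 0, 34944, 0, 34944, 1, 34944⟩, .dfn)))) (.node (.node (.leaf (⟨1, 2, 51586, 0, 20716, 2, 34944⟩, .mul 88 90)) (.leaf (⟨0, 0, 34944, 0, 34944, 1, 34944⟩, .dfn))) (.node (.leaf (⟨1, 5, 61664, 0, 53376, 5, 34944⟩, .mul 218 201)) (.leaf (⟨0, 0, 34944, 0, 34944, 1, 34944⟩, .dfn))))) (.node (.node (.node (.leaf (⟨1, 1, 60652, 0, 52437, 1, 34944⟩, .mul 58 3)) (.leaf (⟨0, 0, 34944, 0, 34944, 1, 34944⟩, .dfn))) (.node (.leaf (⟨1, 4, 52192, 0, 20617, 4, 34944⟩, .mul 186 165)) (.leaf (⟨0, 0, 34944, 0, 34944, 1, 34944⟩, .dfn)))) (.node (.node (.leaf (⟨1, 2, 21230, 0, 51651, 2, 34944⟩, .mul 95 86)) (.leaf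 (⟨0, 0, 34944, 0, 34944, 1, 34944⟩, .dfn))) (.node (.leaf (⟨1, 6, 23008, 0, 18016, 6, 34944⟩, .mul 250 244)) (.leaf (⟨0, 0, 34944, 0, 34944, 1, 34944⟩, .dfn)))))))) (.node (.node (.node (.node (.node (.node (.leaf (⟨1, 1, 40172, 0, 21693, 1, 34944⟩, .sync ⟨6, 0, 172⟩)) (.leaf (⟨1, 6, 26352, 0, 31088, 6, 34944⟩, .mul 258 244))) (.node (.leaf (⟨1, 1, 39149, 0, 21664, 1, 34944⟩, .mul 134 3)) (.leaf (⟨0, 0, 34944, 0, 34944, 1, 34944⟩, .dfn)))) (.node (.node (.leaf (⟨1, 1, 52420, 0, 60669, 1, 34944⟩, .mul 10 5)) (.leaf (⟨0, 0, 34944, 0, 34944, 1, 34944⟩, .dfn))) (.node (.leaf (⟨1, 5, 48368, 0, 52110, 5, 34944⟩, .sync ⟨198, 195, 1273⟩)) (.leaf (⟨0, 0, 34944, 0, 34944, 1, 34944⟩, .dfn))))) (.node (.node (.node (.leaf (⟨1, 1, 21705, 0, 47293, 1, 34944⟩, .mul 38 3)) (.leaf (⟨0, 0, 34944, 0, 34944, 1, 34944⟩,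 .dfn))) (.node (.leaf (⟨1, 4, 51361, 0, 44184, 4, 34944⟩, .sync ⟨12, 163, 1317⟩)) (.leaf (⟨0, 0, 34944, 0, 34944, 1, 34944⟩, .dfn)))) (.node (.node (.leaf (⟨1, 2, 23491, 0, 53934, 2, 34944⟩, .mul 102 88)) (.leaf (⟨0, 0, 34944, 0, 34944, 1, 34944⟩, .dfn))) (.node (.leaf (⟨1, 5, 48352, 0, 52108, 5, 34944⟩, .mul 222 199)) (.leaf (⟨0, 0, 34944, 0, 34944, 1, 34944⟩, .dfn)))))) (.node (.node (.node (.node (.leaf (⟨1, 0, 34944, 0, 34944, 0, 34944⟩, .base)) (.leaf (⟨0, 0, 34944, 0, 34944, 1, 34944⟩, .dfn))) (.node (.leaf (⟨1, 3, 39822, 0, 28864, 3, 34944⟩, .mul 144 136)) (.leaf (⟨0, 0, 34944, 0, 34944, 1, 34944⟩, .dfn)))) (.node (.node (.leaf (⟨1, 0, 53704, 0, 53704, 0, 34944⟩, .base)) (.leaf (⟨0, 0, 34944, 0, 34944, 1, 34944⟩, .dfn))) (.node (.leaf (⟨1, 5, 51392, 0, 20878, 5, 34944⟩, .mul 214 199)) (.leaf (⟨0,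 0, 34944, 0, 34944, 1, 34944⟩, .dfn))))) (.node (.node (.node (.leaf (⟨1, 1, 54449, 0, 22780, 1, 34944⟩, .mul 54 3)) (.leaf (⟨0, 0, 34944, 0, 34944, 1, 34944⟩, .dfn))) (.node (.leaf (⟨1, 4, 35561, 0, 28813, 4, 34944⟩, .mul 168 165)) (.leaf (⟨0, 0, 34944, 0, 34944, 1, 34944⟩, .dfn)))) (.node (.node (.leaf (⟨1, 2, 39055, 0, 39051, 2, 34944⟩, .mul 118 88)) (.leaf (⟨0, 0, 34944, 0, 34944, 1, 34944⟩, .dfn))) (.node (.leaf (⟨1, 6, 56976, 0, 45392, 6, 34944⟩, .mul 246 235)) (.leaf (⟨0, 0, 34944, 0, 34944, 1, 34944⟩, .dfn))))))) (.node (.node (.node (.node (.node (.leaf (⟨1, 1, 51361, 0, 51376, 1, 34944⟩, .mul 3 5)) (.leaf (⟨1, 6, 62224, 0, 42816, 6, 34944⟩, .mul 270 244))) (.node (.leaf (⟨1, 3, 20616, 0, 60560, 3, 34944⟩, .mul 139 136)) (.leaf (⟨0, 0, 34944, 0, 34944, 1, 34944⟩, .dfn)))) (.node (.node (.leaf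 (⟨1, 1, 21708, 0, 40125, 1, 34944⟩, .mul 78 7)) (.leaf (⟨0, 0, 34944, 0, 34944, 1, 34944⟩, .dfn))) (.node (.leaf (⟨1, 5, 61584, 0, 53890, 5, 34944⟩, .mul 206 197)) (.leaf (⟨0, 0, 34944, 0, 34944, 1, 34944⟩, .dfn))))) (.node (.node (.node (.leaf (⟨1, 1, 40121, 0, 28892, 1, 34944⟩, .mul 22 3)) (.leaf (⟨0, 0, 34944, 0, 34944, 1, 34944⟩, .dfn))) (.node (.leaf (⟨0, 4, 26578, 1, 28837, 3, 52352⟩, .inv 174)) (.leaf (⟨0, 0, 34944, 0, 34944, 1, 34944⟩, .dfn)))) (.node (.node (.leaf (⟨1, 2, 20708, 0, 51598, 2, 34944⟩, .mul 110 90)) (.leaf (⟨0, 0, 34944, 0, 34944, 1, 34944⟩, .dfn))) (.node (.leaf (⟨0, 6, 14881, 1, 34103, 5, 35044⟩, .fill 8 3 2 [27399, 65537, 34944, 58729, 34944, 65536, 54904] 3 34944 [⟨154, 233, 0⟩] [⟨138, 174, 476⟩, ⟨173, 212, 785⟩])) (.leaf (⟨0, 0, 34944, 0, 34944, 1, 34944⟩, .dfn)))))) (.node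 (.node (.node (.node (.leaf (⟨1, 1, 62645, 0, 31972, 1, 34944⟩, .mul 30 3)) (.leaf (⟨0, 0, 34944, 0, 34944, 1, 34944⟩, .dfn))) (.node (.leaf (⟨1, 3, 51338, 0, 39120, 3, 34944⟩, .mul 150 136)) (.leaf (⟨0, 0, 34944, 0, 34944, 1, 34944⟩, .dfn)))) (.node (.node (.leaf (⟨1, 2, 20622, 0, 51329, 2, 34944⟩, .mul 90 88)) (.leaf (⟨0, 0, 34944, 0, 34944, 1, 34944⟩, .dfn))) (.node (.leaf (⟨1, 5, 62704, 0, 53384, 5, 34944⟩, .mul 222 197)) (.leaf (⟨0, 0, 34944, 0, 34944, 1, 34944⟩, .dfn))))) (.node (.node (.node (.leaf (⟨1, 1, 21673, 0, 47357, 1, 34944⟩, .mul 17 3)) (.leaf (⟨0, 0, 34944, 0, 34944, 1, 34944⟩, .dfn))) (.node (.leaf (⟨1, 2, 22924, 0, 53477, 2, 34944⟩, .mul 130 90)) (.leaf (⟨0, 0, 34944, 0, 34944, 1, 34944⟩, .dfn)))) (.node (.node (.leaf (⟨1, 2, 39368, 0, 39661, 2, 34944⟩, .mul 90 86)) (.leaf (⟨0, 0,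 34944, 0, 34944, 1, 34944⟩, .dfn))) (.node (.leaf (⟨1, 6, 61280, 0, 18240, 6, 34944⟩, .mul 235 244)) (.leaf (⟨0, 0, 34944, 0, 34944, 1, 34944⟩, .dfn)))))))))))

/-- definitions -/
def defsFive1 : List (ℕ × ℕ × ℕ) := [(0, 34944, 0), (0, 34944, 1), (1, 34944, 1), (1, 36710, 1), (2, 34944, 0), (3, 34944, 0)]

/-- number of facts -/
def nFive1 : ℕ := 279

/-- values of the loops -/
def valsFive1 : List ℕ := [45423, 60544, 58729]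

/-- witnesses of completeness -/
def coverFive1 : List (List (List (ℕ × ℕ))) := [[[(23, 0), (24, 0), (43, 0), (46, 0), (53, 0), (85, 0), (44, 0), (273, 0), (104, 0), (116, 0), (27, 0), (45, 0), (274, 0), (275, 0)],
  [(26, 1), (26, 25), (57, 28), (33, 28), (39, 28), (66, 28), (26, 28), (47, 28), (70, 28), (75, 28), (42, 28), (62, 28), (67, 28), (52, 28)],
  [(106, 195), (95, 195), (101, 171), (90, 171), (90, 195), (94, 195), (100, 171), (192, 171), (86, 195), (98, 195), (102, 171), (106, 171), (120, 195), (88, 195)],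
  [(154, 233), (137, 233), (151, 158), (136, 158), (151, 233), (152, 233), (159, 158), (142, 158), (144, 233), (148, 233), (144, 158), (154, 158), (138, 233), (136, 233)],
  [(166, 212), (182, 212), (173, 172), (173, 176), (189, 212), (165, 212), (173, 180), (183, 180), (170, 212), (173, 212), (165, 180), (168, 180), (190, 212), (167, 212)],
  [(210, 196), (210, 209), (228, 211), (210, 213), (216, 211), (208, 213), (210, 211), (203, 213), (229, 211), (201, 213), (220, 211), (197, 213), (230, 211), (204, 213)],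
  [(253, 234), (253, 238), (265, 234), (265, 238), (259, 234), (259, 238), (262, 234), (262, 238), (255, 234), (255, 238), (245, 234), (245, 238), (244, 234), (244, 238)]],
[[(23, 83), (104, 83), (276, 83), (53, 83), (121, 83), (277, 83), (45, 83), (116, 83), (278, 83), (122, 83), (114, 83), (115, 83), (46, 83), (44, 83)],
  [(26, 132), (76, 132), (26, 163), (3, 163), (7, 132), (8, 132), (54, 163), (5, 163), (12, 132), (3, 132), (58, 163), (15, 163), (5, 132), (16, 132)],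
  [(106, 84), (106, 105), (126, 107), (95, 107), (103, 107), (129, 107), (125, 107), (106, 107), (100, 107), (112, 107), (101, 107), (119, 107), (113, 107), (109, 107)],
  [(154, 133), (154, 153), (151, 174), (156, 155), (154, 174), (138, 155), (138, 174), (154, 155), (142, 174), (157, 155), (161, 174), (162, 155), (137, 174), (139, 155)],
  [(173, 164), (173, 177), (182, 175), (170, 175), (165, 175), (187, 175), (182, 178), (185, 178), (173, 178), (168, 178), (166, 175), (179, 175), (188, 175), (173, 175)],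
  [(210, 240), (202, 240), (225, 221), (224, 221), (206, 240), (208, 240), (210, 221), (232, 221), (201, 240), (226, 240), (205, 221), (228, 221), (197, 240), (199, 240)],
  [(247, 241), (245, 239), (271, 241), (251, 239), (256, 239), (264, 241), (253, 239), (254, 241), (263, 241), (260, 239), (253, 241), (235, 239), (266, 239), (272, 241)]]]

/-- the involutions in the model -/
def invFive1 : List (List ℕ) := [[9, 4, 2, 8, 24], [6, 2, 3, 26, 16]]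

/-- words for generators of the model group -/
def genFive1 : List (List ℕ) := [[34945],
  [34960],
  [34976],
  [35008],
  [29912, 65536, 13813, 52187, 65537, 52187, 65536],
  [47287, 65536, 13813, 52187, 52187],
  [30860, 65536, 13813, 65536],
  [44205, 65536, 52187, 13813, 65536],
  [23029, 65537, 52187],
  [34946],
  [35200],
  [35456],
  [24113, 65537, 13813],
  [34948],
  [35968],
  [39040],
  [47728, 65537, 52187, 13813, 13813],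
  [34952],
  [43136],
  [51328]]

/-- the facts -/
def factsFiveBad0 : Tree (Fct × Why) :=
  (.node (.node (.node (.leaf (⟨0, 0, 34944, 0, 34944, 1, 34944⟩, .dfn)) (.leaf (⟨1, 0, 56861, 0, 56861, 0, 34944⟩, .base))) (.node (.leaf (⟨1, 0, 34944, 0, 34944, 0, 34944⟩, .base)) (.leaf (⟨1, 0, 14196, 0, 14181, 0, 34944⟩, .close 4 3 34944 [⟨2, 0, 0⟩, ⟨3, 5, 1192⟩, ⟨3, 1, 769⟩])))) (.node (.node (.leaf (⟨0, 1, 34944, 0, 34944, 0, 34944⟩, .inv 0)) (.leaf (⟨0, 1, 14181, 0, 56861, 1, 27248⟩, .fill 4 1 2 [34944, 45390, 34944, 65536, 54904] 0 34944 [⟨2, 0, 0⟩] [⟨4, 0, 1047⟩]))) (.node (.leaf (⟨1, 1, 34944, 0, 34944, 1, 34944⟩, .unit)) (.leaf (⟨0, 0, 34944, 0, 34944, 1, 34944⟩, .dfn)))))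

/-- definitions -/
def defsFiveBad0 : List (ℕ × ℕ × ℕ) := [(0, 34944, 0)]

/-- the facts -/
def factsFiveBad1 : Tree (Fct × Why) :=
  (.node (.node (.node (.leaf (⟨0, 0, 34944, 0, 34944, 1, 34944⟩, .dfn)) (.leaf (⟨1, 0, 56861, 0, 56861, 0, 34944⟩, .base))) (.node (.leaf (⟨1, 0, 34944, 0, 34944, 0, 34944⟩, .base)) (.leaf (⟨1, 0, 14101, 0, 14181, 0, 34944⟩, .close 4 3 34944 [⟨2, 0, 0⟩, ⟨3, 5, 1192⟩, ⟨3, 1, 370⟩])))) (.node (.node (.leaf (⟨0, 1, 34944, 0, 34944, 0, 34944⟩, .inv 0)) (.leaf (⟨0, 1, 14181, 0, 56861, 1, 27184⟩, .fill 4 1 2 [34944, 45391, 34944, 65536, 54904] 0 34944 [⟨2, 0, 0⟩] [⟨4, 0, 1342⟩]))) (.node (.leaf (⟨1, 1, 34944, 0, 34944, 1, 34944⟩, .unit)) (.leaf (⟨0, 0, 34944, 0, 34944, 1, 34944⟩, .dfn)))))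

/-- definitions -/
def defsFiveBad1 : List (ℕ × ℕ × ℕ) := [(0, 34944, 0)]

/-- the facts -/
def factsFiveBad2 : Tree (Fct × Why) :=
  (.node (.node (.node (.leaf (⟨0, 0, 34944, 0, 34944, 1, 34944⟩, .dfn)) (.leaf (⟨1, 0, 56861, 0, 56861, 0, 34944⟩, .base))) (.node (.leaf (⟨1, 0, 34944, 0, 34944, 0, 34944⟩, .base)) (.leaf (⟨1, 0, 14084, 0, 14181, 0, 34944⟩, .close 4 3 34944 [⟨2, 0, 0⟩, ⟨3, 5, 1192⟩, ⟨3, 1, 193⟩])))) (.node (.node (.leaf (⟨0, 1, 34944, 0, 34944, 0, 34944⟩, .inv 0)) (.leaf (⟨0, 1, 14181, 0, 56861, 1, 27249⟩, .fill 4 1 2 [34944, 45406, 34944, 65536, 54904] 0 34944 [⟨2, 0, 0⟩] [⟨4, 0, 1353⟩]))) (.node (.leaf (⟨1, 1, 34944, 0, 34944, 1, 34944⟩, .unit)) (.leaf (⟨0, 0, 34944, 0, 34944, 1, 34944⟩, .dfn)))))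

/-- definitions -/
def defsFiveBad2 : List (ℕ × ℕ × ℕ) := [(0, 34944, 0)]

/-- the facts -/
def factsFiveBad3 : Tree (Fct × Why) :=
  (.node (.node (.node (.node (.node (.leaf (⟨0, 0, 34944, 0, 34944, 1, 34944⟩, .dfn)) (.leaf (⟨0, 1, 34946, 0, 31898, 1, 21723⟩, .fill 0 0 2 [51360, 34946, 65536, 34946] 0 34944 [⟨14, 0, 0⟩] [⟨15, 0, 250⟩]))) (.node (.leaf (⟨1, 1, 43140, 0, 44184, 1, 34944⟩, .mul 6 2)) (.leaf (⟨1, 1, 28849, 0, 39161, 1, 34944⟩, .mul 23 6)))) (.node (.node (.leaf (⟨1, 1, 62697, 0, 30869, 1, 34944⟩, .sync ⟨3, 0, 761⟩)) (.leaf (⟨1, 1, 54509, 0, 23693, 1, 34944⟩, .mul 8 4))) (.node (.leaf (⟨1, 1, 60669, 0, 52420, 1, 34944⟩, .mul 11 2)) (.leaf (⟨1, 1, 29825, 0, 39125, 1, 34944⟩, .mul 27 2))))) (.node (.node (.node (.leaf (⟨1, 1, 47292, 0, 21721, 1, 34944⟩, .sync ⟨1, 0, 1154⟩)) (.leaf (⟨1, 0,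 56861, 0, 56861, 0, 34944⟩, .base))) (.node (.leaf (⟨1, 1, 61597, 0, 23753, 1, 34944⟩, .mul 7 4)) (.leaf (⟨1, 1, 52448, 0, 51405, 1, 34944⟩, .mul 13 2)))) (.node (.node (.leaf (⟨1, 1, 40172, 0, 21693, 1, 34944⟩, .sync ⟨5, 0, 172⟩)) (.leaf (⟨1, 1, 21673, 0, 47357, 1, 34944⟩, .mul 10 2))) (.node (.leaf (⟨1, 0, 34944, 0, 34944, 0, 34944⟩, .base)) (.leaf (⟨0, 0, 34944, 0, 34944, 1, 34944⟩, .dfn)))))) (.node (.node (.node (.node (.leaf (⟨1, 0, 21721, 0, 21721, 0, 34944⟩, .base)) (.leaf (⟨1, 1, 34944, 0, 34944, 1, 34944⟩, .unit))) (.node (.leaf (⟨1, 1, 51361, 0, 51376, 1, 34944⟩, .mul 2 4)) (.leaf (⟨1, 1, 62668, 0, 23733, 1, 34944⟩, .mul 24 2)))) (.node (.node (.leaf (⟨1, 0, 21693, 0, 21693, 0, 34944⟩, .base)) (.leaf (⟨1, 1, 28809, 0, 47320, 1, 34944⟩, .mul 20 2))) (.node (.leaf (⟨1, 1, 22729, 0, 61584, 1,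 34944⟩, .mul 12 6)) (.leaf (⟨1, 1, 29825, 0, 39061, 1, 34944⟩, .close 4 1 34946 [⟨17, 16, 0⟩, ⟨25, 19, 754⟩, ⟨26, 19, 745⟩]))))) (.node (.node (.node (.leaf (⟨1, 0, 30869, 0, 30869, 0, 34944⟩, .base)) (.leaf (⟨0, 1, 14181, 0, 56861, 1, 27185⟩, .fill 4 1 2 [34944, 45407, 34944, 65536, 54904] 0 34944 [⟨14, 0, 0⟩] [⟨18, 0, 597⟩]))) (.node (.leaf (⟨1, 1, 30932, 0, 62617, 1, 34944⟩, .mul 9 2)) (.leaf (⟨1, 1, 53477, 0, 31872, 1, 34944⟩, .mul 21 6)))) (.node (.node (.leaf (⟨1, 1, 36037, 0, 44269, 1, 34944⟩, .mul 2 2)) (.leaf (⟨1, 1, 53460, 0, 31921, 1, 34944⟩, .mul 22 2))) (.node (.leaf (⟨1, 0, 31898, 0, 31898, 0, 34944⟩, .base)) (.leaf (⟨0, 0, 34944, 0, 34944, 1, 34944⟩, .dfn)))))))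

/-- definitions -/
def defsFiveBad3 : List (ℕ × ℕ × ℕ) := [(0, 34944, 0)]

/-- the facts -/
def factsFiveBad4 : Tree (Fct × Why) :=
  (.node (.node (.node (.leaf (⟨0, 0, 34944, 0, 34944, 1, 34944⟩, .dfn)) (.leaf (⟨1, 0, 56861, 0, 56861, 0, 34944⟩, .base))) (.node (.leaf (⟨1, 0, 34944, 0, 34944, 0, 34944⟩, .base)) (.leaf (⟨1, 0, 14084, 0, 14181, 0, 34944⟩, .close 4 3 34944 [⟨2, 0, 0⟩, ⟨3, 5, 1192⟩, ⟨3, 1, 193⟩])))) (.node (.node (.leaf (⟨0, 1, 34944, 0, 34944, 0, 34944⟩, .inv 0)) (.leaf (⟨0, 1, 14181, 0, 56861, 1, 27168⟩, .fill 4 1 2 [34944, 45422, 34944, 65536, 54904] 0 34944 [⟨2, 0, 0⟩] [⟨4, 0, 1229⟩]))) (.node (.leaf (⟨1, 1, 34944, 0, 34944, 1, 34944⟩, .unit)) (.leaf (⟨0, 0, 34944, 0, 34944, 1, 34944⟩, .dfn)))))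

/-- definitions -/
def defsFiveBad4 : List (ℕ × ℕ × ℕ) := [(0, 34944, 0)]

/-- the facts -/
def factsFiveBad5 : Tree (Fct × Why) :=
  (.node (.node (.node (.leaf (⟨0, 0, 34944, 0, 34944, 1, 34944⟩, .dfn)) (.leaf (⟨1, 0, 56861, 0, 56861, 0, 34944⟩, .base))) (.node (.leaf (⟨1, 0, 34944, 0, 34944, 0, 34944⟩, .base)) (.leaf (⟨1, 0, 14196, 0, 14181, 0, 34944⟩, .close 4 3 34944 [⟨2, 0, 0⟩, ⟨3, 5, 1192⟩, ⟨3, 1, 769⟩])))) (.node (.node (.leaf (⟨0, 1, 34944, 0, 34944, 0, 34944⟩, .inv 0)) (.leaf (⟨0, 1, 14181, 0, 56861, 1, 27169⟩, .fill 4 1 2 [34944, 45438, 34944, 65536, 54904] 0 34944 [⟨2, 0, 0⟩] [⟨4, 0, 1012⟩]))) (.node (.leaf (⟨1, 1, 34944, 0, 34944, 1, 34944⟩, .unit)) (.leaf (⟨0, 0, 34944, 0, 34944, 1, 34944⟩, .dfn)))))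

/-- definitions -/
def defsFiveBad5 : List (ℕ × ℕ × ℕ) := [(0, 34944, 0)]

/-- the facts -/
def factsFiveBad6 : Tree (Fct × Why) :=
  (.node (.node (.node (.leaf (⟨0, 0, 34944, 0, 34944, 1, 34944⟩, .dfn)) (.leaf (⟨1, 0, 56861, 0, 56861, 0, 34944⟩, .base))) (.node (.leaf (⟨1, 0, 34944, 0, 34944, 0, 34944⟩, .base)) (.leaf (⟨1, 0, 14101, 0, 14181, 0, 34944⟩, .close 4 3 34944 [⟨2, 0, 0⟩, ⟨3, 5, 1192⟩, ⟨3, 1, 370⟩])))) (.node (.node (.leaf (⟨0, 1, 34944, 0, 34944, 0, 34944⟩, .inv 0)) (.leaf (⟨0, 1, 14181, 0, 56861, 1, 27233⟩, .fill 4 1 2 [34944, 45439, 34944, 65536, 54904] 0 34944 [⟨2, 0, 0⟩] [⟨4, 0, 340⟩]))) (.node (.leaf (⟨1, 1, 34944, 0, 34944, 1, 34944⟩, .unit)) (.leaf (⟨0, 0, 34944, 0, 34944, 1, 34944⟩, .dfn)))))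

/-- definitions -/
def defsFiveBad6 : List (ℕ × ℕ × ℕ) := [(0, 34944, 0)]

/-- the facts -/
def factsFiveBad7 : Tree (Fct × Why) :=
  (.node (.node (.node (.node (.node (.leaf (⟨1, 0, 34944, 0, 34944, 0, 34944⟩, .base)) (.leaf (⟨1, 0, 49006, 0, 49005, 0, 34944⟩, .close 4 3 34944 [⟨0, 1, 0⟩, ⟨15, 13, 946⟩, ⟨11, 2, 883⟩]))) (.node (.leaf (⟨1, 2, 39848, 0, 39855, 2, 34944⟩, .sync ⟨7, 1, 1355⟩)) (.leaf (⟨1, 0, 34944, 0, 34944, 0, 34944⟩, .base)))) (.node (.node (.leaf (⟨1, 2, 35552, 0, 35266, 2, 34944⟩, .sync ⟨3, 1, 944⟩)) (.leaf (⟨1, 0, 34944, 0, 34944, 0, 34944⟩, .base))) (.node (.leaf (⟨1, 0, 59118, 0, 59118, 0, 34944⟩, .base)) (.leaf (⟨1, 0, 34944, 0, 34944, 0, 34944⟩, .base))))) (.node (.node (.node (.leaf (⟨0, 2, 34944, 1, 34944, 0, 34944⟩, .inv 1)) (.leaf (⟨1, 0, 34944, 0, 34944, 0, 34944⟩, .base)))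 (.node (.leaf (⟨1, 2, 22980, 0, 53993, 2, 34944⟩, .mul 9 4)) (.leaf (⟨1, 0, 34944, 0, 34944, 0, 34944⟩, .base)))) (.node (.node (.leaf (⟨1, 2, 23269, 0, 53704, 2, 34944⟩, .sync ⟨5, 1, 775⟩)) (.leaf (⟨1, 0, 34944, 0, 34944, 0, 34944⟩, .base))) (.node (.leaf (⟨1, 2, 51425, 0, 20876, 2, 34944⟩, .mul 10 8)) (.leaf (⟨1, 0, 34944, 0, 34944, 0, 34944⟩, .base)))))) (.node (.node (.node (.node (.leaf (⟨0, 0, 34944, 1, 34944, 2, 34944⟩, .dfn)) (.leaf (⟨1, 0, 34944, 0, 34944, 0, 34944⟩, .base))) (.node (.leaf (⟨1, 2, 23460, 0, 54187, 2, 34944⟩, .mul 4 6)) (.leaf (⟨1, 0, 34944, 0, 34944, 0, 34944⟩, .base)))) (.node (.node (.leaf (⟨1, 0, 53704, 0, 53704, 0, 34944⟩, .base)) (.leaf (⟨1, 0, 34944, 0, 34944, 0, 34944⟩, .base))) (.node (.leaf (⟨0, 2, 59957, 1, 59118, 2, 31041⟩, .fill 4 1 2 [34944, 60545, 34944, 65537,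 54904] 0 34944 [⟨0, 1, 0⟩] [⟨12, 1, 426⟩])) (.leaf (⟨1, 0, 34944, 0, 34944, 0, 34944⟩, .base))))) (.node (.node (.node (.leaf (⟨1, 0, 35266, 0, 35266, 0, 34944⟩, .base)) (.leaf (⟨1, 0, 34944, 0, 34944, 0, 34944⟩, .base))) (.node (.leaf (⟨1, 2, 34944, 0, 34944, 2, 34944⟩, .unit)) (.leaf (⟨1, 0, 34944, 0, 34944, 0, 34944⟩, .base)))) (.node (.node (.leaf (⟨1, 0, 39855, 0, 39855, 0, 34944⟩, .base)) (.leaf (⟨1, 0, 34944, 0, 34944, 0, 34944⟩, .base))) (.node (.leaf (⟨1, 2, 39597, 0, 39880, 2, 34944⟩, .mul 14 6)) (.leaf (⟨1, 0, 34944, 0, 34944, 0, 34944⟩, .base)))))))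

/-- definitions -/
def defsFiveBad7 : List (ℕ × ℕ × ℕ) := [(0, 34944, 0), (0, 34944, 1)]

/-- the facts -/
def factsFiveBad8 : Tree (Fct × Why) :=
  (.node (.node (.node (.node (.node (.leaf (⟨1, 0, 34944, 0, 34944, 0, 34944⟩, .base)) (.leaf (⟨1, 0, 48992, 0, 49005, 0, 34944⟩, .close 4 3 34944 [⟨0, 1, 0⟩, ⟨15, 13, 946⟩, ⟨11, 2, 383⟩]))) (.node (.leaf (⟨1, 2, 39848, 0, 39855, 2, 34944⟩, .sync ⟨7, 1, 1355⟩)) (.leaf (⟨1, 0, 34944, 0, 34944, 0, 34944⟩, .base)))) (.node (.node (.leaf (⟨1, 2, 35552, 0, 35266, 2, 34944⟩, .sync ⟨3, 1, 944⟩)) (.leaf (⟨1, 0, 34944, 0, 34944, 0, 34944⟩, .base))) (.node (.leaf (⟨1, 0, 59118, 0, 59118, 0, 34944⟩, .base)) (.leaf (⟨1, 0, 34944, 0, 34944, 0, 34944⟩, .base))))) (.node (.node (.node (.leaf (⟨0, 2, 34944, 1, 34944, 0, 34944⟩, .inv 1)) (.leaf (⟨1, 0, 34944, 0, 34944, 0,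 34944⟩, .base))) (.node (.leaf (⟨1, 2, 22980, 0, 53993, 2, 34944⟩, .mul 9 4)) (.leaf (⟨1, 0, 34944, 0, 34944, 0, 34944⟩, .base)))) (.node (.node (.leaf (⟨1, 2, 23269, 0, 53704, 2, 34944⟩, .sync ⟨5, 1, 775⟩)) (.leaf (⟨1, 0, 34944, 0, 34944, 0, 34944⟩, .base))) (.node (.leaf (⟨1, 2, 51425, 0, 20876, 2, 34944⟩, .mul 10 8)) (.leaf (⟨1, 0, 34944, 0, 34944, 0, 34944⟩, .base)))))) (.node (.node (.node (.node (.leaf (⟨0, 0, 34944, 1, 34944, 2, 34944⟩, .dfn)) (.leaf (⟨1, 0, 34944, 0, 34944, 0, 34944⟩, .base))) (.node (.leaf (⟨1, 2, 23460, 0, 54187, 2, 34944⟩, .mul 4 6)) (.leaf (⟨1, 0, 34944, 0, 34944, 0, 34944⟩, .base)))) (.node (.node (.leaf (⟨1, 0, 53704, 0, 53704, 0, 34944⟩, .base)) (.leaf (⟨1, 0, 34944, 0, 34944, 0, 34944⟩, .base))) (.node (.leaf (⟨0, 2, 59957, 1, 59118, 2, 31051⟩, .fill 4 1 2 [34944, 60546,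 34944, 65537, 54904] 0 34944 [⟨0, 1, 0⟩] [⟨12, 1, 793⟩])) (.leaf (⟨1, 0, 34944, 0, 34944, 0, 34944⟩, .base))))) (.node (.node (.node (.leaf (⟨1, 0, 35266, 0, 35266, 0, 34944⟩, .base)) (.leaf (⟨1, 0, 34944, 0, 34944, 0, 34944⟩, .base))) (.node (.leaf (⟨1, 2, 34944, 0, 34944, 2, 34944⟩, .unit)) (.leaf (⟨1, 0, 34944, 0, 34944, 0, 34944⟩, .base)))) (.node (.node (.leaf (⟨1, 0, 39855, 0, 39855, 0, 34944⟩, .base)) (.leaf (⟨1, 0, 34944, 0, 34944, 0, 34944⟩, .base))) (.node (.leaf (⟨1, 2, 39597, 0, 39880, 2, 34944⟩, .mul 14 6)) (.leaf (⟨1, 0, 34944, 0, 34944, 0, 34944⟩, .base)))))))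

/-- definitions -/
def defsFiveBad8 : List (ℕ × ℕ × ℕ) := [(0, 34944, 0), (0, 34944, 1)]

/-- the facts -/
def factsFiveBad9 : Tree (Fct × Why) :=
  (.node (.node (.node (.node (.node (.leaf (⟨1, 0, 34944, 0, 34944, 0, 34944⟩, .base)) (.leaf (⟨1, 0, 48995, 0, 49005, 0, 34944⟩, .close 4 3 34944 [⟨0, 1, 0⟩, ⟨15, 13, 946⟩, ⟨11, 2, 420⟩]))) (.node (.leaf (⟨1, 2, 39848, 0, 39855, 2, 34944⟩, .sync ⟨7, 1, 1355⟩)) (.leaf (⟨1, 0, 34944, 0, 34944, 0, 34944⟩, .base)))) (.node (.node (.leaf (⟨1, 2, 35552, 0, 35266, 2, 34944⟩, .sync ⟨3, 1, 944⟩)) (.leaf (⟨1, 0, 34944, 0, 34944, 0, 34944⟩, .base))) (.node (.leaf (⟨1, 0, 59118, 0, 59118, 0, 34944⟩, .base)) (.leaf (⟨1, 0, 34944, 0, 34944, 0, 34944⟩, .base))))) (.node (.node (.node (.leaf (⟨0, 2, 34944, 1, 34944, 0, 34944⟩, .inv 1)) (.leaf (⟨1, 0, 34944, 0, 34944, 0,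 34944⟩, .base))) (.node (.leaf (⟨1, 2, 22980, 0, 53993, 2, 34944⟩, .mul 9 4)) (.leaf (⟨1, 0, 34944, 0, 34944, 0, 34944⟩, .base)))) (.node (.node (.leaf (⟨1, 2, 23269, 0, 53704, 2, 34944⟩, .sync ⟨5, 1, 775⟩)) (.leaf (⟨1, 0, 34944, 0, 34944, 0, 34944⟩, .base))) (.node (.leaf (⟨1, 2, 51425, 0, 20876, 2, 34944⟩, .mul 10 8)) (.leaf (⟨1, 0, 34944, 0, 34944, 0, 34944⟩, .base)))))) (.node (.node (.node (.node (.leaf (⟨0, 0, 34944, 1, 34944, 2, 34944⟩, .dfn)) (.leaf (⟨1, 0, 34944, 0, 34944, 0, 34944⟩, .base))) (.node (.leaf (⟨1, 2, 23460, 0, 54187, 2, 34944⟩, .mul 4 6)) (.leaf (⟨1, 0, 34944, 0, 34944, 0, 34944⟩, .base)))) (.node (.node (.leaf (⟨1, 0, 53704, 0, 53704, 0, 34944⟩, .base)) (.leaf (⟨1, 0, 34944, 0, 34944, 0, 34944⟩, .base))) (.node (.leaf (⟨0, 2, 59957, 1, 59118, 2, 31049⟩, .fill 4 1 2 [34944, 60547,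 34944, 65537, 54904] 0 34944 [⟨0, 1, 0⟩] [⟨12, 1, 1315⟩])) (.leaf (⟨1, 0, 34944, 0, 34944, 0, 34944⟩, .base))))) (.node (.node (.node (.leaf (⟨1, 0, 35266, 0, 35266, 0, 34944⟩, .base)) (.leaf (⟨1, 0, 34944, 0, 34944, 0, 34944⟩, .base))) (.node (.leaf (⟨1, 2, 34944, 0, 34944, 2, 34944⟩, .unit)) (.leaf (⟨1, 0, 34944, 0, 34944, 0, 34944⟩, .base)))) (.node (.node (.leaf (⟨1, 0, 39855, 0, 39855, 0, 34944⟩, .base)) (.leaf (⟨1, 0, 34944, 0, 34944, 0, 34944⟩, .base))) (.node (.leaf (⟨1, 2, 39597, 0, 39880, 2, 34944⟩, .mul 14 6)) (.leaf (⟨1, 0, 34944, 0, 34944, 0, 34944⟩, .base)))))))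

/-- definitions -/
def defsFiveBad9 : List (ℕ × ℕ × ℕ) := [(0, 34944, 0), (0, 34944, 1)]

/-- the facts -/
def factsFiveBad10 : Tree (Fct × Why) :=
  (.node (.node (.node (.node (.node (.leaf (⟨1, 0, 34944, 0, 34944, 0, 34944⟩, .base)) (.leaf (⟨1, 0, 49006, 0, 49005, 0, 34944⟩, .close 4 3 34944 [⟨0, 1, 0⟩, ⟨15, 13, 946⟩, ⟨11, 2, 883⟩]))) (.node (.leaf (⟨1, 2, 39848, 0, 39855, 2, 34944⟩, .sync ⟨7, 1, 1355⟩)) (.leaf (⟨1, 0, 34944, 0, 34944, 0, 34944⟩, .base)))) (.node (.node (.leaf (⟨1, 2, 35552, 0, 35266, 2, 34944⟩, .sync ⟨3, 1, 944⟩)) (.leaf (⟨1, 0, 34944, 0, 34944, 0, 34944⟩, .base))) (.node (.leaf (⟨1, 0, 59118, 0, 59118, 0, 34944⟩, .base)) (.leaf (⟨1, 0, 34944, 0, 34944, 0, 34944⟩, .base))))) (.node (.node (.node (.leaf (⟨0, 2, 34944, 1, 34944, 0, 34944⟩, .inv 1)) (.leaf (⟨1, 0, 34944, 0, 34944,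 0, 34944⟩, .base))) (.node (.leaf (⟨1, 2, 22980, 0, 53993, 2, 34944⟩, .mul 9 4)) (.leaf (⟨1, 0, 34944, 0, 34944, 0, 34944⟩, .base)))) (.node (.node (.leaf (⟨1, 2, 23269, 0, 53704, 2, 34944⟩, .sync ⟨5, 1, 775⟩)) (.leaf (⟨1, 0, 34944, 0, 34944, 0, 34944⟩, .base))) (.node (.leaf (⟨1, 2, 51425, 0, 20876, 2, 34944⟩, .mul 10 8)) (.leaf (⟨1, 0, 34944, 0, 34944, 0, 34944⟩, .base)))))) (.node (.node (.node (.node (.leaf (⟨0, 0, 34944, 1, 34944, 2, 34944⟩, .dfn)) (.leaf (⟨1, 0, 34944, 0, 34944, 0, 34944⟩, .base))) (.node (.leaf (⟨1, 2, 23460, 0, 54187, 2, 34944⟩, .mul 4 6)) (.leaf (⟨1, 0, 34944, 0, 34944, 0, 34944⟩, .base)))) (.node (.node (.leaf (⟨1, 0, 53704, 0, 53704, 0, 34944⟩, .base)) (.leaf (⟨1, 0, 34944, 0, 34944, 0, 34944⟩, .base))) (.node (.leaf (⟨0, 2, 59957, 1, 59118, 2, 31050⟩, .fill 4 1 2 [34944,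 60556, 34944, 65537, 54904] 0 34944 [⟨0, 1, 0⟩] [⟨12, 1, 517⟩])) (.leaf (⟨1, 0, 34944, 0, 34944, 0, 34944⟩, .base))))) (.node (.node (.node (.leaf (⟨1, 0, 35266, 0, 35266, 0, 34944⟩, .base)) (.leaf (⟨1, 0, 34944, 0, 34944, 0, 34944⟩, .base))) (.node (.leaf (⟨1, 2, 34944, 0, 34944, 2, 34944⟩, .unit)) (.leaf (⟨1, 0, 34944, 0, 34944, 0, 34944⟩, .base)))) (.node (.node (.leaf (⟨1, 0, 39855, 0, 39855, 0, 34944⟩, .base)) (.leaf (⟨1, 0, 34944, 0, 34944, 0, 34944⟩, .base))) (.node (.leaf (⟨1, 2, 39597, 0, 39880, 2, 34944⟩, .mul 14 6)) (.leaf (⟨1, 0, 34944, 0, 34944, 0, 34944⟩, .base)))))))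

/-- definitions -/
def defsFiveBad10 : List (ℕ × ℕ × ℕ) := [(0, 34944, 0), (0, 34944, 1)]

/-- the facts -/
def factsFiveBad11 : Tree (Fct × Why) :=
  (.node (.node (.node (.node (.node (.leaf (⟨1, 0, 34944, 0, 34944, 0, 34944⟩, .base)) (.leaf (⟨1, 0, 59118, 0, 59118, 0, 34944⟩, .base))) (.node (.leaf (⟨1, 2, 51586, 0, 20716, 2, 34944⟩, .mul 5 7)) (.leaf (⟨1, 2, 23237, 0, 53962, 2, 34944⟩, .mul 23 3)))) (.node (.node (.leaf (⟨1, 0, 53704, 0, 53704, 0, 34944⟩, .base)) (.leaf (⟨1, 2, 53482, 0, 22919, 2, 34944⟩, .mul 19 7))) (.node (.leaf (⟨1, 2, 39405, 0, 39401, 2, 34944⟩, .mul 8 5)) (.leaf (⟨1, 0, 34944, 0, 34944, 0, 34944⟩, .base))))) (.node (.node (.node (.leaf (⟨1, 0, 35266, 0, 35266, 0, 34944⟩, .base)) (.leaf (⟨1, 2, 39368, 0, 39661, 2, 34944⟩, .mul 7 3))) (.node (.leaf (⟨1, 2, 21191, 0, 51919, 2,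 34944⟩, .mul 9 7)) (.leaf (⟨1, 0, 34944, 0, 34944, 0, 34944⟩, .base)))) (.node (.node (.leaf (⟨1, 0, 39855, 0, 39855, 0, 34944⟩, .base)) (.leaf (⟨1, 2, 35811, 0, 35232, 2, 34944⟩, .mul 21 5))) (.node (.leaf (⟨0, 2, 34960, 1, 52187, 2, 53720⟩, .fill 2 0 2 [39044, 34960, 65537, 34960] 0 34944 [⟨0, 1, 0⟩] [⟨13, 1, 332⟩])) (.leaf (⟨1, 0, 34944, 0, 34944, 0, 34944⟩, .base)))))) (.node (.node (.node (.node (.leaf (⟨0, 0, 34944, 1, 34944, 2, 34944⟩, .dfn)) (.leaf (⟨0, 2, 59957, 1, 59118, 2, 31048⟩, .fill 4 1 2 [34944, 60557, 34944, 65537, 54904] 0 34944 [⟨0, 1, 0⟩] [⟨16, 1, 739⟩]))) (.node (.leaf (⟨1, 2, 54185, 0, 23461, 2, 34944⟩, .mul 5 5)) (.leaf (⟨1, 2, 23237, 0, 53958, 2, 34944⟩, .close 4 1 34960 [⟨15, 14, 0⟩, ⟨12, 17, 491⟩, ⟨11, 17, 1049⟩])))) (.node (.node (.leaf (⟨1, 2, 23269, 0, 53704, 2, 34944⟩, .sync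 ⟨4, 1, 775⟩)) (.leaf (⟨1, 2, 53898, 0, 22725, 2, 34944⟩, .mul 20 3))) (.node (.leaf (⟨1, 0, 52187, 0, 52187, 0, 34944⟩, .base)) (.leaf (⟨1, 0, 34944, 0, 34944, 0, 34944⟩, .base))))) (.node (.node (.node (.leaf (⟨1, 2, 35552, 0, 35266, 2, 34944⟩, .sync ⟨2, 1, 944⟩)) (.leaf (⟨1, 2, 20943, 0, 51938, 2, 34944⟩, .mul 18 5))) (.node (.leaf (⟨1, 2, 52174, 0, 21156, 2, 34944⟩, .mul 10 5)) (.leaf (⟨1, 0, 34944, 0, 34944, 0, 34944⟩, .base)))) (.node (.node (.leaf (⟨1, 2, 39848, 0, 39855, 2, 34944⟩, .sync ⟨6, 1, 1355⟩)) (.leaf (⟨1, 2, 22693, 0, 54152, 2, 34944⟩, .mul 22 5))) (.node (.leaf (⟨1, 2, 34944, 0, 34944, 2, 34944⟩, .unit)) (.leaf (⟨1, 0, 34944, 0, 34944, 0, 34944⟩, .base)))))))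

/-- definitions -/
def defsFiveBad11 : List (ℕ × ℕ × ℕ) := [(0, 34944, 0), (0, 34944, 1)]

/-- the facts -/
def factsFiveBad12 : Tree (Fct × Why) :=
  (.node (.node (.node (.node (.node (.leaf (⟨1, 0, 34944, 0, 34944, 0, 34944⟩, .base)) (.leaf (⟨1, 0, 48995, 0, 49005, 0, 34944⟩, .close 4 3 34944 [⟨0, 1, 0⟩, ⟨15, 13, 946⟩, ⟨11, 2, 420⟩]))) (.node (.leaf (⟨1, 2, 39848, 0, 39855, 2, 34944⟩, .sync ⟨7, 1, 1355⟩)) (.leaf (⟨1, 0, 34944, 0, 34944, 0, 34944⟩, .base)))) (.node (.node (.leaf (⟨1, 2, 35552, 0, 35266, 2, 34944⟩, .sync ⟨3, 1, 944⟩)) (.leaf (⟨1, 0, 34944, 0, 34944, 0, 34944⟩, .base))) (.node (.leaf (⟨1, 0, 59118, 0, 59118, 0, 34944⟩, .base)) (.leaf (⟨1, 0, 34944, 0, 34944, 0, 34944⟩, .base))))) (.node (.node (.node (.leaf (⟨0, 2, 34944, 1, 34944, 0, 34944⟩, .inv 1)) (.leaf (⟨1, 0, 34944, 0, 34944,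 0, 34944⟩, .base))) (.node (.leaf (⟨1, 2, 22980, 0, 53993, 2, 34944⟩, .mul 9 4)) (.leaf (⟨1, 0, 34944, 0, 34944, 0, 34944⟩, .base)))) (.node (.node (.leaf (⟨1, 2, 23269, 0, 53704, 2, 34944⟩, .sync ⟨5, 1, 775⟩)) (.leaf (⟨1, 0, 34944, 0, 34944, 0, 34944⟩, .base))) (.node (.leaf (⟨1, 2, 51425, 0, 20876, 2, 34944⟩, .mul 10 8)) (.leaf (⟨1, 0, 34944, 0, 34944, 0, 34944⟩, .base)))))) (.node (.node (.node (.node (.leaf (⟨0, 0, 34944, 1, 34944, 2, 34944⟩, .dfn)) (.leaf (⟨1, 0, 34944, 0, 34944, 0, 34944⟩, .base))) (.node (.leaf (⟨1, 2, 23460, 0, 54187, 2, 34944⟩, .mul 4 6)) (.leaf (⟨1, 0, 34944, 0, 34944, 0, 34944⟩, .base)))) (.node (.node (.leaf (⟨1, 0, 53704, 0, 53704, 0, 34944⟩, .base)) (.leaf (⟨1, 0, 34944, 0, 34944, 0, 34944⟩, .base))) (.node (.leaf (⟨0, 2, 59957, 1, 59118, 2, 31042⟩, .fill 4 1 2 [34944,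 60558, 34944, 65537, 54904] 0 34944 [⟨0, 1, 0⟩] [⟨12, 1, 913⟩])) (.leaf (⟨1, 0, 34944, 0, 34944, 0, 34944⟩, .base))))) (.node (.node (.node (.leaf (⟨1, 0, 35266, 0, 35266, 0, 34944⟩, .base)) (.leaf (⟨1, 0, 34944, 0, 34944, 0, 34944⟩, .base))) (.node (.leaf (⟨1, 2, 34944, 0, 34944, 2, 34944⟩, .unit)) (.leaf (⟨1, 0, 34944, 0, 34944, 0, 34944⟩, .base)))) (.node (.node (.leaf (⟨1, 0, 39855, 0, 39855, 0, 34944⟩, .base)) (.leaf (⟨1, 0, 34944, 0, 34944, 0, 34944⟩, .base))) (.node (.leaf (⟨1, 2, 39597, 0, 39880, 2, 34944⟩, .mul 14 6)) (.leaf (⟨1, 0, 34944, 0, 34944, 0, 34944⟩, .base)))))))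

/-- definitions -/
def defsFiveBad12 : List (ℕ × ℕ × ℕ) := [(0, 34944, 0), (0, 34944, 1)]

/-- the facts -/
def factsFiveBad13 : Tree (Fct × Why) :=
  (.node (.node (.node (.node (.node (.leaf (⟨1, 0, 34944, 0, 34944, 0, 34944⟩, .base)) (.leaf (⟨1, 0, 48992, 0, 49005, 0, 34944⟩, .close 4 3 34944 [⟨0, 1, 0⟩, ⟨15, 13, 946⟩, ⟨11, 2, 383⟩]))) (.node (.leaf (⟨1, 2, 39848, 0, 39855, 2, 34944⟩, .sync ⟨7, 1, 1355⟩)) (.leaf (⟨1, 0, 34944, 0, 34944, 0, 34944⟩, .base)))) (.node (.node (.leaf (⟨1, 2, 35552, 0, 35266, 2, 34944⟩, .sync ⟨3, 1, 944⟩)) (.leaf (⟨1, 0, 34944, 0, 34944, 0, 34944⟩, .base))) (.node (.leaf (⟨1, 0, 59118, 0, 59118, 0, 34944⟩, .base)) (.leaf (⟨1, 0, 34944, 0, 34944, 0, 34944⟩, .base))))) (.node (.node (.node (.leaf (⟨0, 2, 34944, 1, 34944, 0, 34944⟩, .inv 1)) (.leaf (⟨1, 0, 34944, 0, 34944,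 0, 34944⟩, .base))) (.node (.leaf (⟨1, 2, 22980, 0, 53993, 2, 34944⟩, .mul 9 4)) (.leaf (⟨1, 0, 34944, 0, 34944, 0, 34944⟩, .base)))) (.node (.node (.leaf (⟨1, 2, 23269, 0, 53704, 2, 34944⟩, .sync ⟨5, 1, 775⟩)) (.leaf (⟨1, 0, 34944, 0, 34944, 0, 34944⟩, .base))) (.node (.leaf (⟨1, 2, 51425, 0, 20876, 2, 34944⟩, .mul 10 8)) (.leaf (⟨1, 0, 34944, 0, 34944, 0, 34944⟩, .base)))))) (.node (.node (.node (.node (.leaf (⟨0, 0, 34944, 1, 34944, 2, 34944⟩, .dfn)) (.leaf (⟨1, 0, 34944, 0, 34944, 0, 34944⟩, .base))) (.node (.leaf (⟨1, 2, 23460, 0, 54187, 2, 34944⟩, .mul 4 6)) (.leaf (⟨1, 0, 34944, 0, 34944, 0, 34944⟩, .base)))) (.node (.node (.leaf (⟨1, 0, 53704, 0, 53704, 0, 34944⟩, .base)) (.leaf (⟨1, 0, 34944, 0, 34944, 0, 34944⟩, .base))) (.node (.leaf (⟨0, 2, 59957, 1, 59118, 2, 31040⟩, .fill 4 1 2 [34944,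 60559, 34944, 65537, 54904] 0 34944 [⟨0, 1, 0⟩] [⟨12, 1, 393⟩])) (.leaf (⟨1, 0, 34944, 0, 34944, 0, 34944⟩, .base))))) (.node (.node (.node (.leaf (⟨1, 0, 35266, 0, 35266, 0, 34944⟩, .base)) (.leaf (⟨1, 0, 34944, 0, 34944, 0, 34944⟩, .base))) (.node (.leaf (⟨1, 2, 34944, 0, 34944, 2, 34944⟩, .unit)) (.leaf (⟨1, 0, 34944, 0, 34944, 0, 34944⟩, .base)))) (.node (.node (.leaf (⟨1, 0, 39855, 0, 39855, 0, 34944⟩, .base)) (.leaf (⟨1, 0, 34944, 0, 34944, 0, 34944⟩, .base))) (.node (.leaf (⟨1, 2, 39597, 0, 39880, 2, 34944⟩, .mul 14 6)) (.leaf (⟨1, 0, 34944, 0, 34944, 0, 34944⟩, .base)))))))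

/-- definitions -/
def defsFiveBad13 : List (ℕ × ℕ × ℕ) := [(0, 34944, 0), (0, 34944, 1)]

/-- the facts -/
def factsFiveBad14 : Tree (Fct × Why) :=
  (.node (.node (.node (.node (.node (.node (.leaf (⟨0, 0, 34944, 0, 34944, 1, 34944⟩, .dfn)) (.leaf (⟨1, 0, 14181, 0, 14181, 0, 34944⟩, .base))) (.node (.leaf (⟨0, 1, 14181, 0, 56861, 1, 27232⟩, .fill 4 1 2 [34944, 45423, 34944, 65536, 54904] 0 34944 [⟨13, 0, 0⟩] [⟨15, 0, 477⟩])) (.leaf (⟨1, 1, 29388, 0, 23720, 1, 34944⟩, .mul 3 46)))) (.node (.node (.leaf (⟨1, 1, 43140, 0, 44184, 1, 34944⟩, .mul 7 3)) (.leaf (⟨1, 3, 22914, 0, 23696, 3, 34944⟩, .mul 38 39))) (.node (.leaf (⟨1, 1, 29828, 0, 48341, 1, 34944⟩, .mul 23 7)) (.leaf (⟨1, 1, 56948, 0, 62676, 1, 34944⟩, .close 9 2 34944 [⟨47, 1, 0⟩, ⟨21, 26, 0⟩, ⟨33, 50, 863⟩, ⟨43, 35, 592⟩]))))) (.node (.node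 (.node (.leaf (⟨1, 0, 30869, 0, 30869, 0, 34944⟩, .base)) (.leaf (⟨1, 1, 43200, 0, 35048, 1, 34944⟩, .mul 20 3))) (.node (.leaf (⟨1, 1, 40121, 0, 28892, 1, 34944⟩, .mul 12 3)) (.leaf (⟨1, 1, 23229, 0, 54449, 1, 34944⟩, .mul 51 46)))) (.node (.node (.leaf (⟨1, 1, 44165, 0, 44165, 1, 34944⟩, .mul 3 7)) (.leaf (⟨0, 3, 27399, 0, 26112, 3, 26543⟩, .fill 8 1 2 [34944, 58728, 34944, 65536, 54904, 65537, 11825] 1 34944 [⟨14, 34, 0⟩] [⟨25, 16, 963⟩, ⟨14, 34, 968⟩]))) (.node (.leaf (⟨1, 2, 23269, 0, 53704, 2, 34944⟩, .sync ⟨27, 26, 775⟩)) (.leaf (⟨0, 0, 34944, 0, 34944, 1, 34944⟩, .dfn)))))) (.node (.node (.node (.node (.leaf (⟨1, 0, 21721, 0, 21721, 0, 34944⟩, .base)) (.leaf (⟨0, 1, 34944, 1, 34944, 3, 34944⟩, .dfn))) (.node (.leaf (⟨1, 1, 52473, 0, 59612, 1, 34944⟩, .mul 17 3)) (.leaf (⟨0, 2, 18086, 0, 20321,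 3, 26552⟩, .fill 8 7 6 [54904, 65537, 11825] 1 34944 [⟨47, 1, 0⟩, ⟨32, 26, 1441⟩] [⟨49, 34, 1513⟩])))) (.node (.node (.leaf (⟨1, 1, 59557, 0, 60584, 1, 34944⟩, .mul 9 5)) (.leaf (⟨1, 3, 23436, 0, 31968, 3, 34944⟩, .mul 41 38))) (.node (.leaf (⟨0, 0, 34944, 1, 34944, 2, 34944⟩, .dfn)) (.leaf (⟨0, 0, 34944, 0, 34944, 1, 34944⟩, .dfn))))) (.node (.node (.node (.leaf (⟨1, 0, 21693, 0, 21693, 0, 34944⟩, .base)) (.leaf (⟨1, 3, 39304, 0, 21664, 3, 34944⟩, .sync ⟨37, 34, 1163⟩))) (.node (.leaf (⟨1, 1, 20621, 0, 40128, 1, 34944⟩, .mul 5 3)) (.leaf (⟨1, 1, 27162, 0, 59544, 1, 34944⟩, .mul 53 46)))) (.node (.node (.leaf (⟨1, 1, 34944, 0, 34944, 1, 34944⟩, .unit)) (.leaf (⟨1, 1, 51888, 0, 51409, 1, 34944⟩, .close 8 5 34944 [⟨14, 34, 0⟩, ⟨45, 44, 981⟩, ⟨43, 35, 1248⟩, ⟨19, 16, 22⟩]))) (.node (.leaf (⟨1, 2, 39848,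 0, 39855, 2, 34944⟩, .sync ⟨29, 26, 1355⟩)) (.leaf (⟨0, 0, 34944, 0, 34944, 1, 34944⟩, .dfn))))))) (.node (.node (.node (.node (.node (.leaf (⟨0, 1, 34944, 0, 34944, 0, 34944⟩, .inv 0)) (.leaf (⟨1, 2, 22698, 0, 54147, 2, 34944⟩, .mul 31 30))) (.node (.leaf (⟨1, 1, 22736, 0, 53377, 1, 34944⟩, .mul 10 3)) (.leaf (⟨1, 1, 40730, 0, 53492, 1, 34944⟩, .mul 48 5)))) (.node (.node (.leaf (⟨1, 1, 39096, 0, 28865, 1, 34944⟩, .mul 8 3)) (.leaf (⟨1, 3, 51846, 0, 47280, 3, 34944⟩, .mul 40 38))) (.node (.leaf (⟨1, 1, 61624, 0, 30953, 1, 34944⟩, .mul 24 3)) (.leaf (⟨0, 0, 34944, 0, 34944, 1, 34944⟩, .dfn))))) (.node (.node (.node (.leaf (⟨1, 1, 62697, 0, 30869, 1, 34944⟩, .sync ⟨4, 0, 761⟩)) (.leaf (⟨1, 1, 39149, 0, 21664, 1, 34944⟩, .mul 36 3))) (.node (.leaf (⟨1, 0, 54904, 0, 54904, 0, 34944⟩, .base)) (.leaf (⟨1,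 1, 43818, 0, 43241, 1, 34944⟩, .mul 52 5)))) (.node (.node (.leaf (⟨1, 0, 34944, 0, 34944, 0, 34944⟩, .base)) (.leaf (⟨1, 3, 51338, 0, 39120, 3, 34944⟩, .mul 42 38))) (.node (.leaf (⟨1, 0, 39855, 0, 39855, 0, 34944⟩, .base)) (.leaf (⟨0, 0, 34944, 0, 34944, 1, 34944⟩, .dfn)))))) (.node (.node (.node (.node (.leaf (⟨1, 1, 47292, 0, 21721, 1, 34944⟩, .sync ⟨2, 0, 1154⟩)) (.leaf (⟨0, 3, 34944, 1, 34944, 1, 34944⟩, .inv 34))) (.node (.leaf (⟨1, 1, 31901, 0, 54500, 1, 34944⟩, .mul 18 3)) (.leaf (⟨1, 1, 20621, 0, 40128, 1, 34944⟩, .mul 5 3)))) (.node (.node (.leaf (⟨1, 1, 51361, 0, 51376, 1, 34944⟩, .mul 3 5)) (.leaf (⟨1, 3, 34944, 0, 34944, 3, 34944⟩, .unit))) (.node (.leaf (⟨1, 0, 53704, 0, 53704, 0, 34944⟩, .base)) (.leaf (⟨0, 0, 34944, 0, 34944, 1, 34944⟩, .dfn))))) (.node (.node (.node (.leaf (⟨1, 1, 40172,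 0, 21693, 1, 34944⟩, .sync ⟨6, 0, 172⟩)) (.leaf (⟨1, 3, 21388, 0, 51376, 3, 34944⟩, .sync ⟨11, 34, 1087⟩))) (.node (.leaf (⟨1, 1, 54449, 0, 22780, 1, 34944⟩, .mul 22 3)) (.leaf (⟨1, 1, 56948, 0, 54445, 1, 34944⟩, .mul 54 7)))) (.node (.node (.leaf (⟨1, 0, 56861, 0, 56861, 0, 34944⟩, .base)) (.leaf (⟨1, 1, 34944, 0, 34944, 1, 34944⟩, .unit))) (.node (.leaf (⟨1, 2, 51586, 0, 20716, 2, 34944⟩, .mul 28 30)) (.leaf (⟨0, 0, 34944, 0, 34944, 1, 34944⟩, .dfn))))))))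

/-- definitions -/
def defsFiveBad14 : List (ℕ × ℕ × ℕ) := [(0, 34944, 0), (0, 34944, 1), (1, 34944, 1)]

/-- the facts -/
def factsFiveBad15 : Tree (Fct × Why) :=
  (.node (.node (.node (.node (.node (.node (.leaf (⟨0, 0, 34944, 0, 34944, 1, 34944⟩, .dfn)) (.leaf (⟨1, 0, 14181, 0, 14181, 0, 34944⟩, .base))) (.node (.leaf (⟨0, 1, 14181, 0, 56861, 1, 27232⟩, .fill 4 1 2 [34944, 45423, 34944, 65536, 54904] 0 34944 [⟨13, 0, 0⟩] [⟨15, 0, 477⟩])) (.leaf (⟨1, 1, 22361, 0, 47292, 1, 34944⟩, .mul 46 5)))) (.node (.node (.leaf (⟨1, 1, 43140, 0, 44184, 1, 34944⟩, .mul 7 3)) (.leaf (⟨1, 3, 22914, 0, 23696, 3, 34944⟩, .mul 38 39))) (.node (.leaf (⟨1, 1, 29828, 0, 48341, 1, 34944⟩, .mul 23 7)) (.leaf (⟨0, 0, 34944, 0, 34944, 1, 34944⟩, .dfn))))) (.node (.node (.node (.leaf (⟨1, 0, 30869, 0, 30869, 0, 34944⟩, .base))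 (.leaf (⟨1, 1, 43200, 0, 35048, 1, 34944⟩, .mul 20 3))) (.node (.leaf (⟨1, 1, 40121, 0, 28892, 1, 34944⟩, .mul 12 3)) (.leaf (⟨1, 1, 63854, 0, 21704, 1, 34944⟩, .mul 51 46)))) (.node (.node (.leaf (⟨1, 1, 44165, 0, 44165, 1, 34944⟩, .mul 3 7)) (.leaf (⟨0, 3, 27399, 0, 26112, 3, 26559⟩, .fill 8 1 2 [34944, 58730, 34944, 65536, 54904, 65537, 11825] 1 34944 [⟨14, 34, 0⟩] [⟨25, 16, 474⟩, ⟨14, 34, 1424⟩]))) (.node (.leaf (⟨1, 2, 23269, 0, 53704, 2, 34944⟩, .sync ⟨27, 26, 775⟩)) (.leaf (⟨0, 0, 34944, 0, 34944, 1, 34944⟩, .dfn)))))) (.node (.node (.node (.node (.leaf (⟨1, 0, 21721, 0, 21721, 0, 34944⟩, .base)) (.leaf (⟨0, 1, 34944, 1, 34944, 3, 34944⟩, .dfn))) (.node (.leaf (⟨1, 1, 52473, 0, 59612, 1, 34944⟩, .mul 17 3)) (.leaf (⟨1, 1, 47375, 0, 21736, 1, 34944⟩, .mul 48 5)))) (.node (.node (.leaf (⟨1, 1, 59557,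 0, 60584, 1, 34944⟩, .mul 9 5)) (.leaf (⟨1, 3, 23436, 0, 31968, 3, 34944⟩, .mul 41 38))) (.node (.leaf (⟨0, 0, 34944, 1, 34944, 2, 34944⟩, .dfn)) (.leaf (⟨0, 0, 34944, 0, 34944, 1, 34944⟩, .dfn))))) (.node (.node (.node (.leaf (⟨1, 0, 21693, 0, 21693, 0, 34944⟩, .base)) (.leaf (⟨1, 3, 39304, 0, 21664, 3, 34944⟩, .sync ⟨37, 34, 1163⟩))) (.node (.leaf (⟨1, 1, 20621, 0, 40128, 1, 34944⟩, .mul 5 3)) (.leaf (⟨1, 1, 63968, 0, 28881, 1, 34944⟩, .mul 53 7)))) (.node (.node (.leaf (⟨1, 1, 34944, 0, 34944, 1, 34944⟩, .unit)) (.leaf (⟨1, 1, 51955, 0, 51409, 1, 34944⟩, .close 8 5 34944 [⟨14, 34, 0⟩, ⟨45, 44, 981⟩, ⟨43, 35, 1232⟩, ⟨19, 16, 469⟩]))) (.node (.leaf (⟨1, 2, 39848, 0, 39855, 2, 34944⟩, .sync ⟨29, 26, 1355⟩)) (.leaf (⟨0, 0, 34944, 0, 34944, 1, 34944⟩, .dfn))))))) (.node (.node (.node (.node (.node (.leaf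 (⟨0, 1, 34944, 0, 34944, 0, 34944⟩, .inv 0)) (.leaf (⟨1, 2, 22698, 0, 54147, 2, 34944⟩, .mul 31 30))) (.node (.leaf (⟨1, 1, 22736, 0, 53377, 1, 34944⟩, .mul 10 3)) (.leaf (⟨0, 2, 18087, 0, 27311, 3, 18188⟩, .fill 8 7 6 [54904, 65537, 11825] 1 34944 [⟨47, 1, 0⟩, ⟨32, 26, 1224⟩] [⟨48, 34, 303⟩])))) (.node (.node (.leaf (⟨1, 1, 39096, 0, 28865, 1, 34944⟩, .mul 8 3)) (.leaf (⟨1, 3, 51846, 0, 47280, 3, 34944⟩, .mul 40 38))) (.node (.leaf (⟨1, 1, 61624, 0, 30953, 1, 34944⟩, .mul 24 3)) (.leaf (⟨0, 0, 34944, 0, 34944, 1, 34944⟩, .dfn))))) (.node (.node (.node (.leaf (⟨1, 1, 62697, 0, 30869, 1, 34944⟩, .sync ⟨4, 0, 761⟩)) (.leaf (⟨1, 1, 39149, 0, 21664, 1, 34944⟩, .mul 36 3))) (.node (.leaf (⟨1, 0, 54904, 0, 54904, 0, 34944⟩, .base)) (.leaf (⟨1, 1, 20236, 0, 44284, 1, 34944⟩, .mul 52 3)))) (.node (.node (.leaf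 (⟨1, 0, 34944, 0, 34944, 0, 34944⟩, .base)) (.leaf (⟨1, 3, 51338, 0, 39120, 3, 34944⟩, .mul 42 38))) (.node (.leaf (⟨1, 0, 39855, 0, 39855, 0, 34944⟩, .base)) (.leaf (⟨0, 0, 34944, 0, 34944, 1, 34944⟩, .dfn)))))) (.node (.node (.node (.node (.leaf (⟨1, 1, 47292, 0, 21721, 1, 34944⟩, .sync ⟨2, 0, 1154⟩)) (.leaf (⟨0, 3, 34944, 1, 34944, 1, 34944⟩, .inv 34))) (.node (.leaf (⟨1, 1, 31901, 0, 54500, 1, 34944⟩, .mul 18 3)) (.leaf (⟨1, 1, 29046, 0, 23705, 1, 34944⟩, .mul 50 46)))) (.node (.node (.leaf (⟨1, 1, 51361, 0, 51376, 1, 34944⟩, .mul 3 5)) (.leaf (⟨1, 3, 34944, 0, 34944, 3, 34944⟩, .unit))) (.node (.leaf (⟨1, 0, 53704, 0, 53704, 0, 34944⟩, .base)) (.leaf (⟨0, 0, 34944, 0, 34944, 1, 34944⟩, .dfn))))) (.node (.node (.node (.leaf (⟨1, 1, 40172, 0, 21693, 1, 34944⟩, .sync ⟨6, 0, 172⟩)) (.leaf (⟨1, 3, 21388,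 0, 51376, 3, 34944⟩, .sync ⟨11, 34, 1087⟩))) (.node (.leaf (⟨1, 1, 54449, 0, 22780, 1, 34944⟩, .mul 22 3)) (.leaf (⟨1, 1, 63968, 0, 28849, 1, 34944⟩, .close 9 2 34944 [⟨47, 1, 0⟩, ⟨21, 26, 0⟩, ⟨33, 49, 1242⟩, ⟨43, 35, 1246⟩])))) (.node (.node (.leaf (⟨1, 0, 56861, 0, 56861, 0, 34944⟩, .base)) (.leaf (⟨1, 1, 34944, 0, 34944, 1, 34944⟩, .unit))) (.node (.leaf (⟨1, 2, 51586, 0, 20716, 2, 34944⟩, .mul 28 30)) (.leaf (⟨0, 0, 34944, 0, 34944, 1, 34944⟩, .dfn))))))))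

/-- definitions -/
def defsFiveBad15 : List (ℕ × ℕ × ℕ) := [(0, 34944, 0), (0, 34944, 1), (1, 34944, 1)]

/-- the facts -/
def factsFiveBad16 : Tree (Fct × Why) :=
  (.node (.node (.node (.node (.node (.leaf (⟨0, 0, 34944, 0, 34944, 1, 34944⟩, .dfn)) (.leaf (⟨1, 1, 34944, 0, 34944, 1, 34944⟩, .unit))) (.node (.leaf (⟨1, 1, 30932, 0, 62617, 1, 34944⟩, .mul 7 2)) (.leaf (⟨0, 0, 34944, 0, 34944, 1, 34944⟩, .dfn)))) (.node (.node (.leaf (⟨1, 1, 62697, 0, 30869, 1, 34944⟩, .sync ⟨3, 0, 761⟩)) (.leaf (⟨0, 2, 34303, 0, 35978, 2, 50679⟩, .fill 8 3 4 [27399, 65537, 34944, 58731, 34944] 1 34946 [⟨16, 15, 0⟩, ⟨2, 18, 719⟩] [⟨17, 18, 693⟩]))) (.node (.leaf (⟨1, 1, 28857, 0, 47353, 1, 34944⟩, .mul 11 4)) (.leaf (⟨0, 0, 34944, 0, 34944, 1, 34944⟩, .dfn))))) (.node (.node (.node (.leaf (⟨1, 1, 47292, 0, 21721, 1,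 34944⟩, .sync ⟨1, 0, 1154⟩)) (.leaf (⟨0, 1, 36710, 1, 34944, 2, 34944⟩, .dfn))) (.node (.leaf (⟨1, 1, 22729, 0, 61584, 1, 34944⟩, .mul 9 6)) (.leaf (⟨0, 0, 34944, 0, 34944, 1, 34944⟩, .dfn)))) (.node (.node (.leaf (⟨1, 1, 40172, 0, 21693, 1, 34944⟩, .sync ⟨5, 0, 172⟩)) (.leaf (⟨1, 1, 40108, 0, 21725, 1, 34944⟩, .mul 12 4))) (.node (.leaf (⟨1, 0, 31898, 0, 31898, 0, 34944⟩, .base)) (.leaf (⟨0, 0, 34944, 0, 34944, 1, 34944⟩, .dfn)))))) (.node (.node (.node (.node (.leaf (⟨1, 0, 21721, 0, 21721, 0, 34944⟩, .base)) (.leaf (⟨1, 1, 20621, 0, 40128, 1, 34944⟩, .mul 4 2))) (.node (.leaf (⟨1, 1, 60669, 0, 52420, 1, 34944⟩, .mul 8 2)) (.leaf (⟨0, 0, 34944, 0, 34944, 1, 34944⟩, .dfn)))) (.node (.node (.leaf (⟨1, 0, 21693, 0, 21693, 0, 34944⟩, .base)) (.leaf (⟨1, 2, 34944, 0, 34944, 2, 34944⟩, .unit))) (.node (.leaf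 (⟨1, 0, 34944, 0, 34944, 0, 34944⟩, .base)) (.leaf (⟨0, 0, 34944, 0, 34944, 1, 34944⟩, .dfn))))) (.node (.node (.node (.leaf (⟨1, 0, 30869, 0, 30869, 0, 34944⟩, .base)) (.leaf (⟨0, 2, 34944, 1, 34944, 1, 36710⟩, .inv 18))) (.node (.leaf (⟨1, 1, 60576, 0, 51365, 1, 34944⟩, .mul 10 6)) (.leaf (⟨0, 0, 34944, 0, 34944, 1, 34944⟩, .dfn)))) (.node (.node (.leaf (⟨1, 1, 51361, 0, 51376, 1, 34944⟩, .mul 2 4)) (.leaf (⟨1, 1, 40108, 0, 28880, 1, 34944⟩, .close 8 7 34946 [⟨16, 15, 0⟩, ⟨7, 18, 530⟩, ⟨21, 20, 364⟩, ⟨21, 19, 286⟩]))) (.node (.leaf (⟨0, 1, 34946, 0, 31898, 1, 21723⟩, .fill 0 0 2 [51360, 34946, 65536, 34946] 0 34944 [⟨13, 0, 0⟩] [⟨14, 0, 250⟩])) (.leaf (⟨0, 0, 34944, 0, 34944, 1, 34944⟩, .dfn)))))))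

/-- definitions -/
def defsFiveBad16 : List (ℕ × ℕ × ℕ) := [(0, 34944, 0), (1, 36710, 1)]

/-- the facts -/
def factsFiveBad17 : Tree (Fct × Why) :=
  (.node (.node (.node (.node (.node (.node (.leaf (⟨0, 0, 34944, 0, 34944, 1, 34944⟩, .dfn)) (.leaf (⟨1, 0, 14181, 0, 14181, 0, 34944⟩, .base))) (.node (.leaf (⟨0, 1, 14181, 0, 56861, 1, 27232⟩, .fill 4 1 2 [34944, 45423, 34944, 65536, 54904] 0 34944 [⟨13, 0, 0⟩] [⟨15, 0, 477⟩])) (.leaf (⟨1, 1, 22361, 0, 47292, 1, 34944⟩, .mul 46 5)))) (.node (.node (.leaf (⟨1, 1, 43140, 0, 44184, 1, 34944⟩, .mul 7 3)) (.leaf (⟨1, 3, 22914, 0, 23696, 3, 34944⟩, .mul 38 39))) (.node (.leaf (⟨1, 1, 29828, 0, 48341, 1, 34944⟩, .mul 23 7)) (.leaf (⟨0, 0, 34944, 0, 34944, 1, 34944⟩, .dfn))))) (.node (.node (.node (.leaf (⟨1, 0, 30869, 0, 30869, 0, 34944⟩, .base)) (.leaf (⟨1,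 1, 43200, 0, 35048, 1, 34944⟩, .mul 20 3))) (.node (.leaf (⟨1, 1, 40121, 0, 28892, 1, 34944⟩, .mul 12 3)) (.leaf (⟨1, 1, 20383, 0, 44221, 1, 34944⟩, .mul 51 3)))) (.node (.node (.leaf (⟨1, 1, 44165, 0, 44165, 1, 34944⟩, .mul 3 7)) (.leaf (⟨0, 3, 27399, 0, 26112, 3, 26541⟩, .fill 8 1 2 [34944, 58744, 34944, 65536, 54904, 65537, 11825] 1 34944 [⟨14, 34, 0⟩] [⟨25, 16, 627⟩, ⟨14, 34, 310⟩]))) (.node (.leaf (⟨1, 2, 23269, 0, 53704, 2, 34944⟩, .sync ⟨27, 26, 775⟩)) (.leaf (⟨0, 0, 34944, 0, 34944, 1, 34944⟩, .dfn)))))) (.node (.node (.node (.node (.leaf (⟨1, 0, 21721, 0, 21721, 0, 34944⟩, .base)) (.leaf (⟨0, 1, 34944, 1, 34944, 3, 34944⟩, .dfn))) (.node (.leaf (⟨1, 1, 52473, 0, 59612, 1, 34944⟩, .mul 17 3)) (.leaf (⟨1, 1, 29318, 0, 23720, 1, 34944⟩, .mul 3 46)))) (.node (.node (.leaf (⟨1, 1, 59557, 0, 60584,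 1, 34944⟩, .mul 9 5)) (.leaf (⟨1, 3, 23436, 0, 31968, 3, 34944⟩, .mul 41 38))) (.node (.leaf (⟨0, 0, 34944, 1, 34944, 2, 34944⟩, .dfn)) (.leaf (⟨0, 0, 34944, 0, 34944, 1, 34944⟩, .dfn))))) (.node (.node (.node (.leaf (⟨1, 0, 21693, 0, 21693, 0, 34944⟩, .base)) (.leaf (⟨1, 3, 39304, 0, 21664, 3, 34944⟩, .sync ⟨37, 34, 1163⟩))) (.node (.leaf (⟨1, 1, 20621, 0, 40128, 1, 34944⟩, .mul 5 3)) (.leaf (⟨1, 1, 63859, 0, 28849, 1, 34944⟩, .close 9 2 34944 [⟨47, 1, 0⟩, ⟨21, 26, 0⟩, ⟨33, 49, 387⟩, ⟨43, 35, 1411⟩])))) (.node (.node (.leaf (⟨1, 1, 34944, 0, 34944, 1, 34944⟩, .unit)) (.leaf (⟨1, 1, 51955, 0, 51409, 1, 34944⟩, .close 8 5 34944 [⟨14, 34, 0⟩, ⟨45, 44, 981⟩, ⟨43, 35, 1232⟩, ⟨19, 16, 469⟩]))) (.node (.leaf (⟨1, 2, 39848, 0, 39855, 2, 34944⟩, .sync ⟨29, 26, 1355⟩)) (.leaf (⟨0, 0, 34944, 0, 34944, 1, 34944⟩,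 .dfn))))))) (.node (.node (.node (.node (.node (.leaf (⟨0, 1, 34944, 0, 34944, 0, 34944⟩, .inv 0)) (.leaf (⟨1, 2, 22698, 0, 54147, 2, 34944⟩, .mul 31 30))) (.node (.leaf (⟨1, 1, 22736, 0, 53377, 1, 34944⟩, .mul 10 3)) (.leaf (⟨0, 2, 17958, 0, 27311, 3, 18188⟩, .fill 8 7 6 [54904, 65537, 11825] 1 34944 [⟨47, 1, 0⟩, ⟨32, 26, 1326⟩] [⟨48, 34, 303⟩])))) (.node (.node (.leaf (⟨1, 1, 39096, 0, 28865, 1, 34944⟩, .mul 8 3)) (.leaf (⟨1, 3, 51846, 0, 47280, 3, 34944⟩, .mul 40 38))) (.node (.leaf (⟨1, 1, 61624, 0, 30953, 1, 34944⟩, .mul 24 3)) (.leaf (⟨0, 0, 34944, 0, 34944, 1, 34944⟩, .dfn))))) (.node (.node (.node (.leaf (⟨1, 1, 62697, 0, 30869, 1, 34944⟩, .sync ⟨4, 0, 761⟩)) (.leaf (⟨1, 1, 39149, 0, 21664, 1, 34944⟩, .mul 36 3))) (.node (.leaf (⟨1, 0, 54904, 0, 54904, 0, 34944⟩, .base)) (.leaf (⟨1, 1, 63859,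 0, 28913, 1, 34944⟩, .mul 52 7)))) (.node (.node (.leaf (⟨1, 0, 34944, 0, 34944, 0, 34944⟩, .base)) (.leaf (⟨1, 3, 51338, 0, 39120, 3, 34944⟩, .mul 42 38))) (.node (.leaf (⟨1, 0, 39855, 0, 39855, 0, 34944⟩, .base)) (.leaf (⟨0, 0, 34944, 0, 34944, 1, 34944⟩, .dfn)))))) (.node (.node (.node (.node (.leaf (⟨1, 1, 47292, 0, 21721, 1, 34944⟩, .sync ⟨2, 0, 1154⟩)) (.leaf (⟨0, 3, 34944, 1, 34944, 1, 34944⟩, .inv 34))) (.node (.leaf (⟨1, 1, 31901, 0, 54500, 1, 34944⟩, .mul 18 3)) (.leaf (⟨1, 1, 63997, 0, 21753, 1, 34944⟩, .mul 50 46)))) (.node (.node (.leaf (⟨1, 1, 51361, 0, 51376, 1, 34944⟩, .mul 3 5)) (.leaf (⟨1, 3, 34944, 0, 34944, 3, 34944⟩, .unit))) (.node (.leaf (⟨1, 0, 53704, 0, 53704, 0, 34944⟩, .base)) (.leaf (⟨0, 0, 34944, 0, 34944, 1, 34944⟩, .dfn))))) (.node (.node (.node (.leaf (⟨1, 1, 40172, 0,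 21693, 1, 34944⟩, .sync ⟨6, 0, 172⟩)) (.leaf (⟨1, 3, 21388, 0, 51376, 3, 34944⟩, .sync ⟨11, 34, 1087⟩))) (.node (.leaf (⟨1, 1, 54449, 0, 22780, 1, 34944⟩, .mul 22 3)) (.leaf (⟨0, 0, 34944, 0, 34944, 1, 34944⟩, .dfn)))) (.node (.node (.leaf (⟨1, 0, 56861, 0, 56861, 0, 34944⟩, .base)) (.leaf (⟨1, 1, 34944, 0, 34944, 1, 34944⟩, .unit))) (.node (.leaf (⟨1, 2, 51586, 0, 20716, 2, 34944⟩, .mul 28 30)) (.leaf (⟨0, 0, 34944, 0, 34944, 1, 34944⟩, .dfn))))))))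

/-- definitions -/
def defsFiveBad17 : List (ℕ × ℕ × ℕ) := [(0, 34944, 0), (0, 34944, 1), (1, 34944, 1)]

/-- the facts -/
def factsFiveBad18 : Tree (Fct × Why) :=
  (.node (.node (.node (.node (.node (.node (.leaf (⟨0, 0, 34944, 0, 34944, 1, 34944⟩, .dfn)) (.leaf (⟨1, 1, 39096, 0, 28865, 1, 34944⟩, .mul 31 2))) (.node (.leaf (⟨1, 1, 29828, 0, 48341, 1, 34944⟩, .mul 15 6)) (.leaf (⟨0, 0, 34944, 0, 34944, 1, 34944⟩, .dfn)))) (.node (.node (.leaf (⟨1, 1, 44165, 0, 44165, 1, 34944⟩, .mul 2 6)) (.leaf (⟨1, 1, 51376, 0, 51361, 1, 34944⟩, .mul 39 4))) (.node (.leaf (⟨1, 3, 22914, 0, 23696, 3, 34944⟩, .mul 22 23)) (.leaf (⟨0, 0, 34944, 0, 34944, 1, 34944⟩, .dfn))))) (.node (.node (.node (.leaf (⟨1, 1, 62697, 0, 30869, 1, 34944⟩, .sync ⟨3, 0, 761⟩)) (.leaf (⟨1, 1, 31901, 0, 54500, 1, 34944⟩, .mul 35 2))) (.node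 (.leaf (⟨1, 1, 43200, 0, 35048, 1, 34944⟩, .mul 13 2)) (.leaf (⟨0, 0, 34944, 0, 34944, 1, 34944⟩, .dfn)))) (.node (.node (.leaf (⟨0, 1, 14181, 0, 56861, 1, 27232⟩, .fill 4 1 2 [34944, 45423, 34944, 65536, 54904] 0 34944 [⟨9, 0, 0⟩] [⟨11, 0, 477⟩])) (.leaf (⟨0, 0, 34944, 0, 34944, 1, 34944⟩, .dfn))) (.node (.leaf (⟨0, 3, 27399, 0, 26112, 3, 26413⟩, .fill 8 1 2 [34944, 58745, 34944, 65536, 54904, 65537, 11825] 1 34944 [⟨10, 18, 0⟩] [⟨17, 12, 542⟩, ⟨10, 18, 950⟩])) (.leaf (⟨0, 0, 34944, 0, 34944, 1, 34944⟩, .dfn)))))) (.node (.node (.node (.node (.leaf (⟨1, 1, 47292, 0, 21721, 1, 34944⟩, .sync ⟨1, 0, 1154⟩)) (.leaf (⟨1, 1, 22736, 0, 53377, 1, 34944⟩, .mul 33 2))) (.node (.leaf (⟨0, 1, 34944, 1, 34944, 3, 34944⟩, .dfn)) (.leaf (⟨0, 0, 34944, 0, 34944, 1, 34944⟩, .dfn)))) (.node (.node (.leaf (⟨1, 1, 34944,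 0, 34944, 1, 34944⟩, .unit)) (.leaf (⟨0, 0, 34944, 0, 34944, 1, 34944⟩, .dfn))) (.node (.leaf (⟨1, 3, 23436, 0, 31968, 3, 34944⟩, .mul 25 22)) (.leaf (⟨0, 0, 34944, 0, 34944, 1, 34944⟩, .dfn))))) (.node (.node (.node (.leaf (⟨1, 1, 40172, 0, 21693, 1, 34944⟩, .sync ⟨5, 0, 172⟩)) (.leaf (⟨1, 1, 21688, 0, 47340, 1, 34944⟩, .mul 37 4))) (.node (.leaf (⟨1, 3, 39304, 0, 21664, 3, 34944⟩, .sync ⟨21, 18, 1163⟩)) (.leaf (⟨0, 0, 34944, 0, 34944, 1, 34944⟩, .dfn)))) (.node (.node (.leaf (⟨1, 1, 20621, 0, 40128, 1, 34944⟩, .mul 4 2)) (.leaf (⟨0, 0, 34944, 0, 34944, 1, 34944⟩, .dfn))) (.node (.leaf (⟨1, 1, 34944, 0, 34944, 1, 34944⟩, .unit)) (.leaf (⟨0, 0, 34944, 0, 34944, 1, 34944⟩, .dfn))))))) (.node (.node (.node (.node (.node (.leaf (⟨1, 0, 21721, 0, 21721, 0, 34944⟩, .base)) (.leaf (⟨1, 1, 59557, 0, 60584,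 1, 34944⟩, .mul 32 4))) (.node (.leaf (⟨1, 1, 61624, 0, 30953, 1, 34944⟩, .mul 16 2)) (.leaf (⟨0, 0, 34944, 0, 34944, 1, 34944⟩, .dfn)))) (.node (.node (.leaf (⟨1, 0, 34944, 0, 34944, 0, 34944⟩, .base)) (.leaf (⟨1, 1, 51376, 0, 51409, 1, 34944⟩, .close 9 4 34944 [⟨30, 18, 0⟩, ⟨29, 28, 44⟩, ⟨27, 19, 1051⟩, ⟨36, 12, 1060⟩]))) (.node (.leaf (⟨1, 3, 51846, 0, 47280, 3, 34944⟩, .mul 24 22)) (.leaf (⟨0, 0, 34944, 0, 34944, 1, 34944⟩, .dfn))))) (.node (.node (.node (.leaf (⟨1, 0, 21693, 0, 21693, 0, 34944⟩, .base)) (.leaf (⟨1, 1, 51361, 0, 51376, 1, 34944⟩, .mul 2 4))) (.node (.leaf (⟨1, 1, 39149, 0, 21664, 1, 34944⟩, .mul 20 2)) (.leaf (⟨0, 0, 34944, 0, 34944, 1, 34944⟩, .dfn)))) (.node (.node (.leaf (⟨1, 1, 40121, 0, 28892, 1, 34944⟩, .mul 8 2)) (.leaf (⟨0, 0, 34944, 0, 34944, 1, 34944⟩, .dfn))) (.node (.leaf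 (⟨1, 3, 51338, 0, 39120, 3, 34944⟩, .mul 26 22)) (.leaf (⟨0, 0, 34944, 0, 34944, 1, 34944⟩, .dfn)))))) (.node (.node (.node (.node (.leaf (⟨1, 0, 30869, 0, 30869, 0, 34944⟩, .base)) (.leaf (⟨1, 1, 52473, 0, 59612, 1, 34944⟩, .mul 34 2))) (.node (.leaf (⟨0, 3, 34944, 1, 34944, 1, 34944⟩, .inv 18)) (.leaf (⟨0, 0, 34944, 0, 34944, 1, 34944⟩, .dfn)))) (.node (.node (.leaf (⟨1, 0, 56861, 0, 56861, 0, 34944⟩, .base)) (.leaf (⟨0, 0, 34944, 0, 34944, 1, 34944⟩, .dfn))) (.node (.leaf (⟨1, 3, 34944, 0, 34944, 3, 34944⟩, .unit)) (.leaf (⟨0, 0, 34944, 0, 34944, 1, 34944⟩, .dfn))))) (.node (.node (.node (.leaf (⟨1, 1, 51361, 0, 51376, 1, 34944⟩, .mul 2 4)) (.leaf (⟨1, 1, 47277, 0, 21704, 1, 34944⟩, .mul 38 4))) (.node (.leaf (⟨1, 3, 21388, 0, 51376, 3, 34944⟩, .sync ⟨7, 18, 1087⟩)) (.leaf (⟨0, 0, 34944, 0, 34944,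 1, 34944⟩, .dfn)))) (.node (.node (.leaf (⟨1, 1, 54449, 0, 22780, 1, 34944⟩, .mul 14 2)) (.leaf (⟨0, 0, 34944, 0, 34944, 1, 34944⟩, .dfn))) (.node (.leaf (⟨1, 1, 43140, 0, 44184, 1, 34944⟩, .mul 6 2)) (.leaf (⟨0, 0, 34944, 0, 34944, 1, 34944⟩, .dfn))))))))

/-- definitions -/
def defsFiveBad18 : List (ℕ × ℕ × ℕ) := [(0, 34944, 0), (0, 34944, 1), (1, 34944, 1)]

/-- the facts -/
def factsFiveBad19 : Tree (Fct × Why) :=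
  (.node (.node (.node (.node (.node (.node (.leaf (⟨0, 0, 34944, 0, 34944, 1, 34944⟩, .dfn)) (.leaf (⟨1, 0, 14181, 0, 14181, 0, 34944⟩, .base))) (.node (.leaf (⟨0, 1, 14181, 0, 56861, 1, 27232⟩, .fill 4 1 2 [34944, 45423, 34944, 65536, 54904] 0 34944 [⟨13, 0, 0⟩] [⟨15, 0, 477⟩])) (.leaf (⟨1, 1, 29388, 0, 23720, 1, 34944⟩, .mul 3 46)))) (.node (.node (.leaf (⟨1, 1, 43140, 0, 44184, 1, 34944⟩, .mul 7 3)) (.leaf (⟨1, 3, 22914, 0, 23696, 3, 34944⟩, .mul 38 39))) (.node (.leaf (⟨1, 1, 29828, 0, 48341, 1, 34944⟩, .mul 23 7)) (.leaf (⟨1, 1, 57063, 0, 62709, 1, 34944⟩, .mul 55 5))))) (.node (.node (.node (.leaf (⟨1, 0, 30869, 0, 30869, 0, 34944⟩, .base)) (.leaf (⟨1, 1, 43200, 0, 35048, 1, 34944⟩, .mul 20 3))) (.node (.leaf (⟨1, 1, 40121, 0, 28892, 1, 34944⟩, .mul 12 3)) (.leaf (⟨1, 1, 36704, 0, 34972, 1, 34944⟩,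 .mul 51 5)))) (.node (.node (.leaf (⟨1, 1, 44165, 0, 44165, 1, 34944⟩, .mul 3 7)) (.leaf (⟨0, 3, 27399, 0, 26112, 3, 26557⟩, .fill 8 1 2 [34944, 58746, 34944, 65536, 54904, 65537, 11825] 1 34944 [⟨14, 34, 0⟩] [⟨25, 16, 18⟩, ⟨14, 34, 1055⟩]))) (.node (.leaf (⟨1, 2, 23269, 0, 53704, 2, 34944⟩, .sync ⟨27, 26, 775⟩)) (.leaf (⟨0, 0, 34944, 0, 34944, 1, 34944⟩, .dfn)))))) (.node (.node (.node (.node (.leaf (⟨1, 0, 21721, 0, 21721, 0, 34944⟩, .base)) (.leaf (⟨0, 1, 34944, 1, 34944, 3, 34944⟩, .dfn))) (.node (.leaf (⟨1, 1, 52473, 0, 59612, 1, 34944⟩, .mul 17 3)) (.leaf (⟨0, 2, 17959, 0, 20321, 3, 26552⟩, .fill 8 7 6 [54904, 65537, 11825] 1 34944 [⟨47, 1, 0⟩, ⟨32, 26, 969⟩] [⟨49, 34, 1513⟩])))) (.node (.node (.leaf (⟨1, 1, 59557, 0, 60584, 1, 34944⟩, .mul 9 5)) (.leaf (⟨1, 3, 23436, 0, 31968, 3, 34944⟩, .mul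 41 38))) (.node (.leaf (⟨0, 0, 34944, 1, 34944, 2, 34944⟩, .dfn)) (.leaf (⟨0, 0, 34944, 0, 34944, 1, 34944⟩, .dfn))))) (.node (.node (.node (.leaf (⟨1, 0, 21693, 0, 21693, 0, 34944⟩, .base)) (.leaf (⟨1, 3, 39304, 0, 21664, 3, 34944⟩, .sync ⟨37, 34, 1163⟩))) (.node (.leaf (⟨1, 1, 20621, 0, 40128, 1, 34944⟩, .mul 5 3)) (.leaf (⟨1, 1, 14682, 0, 28888, 1, 34944⟩, .mul 53 46)))) (.node (.node (.leaf (⟨1, 1, 34944, 0, 34944, 1, 34944⟩, .unit)) (.leaf (⟨1, 1, 51888, 0, 51409, 1, 34944⟩, .close 8 5 34944 [⟨14, 34, 0⟩, ⟨45, 44, 981⟩, ⟨43, 35, 1248⟩, ⟨19, 16, 22⟩]))) (.node (.leaf (⟨1, 2, 39848, 0, 39855, 2, 34944⟩, .sync ⟨29, 26, 1355⟩)) (.leaf (⟨0, 0, 34944, 0, 34944, 1, 34944⟩, .dfn))))))) (.node (.node (.node (.node (.node (.leaf (⟨0, 1, 34944, 0, 34944, 0, 34944⟩, .inv 0)) (.leaf (⟨1, 2, 22698, 0, 54147,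 2, 34944⟩, .mul 31 30))) (.node (.leaf (⟨1, 1, 22736, 0, 53377, 1, 34944⟩, .mul 10 3)) (.leaf (⟨1, 1, 40730, 0, 53492, 1, 34944⟩, .mul 48 5)))) (.node (.node (.leaf (⟨1, 1, 39096, 0, 28865, 1, 34944⟩, .mul 8 3)) (.leaf (⟨1, 3, 51846, 0, 47280, 3, 34944⟩, .mul 40 38))) (.node (.leaf (⟨1, 1, 61624, 0, 30953, 1, 34944⟩, .mul 24 3)) (.leaf (⟨1, 1, 57063, 0, 62676, 1, 34944⟩, .close 9 2 34944 [⟨47, 1, 0⟩, ⟨21, 26, 0⟩, ⟨33, 50, 1145⟩, ⟨43, 35, 228⟩]))))) (.node (.node (.node (.leaf (⟨1, 1, 62697, 0, 30869, 1, 34944⟩, .sync ⟨4, 0, 761⟩)) (.leaf (⟨1, 1, 39149, 0, 21664, 1, 34944⟩, .mul 36 3))) (.node (.leaf (⟨1, 0, 54904, 0, 54904, 0, 34944⟩, .base)) (.leaf (⟨1, 1, 61770, 0, 30857, 1, 34944⟩, .mul 52 5)))) (.node (.node (.leaf (⟨1, 0, 34944, 0, 34944, 0, 34944⟩, .base)) (.leaf (⟨1, 3, 51338, 0, 39120, 3, 34944⟩,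 .mul 42 38))) (.node (.leaf (⟨1, 0, 39855, 0, 39855, 0, 34944⟩, .base)) (.leaf (⟨0, 0, 34944, 0, 34944, 1, 34944⟩, .dfn)))))) (.node (.node (.node (.node (.leaf (⟨1, 1, 47292, 0, 21721, 1, 34944⟩, .sync ⟨2, 0, 1154⟩)) (.leaf (⟨0, 3, 34944, 1, 34944, 1, 34944⟩, .inv 34))) (.node (.leaf (⟨1, 1, 31901, 0, 54500, 1, 34944⟩, .mul 18 3)) (.leaf (⟨1, 1, 32391, 0, 62597, 1, 34944⟩, .mul 46 7)))) (.node (.node (.leaf (⟨1, 1, 51361, 0, 51376, 1, 34944⟩, .mul 3 5)) (.leaf (⟨1, 3, 34944, 0, 34944, 3, 34944⟩, .unit))) (.node (.leaf (⟨1, 0, 53704, 0, 53704, 0, 34944⟩, .base)) (.leaf (⟨0, 0, 34944, 0, 34944, 1, 34944⟩, .dfn))))) (.node (.node (.node (.leaf (⟨1, 1, 40172, 0, 21693, 1, 34944⟩, .sync ⟨6, 0, 172⟩)) (.leaf (⟨1, 3, 21388, 0, 51376, 3, 34944⟩, .sync ⟨11, 34, 1087⟩))) (.node (.leaf (⟨1, 1, 54449, 0, 22780,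 1, 34944⟩, .mul 22 3)) (.leaf (⟨1, 1, 45322, 0, 30889, 1, 34944⟩, .mul 54 46)))) (.node (.node (.leaf (⟨1, 0, 56861, 0, 56861, 0, 34944⟩, .base)) (.leaf (⟨1, 1, 34944, 0, 34944, 1, 34944⟩, .unit))) (.node (.leaf (⟨1, 2, 51586, 0, 20716, 2, 34944⟩, .mul 28 30)) (.leaf (⟨0, 0, 34944, 0, 34944, 1, 34944⟩, .dfn))))))))

/-- definitions -/
def defsFiveBad19 : List (ℕ × ℕ × ℕ) := [(0, 34944, 0), (0, 34944, 1), (1, 34944, 1)]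

/-- the facts -/
def factsFiveBad20 : Tree (Fct × Why) :=
  (.node (.node (.node (.node (.node (.leaf (⟨0, 0, 34944, 0, 34944, 1, 34944⟩, .dfn)) (.leaf (⟨0, 1, 36710, 1, 34944, 2, 34944⟩, .dfn))) (.node (.leaf (⟨1, 1, 61597, 0, 23753, 1, 34944⟩, .mul 7 4)) (.leaf (⟨1, 1, 54496, 0, 22657, 1, 34944⟩, .close 9 2 34946 [⟨14, 13, 0⟩, ⟨4, 16, 6⟩, ⟨19, 18, 972⟩, ⟨19, 17, 361⟩])))) (.node (.node (.leaf (⟨1, 1, 62697, 0, 30869, 1, 34944⟩, .sync ⟨3, 0, 761⟩)) (.leaf (⟨1, 1, 31917, 0, 54469, 1, 34944⟩, .mul 10 6))) (.node (.leaf (⟨1, 0, 31898, 0, 31898, 0, 34944⟩, .base)) (.leaf (⟨0, 0, 34944, 0, 34944, 1, 34944⟩, .dfn))))) (.node (.node (.node (.leaf (⟨1, 1, 47292, 0, 21721, 1, 34944⟩, .sync ⟨1, 0, 1154⟩)) (.leaf (⟨0, 2, 34303, 0, 35978, 2, 50663⟩, .fill 8 3 4 [27399, 65537, 34944, 58747, 34944] 1 34946 [⟨14,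 13, 0⟩, ⟨2, 16, 719⟩] [⟨15, 16, 693⟩]))) (.node (.leaf (⟨1, 1, 51400, 0, 59616, 1, 34944⟩, .mul 9 6)) (.leaf (⟨0, 0, 34944, 0, 34944, 1, 34944⟩, .dfn)))) (.node (.node (.leaf (⟨1, 1, 40172, 0, 21693, 1, 34944⟩, .sync ⟨5, 0, 172⟩)) (.leaf (⟨1, 1, 29836, 0, 40149, 1, 34944⟩, .mul 21 4))) (.node (.leaf (⟨1, 1, 34944, 0, 34944, 1, 34944⟩, .unit)) (.leaf (⟨0, 0, 34944, 0, 34944, 1, 34944⟩, .dfn)))))) (.node (.node (.node (.node (.leaf (⟨1, 0, 21721, 0, 21721, 0, 34944⟩, .base)) (.leaf (⟨0, 2, 34944, 1, 34944, 1, 36710⟩, .inv 16))) (.node (.leaf (⟨1, 1, 31984, 0, 53412, 1, 34944⟩, .mul 8 4)) (.leaf (⟨0, 0, 34944, 0, 34944, 1, 34944⟩, .dfn)))) (.node (.node (.leaf (⟨1, 0, 21693, 0, 21693, 0, 34944⟩, .base)) (.leaf (⟨1, 1, 59604, 0, 60665, 1, 34944⟩, .mul 20 2))) (.node (.leaf (⟨0, 1, 34946, 0, 31898, 1, 21723⟩,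 .fill 0 0 2 [51360, 34946, 65536, 34946] 0 34944 [⟨11, 0, 0⟩] [⟨12, 0, 250⟩])) (.leaf (⟨0, 0, 34944, 0, 34944, 1, 34944⟩, .dfn))))) (.node (.node (.node (.leaf (⟨1, 0, 30869, 0, 30869, 0, 34944⟩, .base)) (.leaf (⟨1, 2, 34944, 0, 34944, 2, 34944⟩, .unit))) (.node (.leaf (⟨1, 0, 34944, 0, 34944, 0, 34944⟩, .base)) (.leaf (⟨0, 0, 34944, 0, 34944, 1, 34944⟩, .dfn)))) (.node (.node (.leaf (⟨1, 1, 36037, 0, 44269, 1, 34944⟩, .mul 2 2)) (.leaf (⟨1, 1, 54496, 0, 22669, 1, 34944⟩, .mul 22 6))) (.node (.leaf (⟨1, 1, 20621, 0, 40128, 1, 34944⟩, .mul 4 2)) (.leaf (⟨0, 0, 34944, 0, 34944, 1, 34944⟩, .dfn)))))))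

/-- definitions -/
def defsFiveBad20 : List (ℕ × ℕ × ℕ) := [(0, 34944, 0), (1, 36710, 1)]

/-- the facts -/
def factsFiveBad21 : Tree (Fct × Why) :=
  (.node (.node (.node (.node (.node (.leaf (⟨0, 0, 34944, 0, 34944, 1, 34944⟩, .dfn)) (.leaf (⟨0, 1, 36710, 1, 34944, 2, 34944⟩, .dfn))) (.node (.leaf (⟨1, 1, 61597, 0, 23753, 1, 34944⟩, .mul 7 4)) (.leaf (⟨1, 1, 54496, 0, 22657, 1, 34944⟩, .close 9 2 34946 [⟨14, 13, 0⟩, ⟨4, 16, 6⟩, ⟨19, 18, 972⟩, ⟨19, 17, 598⟩])))) (.node (.node (.leaf (⟨1, 1, 62697, 0, 30869, 1, 34944⟩, .sync ⟨3, 0, 761⟩)) (.leaf (⟨1, 1, 31917, 0, 54469, 1, 34944⟩, .mul 10 6))) (.node (.leaf (⟨1, 0, 31898, 0, 31898, 0, 34944⟩, .base)) (.leaf (⟨0, 0, 34944, 0, 34944, 1, 34944⟩, .dfn))))) (.node (.node (.node (.leaf (⟨1, 1, 47292, 0, 21721, 1, 34944⟩, .sync ⟨1, 0, 1154⟩)) (.leaf (⟨0, 2,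 34303, 0, 35978, 2, 50548⟩, .fill 8 3 4 [27399, 65537, 34944, 58856, 34944] 1 34946 [⟨14, 13, 0⟩, ⟨2, 16, 719⟩] [⟨15, 16, 693⟩]))) (.node (.leaf (⟨1, 1, 51400, 0, 59616, 1, 34944⟩, .mul 9 6)) (.leaf (⟨0, 0, 34944, 0, 34944, 1, 34944⟩, .dfn)))) (.node (.node (.leaf (⟨1, 1, 40172, 0, 21693, 1, 34944⟩, .sync ⟨5, 0, 172⟩)) (.leaf (⟨1, 1, 29836, 0, 40149, 1, 34944⟩, .mul 21 4))) (.node (.leaf (⟨1, 1, 34944, 0, 34944, 1, 34944⟩, .unit)) (.leaf (⟨0, 0, 34944, 0, 34944, 1, 34944⟩, .dfn)))))) (.node (.node (.node (.node (.leaf (⟨1, 0, 21721, 0, 21721, 0, 34944⟩, .base)) (.leaf (⟨0, 2, 34944, 1, 34944, 1, 36710⟩, .inv 16))) (.node (.leaf (⟨1, 1, 31984, 0, 53412, 1, 34944⟩, .mul 8 4)) (.leaf (⟨0, 0, 34944, 0, 34944, 1, 34944⟩, .dfn)))) (.node (.node (.leaf (⟨1, 0, 21693, 0, 21693, 0, 34944⟩, .base)) (.leaf (⟨1,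 1, 59604, 0, 60665, 1, 34944⟩, .mul 20 2))) (.node (.leaf (⟨0, 1, 34946, 0, 31898, 1, 21723⟩, .fill 0 0 2 [51360, 34946, 65536, 34946] 0 34944 [⟨11, 0, 0⟩] [⟨12, 0, 250⟩])) (.leaf (⟨0, 0, 34944, 0, 34944, 1, 34944⟩, .dfn))))) (.node (.node (.node (.leaf (⟨1, 0, 30869, 0, 30869, 0, 34944⟩, .base)) (.leaf (⟨1, 2, 34944, 0, 34944, 2, 34944⟩, .unit))) (.node (.leaf (⟨1, 0, 34944, 0, 34944, 0, 34944⟩, .base)) (.leaf (⟨0, 0, 34944, 0, 34944, 1, 34944⟩, .dfn)))) (.node (.node (.leaf (⟨1, 1, 36037, 0, 44269, 1, 34944⟩, .mul 2 2)) (.leaf (⟨1, 1, 54496, 0, 22669, 1, 34944⟩, .mul 22 6))) (.node (.leaf (⟨1, 1, 20621, 0, 40128, 1, 34944⟩, .mul 4 2)) (.leaf (⟨0, 0, 34944, 0, 34944, 1, 34944⟩, .dfn)))))))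

/-- definitions -/
def defsFiveBad21 : List (ℕ × ℕ × ℕ) := [(0, 34944, 0), (1, 36710, 1)]

/-- the facts -/
def factsFiveBad22 : Tree (Fct × Why) :=
  (.node (.node (.node (.node (.node (.node (.leaf (⟨0, 0, 34944, 0, 34944, 1, 34944⟩, .dfn)) (.leaf (⟨1, 0, 14181, 0, 14181, 0, 34944⟩, .base))) (.node (.leaf (⟨0, 1, 14181, 0, 56861, 1, 27232⟩, .fill 4 1 2 [34944, 45423, 34944, 65536, 54904] 0 34944 [⟨13, 0, 0⟩] [⟨15, 0, 477⟩])) (.leaf (⟨1, 1, 29388, 0, 23720, 1, 34944⟩, .mul 3 46)))) (.node (.node (.leaf (⟨1, 1, 43140, 0, 44184, 1, 34944⟩, .mul 7 3)) (.leaf (⟨1, 3, 22914, 0, 23696, 3, 34944⟩, .mul 38 39))) (.node (.leaf (⟨1, 1, 29828, 0, 48341, 1, 34944⟩, .mul 23 7)) (.leaf (⟨1, 1, 57063, 0, 62709, 1, 34944⟩, .mul 55 5))))) (.node (.node (.node (.leaf (⟨1, 0, 30869, 0, 30869, 0, 34944⟩, .base)) (.leaf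 (⟨1, 1, 43200, 0, 35048, 1, 34944⟩, .mul 20 3))) (.node (.leaf (⟨1, 1, 40121, 0, 28892, 1, 34944⟩, .mul 12 3)) (.leaf (⟨1, 1, 36704, 0, 34972, 1, 34944⟩, .mul 51 5)))) (.node (.node (.leaf (⟨1, 1, 44165, 0, 44165, 1, 34944⟩, .mul 3 7)) (.leaf (⟨0, 3, 27399, 0, 26112, 3, 26414⟩, .fill 8 1 2 [34944, 58857, 34944, 65536, 54904, 65537, 11825] 1 34944 [⟨14, 34, 0⟩] [⟨25, 16, 250⟩, ⟨14, 34, 1332⟩]))) (.node (.leaf (⟨1, 2, 23269, 0, 53704, 2, 34944⟩, .sync ⟨27, 26, 775⟩)) (.leaf (⟨0, 0, 34944, 0, 34944, 1, 34944⟩, .dfn)))))) (.node (.node (.node (.node (.leaf (⟨1, 0, 21721, 0, 21721, 0, 34944⟩, .base)) (.leaf (⟨0, 1, 34944, 1, 34944, 3, 34944⟩, .dfn))) (.node (.leaf (⟨1, 1, 52473, 0, 59612, 1, 34944⟩, .mul 17 3)) (.leaf (⟨0, 2, 18100, 0, 20321, 3, 26552⟩, .fill 8 7 6 [54904, 65537, 11825] 1 34944 [⟨47, 1, 0⟩,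 ⟨32, 26, 645⟩] [⟨49, 34, 1513⟩])))) (.node (.node (.leaf (⟨1, 1, 59557, 0, 60584, 1, 34944⟩, .mul 9 5)) (.leaf (⟨1, 3, 23436, 0, 31968, 3, 34944⟩, .mul 41 38))) (.node (.leaf (⟨0, 0, 34944, 1, 34944, 2, 34944⟩, .dfn)) (.leaf (⟨0, 0, 34944, 0, 34944, 1, 34944⟩, .dfn))))) (.node (.node (.node (.leaf (⟨1, 0, 21693, 0, 21693, 0, 34944⟩, .base)) (.leaf (⟨1, 3, 39304, 0, 21664, 3, 34944⟩, .sync ⟨37, 34, 1163⟩))) (.node (.leaf (⟨1, 1, 20621, 0, 40128, 1, 34944⟩, .mul 5 3)) (.leaf (⟨1, 1, 14682, 0, 28888, 1, 34944⟩, .mul 53 46)))) (.node (.node (.leaf (⟨1, 1, 34944, 0, 34944, 1, 34944⟩, .unit)) (.leaf (⟨1, 1, 51888, 0, 51409, 1, 34944⟩, .close 8 5 34944 [⟨14, 34, 0⟩, ⟨45, 44, 981⟩, ⟨43, 35, 1248⟩, ⟨19, 16, 22⟩]))) (.node (.leaf (⟨1, 2, 39848, 0, 39855, 2, 34944⟩, .sync ⟨29, 26, 1355⟩)) (.leaf (⟨0, 0, 34944,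 0, 34944, 1, 34944⟩, .dfn))))))) (.node (.node (.node (.node (.node (.leaf (⟨0, 1, 34944, 0, 34944, 0, 34944⟩, .inv 0)) (.leaf (⟨1, 2, 22698, 0, 54147, 2, 34944⟩, .mul 31 30))) (.node (.leaf (⟨1, 1, 22736, 0, 53377, 1, 34944⟩, .mul 10 3)) (.leaf (⟨1, 1, 40730, 0, 53492, 1, 34944⟩, .mul 48 5)))) (.node (.node (.leaf (⟨1, 1, 39096, 0, 28865, 1, 34944⟩, .mul 8 3)) (.leaf (⟨1, 3, 51846, 0, 47280, 3, 34944⟩, .mul 40 38))) (.node (.leaf (⟨1, 1, 61624, 0, 30953, 1, 34944⟩, .mul 24 3)) (.leaf (⟨1, 1, 57063, 0, 62676, 1, 34944⟩, .close 9 2 34944 [⟨47, 1, 0⟩, ⟨21, 26, 0⟩, ⟨33, 50, 1208⟩, ⟨43, 35, 1426⟩]))))) (.node (.node (.node (.leaf (⟨1, 1, 62697, 0, 30869, 1, 34944⟩, .sync ⟨4, 0, 761⟩)) (.leaf (⟨1, 1, 39149, 0, 21664, 1, 34944⟩, .mul 36 3))) (.node (.leaf (⟨1, 0, 54904, 0, 54904, 0, 34944⟩, .base)) (.leaf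 (⟨1, 1, 61770, 0, 30857, 1, 34944⟩, .mul 52 5)))) (.node (.node (.leaf (⟨1, 0, 34944, 0, 34944, 0, 34944⟩, .base)) (.leaf (⟨1, 3, 51338, 0, 39120, 3, 34944⟩, .mul 42 38))) (.node (.leaf (⟨1, 0, 39855, 0, 39855, 0, 34944⟩, .base)) (.leaf (⟨0, 0, 34944, 0, 34944, 1, 34944⟩, .dfn)))))) (.node (.node (.node (.node (.leaf (⟨1, 1, 47292, 0, 21721, 1, 34944⟩, .sync ⟨2, 0, 1154⟩)) (.leaf (⟨0, 3, 34944, 1, 34944, 1, 34944⟩, .inv 34))) (.node (.leaf (⟨1, 1, 31901, 0, 54500, 1, 34944⟩, .mul 18 3)) (.leaf (⟨1, 1, 32391, 0, 62597, 1, 34944⟩, .mul 46 7)))) (.node (.node (.leaf (⟨1, 1, 51361, 0, 51376, 1, 34944⟩, .mul 3 5)) (.leaf (⟨1, 3, 34944, 0, 34944, 3, 34944⟩, .unit))) (.node (.leaf (⟨1, 0, 53704, 0, 53704, 0, 34944⟩, .base)) (.leaf (⟨0, 0, 34944, 0, 34944, 1, 34944⟩, .dfn))))) (.node (.node (.node (.leaf (⟨1,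 1, 40172, 0, 21693, 1, 34944⟩, .sync ⟨6, 0, 172⟩)) (.leaf (⟨1, 3, 21388, 0, 51376, 3, 34944⟩, .sync ⟨11, 34, 1087⟩))) (.node (.leaf (⟨1, 1, 54449, 0, 22780, 1, 34944⟩, .mul 22 3)) (.leaf (⟨1, 1, 45322, 0, 30889, 1, 34944⟩, .mul 54 46)))) (.node (.node (.leaf (⟨1, 0, 56861, 0, 56861, 0, 34944⟩, .base)) (.leaf (⟨1, 1, 34944, 0, 34944, 1, 34944⟩, .unit))) (.node (.leaf (⟨1, 2, 51586, 0, 20716, 2, 34944⟩, .mul 28 30)) (.leaf (⟨0, 0, 34944, 0, 34944, 1, 34944⟩, .dfn))))))))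

/-- definitions -/
def defsFiveBad22 : List (ℕ × ℕ × ℕ) := [(0, 34944, 0), (0, 34944, 1), (1, 34944, 1)]

/-- the facts -/
def factsFiveBad23 : Tree (Fct × Why) :=
  (.node (.node (.node (.node (.node (.node (.leaf (⟨0, 0, 34944, 0, 34944, 1, 34944⟩, .dfn)) (.leaf (⟨1, 1, 39096, 0, 28865, 1, 34944⟩, .mul 31 2))) (.node (.leaf (⟨1, 1, 29828, 0, 48341, 1, 34944⟩, .mul 15 6)) (.leaf (⟨0, 0, 34944, 0, 34944, 1, 34944⟩, .dfn)))) (.node (.node (.leaf (⟨1, 1, 44165, 0, 44165, 1, 34944⟩, .mul 2 6)) (.leaf (⟨1, 1, 51376, 0, 51361, 1, 34944⟩, .mul 39 4))) (.node (.leaf (⟨1, 3, 22914, 0, 23696, 3, 34944⟩, .mul 22 23)) (.leaf (⟨0, 0, 34944, 0, 34944, 1, 34944⟩, .dfn))))) (.node (.node (.node (.leaf (⟨1, 1, 62697, 0, 30869, 1, 34944⟩, .sync ⟨3, 0, 761⟩)) (.leaf (⟨1, 1, 31901, 0, 54500, 1, 34944⟩, .mul 35 2))) (.node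 (.leaf (⟨1, 1, 43200, 0, 35048, 1, 34944⟩, .mul 13 2)) (.leaf (⟨0, 0, 34944, 0, 34944, 1, 34944⟩, .dfn)))) (.node (.node (.leaf (⟨0, 1, 14181, 0, 56861, 1, 27232⟩, .fill 4 1 2 [34944, 45423, 34944, 65536, 54904] 0 34944 [⟨9, 0, 0⟩] [⟨11, 0, 477⟩])) (.leaf (⟨0, 0, 34944, 0, 34944, 1, 34944⟩, .dfn))) (.node (.leaf (⟨0, 3, 27399, 0, 26112, 3, 26558⟩, .fill 8 1 2 [34944, 58858, 34944, 65536, 54904, 65537, 11825] 1 34944 [⟨10, 18, 0⟩] [⟨17, 12, 81⟩, ⟨10, 18, 1515⟩])) (.leaf (⟨0, 0, 34944, 0, 34944, 1, 34944⟩, .dfn)))))) (.node (.node (.node (.node (.leaf (⟨1, 1, 47292, 0, 21721, 1, 34944⟩, .sync ⟨1, 0, 1154⟩)) (.leaf (⟨1, 1, 22736, 0, 53377, 1, 34944⟩, .mul 33 2))) (.node (.leaf (⟨0, 1, 34944, 1, 34944, 3, 34944⟩, .dfn)) (.leaf (⟨0, 0, 34944, 0, 34944, 1, 34944⟩, .dfn)))) (.node (.node (.leaf (⟨1, 1, 34944,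 0, 34944, 1, 34944⟩, .unit)) (.leaf (⟨0, 0, 34944, 0, 34944, 1, 34944⟩, .dfn))) (.node (.leaf (⟨1, 3, 23436, 0, 31968, 3, 34944⟩, .mul 25 22)) (.leaf (⟨0, 0, 34944, 0, 34944, 1, 34944⟩, .dfn))))) (.node (.node (.node (.leaf (⟨1, 1, 40172, 0, 21693, 1, 34944⟩, .sync ⟨5, 0, 172⟩)) (.leaf (⟨1, 1, 21688, 0, 47340, 1, 34944⟩, .mul 37 4))) (.node (.leaf (⟨1, 3, 39304, 0, 21664, 3, 34944⟩, .sync ⟨21, 18, 1163⟩)) (.leaf (⟨0, 0, 34944, 0, 34944, 1, 34944⟩, .dfn)))) (.node (.node (.leaf (⟨1, 1, 20621, 0, 40128, 1, 34944⟩, .mul 4 2)) (.leaf (⟨0, 0, 34944, 0, 34944, 1, 34944⟩, .dfn))) (.node (.leaf (⟨1, 1, 34944, 0, 34944, 1, 34944⟩, .unit)) (.leaf (⟨0, 0, 34944, 0, 34944, 1, 34944⟩, .dfn))))))) (.node (.node (.node (.node (.node (.leaf (⟨1, 0, 21721, 0, 21721, 0, 34944⟩, .base)) (.leaf (⟨1, 1, 59557, 0, 60584,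 1, 34944⟩, .mul 32 4))) (.node (.leaf (⟨1, 1, 61624, 0, 30953, 1, 34944⟩, .mul 16 2)) (.leaf (⟨0, 0, 34944, 0, 34944, 1, 34944⟩, .dfn)))) (.node (.node (.leaf (⟨1, 0, 34944, 0, 34944, 0, 34944⟩, .base)) (.leaf (⟨1, 1, 51376, 0, 51409, 1, 34944⟩, .close 9 4 34944 [⟨30, 18, 0⟩, ⟨29, 28, 44⟩, ⟨27, 19, 1460⟩, ⟨36, 12, 1060⟩]))) (.node (.leaf (⟨1, 3, 51846, 0, 47280, 3, 34944⟩, .mul 24 22)) (.leaf (⟨0, 0, 34944, 0, 34944, 1, 34944⟩, .dfn))))) (.node (.node (.node (.leaf (⟨1, 0, 21693, 0, 21693, 0, 34944⟩, .base)) (.leaf (⟨1, 1, 51361, 0, 51376, 1, 34944⟩, .mul 2 4))) (.node (.leaf (⟨1, 1, 39149, 0, 21664, 1, 34944⟩, .mul 20 2)) (.leaf (⟨0, 0, 34944, 0, 34944, 1, 34944⟩, .dfn)))) (.node (.node (.leaf (⟨1, 1, 40121, 0, 28892, 1, 34944⟩, .mul 8 2)) (.leaf (⟨0, 0, 34944, 0, 34944, 1, 34944⟩, .dfn))) (.node (.leaf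 (⟨1, 3, 51338, 0, 39120, 3, 34944⟩, .mul 26 22)) (.leaf (⟨0, 0, 34944, 0, 34944, 1, 34944⟩, .dfn)))))) (.node (.node (.node (.node (.leaf (⟨1, 0, 30869, 0, 30869, 0, 34944⟩, .base)) (.leaf (⟨1, 1, 52473, 0, 59612, 1, 34944⟩, .mul 34 2))) (.node (.leaf (⟨0, 3, 34944, 1, 34944, 1, 34944⟩, .inv 18)) (.leaf (⟨0, 0, 34944, 0, 34944, 1, 34944⟩, .dfn)))) (.node (.node (.leaf (⟨1, 0, 56861, 0, 56861, 0, 34944⟩, .base)) (.leaf (⟨0, 0, 34944, 0, 34944, 1, 34944⟩, .dfn))) (.node (.leaf (⟨1, 3, 34944, 0, 34944, 3, 34944⟩, .unit)) (.leaf (⟨0, 0, 34944, 0, 34944, 1, 34944⟩, .dfn))))) (.node (.node (.node (.leaf (⟨1, 1, 51361, 0, 51376, 1, 34944⟩, .mul 2 4)) (.leaf (⟨1, 1, 47277, 0, 21704, 1, 34944⟩, .mul 38 4))) (.node (.leaf (⟨1, 3, 21388, 0, 51376, 3, 34944⟩, .sync ⟨7, 18, 1087⟩)) (.leaf (⟨0, 0, 34944, 0, 34944,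 1, 34944⟩, .dfn)))) (.node (.node (.leaf (⟨1, 1, 54449, 0, 22780, 1, 34944⟩, .mul 14 2)) (.leaf (⟨0, 0, 34944, 0, 34944, 1, 34944⟩, .dfn))) (.node (.leaf (⟨1, 1, 43140, 0, 44184, 1, 34944⟩, .mul 6 2)) (.leaf (⟨0, 0, 34944, 0, 34944, 1, 34944⟩, .dfn))))))))

/-- definitions -/
def defsFiveBad23 : List (ℕ × ℕ × ℕ) := [(0, 34944, 0), (0, 34944, 1), (1, 34944, 1)]

/-- the facts -/
def factsFiveBad24 : Tree (Fct × Why) :=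
  (.node (.node (.node (.node (.node (.node (.leaf (⟨0, 0, 34944, 0, 34944, 1, 34944⟩, .dfn)) (.leaf (⟨1, 0, 14181, 0, 14181, 0, 34944⟩, .base))) (.node (.leaf (⟨0, 1, 14181, 0, 56861, 1, 27232⟩, .fill 4 1 2 [34944, 45423, 34944, 65536, 54904] 0 34944 [⟨13, 0, 0⟩] [⟨15, 0, 477⟩])) (.leaf (⟨1, 1, 22361, 0, 47292, 1, 34944⟩, .mul 46 5)))) (.node (.node (.leaf (⟨1, 1, 43140, 0, 44184, 1, 34944⟩, .mul 7 3)) (.leaf (⟨1, 3, 22914, 0, 23696, 3, 34944⟩, .mul 38 39))) (.node (.leaf (⟨1, 1, 29828, 0, 48341, 1, 34944⟩, .mul 23 7)) (.leaf (⟨0, 0, 34944, 0, 34944, 1, 34944⟩, .dfn))))) (.node (.node (.node (.leaf (⟨1, 0, 30869, 0, 30869, 0, 34944⟩, .base)) (.leaf (⟨1, 1, 43200, 0, 35048, 1, 34944⟩, .mul 20 3))) (.node (.leaf (⟨1, 1, 40121, 0, 28892, 1, 34944⟩, .mul 12 3)) (.leaf (⟨1, 1, 20383, 0, 44221, 1, 34944⟩,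 .mul 51 3)))) (.node (.node (.leaf (⟨1, 1, 44165, 0, 44165, 1, 34944⟩, .mul 3 7)) (.leaf (⟨0, 3, 27399, 0, 26112, 3, 26430⟩, .fill 8 1 2 [34944, 58859, 34944, 65536, 54904, 65537, 11825] 1 34944 [⟨14, 34, 0⟩] [⟨25, 16, 374⟩, ⟨14, 34, 1525⟩]))) (.node (.leaf (⟨1, 2, 23269, 0, 53704, 2, 34944⟩, .sync ⟨27, 26, 775⟩)) (.leaf (⟨0, 0, 34944, 0, 34944, 1, 34944⟩, .dfn)))))) (.node (.node (.node (.node (.leaf (⟨1, 0, 21721, 0, 21721, 0, 34944⟩, .base)) (.leaf (⟨0, 1, 34944, 1, 34944, 3, 34944⟩, .dfn))) (.node (.leaf (⟨1, 1, 52473, 0, 59612, 1, 34944⟩, .mul 17 3)) (.leaf (⟨1, 1, 29318, 0, 23720, 1, 34944⟩, .mul 3 46)))) (.node (.node (.leaf (⟨1, 1, 59557, 0, 60584, 1, 34944⟩, .mul 9 5)) (.leaf (⟨1, 3, 23436, 0, 31968, 3, 34944⟩, .mul 41 38))) (.node (.leaf (⟨0, 0, 34944, 1, 34944, 2, 34944⟩, .dfn)) (.leaf (⟨0,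 0, 34944, 0, 34944, 1, 34944⟩, .dfn))))) (.node (.node (.node (.leaf (⟨1, 0, 21693, 0, 21693, 0, 34944⟩, .base)) (.leaf (⟨1, 3, 39304, 0, 21664, 3, 34944⟩, .sync ⟨37, 34, 1163⟩))) (.node (.leaf (⟨1, 1, 20621, 0, 40128, 1, 34944⟩, .mul 5 3)) (.leaf (⟨1, 1, 63859, 0, 28849, 1, 34944⟩, .close 9 2 34944 [⟨47, 1, 0⟩, ⟨21, 26, 0⟩, ⟨33, 49, 1491⟩, ⟨43, 35, 1043⟩])))) (.node (.node (.leaf (⟨1, 1, 34944, 0, 34944, 1, 34944⟩, .unit)) (.leaf (⟨1, 1, 51955, 0, 51409, 1, 34944⟩, .close 8 5 34944 [⟨14, 34, 0⟩, ⟨45, 44, 981⟩, ⟨43, 35, 1232⟩, ⟨19, 16, 469⟩]))) (.node (.leaf (⟨1, 2, 39848, 0, 39855, 2, 34944⟩, .sync ⟨29, 26, 1355⟩)) (.leaf (⟨0, 0, 34944, 0, 34944, 1, 34944⟩, .dfn))))))) (.node (.node (.node (.node (.node (.leaf (⟨0, 1, 34944, 0, 34944, 0, 34944⟩, .inv 0)) (.leaf (⟨1, 2, 22698, 0, 54147, 2, 34944⟩, .mul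 31 30))) (.node (.leaf (⟨1, 1, 22736, 0, 53377, 1, 34944⟩, .mul 10 3)) (.leaf (⟨0, 2, 18101, 0, 27311, 3, 18188⟩, .fill 8 7 6 [54904, 65537, 11825] 1 34944 [⟨47, 1, 0⟩, ⟨32, 26, 1282⟩] [⟨48, 34, 303⟩])))) (.node (.node (.leaf (⟨1, 1, 39096, 0, 28865, 1, 34944⟩, .mul 8 3)) (.leaf (⟨1, 3, 51846, 0, 47280, 3, 34944⟩, .mul 40 38))) (.node (.leaf (⟨1, 1, 61624, 0, 30953, 1, 34944⟩, .mul 24 3)) (.leaf (⟨0, 0, 34944, 0, 34944, 1, 34944⟩, .dfn))))) (.node (.node (.node (.leaf (⟨1, 1, 62697, 0, 30869, 1, 34944⟩, .sync ⟨4, 0, 761⟩)) (.leaf (⟨1, 1, 39149, 0, 21664, 1, 34944⟩, .mul 36 3))) (.node (.leaf (⟨1, 0, 54904, 0, 54904, 0, 34944⟩, .base)) (.leaf (⟨1, 1, 63859, 0, 28913, 1, 34944⟩, .mul 52 7)))) (.node (.node (.leaf (⟨1, 0, 34944, 0, 34944, 0, 34944⟩, .base)) (.leaf (⟨1, 3, 51338, 0, 39120, 3, 34944⟩, .mul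 42 38))) (.node (.leaf (⟨1, 0, 39855, 0, 39855, 0, 34944⟩, .base)) (.leaf (⟨0, 0, 34944, 0, 34944, 1, 34944⟩, .dfn)))))) (.node (.node (.node (.node (.leaf (⟨1, 1, 47292, 0, 21721, 1, 34944⟩, .sync ⟨2, 0, 1154⟩)) (.leaf (⟨0, 3, 34944, 1, 34944, 1, 34944⟩, .inv 34))) (.node (.leaf (⟨1, 1, 31901, 0, 54500, 1, 34944⟩, .mul 18 3)) (.leaf (⟨1, 1, 63997, 0, 21753, 1, 34944⟩, .mul 50 46)))) (.node (.node (.leaf (⟨1, 1, 51361, 0, 51376, 1, 34944⟩, .mul 3 5)) (.leaf (⟨1, 3, 34944, 0, 34944, 3, 34944⟩, .unit))) (.node (.leaf (⟨1, 0, 53704, 0, 53704, 0, 34944⟩, .base)) (.leaf (⟨0, 0, 34944, 0, 34944, 1, 34944⟩, .dfn))))) (.node (.node (.node (.leaf (⟨1, 1, 40172, 0, 21693, 1, 34944⟩, .sync ⟨6, 0, 172⟩)) (.leaf (⟨1, 3, 21388, 0, 51376, 3, 34944⟩, .sync ⟨11, 34, 1087⟩))) (.node (.leaf (⟨1, 1, 54449, 0, 22780, 1,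 34944⟩, .mul 22 3)) (.leaf (⟨0, 0, 34944, 0, 34944, 1, 34944⟩, .dfn)))) (.node (.node (.leaf (⟨1, 0, 56861, 0, 56861, 0, 34944⟩, .base)) (.leaf (⟨1, 1, 34944, 0, 34944, 1, 34944⟩, .unit))) (.node (.leaf (⟨1, 2, 51586, 0, 20716, 2, 34944⟩, .mul 28 30)) (.leaf (⟨0, 0, 34944, 0, 34944, 1, 34944⟩, .dfn))))))))

/-- definitions -/
def defsFiveBad24 : List (ℕ × ℕ × ℕ) := [(0, 34944, 0), (0, 34944, 1), (1, 34944, 1)]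

/-- the facts -/
def factsFiveBad25 : Tree (Fct × Why) :=
  (.node (.node (.node (.node (.node (.leaf (⟨0, 0, 34944, 0, 34944, 1, 34944⟩, .dfn)) (.leaf (⟨1, 1, 34944, 0, 34944, 1, 34944⟩, .unit))) (.node (.leaf (⟨1, 1, 30932, 0, 62617, 1, 34944⟩, .mul 7 2)) (.leaf (⟨0, 0, 34944, 0, 34944, 1, 34944⟩, .dfn)))) (.node (.node (.leaf (⟨1, 1, 62697, 0, 30869, 1, 34944⟩, .sync ⟨3, 0, 761⟩)) (.leaf (⟨0, 2, 34303, 0, 35978, 2, 50532⟩, .fill 8 3 4 [27399, 65537, 34944, 58872, 34944] 1 34946 [⟨16, 15, 0⟩, ⟨2, 18, 719⟩] [⟨17, 18, 693⟩]))) (.node (.leaf (⟨1, 1, 28857, 0, 47353, 1, 34944⟩, .mul 11 4)) (.leaf (⟨0, 0, 34944, 0, 34944, 1, 34944⟩, .dfn))))) (.node (.node (.node (.leaf (⟨1, 1, 47292, 0, 21721, 1, 34944⟩, .sync ⟨1, 0, 1154⟩)) (.leaf (⟨0, 1, 36710, 1, 34944, 2, 34944⟩, .dfn))) (.node (.leaf (⟨1, 1, 22729,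 0, 61584, 1, 34944⟩, .mul 9 6)) (.leaf (⟨0, 0, 34944, 0, 34944, 1, 34944⟩, .dfn)))) (.node (.node (.leaf (⟨1, 1, 40172, 0, 21693, 1, 34944⟩, .sync ⟨5, 0, 172⟩)) (.leaf (⟨1, 1, 40108, 0, 21725, 1, 34944⟩, .mul 12 4))) (.node (.leaf (⟨1, 0, 31898, 0, 31898, 0, 34944⟩, .base)) (.leaf (⟨0, 0, 34944, 0, 34944, 1, 34944⟩, .dfn)))))) (.node (.node (.node (.node (.leaf (⟨1, 0, 21721, 0, 21721, 0, 34944⟩, .base)) (.leaf (⟨1, 1, 20621, 0, 40128, 1, 34944⟩, .mul 4 2))) (.node (.leaf (⟨1, 1, 60669, 0, 52420, 1, 34944⟩, .mul 8 2)) (.leaf (⟨0, 0, 34944, 0, 34944, 1, 34944⟩, .dfn)))) (.node (.node (.leaf (⟨1, 0, 21693, 0, 21693, 0, 34944⟩, .base)) (.leaf (⟨1, 2, 34944, 0, 34944, 2, 34944⟩, .unit))) (.node (.leaf (⟨1, 0, 34944, 0, 34944, 0, 34944⟩, .base)) (.leaf (⟨0, 0, 34944, 0, 34944, 1, 34944⟩, .dfn))))) (.node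 (.node (.node (.leaf (⟨1, 0, 30869, 0, 30869, 0, 34944⟩, .base)) (.leaf (⟨0, 2, 34944, 1, 34944, 1, 36710⟩, .inv 18))) (.node (.leaf (⟨1, 1, 60576, 0, 51365, 1, 34944⟩, .mul 10 6)) (.leaf (⟨0, 0, 34944, 0, 34944, 1, 34944⟩, .dfn)))) (.node (.node (.leaf (⟨1, 1, 51361, 0, 51376, 1, 34944⟩, .mul 2 4)) (.leaf (⟨1, 1, 40108, 0, 28880, 1, 34944⟩, .close 8 7 34946 [⟨16, 15, 0⟩, ⟨7, 18, 1265⟩, ⟨21, 20, 265⟩, ⟨21, 19, 286⟩]))) (.node (.leaf (⟨0, 1, 34946, 0, 31898, 1, 21723⟩, .fill 0 0 2 [51360, 34946, 65536, 34946] 0 34944 [⟨13, 0, 0⟩] [⟨14, 0, 250⟩])) (.leaf (⟨0, 0, 34944, 0, 34944, 1, 34944⟩, .dfn)))))))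

/-- definitions -/
def defsFiveBad25 : List (ℕ × ℕ × ℕ) := [(0, 34944, 0), (1, 36710, 1)]

/-- the facts -/
def factsFiveBad26 : Tree (Fct × Why) :=
  (.node (.node (.node (.node (.node (.node (.leaf (⟨0, 0, 34944, 0, 34944, 1, 34944⟩, .dfn)) (.leaf (⟨1, 0, 14181, 0, 14181, 0, 34944⟩, .base))) (.node (.leaf (⟨0, 1, 14181, 0, 56861, 1, 27232⟩, .fill 4 1 2 [34944, 45423, 34944, 65536, 54904] 0 34944 [⟨13, 0, 0⟩] [⟨15, 0, 477⟩])) (.leaf (⟨1, 1, 22361, 0, 47292, 1, 34944⟩, .mul 46 5)))) (.node (.node (.leaf (⟨1, 1, 43140, 0, 44184, 1, 34944⟩, .mul 7 3)) (.leaf (⟨1, 3, 22914, 0, 23696, 3, 34944⟩, .mul 38 39))) (.node (.leaf (⟨1, 1, 29828, 0, 48341, 1, 34944⟩, .mul 23 7)) (.leaf (⟨0, 0, 34944, 0, 34944, 1, 34944⟩, .dfn))))) (.node (.node (.node (.leaf (⟨1, 0, 30869, 0, 30869, 0, 34944⟩, .base)) (.leaf (⟨1,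 1, 43200, 0, 35048, 1, 34944⟩, .mul 20 3))) (.node (.leaf (⟨1, 1, 40121, 0, 28892, 1, 34944⟩, .mul 12 3)) (.leaf (⟨1, 1, 63854, 0, 21704, 1, 34944⟩, .mul 51 46)))) (.node (.node (.leaf (⟨1, 1, 44165, 0, 44165, 1, 34944⟩, .mul 3 7)) (.leaf (⟨0, 3, 27399, 0, 26112, 3, 26412⟩, .fill 8 1 2 [34944, 58873, 34944, 65536, 54904, 65537, 11825] 1 34944 [⟨14, 34, 0⟩] [⟨25, 16, 421⟩, ⟨14, 34, 1334⟩]))) (.node (.leaf (⟨1, 2, 23269, 0, 53704, 2, 34944⟩, .sync ⟨27, 26, 775⟩)) (.leaf (⟨0, 0, 34944, 0, 34944, 1, 34944⟩, .dfn)))))) (.node (.node (.node (.node (.leaf (⟨1, 0, 21721, 0, 21721, 0, 34944⟩, .base)) (.leaf (⟨0, 1, 34944, 1, 34944, 3, 34944⟩, .dfn))) (.node (.leaf (⟨1, 1, 52473, 0, 59612, 1, 34944⟩, .mul 17 3)) (.leaf (⟨1, 1, 47375, 0, 21736, 1, 34944⟩, .mul 48 5)))) (.node (.node (.leaf (⟨1, 1, 59557, 0, 60584,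 1, 34944⟩, .mul 9 5)) (.leaf (⟨1, 3, 23436, 0, 31968, 3, 34944⟩, .mul 41 38))) (.node (.leaf (⟨0, 0, 34944, 1, 34944, 2, 34944⟩, .dfn)) (.leaf (⟨0, 0, 34944, 0, 34944, 1, 34944⟩, .dfn))))) (.node (.node (.node (.leaf (⟨1, 0, 21693, 0, 21693, 0, 34944⟩, .base)) (.leaf (⟨1, 3, 39304, 0, 21664, 3, 34944⟩, .sync ⟨37, 34, 1163⟩))) (.node (.leaf (⟨1, 1, 20621, 0, 40128, 1, 34944⟩, .mul 5 3)) (.leaf (⟨1, 1, 63968, 0, 28881, 1, 34944⟩, .mul 53 7)))) (.node (.node (.leaf (⟨1, 1, 34944, 0, 34944, 1, 34944⟩, .unit)) (.leaf (⟨1, 1, 51955, 0, 51409, 1, 34944⟩, .close 8 5 34944 [⟨14, 34, 0⟩, ⟨45, 44, 981⟩, ⟨43, 35, 1232⟩, ⟨19, 16, 469⟩]))) (.node (.leaf (⟨1, 2, 39848, 0, 39855, 2, 34944⟩, .sync ⟨29, 26, 1355⟩)) (.leaf (⟨0, 0, 34944, 0, 34944, 1, 34944⟩, .dfn))))))) (.node (.node (.node (.node (.node (.leaf (⟨0, 1,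 34944, 0, 34944, 0, 34944⟩, .inv 0)) (.leaf (⟨1, 2, 22698, 0, 54147, 2, 34944⟩, .mul 31 30))) (.node (.leaf (⟨1, 1, 22736, 0, 53377, 1, 34944⟩, .mul 10 3)) (.leaf (⟨0, 2, 17972, 0, 27311, 3, 18188⟩, .fill 8 7 6 [54904, 65537, 11825] 1 34944 [⟨47, 1, 0⟩, ⟨32, 26, 966⟩] [⟨48, 34, 303⟩])))) (.node (.node (.leaf (⟨1, 1, 39096, 0, 28865, 1, 34944⟩, .mul 8 3)) (.leaf (⟨1, 3, 51846, 0, 47280, 3, 34944⟩, .mul 40 38))) (.node (.leaf (⟨1, 1, 61624, 0, 30953, 1, 34944⟩, .mul 24 3)) (.leaf (⟨0, 0, 34944, 0, 34944, 1, 34944⟩, .dfn))))) (.node (.node (.node (.leaf (⟨1, 1, 62697, 0, 30869, 1, 34944⟩, .sync ⟨4, 0, 761⟩)) (.leaf (⟨1, 1, 39149, 0, 21664, 1, 34944⟩, .mul 36 3))) (.node (.leaf (⟨1, 0, 54904, 0, 54904, 0, 34944⟩, .base)) (.leaf (⟨1, 1, 20236, 0, 44284, 1, 34944⟩, .mul 52 3)))) (.node (.node (.leaf (⟨1, 0,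 34944, 0, 34944, 0, 34944⟩, .base)) (.leaf (⟨1, 3, 51338, 0, 39120, 3, 34944⟩, .mul 42 38))) (.node (.leaf (⟨1, 0, 39855, 0, 39855, 0, 34944⟩, .base)) (.leaf (⟨0, 0, 34944, 0, 34944, 1, 34944⟩, .dfn)))))) (.node (.node (.node (.node (.leaf (⟨1, 1, 47292, 0, 21721, 1, 34944⟩, .sync ⟨2, 0, 1154⟩)) (.leaf (⟨0, 3, 34944, 1, 34944, 1, 34944⟩, .inv 34))) (.node (.leaf (⟨1, 1, 31901, 0, 54500, 1, 34944⟩, .mul 18 3)) (.leaf (⟨1, 1, 29046, 0, 23705, 1, 34944⟩, .mul 50 46)))) (.node (.node (.leaf (⟨1, 1, 51361, 0, 51376, 1, 34944⟩, .mul 3 5)) (.leaf (⟨1, 3, 34944, 0, 34944, 3, 34944⟩, .unit))) (.node (.leaf (⟨1, 0, 53704, 0, 53704, 0, 34944⟩, .base)) (.leaf (⟨0, 0, 34944, 0, 34944, 1, 34944⟩, .dfn))))) (.node (.node (.node (.leaf (⟨1, 1, 40172, 0, 21693, 1, 34944⟩, .sync ⟨6, 0, 172⟩)) (.leaf (⟨1, 3, 21388, 0,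 51376, 3, 34944⟩, .sync ⟨11, 34, 1087⟩))) (.node (.leaf (⟨1, 1, 54449, 0, 22780, 1, 34944⟩, .mul 22 3)) (.leaf (⟨1, 1, 63968, 0, 28849, 1, 34944⟩, .close 9 2 34944 [⟨47, 1, 0⟩, ⟨21, 26, 0⟩, ⟨33, 49, 893⟩, ⟨43, 35, 921⟩])))) (.node (.node (.leaf (⟨1, 0, 56861, 0, 56861, 0, 34944⟩, .base)) (.leaf (⟨1, 1, 34944, 0, 34944, 1, 34944⟩, .unit))) (.node (.leaf (⟨1, 2, 51586, 0, 20716, 2, 34944⟩, .mul 28 30)) (.leaf (⟨0, 0, 34944, 0, 34944, 1, 34944⟩, .dfn))))))))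

/-- definitions -/
def defsFiveBad26 : List (ℕ × ℕ × ℕ) := [(0, 34944, 0), (0, 34944, 1), (1, 34944, 1)]

/-- the facts -/
def factsFiveBad27 : Tree (Fct × Why) :=
  (.node (.node (.node (.node (.node (.node (.leaf (⟨0, 0, 34944, 0, 34944, 1, 34944⟩, .dfn)) (.leaf (⟨1, 0, 14181, 0, 14181, 0, 34944⟩, .base))) (.node (.leaf (⟨0, 1, 14181, 0, 56861, 1, 27232⟩, .fill 4 1 2 [34944, 45423, 34944, 65536, 54904] 0 34944 [⟨13, 0, 0⟩] [⟨15, 0, 477⟩])) (.leaf (⟨1, 1, 29388, 0, 23720, 1, 34944⟩, .mul 3 46)))) (.node (.node (.leaf (⟨1, 1, 43140, 0, 44184, 1, 34944⟩, .mul 7 3)) (.leaf (⟨1, 3, 22914, 0, 23696, 3, 34944⟩, .mul 38 39))) (.node (.leaf (⟨1, 1, 29828, 0, 48341, 1, 34944⟩, .mul 23 7)) (.leaf (⟨1, 1, 56948, 0, 62676, 1, 34944⟩, .close 9 2 34944 [⟨47, 1, 0⟩, ⟨21, 26, 0⟩, ⟨33, 50, 977⟩, ⟨43, 35, 288⟩])))))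 (.node (.node (.node (.leaf (⟨1, 0, 30869, 0, 30869, 0, 34944⟩, .base)) (.leaf (⟨1, 1, 43200, 0, 35048, 1, 34944⟩, .mul 20 3))) (.node (.leaf (⟨1, 1, 40121, 0, 28892, 1, 34944⟩, .mul 12 3)) (.leaf (⟨1, 1, 23229, 0, 54449, 1, 34944⟩, .mul 51 46)))) (.node (.node (.leaf (⟨1, 1, 44165, 0, 44165, 1, 34944⟩, .mul 3 7)) (.leaf (⟨0, 3, 27399, 0, 26112, 3, 26428⟩, .fill 8 1 2 [34944, 58875, 34944, 65536, 54904, 65537, 11825] 1 34944 [⟨14, 34, 0⟩] [⟨25, 16, 928⟩, ⟨14, 34, 1407⟩]))) (.node (.leaf (⟨1, 2, 23269, 0, 53704, 2, 34944⟩, .sync ⟨27, 26, 775⟩)) (.leaf (⟨0, 0, 34944, 0, 34944, 1, 34944⟩, .dfn)))))) (.node (.node (.node (.node (.leaf (⟨1, 0, 21721, 0, 21721, 0, 34944⟩, .base)) (.leaf (⟨0, 1, 34944, 1, 34944, 3, 34944⟩, .dfn))) (.node (.leaf (⟨1, 1, 52473, 0, 59612, 1, 34944⟩, .mul 17 3)) (.leaf (⟨0, 2,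 17973, 0, 20321, 3, 26552⟩, .fill 8 7 6 [54904, 65537, 11825] 1 34944 [⟨47, 1, 0⟩, ⟨32, 26, 612⟩] [⟨49, 34, 1513⟩])))) (.node (.node (.leaf (⟨1, 1, 59557, 0, 60584, 1, 34944⟩, .mul 9 5)) (.leaf (⟨1, 3, 23436, 0, 31968, 3, 34944⟩, .mul 41 38))) (.node (.leaf (⟨0, 0, 34944, 1, 34944, 2, 34944⟩, .dfn)) (.leaf (⟨0, 0, 34944, 0, 34944, 1, 34944⟩, .dfn))))) (.node (.node (.node (.leaf (⟨1, 0, 21693, 0, 21693, 0, 34944⟩, .base)) (.leaf (⟨1, 3, 39304, 0, 21664, 3, 34944⟩, .sync ⟨37, 34, 1163⟩))) (.node (.leaf (⟨1, 1, 20621, 0, 40128, 1, 34944⟩, .mul 5 3)) (.leaf (⟨1, 1, 27162, 0, 59544, 1, 34944⟩, .mul 53 46)))) (.node (.node (.leaf (⟨1, 1, 34944, 0, 34944, 1, 34944⟩, .unit)) (.leaf (⟨1, 1, 51888, 0, 51409, 1, 34944⟩, .close 8 5 34944 [⟨14, 34, 0⟩, ⟨45, 44, 981⟩, ⟨43, 35, 1248⟩, ⟨19, 16, 22⟩]))) (.node (.leaf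 (⟨1, 2, 39848, 0, 39855, 2, 34944⟩, .sync ⟨29, 26, 1355⟩)) (.leaf (⟨0, 0, 34944, 0, 34944, 1, 34944⟩, .dfn))))))) (.node (.node (.node (.node (.node (.leaf (⟨0, 1, 34944, 0, 34944, 0, 34944⟩, .inv 0)) (.leaf (⟨1, 2, 22698, 0, 54147, 2, 34944⟩, .mul 31 30))) (.node (.leaf (⟨1, 1, 22736, 0, 53377, 1, 34944⟩, .mul 10 3)) (.leaf (⟨1, 1, 40730, 0, 53492, 1, 34944⟩, .mul 48 5)))) (.node (.node (.leaf (⟨1, 1, 39096, 0, 28865, 1, 34944⟩, .mul 8 3)) (.leaf (⟨1, 3, 51846, 0, 47280, 3, 34944⟩, .mul 40 38))) (.node (.leaf (⟨1, 1, 61624, 0, 30953, 1, 34944⟩, .mul 24 3)) (.leaf (⟨0, 0, 34944, 0, 34944, 1, 34944⟩, .dfn))))) (.node (.node (.node (.leaf (⟨1, 1, 62697, 0, 30869, 1, 34944⟩, .sync ⟨4, 0, 761⟩)) (.leaf (⟨1, 1, 39149, 0, 21664, 1, 34944⟩, .mul 36 3))) (.node (.leaf (⟨1, 0, 54904, 0, 54904, 0, 34944⟩, .base))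 (.leaf (⟨1, 1, 43818, 0, 43241, 1, 34944⟩, .mul 52 5)))) (.node (.node (.leaf (⟨1, 0, 34944, 0, 34944, 0, 34944⟩, .base)) (.leaf (⟨1, 3, 51338, 0, 39120, 3, 34944⟩, .mul 42 38))) (.node (.leaf (⟨1, 0, 39855, 0, 39855, 0, 34944⟩, .base)) (.leaf (⟨0, 0, 34944, 0, 34944, 1, 34944⟩, .dfn)))))) (.node (.node (.node (.node (.leaf (⟨1, 1, 47292, 0, 21721, 1, 34944⟩, .sync ⟨2, 0, 1154⟩)) (.leaf (⟨0, 3, 34944, 1, 34944, 1, 34944⟩, .inv 34))) (.node (.leaf (⟨1, 1, 31901, 0, 54500, 1, 34944⟩, .mul 18 3)) (.leaf (⟨1, 1, 20621, 0, 40128, 1, 34944⟩, .mul 5 3)))) (.node (.node (.leaf (⟨1, 1, 51361, 0, 51376, 1, 34944⟩, .mul 3 5)) (.leaf (⟨1, 3, 34944, 0, 34944, 3, 34944⟩, .unit))) (.node (.leaf (⟨1, 0, 53704, 0, 53704, 0, 34944⟩, .base)) (.leaf (⟨0, 0, 34944, 0, 34944, 1, 34944⟩, .dfn))))) (.node (.node (.node (.leaf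 (⟨1, 1, 40172, 0, 21693, 1, 34944⟩, .sync ⟨6, 0, 172⟩)) (.leaf (⟨1, 3, 21388, 0, 51376, 3, 34944⟩, .sync ⟨11, 34, 1087⟩))) (.node (.leaf (⟨1, 1, 54449, 0, 22780, 1, 34944⟩, .mul 22 3)) (.leaf (⟨1, 1, 56948, 0, 54445, 1, 34944⟩, .mul 54 7)))) (.node (.node (.leaf (⟨1, 0, 56861, 0, 56861, 0, 34944⟩, .base)) (.leaf (⟨1, 1, 34944, 0, 34944, 1, 34944⟩, .unit))) (.node (.leaf (⟨1, 2, 51586, 0, 20716, 2, 34944⟩, .mul 28 30)) (.leaf (⟨0, 0, 34944, 0, 34944, 1, 34944⟩, .dfn))))))))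

/-- definitions -/
def defsFiveBad27 : List (ℕ × ℕ × ℕ) := [(0, 34944, 0), (0, 34944, 1), (1, 34944, 1)]

/-- refuted values -/
def badFive : List (ℕ × List (ℕ × ℕ) × Tree (Fct × Why) × ℕ × List (ℕ × ℕ × ℕ) × ℕ × ℕ) := [
  (0, [(0, 45390)], factsFiveBad0, 7, defsFiveBad0, 6, 6),
  (0, [(0, 45391)], factsFiveBad1, 7, defsFiveBad1, 6, 6),
  (0, [(0, 45406)], factsFiveBad2, 7, defsFiveBad2, 6, 6),
  (0, [(0, 45407)], factsFiveBad3, 30, defsFiveBad3, 29, 28),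
  (0, [(0, 45422)], factsFiveBad4, 7, defsFiveBad4, 6, 6),
  (0, [(0, 45438)], factsFiveBad5, 7, defsFiveBad5, 6, 6),
  (0, [(0, 45439)], factsFiveBad6, 7, defsFiveBad6, 6, 6),
  (1, [(1, 60545)], factsFiveBad7, 17, defsFiveBad7, 16, 16),
  (1, [(1, 60546)], factsFiveBad8, 17, defsFiveBad8, 16, 16),
  (1, [(1, 60547)], factsFiveBad9, 17, defsFiveBad9, 16, 16),
  (1, [(1, 60556)], factsFiveBad10, 17, defsFiveBad10, 16, 16),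
  (1, [(1, 60557)], factsFiveBad11, 26, defsFiveBad11, 25, 24),
  (1, [(1, 60558)], factsFiveBad12, 17, defsFiveBad12, 16, 16),
  (1, [(1, 60559)], factsFiveBad13, 17, defsFiveBad13, 16, 16),
  (2, [(0, 45423), (1, 60544), (2, 58728)], factsFiveBad14, 57, defsFiveBad14, 56, 55),
  (2, [(0, 45423), (1, 60544), (2, 58730)], factsFiveBad15, 56, defsFiveBad15, 55, 54),
  (2, [(0, 45423), (1, 60544), (2, 58731)], factsFiveBad16, 24, defsFiveBad16, 23, 22),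
  (2, [(0, 45423), (1, 60544), (2, 58744)], factsFiveBad17, 55, defsFiveBad17, 54, 53),
  (2, [(0, 45423), (1, 60544), (2, 58745)], factsFiveBad18, 42, defsFiveBad18, 41, 40),
  (2, [(0, 45423), (1, 60544), (2, 58746)], factsFiveBad19, 58, defsFiveBad19, 57, 56),
  (2, [(0, 45423), (1, 60544), (2, 58747)], factsFiveBad20, 25, defsFiveBad20, 24, 23),
  (2, [(0, 45423), (1, 60544), (2, 58856)], factsFiveBad21, 25, defsFiveBad21, 24, 23),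
  (2, [(0, 45423), (1, 60544), (2, 58857)], factsFiveBad22, 58, defsFiveBad22, 57, 56),
  (2, [(0, 45423), (1, 60544), (2, 58858)], factsFiveBad23, 42, defsFiveBad23, 41, 40),
  (2, [(0, 45423), (1, 60544), (2, 58859)], factsFiveBad24, 55, defsFiveBad24, 54, 53),
  (2, [(0, 45423), (1, 60544), (2, 58872)], factsFiveBad25, 24, defsFiveBad25, 23, 22),
  (2, [(0, 45423), (1, 60544), (2, 58873)], factsFiveBad26, 56, defsFiveBad26, 55, 54),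
  (2, [(0, 45423), (1, 60544), (2, 58875)], factsFiveBad27, 57, defsFiveBad27, 56, 55)]

end CfsgLib.HeUnique
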