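import Cfsg.Agent.Lib.HeUnique.Hom

/-!
Two swaps of the Held kind give a homomorphism of the presented Held group.
-/

set_option autoImplicit false

open Cfsg.Spor

namespace CfsgLib.HeUnique

variable {G : Type*} [Group G] {z : G} {ι : ℕ → G}

/-- The two involutions as a function. -/
def pairFn (sA sB : G) (k : ℕ) : G := if k = 0 then sA else sB

theorem tabA_act {s : G} (h : Good ι 0 s) : TabAct ι tabA s := h.act.tabAct (by norm_num)

theorem tabB_act {s : G} (h : Good (fun x => ι (theta x)) 0 s) : TabAct ι tabB s := by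
  intro m hm
  have e := up_spec tabB_theta (by norm_num) hm
  simp only [Bool.and_eq_true, beq_iff_eq] at e
  obtain ⟨o, ha⟩ := h.act.tabAct (by norm_num) m hm
  rw [e.1, e.2]
  exact ⟨(theta_cmul o o).1, ha⟩

theorem letters_ok : [qA, qB, cubeA, cubeB].all ok = true ∧
    loopW.all (fun t => bif decide (t < 65536) then ok t else decide (t - 65536 < 2)) = true := by
  decide +kernel

theorem invW_spec (R : Rep z ι) {σ : ℕ → G} (hsq : ∀ k < 2, σ k * σ k = 1) :
    ∀ {w : List ℕ}, (w.all fun t => bif decide (t < 65536) then ok t else decide (t - 65536 < 2)) = true →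
      wval ι σ (invW w) = (wval ι σ w)⁻¹
  | [], _ => by simp [invW, wval]
  | t :: ts, h => by
    simp only [List.all_cons, Bool.and_eq_true] at h
    have ih := invW_spec R hsq h.2
    simp only [invW, wval, List.reverse_cons, List.map_append, List.map_cons, List.map_nil,
      List.prod_append, List.prod_cons, List.prod_nil, mul_one, mul_inv_rev] at ih ⊢
    rw [ih]
    congr 1
    by_cases ht : t < 65536
    · rw [decide_eq_true ht, cond_true] at h ⊢
      have hlt : cinv t < 65536 := ok_lt (inv_facts h.1).1
      simp [val, ht, hlt, R.inv h.1]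
    · rw [decide_eq_false ht, cond_false] at h ⊢
      simp only [decide_eq_true_eq] at h
      simp [val, ht, inv_eq_of_mul_eq_one_right (hsq _ h.1)]

/-- The hypotheses of the derivations hold. -/
theorem sound_of (R : Rep z ι) {sA sB : G} (hA : Good ι 0 sA)
    (hB : Good (fun x => ι (theta x)) 0 sB) {c : ℕ} (hc : ok c = true)
    (hloop : wval ι (pairFn sA sB) loopW = ι c) {facts : Tree (Fct × Why)} {n : ℕ}
    {defs : List (ℕ × ℕ × ℕ)} :
    Sound ι (pairFn sA sB) ⟨facts, n, defs, tabA, tabB, 1536, relsW c⟩ := by
  obtain ⟨hl1, hl2⟩ := letters_ok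
  simp only [List.all_cons, List.all_nil, Bool.and_true, Bool.and_eq_true] at hl1
  obtain ⟨oqA, oqB, ocA, ocB⟩ := hl1
  have hsq : ∀ k < 2, pairFn sA sB k * pairFn sA sB k = 1 := by
    intro k hk
    interval_cases k
    exacts [hA.sq, hB.sq]
  refine ⟨R.hmul, R.hone, hsq, fun k hk m hm => ?_, ?_⟩
  · interval_cases k
    · obtain ⟨-, e⟩ := tabA_act hA m hm
      show ι (tabA.get m).1 * sA = sA * ι (tabA.get m).2
      rw [← e, inv_eq_of_mul_eq_one_right hA.sq, ← mul_assoc, ← mul_assoc, hA.sq, one_mul]
    · obtain ⟨-, e⟩ := tabB_act hB m hm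
      show ι (tabB.get m).1 * sB = sB * ι (tabB.get m).2
      rw [← e, inv_eq_of_mul_eq_one_right hB.sq, ← mul_assoc, ← mul_assoc, hB.sq, one_mul]
  · have eA : wval ι (pairFn sA sB) (cubeW 0 qA cubeA) = 1 := by
      have hc3 := hA.cube
      rw [phi_zero.2] at hc3
      simp [cubeW, wval, val, pairFn, ok_lt oqA, ok_lt (inv_facts ocA).1, R.inv ocA, ← hc3,
        mul_assoc]
    have eB : wval ι (pairFn sA sB) (cubeW 1 qB cubeB) = 1 := by
      have hc3 := hB.cube
      rw [phi_zero.2] at hc3
      simp only [← gens_theta.2.1, ← gens_theta.2.2] at hc3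
      simp [cubeW, wval, val, pairFn, ok_lt oqB, ok_lt (inv_facts ocB).1, R.inv ocB, ← hc3,
        mul_assoc]
    have wA : (cubeW 0 qA cubeA).all
        (fun t => bif decide (t < 65536) then ok t else decide (t - 65536 < 2)) = true := by
      simp [cubeW, ok_lt oqA, oqA, (inv_facts ocA).1, ok_lt (inv_facts ocA).1]
    have wB : (cubeW 1 qB cubeB).all
        (fun t => bif decide (t < 65536) then ok t else decide (t - 65536 < 2)) = true := by
      simp [cubeW, ok_lt oqB, oqB, (inv_facts ocB).1, ok_lt (inv_facts ocB).1]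
    have eL : wval ι (pairFn sA sB) (loopW ++ [cinv c]) = 1 := by
      have h1 : wval ι (pairFn sA sB) (loopW ++ [cinv c]) =
          wval ι (pairFn sA sB) loopW * ι (cinv c) := by
        simp [wval, val, ok_lt (inv_facts hc).1]
      rw [h1, hloop, R.inv hc, mul_inv_cancel]
    have wL : (loopW ++ [cinv c]).all
        (fun t => bif decide (t < 65536) then ok t else decide (t - 65536 < 2)) = true := by
      rw [List.all_append, hl2]
      simp [(inv_facts hc).1, ok_lt (inv_facts hc).1]
    intro r hr
    simp only [relsW, List.length_cons, List.length_nil] at hr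
    interval_cases r
    · exact eA
    · show wval ι (pairFn sA sB) (invW (cubeW 0 qA cubeA)) = 1
      rw [invW_spec R hsq wA, eA, inv_one]
    · exact eB
    · show wval ι (pairFn sA sB) (invW (cubeW 1 qB cubeB)) = 1
      rw [invW_spec R hsq wB, eB, inv_one]
    · exact eL
    · show wval ι (pairFn sA sB) (invW (loopW ++ [cinv c])) = 1
      rw [invW_spec R hsq wL, eL, inv_one]

theorem wval_flatMap {σ : ℕ → G} (imgs : List (List ℕ)) (w : List ℕ) :
    wval ι σ (w.flatMap fun i => imgs.getD i []) =
      (w.map fun i => wval ι σ (imgs.getD i [])).prod := by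
  induction w with
  | nil => simp [wval]
  | cons i w ih =>
    simp only [wval] at ih
    simp [wval, List.flatMap_cons, ih, List.map_append, List.prod_append,
      -List.getD_eq_getElem?_getD]

theorem hom_of_targets (R : Rep z ι) {σ : ℕ → G} {imgs : List (List ℕ)} {dw : List ℕ}
    (himg : imgs = (List.range 7).map (fun i => bif i == 3 then dw else [genCode i]))
    (ht : ∀ i < 8, wval ι σ ((dRels.getD i []).flatMap fun j => imgs.getD j []) = 1) :
    ∃ φ : He →* G, φ (PresentedGroup.of He.Gen.e) = z ∧
      φ (PresentedGroup.of He.Gen.f) = ι (genCode 5) ∧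
      φ (PresentedGroup.of He.Gen.g) = ι (genCode 6) := by
  have hF : ∀ i < 7, i ≠ 3 → wval ι σ (imgs.getD i []) = ι (genCode i) := by
    intro i hi h3
    have hlt := ok_lt (range_all genCode_facts.1 hi)
    subst himg
    interval_cases i <;> first | exact absurd rfl h3 | simp [wval, val, hlt]
  have e := fun i (hi : i < 8) => (wval_flatMap (ι := ι) (σ := σ) imgs (dRels.getD i [])).symm.trans (ht i hi)
  set F : ℕ → G := fun i => wval ι σ (imgs.getD i []) with hFd
  have e0 := e 0 (by norm_num); have e1 := e 1 (by norm_num); have e2 := e 2 (by norm_num)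
  have e3 := e 3 (by norm_num); have e4 := e 4 (by norm_num); have e5 := e 5 (by norm_num)
  have e6 := e 6 (by norm_num); have e7 := e 7 (by norm_num)
  refine exists_hom R F hF ?_ ?_ ?_ ?_ ?_ ?_ ?_ ?_
  · simpa [dRels, hFd, mul_assoc] using e0
  · simpa [dRels, hFd, mul_assoc] using e1
  · simpa [dRels, hFd, mul_assoc] using e2
  · simpa [dRels, hFd, mul_assoc] using e3
  · simpa [dRels, hFd, mul_assoc] using e4
  · simpa [dRels, hFd, mul_assoc] using e5
  · simpa [dRels, hFd, mul_assoc, pow_succ] using e6
  · simpa [dRels, hFd, mul_assoc, pow_succ] using e7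

/-- Two swaps of the Held kind give the presented group. -/
theorem held_hom (R : Rep z ι) {sA sB : G} (hA : Good ι 0 sA)
    (hB : Good (fun x => ι (theta x)) 0 sB) :
    ∃ φ : He →* G, φ (PresentedGroup.of He.Gen.e) = z ∧
      φ (PresentedGroup.of He.Gen.f) = ι (genCode 5) ∧
      φ (PresentedGroup.of He.Gen.g) = ι (genCode 6) := by
  obtain ⟨hz, hacts⟩ := loop_track
  obtain ⟨c, oc, hc, hcomm⟩ := loop_element (σ := pairFn sA sB) R (tabA_act hA) (tabB_act hB) hz hacts
  have hv := range_all loop_values (fA_lt (ok_lt oc))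
  have hall : trackLoop.all (fun e => mm (fA c) (fA e.1) == mm (fA e.2.1) (fA c)) = true := by
    simp only [List.all_eq_true, beq_iff_eq]
    intro e he
    have h1 := mem_all hacts he
    simp only [Bool.and_eq_true, beq_iff_eq] at h1
    have o2 := (trackRev_spec (σ := pairFn sA sB) R (tabA_act hA) (tabB_act hB) _ _ h1.1 h1.2).1
    rw [← fA_cmul (ok_lt oc) (ok_lt h1.1), ← fA_cmul (ok_lt o2) (ok_lt oc), hcomm e he]
  simp only [okA_of oc, hall, Bool.and_self, cond_true] at hv
  have hv' := range_all hv (show c % 128 < 128 from Nat.mod_lt _ (by norm_num))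
  rw [show fA c * 128 + c % 128 = c by simp only [fA]; omega] at hv'
  have hall2 : trackLoop.all (fun e => cmul c e.1 == cmul e.2.1 c) = true := by
    simp only [List.all_eq_true, beq_iff_eq]
    exact hcomm
  simp only [hall2, cond_true, Bool.or_eq_true, beq_iff_eq, List.any_eq_true] at hv'
  have S := fun (facts : Tree (Fct × Why)) (n : ℕ) (defs : List (ℕ × ℕ × ℕ)) =>
    sound_of (facts := facts) (n := n) (defs := defs) R hA hB oc hc.symm
  rcases hv' with (rfl | rfl) | ⟨b, hb, rfl⟩
  · refine hom_of_targets (σ := pairFn sA sB) R genCode_facts.2.2.1 (fun i hi => ?_)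
    have h := range_all good_targets (show i < 10 by omega)
    have e := eval_spec (S factsGood nGood defsGood) good_facts h
    have ht : (targets.getD i ([], 0)).1 = dRels.getD i [] ∧ (targets.getD i ([], 0)).2 = one := by
      interval_cases i <;> exact ⟨rfl, rfl⟩
    rw [ht.1, ht.2, R.hone] at e
    exact e
  · refine hom_of_targets (σ := pairFn sA sB) R genCode_facts.2.2.2 (fun i hi => ?_)
    have h := range_all alt_targets (show i < 10 by omega)
    have S' := S factsAlt nAlt defsAlt
    rw [← alt_value] at S'
    have e := eval_spec S' alt_facts h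
    have ht : (targets.getD i ([], 0)).1 = dRels.getD i [] ∧ (targets.getD i ([], 0)).2 = one := by
      interval_cases i <;> exact ⟨rfl, rfl⟩
    rw [ht.1, ht.2, R.hone] at e
    exact e
  · have h := mem_all bad_all hb
    simp only [badOK, Bool.and_eq_true] at h
    exact (contra_spec (S _ _ _) h.1 h.2 R.inj).elim

theorem fused_cB (R : Rep z ι) {s : G} (h : Good ι 0 s) (hA : IsConj z (ι cA)) :
    IsConj z (ι cB) := by
  obtain ⟨last, ol, hl, oe, he, hne⟩ := pathB_ok
  have key : ∀ (p : List (ℕ × ℕ)) (y : ℕ), (y = one ∨ (ok y = true ∧ IsConj z (ι y))) →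
      (p.foldl (fun acc p => bif ok p.1 && decide (p.2 < 1536) && conj p.1 acc == kEl p.2 then
        (tabA.get p.2).2 else one) y = one) ∨
      (ok (p.foldl (fun acc p => bif ok p.1 && decide (p.2 < 1536) && conj p.1 acc == kEl p.2 then
          (tabA.get p.2).2 else one) y) = true ∧
        IsConj z (ι (p.foldl (fun acc p => bif ok p.1 && decide (p.2 < 1536) &&
          conj p.1 acc == kEl p.2 then (tabA.get p.2).2 else one) y))) := by
    intro p
    induction p with
    | nil => exact fun y hy => hy
    | cons q p ih =>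
      intro y hy
      rw [List.foldl_cons]
      apply ih
      cases hc : (ok q.1 && decide (q.2 < 1536) && conj q.1 y == kEl q.2) with
      | false => exact Or.inl rfl
      | true =>
        simp only [Bool.and_eq_true, decide_eq_true_eq, beq_iff_eq] at hc
        obtain ⟨⟨o1, hm⟩, e1⟩ := hc
        rcases hy with rfl | ⟨oy, hy⟩
        · refine Or.inl ?_
          rw [cond_true]
          -- the image of the identity is the identity
          obtain ⟨-, e⟩ := tabA_act h _ hm
          obtain ⟨ot, -⟩ := tabA_act h _ hm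
          apply R.inj _ _ ot ok_one
          rw [← e, show (tabA.get q.2).1 = conj q.1 one from e1.symm, R.conj_eq o1 ok_one, R.hone]
          group
        · refine Or.inr ?_
          rw [cond_true]
          refine ⟨(tabA_act h _ hm).1, h.act.fused hm ?_⟩
          rw [← e1]
          exact R.isConj_conj o1 oy hy
  rcases key pathB cA (Or.inr ⟨gensK_facts.1, hA⟩) with h1 | ⟨-, h1⟩
  · exact absurd (hl ▸ h1) hne
  · rw [hl] at h1
    have := R.isConj_conj oe ol h1
    rwa [he] at this

end CfsgLib.HeUnique
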