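import Cfsg.Agent.Lib.HeUnique.Eval
import Cfsg.Agent.Lib.HeUnique.Held
import Cfsg.Agent.Lib.HeUnique.DataFive

/-!
Completeness of the orbit lists and of the tables.
-/

set_option autoImplicit false

namespace CfsgLib.HeUnique

/-- The orbit check of one code. -/
def orbOK (x : ℕ) : Bool := bif decide (x < 65536) && ok x then
    (orbFive.getD 0 []).contains (conj x cA) && (orbFive.getD 1 []).contains (conj x cB)
      else true

theorem orb_facts_0 : CosetEnum.allUp orbOK 13 0 = true := by decide +kernel

theorem orb_facts_1 : CosetEnum.allUp orbOK 13 8192 = true := by decide +kernel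

theorem orb_facts_2 : CosetEnum.allUp orbOK 13 16384 = true := by decide +kernel

theorem orb_facts_3 : CosetEnum.allUp orbOK 13 24576 = true := by decide +kernel

theorem orb_facts_4 : CosetEnum.allUp orbOK 13 32768 = true := by decide +kernel

theorem orb_facts_5 : CosetEnum.allUp orbOK 13 40960 = true := by decide +kernel

theorem orb_facts_6 : CosetEnum.allUp orbOK 13 49152 = true := by decide +kernel

theorem orb_facts_7 : CosetEnum.allUp orbOK 13 57344 = true := by decide +kernel

theorem orb_facts : CosetEnum.allUp orbOK 16 0 = true :=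
  (allUp_join (allUp_join (allUp_join orb_facts_0 orb_facts_1 (by norm_num)) (allUp_join orb_facts_2 orb_facts_3 (by norm_num)) (by norm_num)) (allUp_join (allUp_join orb_facts_4 orb_facts_5 (by norm_num)) (allUp_join orb_facts_6 orb_facts_7 (by norm_num)) (by norm_num)) (by norm_num))

theorem orb_spec {x : ℕ} (hx : ok x = true) :
    conj x cA ∈ orbFive.getD 0 [] ∧ conj x cB ∈ orbFive.getD 1 [] := by
  have h := CosetEnum.allUp_spec orb_facts x (Nat.zero_le _) (by
    have := ok_lt hx; norm_num; omega)
  simp only [orbOK, hx, decide_eq_true (ok_lt hx), Bool.and_self, cond_true, Bool.and_eq_true,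
    List.contains_iff_mem] at h
  exact h

theorem theta_cA : theta cA = cB ∧ ok cB = true := by decide +kernel

theorem tab_cover {i : ℕ} (hi : i < 4) {x : ℕ} (hx : ok x = true) (hc : cmul x cA = cmul cA x) :
    ∃ m < 1536, ((phiTab i).get m).1 = x ∧ ok ((phiTab i).get m).2 = true := by
  obtain ⟨h1, h2⟩ := kIdx_spec hx hc
  exact ⟨_, h1, by rw [(tab_step hi h1).1, h2], phiTab_ok hi h1⟩

theorem tab_cover_theta {i : ℕ} (hi : i < 4) {x : ℕ} (hx : ok x = true)
    (hc : cmul x cB = cmul cB x) :
    ∃ m < 1536, ((thTab (phiTab i)).get m).1 = x ∧ ok ((thTab (phiTab i)).get m).2 = true := by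
  obtain ⟨y, oy, rfl⟩ := theta_bij hx
  have oA := gensK_facts.1
  rw [← theta_cA.1, ← (theta_cmul oy oA).2, ← (theta_cmul oA oy).2] at hc
  have hcy := theta_inj (ok_cmul oy oA) (ok_cmul oA oy) hc
  obtain ⟨m, hm, e1, o2⟩ := tab_cover hi oy hcy
  refine ⟨m, hm, ?_, ?_⟩ <;> rw [thTab, Tree.get_mapT]
  · show theta ((phiTab i).get m).1 = theta y
    rw [e1]
  · exact (theta_cmul o2 o2).1

variable {T : Type*} [Group T] {ι0 σ0 : ℕ → T}

theorem wval_mem {nk : ℕ} {H : Subgroup T} (hι : ∀ c, ok c = true → ι0 c ∈ H)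
    (hσ : ∀ k < nk, σ0 k ∈ H) : ∀ {w : List ℕ},
      (w.all fun t => bif decide (t < 65536) then ok t else decide (t - 65536 < nk)) = true →
      wval ι0 σ0 w ∈ H
  | [], _ => by simp [wval]
  | t :: ts, h => by
    simp only [List.all_cons, Bool.and_eq_true] at h
    have := wval_mem hι hσ (w := ts) h.2
    rw [show wval ι0 σ0 (t :: ts) = val ι0 σ0 t * wval ι0 σ0 ts by simp [wval]]
    refine mul_mem ?_ this
    by_cases ht : t < 65536
    · have h1 := h.1
      rw [decide_eq_true ht, cond_true] at h1
      simpa [val, ht] using hι t h1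
    · have h1 := h.1
      rw [decide_eq_false ht, cond_false, decide_eq_true_eq] at h1
      simpa [val, ht] using hσ _ h1

end CfsgLib.HeUnique
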