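import Cfsg.Agent.Lib.HeUnique.Cert

/-!
A path from the first class to the second, and the derivation for the other value of the loop.
-/

set_option autoImplicit false
set_option linter.style.longLine false
set_option maxRecDepth 100000

namespace CfsgLib.HeUnique

/-- the path -/
def pathB : List (ℕ × ℕ) := [(27399, 370), (48115, 413), (10951, 45)]

/-- its last conjugator -/
def pathEnd : ℕ := 27399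

/-- the facts -/
def factsAlt : Tree (Fct × Why) :=
  (.node (.node (.node (.node (.node (.node (.node (.node (.node (.leaf (⟨0, 0, 34944, 0, 34944, 1, 34944⟩, .dfn)) (.leaf (⟨1, 19, 35714, 0, 43136, 19, 34944⟩, .mul 254 254))) (.node (.leaf (⟨1, 6, 34944, 0, 34944, 6, 34944⟩, .unit)) (.leaf (⟨0, 0, 34944, 0, 34944, 1, 34944⟩, .dfn)))) (.node (.node (.leaf (⟨1, 3, 34944, 0, 34944, 3, 34944⟩, .unit)) (.leaf (⟨0, 18, 64122, 0, 57065, 25, 61800⟩, .inv 319))) (.node (.leaf (⟨0, 6, 34659, 0, 34944, 13, 34944⟩, .dfn)) (.leaf (⟨0, 0, 34944, 0, 34944, 1, 34944⟩, .dfn))))) (.node (.node (.node (.leaf (⟨1, 2, 21391, 0, 20716, 2, 34944⟩, .mul 29 31)) (.leaf (⟨1, 25, 29948, 0, 40065, 25, 34944⟩, .sync ⟨165, 284, 265⟩))) (.node (.leaf (⟨1, 10, 59604, 0, 40169, 10, 34944⟩, .sync ⟨78, 156, 1074⟩)) (.leaf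 (⟨0, 0, 34944, 0, 34944, 1, 34944⟩, .dfn)))) (.node (.node (.leaf (⟨1, 5, 35489, 0, 51376, 5, 34944⟩, .sync ⟨12, 93, 1466⟩)) (.leaf (⟨0, 9, 27505, 1, 28852, 12, 62124⟩, .inv 351))) (.node (.leaf (⟨0, 14, 18077, 0, 23178, 13, 24133⟩, .inv 223)) (.leaf (⟨0, 0, 34944, 0, 34944, 1, 34944⟩, .dfn)))))) (.node (.node (.node (.node (.leaf (⟨1, 1, 54405, 0, 23696, 1, 34944⟩, .mul 15 5)) (.leaf (⟨0, 11, 13813, 0, 34944, 22, 34944⟩, .dfn))) (.node (.leaf (⟨1, 8, 44176, 0, 44185, 8, 34944⟩, .mul 136 138)) (.leaf (⟨0, 0, 34944, 0, 34944, 1, 34944⟩, .dfn)))) (.node (.node (.leaf (⟨1, 4, 35202, 0, 43176, 4, 34944⟩, .mul 74 74)) (.leaf (⟨0, 29, 62675, 0, 60212, 28, 55219⟩, .fill 5 6 4 [20108, 65536, 13813, 65536, 34944, 15983, 34944] 13 59520 [⟨197, 329, 1386⟩, ⟨294, 331, 515⟩] [⟨203, 295, 507⟩, ⟨298, 308,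 583⟩]))) (.node (.leaf (⟨1, 6, 44284, 0, 35714, 6, 34944⟩, .mul 123 123)) (.leaf (⟨0, 0, 34944, 0, 34944, 1, 34944⟩, .dfn))))) (.node (.node (.node (.leaf (⟨1, 1, 28845, 0, 28864, 1, 34944⟩, .mul 9 7)) (.leaf (⟨0, 28, 29024, 0, 27484, 17, 15656⟩, .fill 4 5 4 [11191, 65536, 13813, 65536, 34944, 15983, 34944] 11 20640 [⟨180, 278, 1382⟩, ⟨280, 302, 1214⟩] [⟨180, 233, 1093⟩, ⟨229, 246, 263⟩]))) (.node (.leaf (⟨1, 4, 39813, 0, 48301, 4, 34944⟩, .mul 175 76)) (.leaf (⟨0, 0, 34944, 0, 34944, 1, 34944⟩, .dfn)))) (.node (.node (.leaf (⟨1, 5, 35265, 0, 59561, 5, 34944⟩, .mul 108 96)) (.leaf (⟨0, 31, 35793, 0, 45478, 29, 26459⟩, .fill 5 6 4 [20108, 65536, 13813, 65536, 34944, 15983, 34944] 10 43138 [⟨164, 359, 77⟩, ⟨287, 366, 901⟩] [⟨162, 284, 189⟩, ⟨291, 331, 545⟩]))) (.node (.leaf (⟨0, 8, 34659, 0,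 34944, 17, 34944⟩, .dfn)) (.leaf (⟨0, 0, 34944, 0, 34944, 1, 34944⟩, .dfn))))))) (.node (.node (.node (.node (.node (.leaf (⟨1, 1, 51420, 0, 40108, 1, 34944⟩, .mul 5 7)) (.leaf (⟨0, 19, 27150, 0, 59529, 19, 38238⟩, .fill 5 6 2 [20108, 65536, 13813, 65536, 34944, 15983, 34944, 65536, 54904] 8 34050 [⟨147, 252, 1195⟩] [⟨136, 240, 303⟩, ⟨248, 247, 247⟩, ⟨228, 258, 160⟩]))) (.node (.leaf (⟨1, 8, 29853, 0, 44165, 8, 34944⟩, .sync ⟨111, 135, 317⟩)) (.leaf (⟨0, 0, 34944, 0, 34944, 1, 34944⟩, .dfn)))) (.node (.node (.leaf (⟨0, 1, 34944, 1, 34944, 4, 34944⟩, .dfn)) (.leaf (⟨0, 25, 55211, 1, 12797, 13, 47289⟩, .fill 4 3 2 [13813, 65536, 34944, 15983, 34944, 65536, 54904, 65536, 62212] 22 14592 [⟨277, 292, 313⟩] [⟨274, 311, 861⟩, ⟨303, 307, 418⟩, ⟨298, 296, 304⟩]))) (.node (.leaf (⟨1, 6, 43192, 0, 35200,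 6, 34944⟩, .mul 199 123)) (.leaf (⟨0, 0, 34944, 0, 34944, 1, 34944⟩, .dfn))))) (.node (.node (.node (.leaf (⟨1, 3, 36052, 0, 44269, 3, 34944⟩, .sync ⟨9, 39, 741⟩)) (.leaf (⟨0, 27, 34944, 0, 34944, 13, 34659⟩, .inv 295))) (.node (.leaf (⟨0, 10, 34946, 0, 34960, 10, 20623⟩, .fill 0 0 2 [20621, 34946, 65536, 34946] 4 34944 [⟨92, 156, 0⟩] [⟨84, 156, 1070⟩])) (.leaf (⟨0, 0, 34944, 0, 34944, 1, 34944⟩, .dfn)))) (.node (.node (.leaf (⟨0, 2, 20108, 0, 27440, 5, 45831⟩, .fill 4 5 2 [11191, 65536, 13813, 65536, 34944, 15983, 34944, 65536, 54904] 0 34944 [⟨17, 24, 0⟩] [⟨22, 0, 736⟩, ⟨15, 39, 516⟩, ⟨64, 103, 1309⟩])) (.leaf (⟨1, 6, 43244, 0, 35270, 6, 34944⟩, .mul 299 123))) (.node (.leaf (⟨1, 15, 43177, 0, 40133, 15, 34944⟩, .mul 231 228)) (.leaf (⟨0, 0, 34944, 0, 34944, 1, 34944⟩, .dfn)))))) (.node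 (.node (.node (.node (.leaf (⟨0, 0, 34944, 1, 34944, 2, 34944⟩, .dfn)) (.leaf (⟨1, 23, 35524, 0, 43192, 23, 34944⟩, .mul 279 279))) (.node (.leaf (⟨1, 9, 51339, 0, 59560, 9, 34944⟩, .mul 149 151)) (.leaf (⟨0, 0, 34944, 0, 34944, 1, 34944⟩, .dfn)))) (.node (.node (.leaf (⟨1, 4, 53730, 0, 54428, 4, 34944⟩, .mul 87 74)) (.leaf (⟨0, 18, 35972, 0, 45417, 20, 62287⟩, .fill 4 7 0 [62212, 65537, 11191, 65536, 13813, 65536, 34944, 15983, 34944, 65536, 54904] 18 35972 [] [⟨251, 343, 1504⟩, ⟨333, 341, 685⟩, ⟨303, 307, 1077⟩, ⟨297, 323, 209⟩]))) (.node (.leaf (⟨1, 6, 23688, 0, 22697, 6, 34944⟩, .mul 209 117)) (.leaf (⟨0, 0, 34944, 0, 34944, 1, 34944⟩, .dfn))))) (.node (.node (.node (.leaf (⟨1, 1, 21676, 0, 28892, 1, 34944⟩, .mul 15 3)) (.leaf (⟨0, 18, 27187, 0, 45333, 22, 14813⟩, .fill 4 3 4 [13813, 65536,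 34944, 15983, 34944, 65536, 54904] 17 34984 [⟨248, 241, 496⟩, ⟨137, 249, 198⟩] [⟨248, 305, 530⟩, ⟨303, 310, 667⟩]))) (.node (.leaf (⟨0, 12, 34944, 1, 34944, 4, 36710⟩, .inv 183)) (.leaf (⟨0, 0, 34944, 0, 34944, 1, 34944⟩, .dfn)))) (.node (.node (.leaf (⟨1, 2, 52165, 0, 39624, 2, 34944⟩, .mul 119 27)) (.leaf (⟨0, 0, 34944, 0, 34944, 1, 34944⟩, .dfn))) (.node (.leaf (⟨1, 17, 34944, 0, 34944, 17, 34944⟩, .unit)) (.leaf (⟨0, 0, 34944, 0, 34944, 1, 34944⟩, .dfn)))))))) (.node (.node (.node (.node (.node (.node (.leaf (⟨1, 0, 30869, 0, 30869, 0, 34944⟩, .base)) (.leaf (⟨0, 9, 20120, 0, 44165, 19, 38728⟩, .fill 4 3 4 [13813, 65536, 34944, 15983, 34944, 65536, 54904] 3 45312 [⟨40, 103, 1100⟩, ⟨101, 148, 1256⟩] [⟨64, 227, 1498⟩, ⟨228, 258, 1330⟩]))) (.node (.leaf (⟨0, 2, 36710, 1, 34944, 7, 34944⟩,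 .dfn)) (.leaf (⟨0, 0, 34944, 0, 34944, 1, 34944⟩, .dfn)))) (.node (.node (.leaf (⟨1, 3, 43177, 0, 44284, 3, 34944⟩, .mul 42 44)) (.leaf (⟨0, 20, 26196, 0, 13308, 27, 56877⟩, .inv 323))) (.node (.leaf (⟨1, 6, 43176, 0, 35202, 6, 34944⟩, .mul 127 123)) (.leaf (⟨0, 0, 34944, 0, 34944, 1, 34944⟩, .dfn))))) (.node (.node (.node (.leaf (⟨1, 2, 51623, 0, 39401, 2, 34944⟩, .mul 32 29)) (.leaf (⟨0, 22, 14695, 0, 62624, 25, 24173⟩, .fill 4 1 6 [34944, 15983, 34944, 65536, 54904] 10 34954 [⟨169, 168, 278⟩, ⟨161, 284, 68⟩, ⟨291, 289, 1165⟩] [⟨166, 284, 899⟩]))) (.node (.leaf (⟨1, 10, 40169, 0, 59604, 10, 34944⟩, .mul 163 159)) (.leaf (⟨0, 0, 34944, 0, 34944, 1, 34944⟩, .dfn)))) (.node (.node (.leaf (⟨1, 5, 35747, 0, 59544, 5, 34944⟩, .sync ⟨99, 93, 1208⟩)) (.leaf (⟨0, 10, 15834, 1, 26512, 6, 23024⟩, .fill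 4 3 2 [13813, 65536, 34944, 15983, 34944, 65536, 54904, 65536, 62212] 20 12584 [⟨271, 345, 129⟩] [⟨268, 324, 834⟩, ⟨298, 296, 1021⟩, ⟨207, 193, 717⟩]))) (.node (.leaf (⟨1, 15, 29836, 0, 44284, 15, 34944⟩, .sync ⟨68, 227, 1078⟩)) (.leaf (⟨0, 0, 34944, 0, 34944, 1, 34944⟩, .dfn)))))) (.node (.node (.node (.node (.leaf (⟨1, 1, 34944, 0, 34944, 1, 34944⟩, .unit)) (.leaf (⟨0, 22, 43243, 0, 43152, 22, 31942⟩, .fill 0 0 2 [20621, 34946, 65536, 34946] 11 12544 [⟨180, 272, 424⟩] [⟨181, 272, 599⟩]))) (.node (.leaf (⟨0, 5, 36710, 1, 34944, 9, 34944⟩, .dfn)) (.leaf (⟨0, 0, 34944, 0, 34944, 1, 34944⟩, .dfn)))) (.node (.node (.leaf (⟨1, 4, 34946, 0, 34960, 4, 34944⟩, .mul 83 76)) (.leaf (⟨0, 22, 64049, 0, 12551, 29, 31083⟩, .inv 339))) (.node (.leaf (⟨1, 13, 35069, 0, 34985, 13, 34944⟩, .mul 202 201)) (.leaf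 (⟨0, 0, 34944, 0, 34944, 1, 34944⟩, .dfn))))) (.node (.node (.node (.leaf (⟨1, 1, 62604, 0, 22660, 1, 34944⟩, .mul 51 7)) (.leaf (⟨0, 27, 43620, 0, 23222, 28, 36700⟩, .inv 307))) (.node (.leaf (⟨1, 11, 34944, 0, 34944, 11, 34944⟩, .unit)) (.leaf (⟨0, 0, 34944, 0, 34944, 1, 34944⟩, .dfn)))) (.node (.node (.leaf (⟨0, 6, 34944, 0, 34944, 2, 34944⟩, .inv 115)) (.leaf (⟨1, 0, 59854, 0, 59854, 0, 34944⟩, .base))) (.node (.leaf (⟨1, 17, 20704, 0, 59537, 17, 34944⟩, .mul 242 243)) (.leaf (⟨0, 0, 34944, 0, 34944, 1, 34944⟩, .dfn))))))) (.node (.node (.node (.node (.node (.leaf (⟨1, 1, 39125, 0, 51376, 1, 34944⟩, .mul 3 5)) (.leaf (⟨1, 20, 35013, 0, 51329, 20, 34944⟩, .sync ⟨150, 266, 496⟩))) (.node (.leaf (⟨1, 8, 28884, 0, 59525, 8, 34944⟩, .mul 136 137)) (.leaf (⟨0, 0, 34944, 0, 34944, 1, 34944⟩,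 .dfn)))) (.node (.node (.leaf (⟨1, 4, 53892, 0, 53404, 4, 34944⟩, .sync ⟨75, 72, 125⟩)) (.leaf (⟨0, 29, 24099, 0, 27364, 25, 14318⟩, .inv 331))) (.node (.leaf (⟨1, 13, 44188, 0, 51585, 13, 34944⟩, .mul 195 201)) (.leaf (⟨0, 0, 34944, 0, 34944, 1, 34944⟩, .dfn))))) (.node (.node (.node (.leaf (⟨1, 3, 28837, 0, 48297, 3, 34944⟩, .sync ⟨43, 39, 808⟩)) (.leaf (⟨0, 27, 52435, 0, 34985, 27, 62666⟩, .fill 0 0 2 [20621, 34946, 65536, 34946] 13 34048 [⟨207, 295, 1068⟩] [⟨212, 295, 1222⟩]))) (.node (.leaf (⟨1, 11, 60597, 0, 60669, 11, 34944⟩, .sync ⟨74, 170, 156⟩)) (.leaf (⟨0, 0, 34944, 0, 34944, 1, 34944⟩, .dfn)))) (.node (.node (.leaf (⟨1, 5, 35808, 0, 43161, 5, 34944⟩, .mul 94 94)) (.leaf (⟨0, 18, 54904, 0, 34944, 31, 34944⟩, .dfn))) (.node (.leaf (⟨0, 15, 58908, 1, 54469, 15, 32585⟩, .fill 4 1 4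 [34944, 15983, 34944, 65536, 54904, 65536, 62212] 1 34048 [⟨20, 39, 1068⟩, ⟨59, 227, 940⟩] [⟨56, 39, 1054⟩, ⟨69, 227, 959⟩])) (.leaf (⟨0, 0, 34944, 0, 34944, 1, 34944⟩, .dfn)))))) (.node (.node (.node (.node (.leaf (⟨1, 0, 53704, 0, 53704, 0, 34944⟩, .base)) (.leaf (⟨0, 10, 34659, 0, 34944, 25, 34944⟩, .dfn))) (.node (.leaf (⟨0, 4, 34944, 0, 34944, 10, 34944⟩, .dfn)) (.leaf (⟨0, 0, 34944, 0, 34944, 1, 34944⟩, .dfn)))) (.node (.node (.leaf (⟨1, 4, 34944, 0, 34944, 4, 34944⟩, .unit)) (.leaf (⟨0, 9, 34300, 0, 62617, 12, 34157⟩, .fill 4 3 6 [13813, 65536, 34944, 15983, 34944] 18 52386 [⟨251, 313, 602⟩, ⟨277, 347, 1115⟩, ⟨271, 267, 1497⟩] [⟨251, 317, 270⟩]))) (.node (.leaf (⟨1, 14, 20943, 0, 39336, 14, 34944⟩, .mul 219 214)) (.leaf (⟨0, 0, 34944, 0, 34944, 1, 34944⟩, .dfn))))) (.node (.node (.node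 (.leaf (⟨1, 3, 36009, 0, 43260, 3, 34944⟩, .mul 42 47)) (.leaf (⟨0, 12, 12081, 0, 61286, 18, 31263⟩, .fill 4 9 10 [54904] 18 53442 [⟨251, 313, 1385⟩, ⟨277, 273, 335⟩, ⟨180, 171, 1080⟩, ⟨77, 183, 433⟩] []))) (.node (.leaf (⟨1, 4, 20650, 0, 20649, 4, 34944⟩, .mul 187 74)) (.leaf (⟨0, 0, 34944, 0, 34944, 1, 34944⟩, .dfn)))) (.node (.node (.leaf (⟨1, 6, 51412, 0, 51663, 6, 34944⟩, .mul 117 123)) (.leaf (⟨0, 0, 34944, 0, 34944, 1, 34944⟩, .dfn))) (.node (.leaf (⟨0, 8, 36710, 1, 34944, 19, 34944⟩, .dfn)) (.leaf (⟨0, 0, 34944, 0, 34944, 1, 34944⟩, .dfn))))))))) (.node (.node (.node (.node (.node (.node (.node (.leaf (⟨1, 0, 21721, 0, 21721, 0, 34944⟩, .base)) (.leaf (⟨0, 15, 15880, 0, 24056, 19, 10782⟩, .fill 4 1 2 [34944, 15983, 34944, 65536, 54904, 65536, 62212, 65537, 11191] 3 42244 [⟨59, 227,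 1057⟩] [⟨40, 103, 1140⟩, ⟨97, 135, 787⟩, ⟨145, 252, 2⟩]))) (.node (.leaf (⟨1, 6, 62696, 0, 54220, 6, 34944⟩, .mul 129 117)) (.leaf (⟨0, 0, 34944, 0, 34944, 1, 34944⟩, .dfn)))) (.node (.node (.leaf (⟨0, 3, 61767, 0, 15081, 3, 27221⟩, .fill 4 1 6 [34944, 15983, 34944, 65536, 54904] 1 34946 [⟨20, 19, 0⟩, ⟨65, 39, 119⟩, ⟨40, 63, 1297⟩] [⟨56, 39, 307⟩])) (.leaf (⟨0, 28, 14129, 1, 46001, 27, 11969⟩, .inv 321))) (.node (.leaf (⟨1, 6, 59569, 0, 51329, 6, 34944⟩, .mul 118 117)) (.leaf (⟨0, 0, 34944, 0, 34944, 1, 34944⟩, .dfn))))) (.node (.node (.node (.leaf (⟨1, 2, 22661, 0, 54187, 2, 34944⟩, .mul 27 29)) (.leaf (⟨0, 22, 40753, 1, 21645, 25, 58961⟩, .inv 289))) (.node (.leaf (⟨1, 10, 40148, 0, 59529, 10, 34944⟩, .mul 159 160)) (.leaf (⟨0, 0, 34944, 0, 34944, 1, 34944⟩, .dfn)))) (.node (.node (.leaf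 (⟨1, 1, 30932, 0, 53429, 1, 34944⟩, .mul 45 3)) (.leaf (⟨0, 25, 56908, 0, 48337, 12, 52105⟩, .inv 353))) (.node (.leaf (⟨1, 14, 35522, 0, 39045, 14, 34944⟩, .mul 219 218)) (.leaf (⟨0, 0, 34944, 0, 34944, 1, 34944⟩, .dfn)))))) (.node (.node (.node (.node (.leaf (⟨1, 0, 31898, 0, 31898, 0, 34944⟩, .base)) (.leaf (⟨1, 22, 39105, 0, 34984, 22, 34944⟩, .sync ⟨239, 272, 1158⟩))) (.node (.leaf (⟨1, 8, 35052, 0, 44177, 8, 34944⟩, .mul 143 138)) (.leaf (⟨0, 0, 34944, 0, 34944, 1, 34944⟩, .dfn)))) (.node (.node (.leaf (⟨1, 4, 53380, 0, 61653, 4, 34944⟩, .mul 80 76)) (.leaf (⟨0, 17, 50684, 1, 11152, 29, 18199⟩, .fill 4 3 2 [13813, 65536, 34944, 15983, 34944, 65536, 54904, 65536, 62212] 15 34056 [⟨235, 246, 857⟩] [⟨235, 258, 819⟩, ⟨255, 301, 1211⟩, ⟨303, 337, 620⟩]))) (.node (.leaf (⟨1, 6, 48340, 0, 39919,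 6, 34944⟩, .mul 208 118)) (.leaf (⟨0, 0, 34944, 0, 34944, 1, 34944⟩, .dfn))))) (.node (.node (.node (.leaf (⟨1, 1, 53400, 0, 30857, 1, 34944⟩, .mul 49 5)) (.leaf (⟨0, 24, 64100, 1, 54012, 28, 43451⟩, .fill 4 3 2 [13813, 65536, 34944, 15983, 34944, 65536, 54904, 65536, 62212] 14 34952 [⟨225, 281, 278⟩] [⟨214, 222, 685⟩, ⟨138, 240, 244⟩, ⟨243, 305, 917⟩]))) (.node (.leaf (⟨1, 11, 51364, 0, 60628, 11, 34944⟩, .sync ⟨177, 170, 773⟩)) (.leaf (⟨0, 0, 34944, 0, 34944, 1, 34944⟩, .dfn)))) (.node (.node (.leaf (⟨1, 5, 35533, 0, 60577, 5, 34944⟩, .mul 112 95)) (.leaf (⟨0, 25, 47704, 1, 12028, 31, 62145⟩, .fill 4 3 2 [13813, 65536, 34944, 15983, 34944, 65536, 54904, 65536, 62212] 10 34048 [⟨169, 284, 1068⟩] [⟨166, 284, 438⟩, ⟨294, 331, 485⟩, ⟨333, 369, 1330⟩]))) (.node (.leaf (⟨1, 17, 29852, 0, 51345,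 17, 34944⟩, .sync ⟨211, 240, 1510⟩)) (.leaf (⟨0, 0, 34944, 0, 34944, 1, 34944⟩, .dfn))))))) (.node (.node (.node (.node (.node (.leaf (⟨1, 1, 29888, 0, 28837, 1, 34944⟩, .mul 9 3)) (.leaf (⟨0, 9, 34944, 0, 34944, 20, 34944⟩, .dfn))) (.node (.leaf (⟨1, 8, 20621, 0, 34972, 8, 34944⟩, .sync ⟨109, 135, 1070⟩)) (.leaf (⟨0, 0, 34944, 0, 34944, 1, 34944⟩, .dfn)))) (.node (.node (.leaf (⟨1, 4, 52138, 0, 60669, 4, 34944⟩, .sync ⟨45, 72, 1487⟩)) (.leaf (⟨0, 17, 34659, 0, 34944, 29, 34944⟩, .dfn))) (.node (.leaf (⟨1, 13, 20637, 0, 35241, 13, 34944⟩, .mul 195 198)) (.leaf (⟨0, 0, 34944, 0, 34944, 1, 34944⟩, .dfn))))) (.node (.node (.node (.leaf (⟨1, 3, 29824, 0, 40128, 3, 34944⟩, .sync ⟨41, 39, 489⟩)) (.leaf (⟨1, 27, 34944, 0, 34944, 27, 34944⟩, .unit))) (.node (.leaf (⟨0, 4, 34659, 0, 34944, 11, 34944⟩,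 .dfn)) (.leaf (⟨0, 0, 34944, 0, 34944, 1, 34944⟩, .dfn)))) (.node (.node (.leaf (⟨1, 2, 51437, 0, 39661, 2, 34944⟩, .mul 31 27)) (.leaf (⟨1, 0, 50637, 0, 50637, 0, 34944⟩, .base))) (.node (.leaf (⟨0, 15, 60019, 0, 53424, 11, 50592⟩, .inv 233)) (.leaf (⟨0, 0, 34944, 0, 34944, 1, 34944⟩, .dfn)))))) (.node (.node (.node (.node (.leaf (⟨1, 0, 35266, 0, 35266, 0, 34944⟩, .base)) (.leaf (⟨1, 24, 21673, 0, 39405, 24, 34944⟩, .sync ⟨221, 281, 874⟩))) (.node (.leaf (⟨1, 9, 51361, 0, 34985, 9, 34944⟩, .mul 153 151)) (.leaf (⟨0, 0, 34944, 0, 34944, 1, 34944⟩, .dfn)))) (.node (.node (.leaf (⟨1, 1, 40136, 0, 60585, 1, 34944⟩, .mul 48 5)) (.leaf (⟨0, 20, 56847, 1, 59585, 22, 54638⟩, .fill 4 1 4 [34944, 15983, 34944, 65536, 54904, 65536, 62212] 18 52356 [⟨251, 344, 470⟩, ⟨271, 270, 281⟩] [⟨251, 318, 35⟩,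 ⟨251, 312, 619⟩]))) (.node (.leaf (⟨1, 14, 35233, 0, 39617, 14, 34944⟩, .sync ⟨217, 213, 1470⟩)) (.leaf (⟨0, 0, 34944, 0, 34944, 1, 34944⟩, .dfn))))) (.node (.node (.node (.leaf (⟨1, 1, 20673, 0, 28857, 1, 34944⟩, .mul 57 3)) (.leaf (⟨0, 10, 64014, 1, 62323, 18, 32522⟩, .fill 4 7 10 [62212] 18 53378 [⟨251, 313, 317⟩, ⟨277, 292, 596⟩, ⟨291, 285, 338⟩, ⟨169, 168, 1075⟩] []))) (.node (.leaf (⟨1, 4, 20904, 0, 21645, 4, 34944⟩, .mul 185 74)) (.leaf (⟨0, 0, 34944, 0, 34944, 1, 34944⟩, .dfn)))) (.node (.node (.leaf (⟨1, 2, 20653, 0, 21133, 2, 34944⟩, .mul 121 29)) (.leaf (⟨0, 0, 34944, 0, 34944, 1, 34944⟩, .dfn))) (.node (.leaf (⟨1, 18, 35052, 0, 44177, 18, 34944⟩, .sync ⟨146, 249, 402⟩)) (.leaf (⟨0, 0, 34944, 0, 34944, 1, 34944⟩, .dfn)))))))) (.node (.node (.node (.node (.node (.node (.leaf (⟨1,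 0, 21693, 0, 21693, 0, 34944⟩, .base)) (.leaf (⟨0, 17, 40265, 0, 34988, 19, 34302⟩, .fill 4 3 4 [13813, 65536, 34944, 15983, 34944, 65536, 54904] 3 34180 [⟨59, 227, 1460⟩, ⟨228, 245, 865⟩] [⟨47, 227, 1448⟩, ⟨232, 258, 1515⟩]))) (.node (.leaf (⟨1, 7, 34944, 0, 34944, 7, 34944⟩, .unit)) (.leaf (⟨0, 0, 34944, 0, 34944, 1, 34944⟩, .dfn)))) (.node (.node (.leaf (⟨1, 3, 35056, 0, 39056, 3, 34944⟩, .mul 40 54)) (.leaf (⟨0, 20, 34944, 1, 34978, 20, 21415⟩, .fill 5 6 0 [20108, 65536, 13813, 65536, 34944, 15983, 34944, 65536, 54904, 65536, 60004] 20 34944 [] [⟨269, 324, 1052⟩, ⟨298, 296, 733⟩, ⟨204, 295, 997⟩, ⟨297, 323, 1220⟩]))) (.node (.leaf (⟨1, 13, 44257, 0, 51624, 13, 34944⟩, .sync ⟨131, 192, 1019⟩)) (.leaf (⟨0, 0, 34944, 0, 34944, 1, 34944⟩, .dfn))))) (.node (.node (.node (.leaf (⟨1, 2, 34944,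 0, 34944, 2, 34944⟩, .unit)) (.leaf (⟨1, 25, 29825, 0, 40148, 25, 34944⟩, .mul 287 288))) (.node (.leaf (⟨1, 10, 20705, 0, 20705, 10, 34944⟩, .mul 160 159)) (.leaf (⟨0, 0, 34944, 0, 34944, 1, 34944⟩, .dfn)))) (.node (.node (.leaf (⟨0, 5, 18206, 0, 53991, 3, 31253⟩, .fill 4 3 4 [13813, 65536, 34944, 15983, 34944, 65536, 54904] 0 34944 [⟨17, 0, 0⟩, ⟨5, 93, 156⟩] [⟨22, 0, 0⟩, ⟨56, 39, 68⟩])) (.leaf (⟨0, 25, 11159, 1, 14648, 10, 14843⟩, .fill 4 3 2 [13813, 65536, 34944, 15983, 34944, 65536, 54904, 65536, 62212] 22 12576 [⟨277, 292, 1246⟩] [⟨274, 340, 819⟩, ⟨333, 332, 359⟩, ⟨291, 285, 669⟩]))) (.node (.leaf (⟨1, 15, 28841, 0, 47336, 15, 34944⟩, .mul 229 228)) (.leaf (⟨0, 0, 34944, 0, 34944, 1, 34944⟩, .dfn)))))) (.node (.node (.node (.node (.leaf (⟨1, 0, 13813, 0, 13813, 0, 34944⟩, .base)) (.leaf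 (⟨0, 11, 34944, 1, 34944, 23, 34944⟩, .dfn))) (.node (.leaf (⟨1, 9, 34984, 0, 51329, 9, 34944⟩, .sync ⟨113, 148, 958⟩)) (.leaf (⟨0, 0, 34944, 0, 34944, 1, 34944⟩, .dfn)))) (.node (.node (.leaf (⟨1, 4, 53638, 0, 54504, 4, 34944⟩, .mul 85 74)) (.leaf (⟨0, 29, 23477, 1, 60007, 18, 62214⟩, .fill 4 7 10 [62212] 18 34946 [⟨251, 313, 470⟩, ⟨275, 340, 171⟩, ⟨333, 334, 158⟩, ⟨282, 335, 1380⟩] []))) (.node (.leaf (⟨1, 14, 21164, 0, 39919, 14, 34944⟩, .sync ⟨210, 213, 38⟩)) (.leaf (⟨0, 0, 34944, 0, 34944, 1, 34944⟩, .dfn))))) (.node (.node (.node (.leaf (⟨1, 3, 36004, 0, 48317, 3, 34944⟩, .sync ⟨53, 39, 795⟩)) (.leaf (⟨0, 28, 58730, 0, 39840, 22, 31277⟩, .fill 4 3 4 [13813, 65536, 34944, 15983, 34944, 65536, 54904] 15 42252 [⟨230, 258, 1272⟩, ⟨259, 309, 127⟩] [⟨229, 234, 582⟩, ⟨172, 272, 445⟩]))) (.node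 (.leaf (⟨1, 11, 43161, 0, 43176, 11, 34944⟩, .mul 172 172)) (.leaf (⟨0, 0, 34944, 0, 34944, 1, 34944⟩, .dfn)))) (.node (.node (.leaf (⟨1, 6, 39145, 0, 39661, 6, 34944⟩, .sync ⟨106, 115, 1245⟩)) (.leaf (⟨0, 0, 34944, 0, 34944, 1, 34944⟩, .dfn))) (.node (.leaf (⟨0, 15, 26193, 0, 15639, 17, 40267⟩, .fill 5 2 2 [34944, 15983, 34944, 65536, 54904, 65536, 60004, 65537, 20108] 3 42240 [⟨64, 227, 474⟩] [⟨40, 66, 1131⟩, ⟨69, 227, 1290⟩, ⟨229, 245, 742⟩])) (.leaf (⟨0, 0, 34944, 0, 34944, 1, 34944⟩, .dfn))))))) (.node (.node (.node (.node (.node (.leaf (⟨1, 1, 39077, 0, 52420, 1, 34944⟩, .mul 13 3)) (.leaf (⟨0, 20, 34946, 0, 59560, 20, 22666⟩, .fill 0 0 2 [20621, 34946, 65536, 34946] 9 34944 [⟨155, 266, 0⟩] [⟨152, 266, 436⟩]))) (.node (.leaf (⟨1, 8, 21673, 0, 51341, 8, 34944⟩, .mul 137 136)) (.leaf (⟨0,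 0, 34944, 0, 34944, 1, 34944⟩, .dfn)))) (.node (.node (.leaf (⟨1, 4, 39080, 0, 40169, 4, 34944⟩, .mul 76 74)) (.leaf (⟨0, 29, 63833, 0, 47684, 24, 14922⟩, .fill 5 6 4 [20108, 65536, 13813, 65536, 34944, 15983, 34944] 13 43138 [⟨197, 329, 1177⟩, ⟨294, 331, 86⟩] [⟨207, 223, 52⟩, ⟨226, 281, 175⟩]))) (.node (.leaf (⟨1, 6, 22716, 0, 22953, 6, 34944⟩, .mul 124 118)) (.leaf (⟨0, 0, 34944, 0, 34944, 1, 34944⟩, .dfn))))) (.node (.node (.node (.leaf (⟨1, 1, 59584, 0, 47273, 1, 34944⟩, .mul 16 7)) (.leaf (⟨0, 23, 27445, 0, 32020, 28, 11841⟩, .fill 4 5 2 [11191, 65536, 13813, 65536, 34944, 15983, 34944, 65536, 54904] 11 20612 [⟨180, 278, 1385⟩] [⟨178, 233, 676⟩, ⟨228, 258, 208⟩, ⟨257, 301, 177⟩]))) (.node (.leaf (⟨1, 11, 59553, 0, 36037, 11, 34944⟩, .sync ⟨173, 170, 1413⟩)) (.leaf (⟨0, 0, 34944, 0, 34944,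 1, 34944⟩, .dfn)))) (.node (.node (.leaf (⟨1, 5, 34958, 0, 35977, 5, 34944⟩, .mul 96 97)) (.leaf (⟨0, 25, 42416, 0, 46040, 31, 47643⟩, .inv 365))) (.node (.leaf (⟨1, 11, 52396, 0, 52420, 11, 34944⟩, .mul 182 172)) (.leaf (⟨0, 0, 34944, 0, 34944, 1, 34944⟩, .dfn)))))) (.node (.node (.node (.node (.leaf (⟨1, 0, 39855, 0, 39855, 0, 34944⟩, .base)) (.leaf (⟨1, 10, 35000, 0, 35029, 10, 34944⟩, .mul 160 160))) (.node (.leaf (⟨1, 4, 22668, 0, 23740, 4, 34944⟩, .mul 86 76)) (.leaf (⟨0, 0, 34944, 0, 34944, 1, 34944⟩, .dfn)))) (.node (.node (.leaf (⟨1, 5, 20929, 0, 52396, 5, 34944⟩, .sync ⟨55, 93, 624⟩)) (.leaf (⟨0, 12, 64028, 1, 35025, 12, 14717⟩, .fill 4 1 4 [34944, 15983, 34944, 65536, 54904, 65536, 62212] 19 42284 [⟨259, 263, 621⟩, ⟨248, 349, 726⟩] [⟨259, 261, 838⟩, ⟨155, 348, 575⟩]))) (.node (.leaf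 (⟨0, 14, 18080, 0, 11138, 8, 52745⟩, .fill 4 3 4 [13813, 65536, 34944, 15983, 34944, 65536, 54904] 2 34944 [⟨38, 115, 0⟩, ⟨117, 213, 1253⟩] [⟨36, 104, 793⟩, ⟨105, 135, 119⟩])) (.leaf (⟨0, 0, 34944, 0, 34944, 1, 34944⟩, .dfn))))) (.node (.node (.node (.leaf (⟨1, 1, 53389, 0, 22680, 1, 34944⟩, .mul 41 7)) (.leaf (⟨0, 18, 62891, 0, 35041, 18, 31259⟩, .fill 4 9 10 [54904] 18 53446 [⟨251, 313, 874⟩, ⟨277, 292, 418⟩, ⟨291, 285, 1373⟩, ⟨169, 314, 615⟩] []))) (.node (.leaf (⟨1, 12, 51371, 0, 39124, 12, 34944⟩, .sync ⟨189, 183, 1499⟩)) (.leaf (⟨0, 0, 34944, 0, 34944, 1, 34944⟩, .dfn)))) (.node (.node (.leaf (⟨1, 6, 36053, 0, 35458, 6, 34944⟩, .mul 125 117)) (.leaf (⟨0, 0, 34944, 0, 34944, 1, 34944⟩, .dfn))) (.node (.leaf (⟨1, 19, 20973, 0, 52352, 19, 34944⟩, .sync ⟨137, 252, 226⟩)) (.leaf (⟨0, 0, 34944,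 0, 34944, 1, 34944⟩, .dfn)))))))))) (.node (.node (.node (.node (.node (.node (.node (.node (.leaf (⟨0, 1, 34944, 0, 34944, 0, 34944⟩, .inv 0)) (.leaf (⟨1, 19, 20623, 0, 35993, 19, 34944⟩, .mul 256 255))) (.node (.leaf (⟨1, 6, 35013, 0, 35014, 6, 34944⟩, .mul 118 118)) (.leaf (⟨0, 0, 34944, 0, 34944, 1, 34944⟩, .dfn)))) (.node (.node (.leaf (⟨1, 1, 54428, 0, 22657, 1, 34944⟩, .mul 8 3)) (.leaf (⟨0, 27, 11969, 1, 22321, 28, 14129⟩, .fill 4 1 4 [34944, 15983, 34944, 65536, 54904, 65536, 62212] 19 51332 [⟨259, 301, 1476⟩, ⟨303, 307, 32⟩] [⟨259, 264, 505⟩, ⟨259, 301, 124⟩]))) (.node (.leaf (⟨0, 13, 34944, 0, 34944, 6, 34659⟩, .inv 192)) (.leaf (⟨0, 0, 34944, 0, 34944, 1, 34944⟩, .dfn))))) (.node (.node (.node (.leaf (⟨1, 2, 21198, 0, 20910, 2, 34944⟩, .mul 32 27)) (.leaf (⟨0, 25, 58961, 1, 28813,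 22, 40753⟩, .fill 4 1 4 [34944, 15983, 34944, 65536, 54904, 65536, 62212] 4 34952 [⟨92, 156, 278⟩, ⟨169, 284, 1281⟩] [⟨77, 170, 685⟩, ⟨182, 272, 688⟩]))) (.node (.leaf (⟨1, 10, 23688, 0, 61653, 10, 34944⟩, .mul 159 159)) (.leaf (⟨0, 0, 34944, 0, 34944, 1, 34944⟩, .dfn)))) (.node (.node (.leaf (⟨1, 5, 35500, 0, 60585, 5, 34944⟩, .sync ⟨90, 93, 1027⟩)) (.leaf (⟨0, 12, 52105, 0, 47297, 25, 56908⟩, .fill 4 3 4 [13813, 65536, 34944, 15983, 34944, 65536, 54904] 20 34984 [⟨271, 267, 496⟩, ⟨155, 352, 6⟩] [⟨271, 345, 172⟩, ⟨169, 284, 911⟩]))) (.node (.leaf (⟨1, 14, 34944, 0, 34944, 14, 34944⟩, .unit)) (.leaf (⟨0, 0, 34944, 0, 34944, 1, 34944⟩, .dfn)))))) (.node (.node (.node (.node (.leaf (⟨1, 0, 34944, 0, 34944, 0, 34944⟩, .base)) (.leaf (⟨0, 22, 34944, 0, 34944, 11, 13813⟩, .inv 272))) (.node (.leaf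 (⟨1, 8, 36024, 0, 60552, 8, 34944⟩, .mul 140 136)) (.leaf (⟨0, 0, 34944, 0, 34944, 1, 34944⟩, .dfn)))) (.node (.node (.leaf (⟨1, 4, 54150, 0, 62640, 4, 34944⟩, .mul 78 74)) (.leaf (⟨0, 28, 55219, 0, 27389, 29, 62675⟩, .inv 336))) (.node (.leaf (⟨1, 6, 53404, 0, 53892, 6, 34944⟩, .mul 194 123)) (.leaf (⟨0, 0, 34944, 0, 34944, 1, 34944⟩, .dfn))))) (.node (.node (.node (.leaf (⟨1, 1, 44161, 0, 34972, 1, 34944⟩, .mul 48 7)) (.leaf (⟨0, 17, 15656, 0, 27485, 28, 29024⟩, .inv 304))) (.node (.leaf (⟨1, 4, 52099, 0, 60628, 4, 34944⟩, .mul 176 76)) (.leaf (⟨0, 0, 34944, 0, 34944, 1, 34944⟩, .dfn)))) (.node (.node (.leaf (⟨1, 5, 35011, 0, 51329, 5, 34944⟩, .mul 108 100)) (.leaf (⟨0, 29, 26459, 0, 24442, 31, 35793⟩, .inv 368))) (.node (.leaf (⟨0, 17, 34944, 0, 34944, 8, 34659⟩, .inv 240)) (.leaf (⟨0,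 0, 34944, 0, 34944, 1, 34944⟩, .dfn))))))) (.node (.node (.node (.node (.node (.leaf (⟨1, 1, 35056, 0, 44269, 1, 34944⟩, .mul 3 3)) (.leaf (⟨1, 19, 35298, 0, 51353, 19, 34944⟩, .mul 254 255))) (.node (.leaf (⟨1, 8, 43205, 0, 52352, 8, 34944⟩, .sync ⟨107, 135, 643⟩)) (.leaf (⟨0, 0, 34944, 0, 34944, 1, 34944⟩, .dfn)))) (.node (.node (.leaf (⟨0, 4, 34944, 1, 34944, 1, 34944⟩, .inv 72)) (.leaf (⟨0, 13, 47289, 1, 22078, 25, 55211⟩, .inv 328))) (.node (.leaf (⟨1, 13, 20704, 0, 35200, 13, 34944⟩, .sync ⟨200, 192, 1272⟩)) (.leaf (⟨0, 0, 34944, 0, 34944, 1, 34944⟩, .dfn))))) (.node (.node (.node (.leaf (⟨1, 1, 59561, 0, 40128, 1, 34944⟩, .mul 5 3)) (.leaf (⟨1, 27, 43193, 0, 51587, 27, 34944⟩, .sync ⟨205, 295, 1348⟩))) (.node (.leaf (⟨1, 10, 34944, 0, 34944, 10, 34944⟩, .unit)) (.leaf (⟨0, 0, 34944,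 0, 34944, 1, 34944⟩, .dfn)))) (.node (.node (.leaf (⟨1, 5, 34944, 0, 34944, 5, 34944⟩, .unit)) (.leaf (⟨1, 6, 54448, 0, 53708, 6, 34944⟩, .mul 360 117))) (.node (.leaf (⟨0, 11, 50592, 0, 22768, 15, 60019⟩, .fill 4 5 4 [11191, 65536, 13813, 65536, 34944, 15983, 34944] 1 34944 [⟨20, 72, 0⟩, ⟨87, 170, 1384⟩] [⟨58, 39, 198⟩, ⟨60, 227, 215⟩])) (.leaf (⟨0, 0, 34944, 0, 34944, 1, 34944⟩, .dfn)))))) (.node (.node (.node (.node (.leaf (⟨0, 2, 34944, 1, 34944, 0, 34944⟩, .inv 24)) (.leaf (⟨0, 14, 34944, 0, 34944, 24, 34944⟩, .dfn))) (.node (.leaf (⟨1, 9, 35566, 0, 52360, 9, 34944⟩, .mul 149 150)) (.leaf (⟨0, 0, 34944, 0, 34944, 1, 34944⟩, .dfn)))) (.node (.node (.leaf (⟨1, 4, 22697, 0, 23688, 4, 34944⟩, .mul 88 76)) (.leaf (⟨0, 20, 10907, 0, 62645, 10, 59795⟩, .fill 4 1 2 [34944, 15983, 34944, 65536,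 54904, 65536, 62212, 65537, 11191] 18 52352 [⟨251, 344, 1476⟩] [⟨251, 317, 197⟩, ⟨190, 316, 1351⟩, ⟨251, 315, 295⟩]))) (.node (.leaf (⟨1, 6, 39108, 0, 39617, 6, 34944⟩, .mul 216 123)) (.leaf (⟨0, 0, 34944, 0, 34944, 1, 34944⟩, .dfn))))) (.node (.node (.node (.leaf (⟨1, 1, 44273, 0, 44273, 1, 34944⟩, .mul 7 7)) (.leaf (⟨0, 18, 51330, 0, 56647, 22, 29023⟩, .fill 4 3 0 [13813, 65536, 34944, 15983, 34944, 65536, 54904, 65536, 62212, 65537, 11191] 18 51330 [] [⟨251, 312, 457⟩, ⟨277, 276, 319⟩, ⟨277, 292, 1485⟩, ⟨291, 289, 1082⟩]))) (.node (.leaf (⟨1, 4, 23436, 0, 31941, 4, 34944⟩, .mul 81 76)) (.leaf (⟨0, 0, 34944, 0, 34944, 1, 34944⟩, .dfn)))) (.node (.node (.leaf (⟨1, 2, 39305, 0, 51879, 2, 34944⟩, .mul 120 29)) (.leaf (⟨0, 0, 34944, 0, 34944, 1, 34944⟩, .dfn))) (.node (.leaf (⟨0, 8, 34944, 1,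 34944, 18, 34944⟩, .dfn)) (.leaf (⟨0, 0, 34944, 0, 34944, 1, 34944⟩, .dfn)))))))) (.node (.node (.node (.node (.node (.node (.leaf (⟨1, 1, 62617, 0, 30869, 1, 34944⟩, .sync ⟨4, 0, 761⟩)) (.leaf (⟨0, 19, 38728, 0, 44165, 9, 20120⟩, .inv 260))) (.node (.leaf (⟨0, 7, 34944, 1, 34944, 2, 36710⟩, .inv 132)) (.leaf (⟨0, 0, 34944, 0, 34944, 1, 34944⟩, .dfn)))) (.node (.node (.leaf (⟨1, 3, 29932, 0, 39121, 3, 34944⟩, .mul 47 40)) (.leaf (⟨1, 20, 39041, 0, 51368, 20, 34944⟩, .mul 268 269))) (.node (.leaf (⟨1, 13, 29852, 0, 35202, 13, 34944⟩, .sync ⟨196, 192, 1510⟩)) (.leaf (⟨0, 0, 34944, 0, 34944, 1, 34944⟩, .dfn))))) (.node (.node (.node (.leaf (⟨1, 0, 52187, 0, 52187, 0, 34944⟩, .base)) (.leaf (⟨1, 10, 59629, 0, 40125, 10, 34944⟩, .mul 162 159))) (.node (.leaf (⟨1, 10, 59569, 0, 40065, 10, 34944⟩,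 .mul 164 159)) (.leaf (⟨0, 0, 34944, 0, 34944, 1, 34944⟩, .dfn)))) (.node (.node (.leaf (⟨1, 5, 21472, 0, 35996, 5, 34944⟩, .mul 94 96)) (.leaf (⟨0, 6, 23024, 1, 47392, 10, 15834⟩, .inv 356))) (.node (.leaf (⟨1, 15, 36052, 0, 39056, 15, 34944⟩, .sync ⟨70, 227, 741⟩)) (.leaf (⟨0, 0, 34944, 0, 34944, 1, 34944⟩, .dfn)))))) (.node (.node (.node (.node (.leaf (⟨1, 0, 11087, 0, 11087, 0, 34944⟩, .base)) (.leaf (⟨1, 22, 34944, 0, 34944, 22, 34944⟩, .unit))) (.node (.leaf (⟨1, 9, 35525, 0, 35977, 9, 34944⟩, .sync ⟨110, 148, 590⟩)) (.leaf (⟨0, 0, 34944, 0, 34944, 1, 34944⟩, .dfn)))) (.node (.node (.leaf (⟨1, 4, 39850, 0, 48273, 4, 34944⟩, .mul 82 74)) (.leaf (⟨0, 29, 15711, 0, 44358, 28, 62131⟩, .fill 4 5 2 [11191, 65536, 13813, 65536, 34944, 15983, 34944, 65536, 54904] 17 43138 [⟨244, 338, 1349⟩]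 [⟨242, 330, 1153⟩, ⟨333, 339, 578⟩, ⟨277, 311, 986⟩]))) (.node (.leaf (⟨0, 6, 36710, 1, 34944, 14, 34944⟩, .dfn)) (.leaf (⟨0, 0, 34944, 0, 34944, 1, 34944⟩, .dfn))))) (.node (.node (.node (.leaf (⟨1, 1, 51401, 0, 48317, 1, 34944⟩, .mul 52 7)) (.leaf (⟨0, 19, 40765, 1, 15953, 28, 62233⟩, .fill 4 3 2 [13813, 65536, 34944, 15983, 34944, 65536, 54904, 65536, 62212] 15 42244 [⟨230, 258, 891⟩] [⟨235, 237, 754⟩, ⟨232, 258, 697⟩, ⟨265, 301, 1321⟩]))) (.node (.leaf (⟨1, 11, 35976, 0, 43152, 11, 34944⟩, .mul 178 172)) (.leaf (⟨0, 0, 34944, 0, 34944, 1, 34944⟩, .dfn)))) (.node (.node (.leaf (⟨1, 6, 62620, 0, 54187, 6, 34944⟩, .sync ⟨34, 115, 179⟩)) (.leaf (⟨0, 0, 34944, 0, 34944, 1, 34944⟩, .dfn))) (.node (.leaf (⟨0, 15, 47700, 1, 12726, 17, 26396⟩, .fill 4 3 2 [13813, 65536, 34944, 15983, 34944, 65536,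 54904, 65536, 62212] 3 42240 [⟨64, 227, 474⟩] [⟨40, 103, 347⟩, ⟨94, 135, 1240⟩, ⟨137, 240, 623⟩])) (.leaf (⟨0, 0, 34944, 0, 34944, 1, 34944⟩, .dfn))))))) (.node (.node (.node (.node (.node (.leaf (⟨1, 1, 30869, 0, 62617, 1, 34944⟩, .mul 12 3)) (.leaf (⟨1, 20, 39108, 0, 34985, 20, 34944⟩, .sync ⟨154, 266, 1467⟩))) (.node (.leaf (⟨1, 8, 34960, 0, 43136, 8, 34944⟩, .mul 137 137)) (.leaf (⟨0, 0, 34944, 0, 34944, 1, 34944⟩, .dfn)))) (.node (.node (.leaf (⟨1, 4, 21445, 0, 29865, 4, 34944⟩, .mul 74 76)) (.leaf (⟨1, 29, 34944, 0, 34944, 29, 34944⟩, .unit))) (.node (.leaf (⟨1, 13, 35040, 0, 51587, 13, 34944⟩, .mul 195 197)) (.leaf (⟨0, 0, 34944, 0, 34944, 1, 34944⟩, .dfn))))) (.node (.node (.node (.leaf (⟨1, 1, 39140, 0, 60669, 1, 34944⟩, .mul 10 5)) (.leaf (⟨0, 19, 34944, 0, 34944, 28, 34944⟩, .dfn)))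 (.node (.leaf (⟨1, 4, 35456, 0, 36037, 4, 34944⟩, .mul 158 76)) (.leaf (⟨0, 0, 34944, 0, 34944, 1, 34944⟩, .dfn)))) (.node (.node (.leaf (⟨1, 5, 20621, 0, 34972, 5, 34944⟩, .mul 97 94)) (.leaf (⟨0, 31, 47643, 0, 22343, 25, 42416⟩, .fill 4 5 8 [11191, 65536, 13813] 10 34948 [⟨293, 359, 666⟩, ⟨291, 319, 399⟩, ⟨250, 364, 405⟩] [⟨166, 284, 688⟩]))) (.node (.leaf (⟨0, 15, 45339, 0, 23725, 15, 60001⟩, .fill 4 1 6 [34944, 15983, 34944, 65536, 54904] 3 34946 [⟨64, 67, 494⟩, ⟨60, 227, 1464⟩, ⟨229, 236, 1270⟩] [⟨71, 227, 408⟩])) (.leaf (⟨0, 0, 34944, 0, 34944, 1, 34944⟩, .dfn)))))) (.node (.node (.node (.node (.leaf (⟨1, 2, 23462, 0, 53704, 2, 34944⟩, .sync ⟨28, 24, 775⟩)) (.leaf (⟨0, 25, 34944, 0, 34944, 10, 34659⟩, .inv 284))) (.node (.leaf (⟨0, 10, 34944, 0, 34944, 4, 34944⟩, .inv 156)) (.leaf (⟨0,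 0, 34944, 0, 34944, 1, 34944⟩, .dfn)))) (.node (.node (.leaf (⟨0, 1, 36710, 1, 34944, 5, 34944⟩, .dfn)) (.leaf (⟨0, 17, 45504, 0, 53376, 12, 61592⟩, .fill 5 6 4 [20108, 65536, 13813, 65536, 34944, 15983, 34944] 19 34948 [⟨259, 253, 1201⟩, ⟨138, 240, 426⟩] [⟨259, 261, 1498⟩, ⟨155, 348, 174⟩]))) (.node (.leaf (⟨1, 14, 20684, 0, 39405, 14, 34944⟩, .mul 220 215)) (.leaf (⟨0, 0, 34944, 0, 34944, 1, 34944⟩, .dfn))))) (.node (.node (.node (.leaf (⟨1, 1, 47305, 0, 60597, 1, 34944⟩, .mul 56 5)) (.leaf (⟨0, 18, 31263, 0, 56987, 12, 12081⟩, .inv 316))) (.node (.leaf (⟨1, 4, 39619, 0, 39124, 4, 34944⟩, .mul 188 76)) (.leaf (⟨0, 0, 34944, 0, 34944, 1, 34944⟩, .dfn)))) (.node (.node (.leaf (⟨1, 6, 31932, 0, 23526, 6, 34944⟩, .mul 118 123)) (.leaf (⟨0, 0, 34944, 0, 34944, 1, 34944⟩, .dfn))) (.node (.leaf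 (⟨0, 19, 34944, 1, 34944, 8, 36710⟩, .inv 252)) (.leaf (⟨0, 0, 34944, 0, 34944, 1, 34944⟩, .dfn))))))))) (.node (.node (.node (.node (.node (.node (.node (.leaf (⟨1, 1, 29872, 0, 21721, 1, 34944⟩, .sync ⟨2, 0, 1154⟩)) (.leaf (⟨1, 19, 34944, 0, 34944, 19, 34944⟩, .unit))) (.node (.leaf (⟨1, 6, 51377, 0, 51624, 6, 34944⟩, .mul 130 123)) (.leaf (⟨0, 0, 34944, 0, 34944, 1, 34944⟩, .dfn)))) (.node (.node (.leaf (⟨0, 3, 52435, 0, 44165, 3, 47243⟩, .fill 0 0 2 [20621, 34946, 65536, 34946] 1 34048 [⟨20, 39, 1068⟩] [⟨15, 39, 1258⟩])) (.leaf (⟨0, 27, 56877, 0, 24090, 20, 26196⟩, .fill 4 3 4 [13813, 65536, 34944, 15983, 34944, 65536, 54904] 19 51364 [⟨259, 301, 1091⟩, ⟨303, 322, 751⟩] [⟨259, 261, 510⟩, ⟨151, 266, 81⟩]))) (.node (.leaf (⟨1, 13, 29948, 0, 51329, 13, 34944⟩, .sync ⟨194, 192, 265⟩)) (.leaf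 (⟨0, 0, 34944, 0, 34944, 1, 34944⟩, .dfn))))) (.node (.node (.node (.leaf (⟨1, 2, 22980, 0, 53993, 2, 34944⟩, .mul 34 27)) (.leaf (⟨1, 25, 34944, 0, 34944, 25, 34944⟩, .unit))) (.node (.leaf (⟨1, 10, 20692, 0, 20665, 10, 34944⟩, .mul 161 160)) (.leaf (⟨0, 0, 34944, 0, 34944, 1, 34944⟩, .dfn)))) (.node (.node (.leaf (⟨1, 1, 39060, 0, 59544, 1, 34944⟩, .mul 98 3)) (.leaf (⟨0, 10, 48547, 1, 61671, 10, 62861⟩, .fill 4 3 2 [13813, 65536, 34944, 15983, 34944, 65536, 54904, 65536, 62212] 20 12552 [⟨271, 345, 782⟩] [⟨268, 324, 1341⟩, ⟨297, 323, 559⟩, ⟨271, 345, 740⟩]))) (.node (.leaf (⟨0, 3, 34659, 0, 34944, 15, 34944⟩, .dfn)) (.leaf (⟨0, 0, 34944, 0, 34944, 1, 34944⟩, .dfn)))))) (.node (.node (.node (.node (.leaf (⟨0, 1, 34946, 0, 31898, 1, 39050⟩, .fill 0 0 2 [20621, 34946, 65536, 34946] 0 34944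 [⟨17, 0, 0⟩] [⟨18, 0, 512⟩])) (.leaf (⟨1, 22, 39045, 0, 51361, 22, 34944⟩, .sync ⟨179, 272, 25⟩))) (.node (.leaf (⟨1, 8, 34944, 0, 34944, 8, 34944⟩, .unit)) (.leaf (⟨0, 0, 34944, 0, 34944, 1, 34944⟩, .dfn)))) (.node (.node (.leaf (⟨1, 4, 22924, 0, 22664, 4, 34944⟩, .mul 76 76)) (.leaf (⟨0, 29, 31083, 0, 17933, 22, 64049⟩, .fill 4 3 4 [13813, 65536, 34944, 15983, 34944, 65536, 54904] 15 42240 [⟨235, 246, 1026⟩, ⟨248, 338, 1159⟩] [⟨229, 234, 687⟩, ⟨181, 272, 1206⟩]))) (.node (.leaf (⟨1, 8, 43176, 0, 51345, 8, 34944⟩, .mul 139 136)) (.leaf (⟨0, 0, 34944, 0, 34944, 1, 34944⟩, .dfn))))) (.node (.node (.node (.leaf (⟨1, 1, 52392, 0, 40156, 1, 34944⟩, .mul 50 3)) (.leaf (⟨0, 28, 36700, 0, 54200, 27, 43620⟩, .fill 4 3 4 [13813, 65536, 34944, 15983, 34944, 65536, 54904] 14 34960 [⟨225, 281, 777⟩, ⟨283,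 306, 25⟩] [⟨214, 224, 662⟩, ⟨195, 295, 499⟩]))) (.node (.leaf (⟨1, 11, 35988, 0, 51361, 11, 34944⟩, .mul 172 174)) (.leaf (⟨0, 0, 34944, 0, 34944, 1, 34944⟩, .dfn)))) (.node (.node (.leaf (⟨0, 2, 34944, 0, 34944, 6, 34944⟩, .dfn)) (.leaf (⟨0, 31, 62145, 1, 47738, 25, 47704⟩, .inv 370))) (.node (.leaf (⟨1, 17, 44284, 0, 43136, 17, 34944⟩, .sync ⟨141, 240, 370⟩)) (.leaf (⟨0, 0, 34944, 0, 34944, 1, 34944⟩, .dfn))))))) (.node (.node (.node (.node (.node (.leaf (⟨1, 1, 35981, 0, 44184, 1, 34944⟩, .mul 7 3)) (.leaf (⟨0, 20, 34944, 0, 34944, 9, 34944⟩, .inv 266))) (.node (.leaf (⟨1, 8, 21700, 0, 52380, 8, 34944⟩, .mul 138 137)) (.leaf (⟨0, 0, 34944, 0, 34944, 1, 34944⟩, .dfn)))) (.node (.node (.leaf (⟨1, 1, 22665, 0, 53404, 1, 34944⟩, .mul 61 3)) (.leaf (⟨0, 25, 14318, 0, 60254, 29, 24099⟩, .fill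 4 5 4 [11191, 65536, 13813, 65536, 34944, 15983, 34944] 8 34948 [⟨147, 249, 1201⟩, ⟨251, 320, 598⟩] [⟨139, 240, 1527⟩, ⟨244, 330, 1136⟩]))) (.node (.leaf (⟨1, 13, 29825, 0, 51368, 13, 34944⟩, .mul 198 201)) (.leaf (⟨0, 0, 34944, 0, 34944, 1, 34944⟩, .dfn))))) (.node (.node (.node (.leaf (⟨1, 1, 59592, 0, 48297, 1, 34944⟩, .mul 14 5)) (.leaf (⟨1, 6, 29908, 0, 21418, 6, 34944⟩, .mul 194 117))) (.node (.leaf (⟨0, 11, 34944, 0, 34944, 4, 34659⟩, .inv 170)) (.leaf (⟨0, 0, 34944, 0, 34944, 1, 34944⟩, .dfn)))) (.node (.node (.leaf (⟨1, 5, 34988, 0, 52352, 5, 34944⟩, .mul 95 100)) (.leaf (⟨1, 0, 38868, 0, 38868, 0, 34944⟩, .base))) (.node (.leaf (⟨1, 15, 34944, 0, 34944, 15, 34944⟩, .unit)) (.leaf (⟨0, 0, 34944, 0, 34944, 1, 34944⟩, .dfn)))))) (.node (.node (.node (.node (.leaf (⟨1, 2, 35265, 0, 35266,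 2, 34944⟩, .sync ⟨26, 24, 944⟩)) (.leaf (⟨1, 24, 34944, 0, 34944, 24, 34944⟩, .unit))) (.node (.leaf (⟨1, 9, 34944, 0, 34944, 9, 34944⟩, .unit)) (.leaf (⟨0, 0, 34944, 0, 34944, 1, 34944⟩, .dfn)))) (.node (.node (.leaf (⟨0, 4, 34960, 1, 44269, 4, 21489⟩, .fill 2 0 2 [20705, 34960, 65537, 34960] 1 34944 [⟨20, 72, 0⟩] [⟨9, 72, 999⟩])) (.leaf (⟨0, 22, 54638, 1, 59633, 20, 56847⟩, .inv 346))) (.node (.leaf (⟨1, 14, 35811, 0, 35524, 14, 34944⟩, .mul 214 214)) (.leaf (⟨0, 0, 34944, 0, 34944, 1, 34944⟩, .dfn))))) (.node (.node (.node (.leaf (⟨1, 3, 43221, 0, 44217, 3, 34944⟩, .mul 47 42)) (.leaf (⟨0, 18, 32522, 1, 20167, 10, 64014⟩, .inv 314))) (.node (.leaf (⟨1, 4, 23182, 0, 30960, 4, 34944⟩, .mul 186 74)) (.leaf (⟨0, 0, 34944, 0, 34944, 1, 34944⟩, .dfn)))) (.node (.node (.leaf (⟨1, 6, 28868, 0,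 21133, 6, 34944⟩, .sync ⟨122, 115, 1408⟩)) (.leaf (⟨0, 0, 34944, 0, 34944, 1, 34944⟩, .dfn))) (.node (.leaf (⟨1, 18, 34944, 0, 34944, 18, 34944⟩, .unit)) (.leaf (⟨0, 0, 34944, 0, 34944, 1, 34944⟩, .dfn)))))))) (.node (.node (.node (.node (.node (.node (.leaf (⟨1, 1, 28877, 0, 21693, 1, 34944⟩, .sync ⟨6, 0, 172⟩)) (.leaf (⟨0, 19, 34302, 0, 34989, 17, 40265⟩, .inv 262))) (.node (.leaf (⟨0, 5, 34944, 0, 34944, 8, 34944⟩, .dfn)) (.leaf (⟨0, 0, 34944, 0, 34944, 1, 34944⟩, .dfn)))) (.node (.node (.leaf (⟨1, 3, 21720, 0, 48312, 3, 34944⟩, .mul 42 40)) (.leaf (⟨0, 20, 13079, 0, 51420, 20, 11190⟩, .fill 4 5 10 [11191] 20 34945 [⟨271, 326, 8⟩, ⟨325, 324, 996⟩, ⟨298, 300, 418⟩, ⟨298, 323, 8⟩] []))) (.node (.leaf (⟨1, 6, 29921, 0, 21389, 6, 34944⟩, .mul 126 123)) (.leaf (⟨0, 0, 34944, 0, 34944, 1, 34944⟩,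 .dfn))))) (.node (.node (.node (.leaf (⟨0, 1, 34659, 0, 34944, 3, 34944⟩, .dfn)) (.leaf (⟨0, 13, 34659, 0, 34944, 27, 34944⟩, .dfn))) (.node (.leaf (⟨1, 10, 40125, 0, 59629, 10, 34944⟩, .mul 166 159)) (.leaf (⟨0, 0, 34944, 0, 34944, 1, 34944⟩, .dfn)))) (.node (.node (.leaf (⟨0, 3, 31253, 0, 22989, 5, 18206⟩, .inv 102)) (.leaf (⟨0, 10, 14843, 1, 26195, 25, 11159⟩, .inv 358))) (.node (.leaf (⟨1, 15, 21716, 0, 48300, 15, 34944⟩, .mul 228 229)) (.leaf (⟨0, 0, 34944, 0, 34944, 1, 34944⟩, .dfn)))))) (.node (.node (.node (.node (.leaf (⟨1, 0, 54904, 0, 54904, 0, 34944⟩, .base)) (.leaf (⟨1, 23, 39338, 0, 60628, 23, 34944⟩, .sync ⟨178, 278, 1371⟩))) (.node (.leaf (⟨1, 9, 52205, 0, 60577, 9, 34944⟩, .sync ⟨114, 148, 171⟩)) (.leaf (⟨0, 0, 34944, 0, 34944, 1, 34944⟩, .dfn)))) (.node (.node (.leaf (⟨1,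 4, 39919, 0, 48340, 4, 34944⟩, .mul 77 76)) (.leaf (⟨0, 18, 62214, 1, 11197, 29, 23477⟩, .inv 342))) (.node (.leaf (⟨1, 14, 35203, 0, 35014, 14, 34944⟩, .sync ⟨129, 213, 783⟩)) (.leaf (⟨0, 0, 34944, 0, 34944, 1, 34944⟩, .dfn))))) (.node (.node (.node (.leaf (⟨1, 1, 48348, 0, 52396, 1, 34944⟩, .mul 13 7)) (.leaf (⟨0, 22, 31277, 0, 39392, 28, 58730⟩, .inv 310))) (.node (.leaf (⟨0, 4, 36710, 1, 34944, 12, 34944⟩, .dfn)) (.leaf (⟨0, 0, 34944, 0, 34944, 1, 34944⟩, .dfn)))) (.node (.node (.leaf (⟨1, 2, 51844, 0, 39818, 2, 34944⟩, .mul 33 29)) (.leaf (⟨0, 0, 34944, 0, 34944, 1, 34944⟩, .dfn))) (.node (.leaf (⟨0, 17, 40267, 0, 58949, 15, 26193⟩, .inv 246)) (.leaf (⟨0, 0, 34944, 0, 34944, 1, 34944⟩, .dfn))))))) (.node (.node (.node (.node (.node (.leaf (⟨1, 1, 43164, 0, 44165, 1, 34944⟩, .mul 3 7))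 (.leaf (⟨1, 20, 34944, 0, 34944, 20, 34944⟩, .unit))) (.node (.leaf (⟨1, 8, 20705, 0, 44173, 8, 34944⟩, .mul 142 137)) (.leaf (⟨0, 0, 34944, 0, 34944, 1, 34944⟩, .dfn)))) (.node (.node (.leaf (⟨1, 4, 51917, 0, 52401, 4, 34944⟩, .mul 78 76)) (.leaf (⟨0, 24, 14922, 0, 11924, 29, 63833⟩, .inv 334))) (.node (.leaf (⟨1, 13, 34944, 0, 34944, 13, 34944⟩, .unit)) (.leaf (⟨0, 0, 34944, 0, 34944, 1, 34944⟩, .dfn))))) (.node (.node (.node (.leaf (⟨1, 3, 21669, 0, 47273, 3, 34944⟩, .sync ⟨46, 39, 693⟩)) (.leaf (⟨1, 28, 34944, 0, 34944, 28, 34944⟩, .unit))) (.node (.leaf (⟨1, 4, 21391, 0, 29937, 4, 34944⟩, .mul 89 74)) (.leaf (⟨0, 0, 34944, 0, 34944, 1, 34944⟩, .dfn)))) (.node (.node (.leaf (⟨1, 5, 20608, 0, 44165, 5, 34944⟩, .mul 96 94)) (.leaf (⟨1, 31, 34944, 0, 34944, 31, 34944⟩, .unit))) (.node (.leaf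 (⟨1, 11, 35969, 0, 34984, 11, 34944⟩, .mul 238 178)) (.leaf (⟨0, 0, 34944, 0, 34944, 1, 34944⟩, .dfn)))))) (.node (.node (.node (.node (.leaf (⟨1, 2, 51628, 0, 39855, 2, 34944⟩, .sync ⟨30, 24, 1355⟩)) (.leaf (⟨1, 25, 35069, 0, 35029, 25, 34944⟩, .sync ⟨286, 284, 1352⟩))) (.node (.leaf (⟨1, 10, 61580, 0, 23740, 10, 34944⟩, .sync ⟨158, 156, 815⟩)) (.leaf (⟨0, 0, 34944, 0, 34944, 1, 34944⟩, .dfn)))) (.node (.node (.leaf (⟨1, 5, 35727, 0, 44184, 5, 34944⟩, .sync ⟨11, 93, 349⟩)) (.leaf (⟨0, 12, 62124, 1, 21704, 9, 27505⟩, .fill 4 1 4 [34944, 15983, 34944, 65536, 54904, 65536, 62212] 20 34952 [⟨271, 267, 278⟩, ⟨149, 348, 653⟩] [⟨271, 327, 532⟩, ⟨271, 267, 374⟩]))) (.node (.leaf (⟨0, 13, 24133, 0, 54156, 14, 18077⟩, .fill 4 9 6 [54904, 65536, 62212, 65537, 11191] 2 34944 [⟨38, 115, 0⟩, ⟨206, 192,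 1411⟩] [⟨27, 115, 1327⟩, ⟨128, 213, 937⟩])) (.leaf (⟨0, 0, 34944, 0, 34944, 1, 34944⟩, .dfn))))) (.node (.node (.node (.leaf (⟨0, 3, 11785, 1, 43533, 3, 63248⟩, .fill 4 1 4 [34944, 15983, 34944, 65536, 54904, 65536, 62212] 0 34944 [⟨17, 0, 0⟩, ⟨57, 39, 243⟩] [⟨21, 0, 585⟩, ⟨62, 39, 1447⟩])) (.leaf (⟨0, 25, 61800, 0, 61258, 18, 64122⟩, .fill 4 9 10 [54904] 18 61574 [⟨251, 313, 1054⟩, ⟨277, 273, 705⟩, ⟨182, 272, 1032⟩, ⟨277, 290, 63⟩] []))) (.node (.leaf (⟨1, 12, 34944, 0, 34944, 12, 34944⟩, .unit)) (.leaf (⟨0, 0, 34944, 0, 34944, 1, 34944⟩, .dfn)))) (.node (.node (.leaf (⟨1, 6, 29937, 0, 21391, 6, 34944⟩, .mul 117 118)) (.leaf (⟨0, 0, 34944, 0, 34944, 1, 34944⟩, .dfn))) (.node (.leaf (⟨1, 19, 21389, 0, 44185, 19, 34944⟩, .sync ⟨144, 252, 1394⟩)) (.leaf (⟨0, 0, 34944, 0, 34944, 1, 34944⟩, .dfn)))))))))))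

/-- definitions -/
def defsAlt : List (ℕ × ℕ × ℕ) := [(0, 34944, 0), (0, 34944, 1), (1, 34659, 0), (1, 34944, 1), (1, 36710, 1), (2, 34944, 0), (2, 36710, 1), (5, 34944, 0), (5, 36710, 1), (4, 34944, 0), (4, 34659, 0), (4, 36710, 1), (6, 34659, 0), (6, 36710, 1), (3, 34659, 0), (7, 36710, 1), (8, 34659, 0), (8, 34944, 1), (8, 36710, 1), (9, 34944, 0), (9, 36710, 1), (11, 13813, 0), (11, 34944, 1), (14, 34944, 0), (10, 34659, 0), (12, 36710, 1), (13, 34659, 0), (19, 34944, 0), (17, 34659, 0), (17, 36710, 1), (18, 54904, 0)]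

/-- number of facts -/
def nAlt : ℕ := 373

/-- value of the loop -/
def loopAlt : ℕ := 15983

/-- the fourth generator -/
def dWAlt : List ℕ := [59886, 65536, 13813, 65537, 65536, 65537, 35266, 65537]

/-- walks of the targets -/
def witAlt : List (List Wit) := [[⟨23, 0, 1054⟩, ⟨10, 72, 1144⟩, ⟨87, 156, 862⟩, ⟨169, 359, 1085⟩, ⟨291, 358, 1394⟩, ⟨169, 157, 324⟩, ⟨92, 73, 68⟩, ⟨20, 1, 353⟩, ⟨362, 24, 116⟩, ⟨38, 25, 1485⟩],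
  [⟨23, 0, 1054⟩, ⟨10, 72, 1144⟩, ⟨87, 156, 862⟩, ⟨169, 359, 1085⟩, ⟨291, 358, 1394⟩, ⟨169, 157, 548⟩, ⟨92, 73, 1361⟩, ⟨20, 1, 251⟩, ⟨363, 24, 1015⟩, ⟨38, 25, 1003⟩],
  [⟨23, 0, 1054⟩, ⟨10, 72, 1144⟩, ⟨87, 156, 862⟩, ⟨169, 359, 1085⟩, ⟨291, 358, 1394⟩, ⟨169, 157, 1478⟩, ⟨92, 73, 129⟩, ⟨20, 1, 1072⟩, ⟨362, 24, 1358⟩, ⟨38, 25, 1495⟩],
  [⟨23, 0, 1054⟩, ⟨10, 72, 1144⟩, ⟨87, 156, 862⟩, ⟨169, 359, 1085⟩, ⟨291, 358, 1394⟩, ⟨169, 157, 1002⟩, ⟨92, 91, 68⟩, ⟨79, 156, 30⟩, ⟨164, 359, 390⟩, ⟨291, 358, 1505⟩, ⟨169, 157, 324⟩, ⟨92, 73, 68⟩, ⟨20, 1, 353⟩, ⟨362, 24, 116⟩, ⟨38, 25, 1485⟩],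
  [⟨23, 0, 1054⟩, ⟨10, 72, 1144⟩, ⟨87, 156, 862⟩, ⟨169, 359, 1085⟩, ⟨291, 358, 1394⟩, ⟨169, 157, 671⟩, ⟨92, 91, 284⟩, ⟨77, 156, 1194⟩, ⟨166, 359, 979⟩, ⟨291, 358, 317⟩, ⟨169, 157, 548⟩, ⟨92, 73, 1361⟩, ⟨20, 1, 251⟩, ⟨363, 24, 1015⟩, ⟨38, 25, 1003⟩],
  [⟨23, 0, 1054⟩, ⟨10, 72, 1144⟩, ⟨87, 156, 862⟩, ⟨169, 359, 1085⟩, ⟨291, 358, 1394⟩, ⟨169, 168, 822⟩, ⟨169, 355, 1390⟩, ⟨169, 168, 160⟩, ⟨166, 359, 291⟩, ⟨291, 358, 117⟩, ⟨169, 157, 1487⟩, ⟨92, 73, 774⟩, ⟨20, 1, 1344⟩, ⟨362, 24, 1251⟩, ⟨38, 25, 1200⟩],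
  [⟨23, 0, 393⟩, ⟨7, 72, 261⟩, ⟨83, 156, 1007⟩, ⟨293, 359, 1031⟩, ⟨291, 358, 177⟩, ⟨169, 157, 625⟩, ⟨83, 183, 472⟩, ⟨190, 353, 1401⟩, ⟨294, 370, 890⟩, ⟨367, 371, 660⟩, ⟨291, 354, 486⟩, ⟨191, 350, 387⟩, ⟨190, 353, 1059⟩, ⟨294, 370, 1497⟩, ⟨367, 371, 1202⟩, ⟨291, 354, 1452⟩, ⟨191, 184, 666⟩, ⟨76, 156, 912⟩, ⟨169, 359, 1468⟩, ⟨291, 358, 684⟩, ⟨169, 157, 1194⟩, ⟨92, 73, 1482⟩, ⟨20, 1, 1145⟩, ⟨372, 24, 1124⟩, ⟨38, 25, 810⟩],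
  [⟨23, 0, 393⟩, ⟨7, 72, 261⟩, ⟨83, 156, 1007⟩, ⟨293, 359, 1031⟩, ⟨291, 358, 177⟩, ⟨169, 168, 910⟩, ⟨293, 359, 1104⟩, ⟨291, 285, 622⟩, ⟨167, 314, 128⟩, ⟨251, 315, 539⟩, ⟨159, 284, 394⟩, ⟨291, 358, 294⟩, ⟨169, 168, 572⟩, ⟨166, 359, 198⟩, ⟨291, 358, 113⟩, ⟨169, 157, 1205⟩, ⟨92, 73, 1309⟩, ⟨20, 1, 1405⟩, ⟨37, 24, 300⟩, ⟨38, 25, 424⟩],
  [⟨23, 0, 1054⟩, ⟨10, 72, 1144⟩, ⟨87, 156, 862⟩, ⟨169, 359, 1085⟩, ⟨291, 358, 1394⟩, ⟨169, 157, 888⟩, ⟨92, 73, 284⟩, ⟨20, 19, 353⟩, ⟨11, 72, 1375⟩, ⟨92, 73, 911⟩, ⟨20, 19, 1181⟩, ⟨3, 72, 190⟩, ⟨76, 156, 1105⟩, ⟨293, 359, 843⟩, ⟨291, 358, 430⟩, ⟨169, 157, 862⟩, ⟨92, 73, 369⟩, ⟨20, 1, 1285⟩, ⟨363, 24, 553⟩, ⟨38, 25, 504⟩],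
  [⟨23, 0, 1054⟩, ⟨10, 72, 1144⟩, ⟨87, 156, 862⟩, ⟨169, 359, 1085⟩, ⟨291, 358, 1394⟩, ⟨169, 168, 228⟩, ⟨169, 356, 101⟩, ⟨128, 116, 500⟩, ⟨35, 132, 742⟩, ⟨134, 133, 294⟩, ⟨27, 115, 1107⟩, ⟨361, 357, 85⟩, ⟨169, 168, 270⟩, ⟨164, 359, 49⟩, ⟨291, 358, 904⟩, ⟨169, 157, 324⟩, ⟨92, 73, 68⟩, ⟨20, 1, 353⟩, ⟨362, 24, 116⟩, ⟨38, 25, 1485⟩]]

end CfsgLib.HeUnique
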