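import Cfsg.Agent.Lib.HeUnique.Cert

/-!
Involutions of the model.
-/

set_option autoImplicit false
set_option linter.style.longLine false
set_option maxRecDepth 100000

namespace CfsgLib.HeUnique

/-- position of an element of the first centralizer in the table -/
def revA : Tree ℕ :=
  (.node (.node (.node (.node (.node (.node (.node (.node (.node (.node (.node (.node (.node (.leaf 0) (.leaf 0)) (.node (.leaf 0) (.leaf 0))) (.node (.node (.leaf 0) (.leaf 0)) (.node (.leaf 0) (.leaf 0)))) (.node (.node (.node (.leaf 0) (.leaf 0)) (.node (.leaf 317) (.leaf 1))) (.node (.node (.leaf 0) (.leaf 0)) (.node (.leaf 10) (.leaf 82))))) (.node (.node (.node (.node (.leaf 0) (.leaf 0)) (.node (.leaf 0) (.leaf 470))) (.node (.node (.leaf 0) (.leaf 223)) (.node (.leaf 0) (.leaf 3)))) (.node (.node (.node (.leaf 0) (.leaf 331)) (.node (.leaf 4) (.leaf 0))) (.node (.node (.leaf 0) (.leaf 26)) (.node (.leaf 101) (.leaf 0)))))) (.node (.node (.node (.node (.node (.leaf 0) (.leaf 0)) (.node (.leaf 0) (.leaf 0))) (.node (.node (.leaf 0) (.leaf 0)) (.node (.leaf 0) (.leaf 0)))) (.node (.node (.node (.leaf 0) (.leaf 0)) (.node (.leaf 13) (.leaf 64))) (.node (.node (.leaf 0) (.leaf 0)) (.node (.leaf 43) (.leaf 152))))) (.node (.node (.node (.node (.leaf 0) (.leaf 45)) (.node (.leaf 0) (.leaf 80))) (.node (.node (.leaf 0) (.leaf 67)) (.node (.leaf 0) (.leaf 17)))) (.node (.node (.node (.leaf 0) (.leaf 34)) (.node (.leaf 145) (.leaf 0))) (.node (.node (.leaf 0) (.leaf 6)) (.node (.leaf 28) (.leaf 0))))))) (.node (.node (.node (.node (.node (.node (.leaf 0) (.leaf 0)) (.node (.leaf 0) (.leaf 0))) (.node (.node (.leaf 0) (.leaf 0)) (.node (.leaf 0) (.leaf 0)))) (.node (.node (.node (.leaf 0) (.leaf 0)) (.node (.leaf 1385) (.leaf 1247))) (.node (.node (.leaf 0) (.leaf 0)) (.node (.leaf 902) (.leaf 1200))))) (.node (.node (.node (.node (.leaf 0) (.leaf 1030)) (.node (.leaf 0) (.leaf 1479))) (.node (.node (.leaf 0) (.leaf 1442)) (.node (.leaf 0) (.leaf 405)))) (.node (.node (.node (.leaf 0) (.leaf 1413)) (.node (.leaf 1020) (.leaf 0))) (.node (.node (.leaf 0) (.leaf 559)) (.node (.leaf 882) (.leaf 0)))))) (.node (.node (.node (.node (.node (.leaf 0) (.leaf 0)) (.node (.leaf 0) (.leaf 0))) (.node (.node (.leaf 0) (.leaf 0)) (.node (.leaf 0) (.leaf 0)))) (.node (.node (.node (.leaf 0) (.leaf 0)) (.node (.leaf 246) (.leaf 671))) (.node (.node (.leaf 0) (.leaf 0)) (.node (.leaf 808) (.leaf 1036))))) (.node (.node (.node (.node (.leaf 0) (.leaf 948)) (.node (.leaf 0) (.leaf 1138))) (.node (.node (.leaf 0) (.leaf 1170)) (.node (.leaf 0) (.leaf 938)))) (.node (.node (.node (.leaf 0) (.leaf 1192)) (.node (.leaf 1250) (.leaf 0))) (.node (.node (.leaf 0) (.leaf 698)) (.node (.leaf 1403) (.leaf 0)))))))) (.node (.node (.node (.node (.node (.node (.node (.leaf 0) (.leaf 0)) (.node (.leaf 0) (.leaf 0))) (.node (.node (.leaf 0) (.leaf 0)) (.node (.leaf 0) (.leaf 0)))) (.node (.node (.node (.leaf 0) (.leaf 0)) (.node (.leaf 1534) (.leaf 1430))) (.node (.node (.leaf 0) (.leaf 0)) (.node (.leaf 1347) (.leaf 1489))))) (.node (.node (.node (.node (.leaf 0) (.leaf 1201)) (.node (.leaf 0) (.leaf 1535))) (.node (.node (.leaf 0) (.leaf 1492)) (.node (.leaf 0) (.leaf 1456)))) (.node (.node (.node (.leaf 0) (.leaf 1523)) (.node (.leaf 949) (.leaf 0))) (.node (.node (.leaf 0) (.leaf 1181)) (.node (.leaf 1150) (.leaf 0)))))) (.node (.node (.node (.node (.node (.leaf 0) (.leaf 0)) (.node (.leaf 0) (.leaf 0))) (.node (.node (.leaf 0) (.leaf 0)) (.node (.leaf 0) (.leaf 0)))) (.node (.node (.node (.leaf 0) (.leaf 0)) (.node (.leaf 1305) (.leaf 839))) (.node (.node (.leaf 0) (.leaf 0)) (.node (.leaf 1325) (.leaf 1514))))) (.node (.node (.node (.node (.leaf 0) (.leaf 1417)) (.node (.leaf 0) (.leaf 915))) (.node (.node (.leaf 0) (.leaf 602)) (.node (.leaf 0) (.leaf 1115)))) (.node (.node (.node (.leaf 0) (.leaf 1287)) (.node (.leaf 1498) (.leaf 0))) (.node (.node (.leaf 0) (.leaf 1496)) (.node (.leaf 1503) (.leaf 0))))))) (.node (.node (.node (.node (.node (.node (.leaf 0) (.leaf 0)) (.node (.leaf 0) (.leaf 0))) (.node (.node (.leaf 0) (.leaf 0)) (.node (.leaf 0) (.leaf 0)))) (.node (.node (.node (.leaf 0) (.leaf 0)) (.node (.leaf 1404) (.leaf 533))) (.node (.node (.leaf 0) (.leaf 0)) (.node (.leaf 768) (.leaf 733))))) (.node (.node (.node (.node (.leaf 0) (.leaf 1130)) (.node (.leaf 0) (.leaf 1486))) (.node (.node (.leaf 0) (.leaf 1279)) (.node (.leaf 0) (.leaf 980)))) (.node (.node (.node (.leaf 0) (.leaf 1518)) (.node (.leaf 789) (.leaf 0))) (.node (.node (.leaf 0) (.leaf 1185)) (.node (.leaf 1307) (.leaf 0)))))) (.node (.node (.node (.node (.node (.leaf 0) (.leaf 0)) (.node (.leaf 0) (.leaf 0))) (.node (.node (.leaf 0) (.leaf 0)) (.node (.leaf 0) (.leaf 0)))) (.node (.node (.node (.leaf 0) (.leaf 0)) (.node (.leaf 895) (.leaf 1331))) (.node (.node (.leaf 0) (.leaf 0)) (.node (.leaf 1317) (.leaf 1450))))) (.node (.node (.node (.node (.leaf 0) (.leaf 452)) (.node (.leaf 0) (.leaf 921))) (.node (.node (.leaf 0) (.leaf 1457)) (.node (.leaf 0) (.leaf 1119)))) (.node (.node (.node (.leaf 0) (.leaf 510)) (.node (.leaf 1099) (.leaf 0))) (.node (.node (.leaf 0) (.leaf 692)) (.node (.leaf 297) (.leaf 0))))))))) (.node (.node (.node (.node (.node (.node (.node (.node (.leaf 0) (.leaf 0)) (.node (.leaf 0) (.leaf 0))) (.node (.node (.leaf 0) (.leaf 0)) (.node (.leaf 0) (.leaf 0)))) (.node (.node (.node (.leaf 0) (.leaf 0)) (.node (.leaf 1510) (.leaf 500))) (.node (.node (.leaf 0) (.leaf 0)) (.node (.leaf 1095) (.leaf 1197))))) (.node (.node (.node (.node (.leaf 0) (.leaf 777)) (.node (.leaf 0) (.leaf 1533))) (.node (.node (.leaf 0) (.leaf 1527)) (.node (.leaf 0) (.leaf 1188)))) (.node (.node (.node (.leaf 0) (.leaf 1506)) (.node (.leaf 519) (.leaf 0))) (.node (.node (.leaf 0) (.leaf 1014)) (.node (.leaf 1436) (.leaf 0)))))) (.node (.node (.node (.node (.node (.leaf 0) (.leaf 0)) (.node (.leaf 0) (.leaf 0))) (.node (.node (.leaf 0) (.leaf 0)) (.node (.leaf 0) (.leaf 0)))) (.node (.node (.node (.leaf 0) (.leaf 0)) (.node (.leaf 925) (.leaf 1218))) (.node (.node (.leaf 0) (.leaf 0)) (.node (.leaf 1234) (.leaf 1356))))) (.node (.node (.node (.node (.leaf 0) (.leaf 945)) (.node (.leaf 0) (.leaf 1357))) (.node (.node (.leaf 0) (.leaf 987)) (.node (.leaf 0) (.leaf 1276)))) (.node (.node (.node (.leaf 0) (.leaf 1308)) (.node (.leaf 1468) (.leaf 0))) (.node (.node (.leaf 0) (.leaf 898)) (.node (.leaf 1414) (.leaf 0))))))) (.node (.node (.node (.node (.node (.node (.leaf 0) (.leaf 0)) (.node (.leaf 0) (.leaf 0))) (.node (.node (.leaf 0) (.leaf 0)) (.node (.leaf 0) (.leaf 0)))) (.node (.node (.node (.leaf 0) (.leaf 0)) (.node (.leaf 1384) (.leaf 1116))) (.node (.node (.leaf 0) (.leaf 0)) (.node (.leaf 603) (.leaf 917))))) (.node (.node (.node (.node (.leaf 0) (.leaf 1348)) (.node (.leaf 0) (.leaf 1478))) (.node (.node (.leaf 0) (.leaf 1472)) (.node (.leaf 0) (.leaf 707)))) (.node (.node (.node (.leaf 0) (.leaf 1512)) (.node (.leaf 1288) (.leaf 0))) (.node (.node (.leaf 0) (.leaf 990)) (.node (.leaf 1228) (.leaf 0)))))) (.node (.node (.node (.node (.node (.leaf 0) (.leaf 0)) (.node (.leaf 0) (.leaf 0))) (.node (.node (.leaf 0) (.leaf 0)) (.node (.leaf 0) (.leaf 0)))) (.node (.node (.node (.leaf 0) (.leaf 0)) (.node (.leaf 418) (.leaf 1002))) (.node (.node (.leaf 0) (.leaf 0)) (.node (.leaf 1219) (.leaf 1387))))) (.node (.node (.node (.node (.leaf 0) (.leaf 829)) (.node (.leaf 0) (.leaf 1373))) (.node (.node (.leaf 0) (.leaf 1306)) (.node (.leaf 0) (.leaf 840)))) (.node (.node (.node (.leaf 0) (.leaf 908)) (.node (.leaf 1374) (.leaf 0))) (.node (.node (.leaf 0) (.leaf 259)) (.node (.leaf 585) (.leaf 0)))))))) (.node (.node (.node (.node (.node (.node (.node (.leaf 0) (.leaf 0)) (.node (.leaf 0) (.leaf 0))) (.node (.node (.leaf 0) (.leaf 0)) (.node (.leaf 0) (.leaf 0)))) (.node (.node (.node (.leaf 0) (.leaf 0)) (.node (.leaf 1504) (.leaf 994))) (.node (.node (.leaf 0) (.leaf 0)) (.node (.leaf 565) (.leaf 1437))))) (.node (.node (.node (.node (.leaf 0) (.leaf 918)) (.node (.leaf 0) (.leaf 1499))) (.node (.node (.leaf 0) (.leaf 1335)) (.node (.leaf 0) (.leaf 1303)))) (.node (.node (.node (.leaf 0) (.leaf 1516)) (.node (.leaf 1222) (.leaf 0))) (.node (.node (.leaf 0) (.leaf 1428)) (.node (.leaf 1328) (.leaf 0)))))) (.node (.node (.node (.node (.node (.leaf 0) (.leaf 0)) (.node (.leaf 0) (.leaf 0))) (.node (.node (.leaf 0) (.leaf 0)) (.node (.leaf 0) (.leaf 0)))) (.node (.node (.node (.leaf 0) (.leaf 0)) (.node (.leaf 1389) (.leaf 1359))) (.node (.node (.leaf 0) (.leaf 0)) (.node (.leaf 946) (.leaf 1377))))) (.node (.node (.node (.node (.leaf 0) (.leaf 1220)) (.node (.leaf 0) (.leaf 1198))) (.node (.node (.leaf 0) (.leaf 1369)) (.node (.leaf 0) (.leaf 813)))) (.node (.node (.node (.leaf 0) (.leaf 1143)) (.node (.leaf 1349) (.leaf 0))) (.node (.node (.leaf 0) (.leaf 1333)) (.node (.leaf 991) (.leaf 0))))))) (.node (.node (.node (.node (.node (.node (.leaf 0) (.leaf 0)) (.node (.leaf 0) (.leaf 0))) (.node (.node (.leaf 0) (.leaf 0)) (.node (.leaf 0) (.leaf 0)))) (.node (.node (.node (.leaf 0) (.leaf 0)) (.node (.leaf 1481) (.leaf 1120))) (.node (.node (.leaf 0) (.leaf 0)) (.node (.leaf 1129) (.leaf 1313))))) (.node (.node (.node (.node (.leaf 0) (.leaf 769)) (.node (.leaf 0) (.leaf 1524))) (.node (.node (.leaf 0) (.leaf 1248)) (.node (.leaf 0) (.leaf 595)))) (.node (.node (.node (.leaf 0) (.leaf 1390)) (.node (.leaf 511) (.leaf 0))) (.node (.node (.leaf 0) (.leaf 1038)) (.node (.leaf 961) (.leaf 0)))))) (.node (.node (.node (.node (.node (.leaf 0) (.leaf 0)) (.node (.leaf 0) (.leaf 0))) (.node (.node (.leaf 0) (.leaf 0)) (.node (.leaf 0) (.leaf 0)))) (.node (.node (.node (.leaf 0) (.leaf 0)) (.node (.leaf 1149) (.leaf 981))) (.node (.node (.leaf 0) (.leaf 0)) (.node (.leaf 954) (.leaf 1421))))) (.node (.node (.node (.node (.leaf 0) (.leaf 1318)) (.node (.leaf 0) (.leaf 1035))) (.node (.node (.leaf 0) (.leaf 1019)) (.node (.leaf 0) (.leaf 532)))) (.node (.node (.node (.leaf 0) (.leaf 788)) (.node (.leaf 1031) (.leaf 0))) (.node (.node (.leaf 0) (.leaf 836)) (.node (.leaf 1291) (.leaf 0)))))))))) (.node (.node (.node (.node (.node (.node (.node (.node (.node (.leaf 0) (.leaf 0)) (.node (.leaf 0) (.leaf 0))) (.node (.node (.leaf 0) (.leaf 0)) (.node (.leaf 0) (.leaf 0)))) (.node (.node (.node (.leaf 0) (.leaf 0)) (.node (.leaf 1382) (.leaf 567))) (.node (.node (.leaf 0) (.leaf 0)) (.node (.leaf 277) (.leaf 1156))))) (.node (.node (.node (.node (.leaf 0) (.leaf 278)) (.node (.leaf 0) (.leaf 1488))) (.node (.node (.leaf 0) (.leaf 1277)) (.node (.leaf 0) (.leaf 127)))) (.node (.node (.node (.leaf 0) (.leaf 1424)) (.node (.leaf 993) (.leaf 0))) (.node (.node (.leaf 0) (.leaf 564)) (.node (.leaf 969) (.leaf 0)))))) (.node (.node (.node (.node (.node (.leaf 0) (.leaf 0)) (.node (.leaf 0) (.leaf 0))) (.node (.node (.leaf 0) (.leaf 0)) (.node (.leaf 0) (.leaf 0)))) (.node (.node (.node (.leaf 0) (.leaf 0)) (.node (.leaf 1262) (.leaf 989))) (.node (.node (.leaf 0) (.leaf 0)) (.node (.leaf 551) (.leaf 1110))))) (.node (.node (.node (.node (.leaf 0) (.leaf 823)) (.node (.leaf 0) (.leaf 1360))) (.node (.node (.leaf 0) (.leaf 992)) (.node (.leaf 0) (.leaf 1118)))) (.node (.node (.node (.leaf 0) (.leaf 1299)) (.node (.leaf 1358) (.leaf 0))) (.node (.node (.leaf 0) (.leaf 968)) (.node (.leaf 566) (.leaf 0))))))) (.node (.node (.node (.node (.node (.node (.leaf 0) (.leaf 0)) (.node (.leaf 0) (.leaf 0))) (.node (.node (.leaf 0) (.leaf 0)) (.node (.leaf 0) (.leaf 0)))) (.node (.node (.node (.leaf 0) (.leaf 0)) (.node (.leaf 1284) (.leaf 702))) (.node (.node (.leaf 0) (.leaf 0)) (.node (.leaf 717) (.leaf 932))))) (.node (.node (.node (.node (.leaf 0) (.leaf 321)) (.node (.leaf 0) (.leaf 1167))) (.node (.node (.leaf 0) (.leaf 760)) (.node (.leaf 0) (.leaf 86)))) (.node (.node (.node (.leaf 0) (.leaf 650)) (.node (.leaf 243) (.leaf 0))) (.node (.node (.leaf 0) (.leaf 580)) (.node (.leaf 212) (.leaf 0)))))) (.node (.node (.node (.node (.node (.leaf 0) (.leaf 0)) (.node (.leaf 0) (.leaf 0))) (.node (.node (.leaf 0) (.leaf 0)) (.node (.leaf 0) (.leaf 0)))) (.node (.node (.node (.leaf 0) (.leaf 0)) (.node (.leaf 731) (.leaf 592))) (.node (.node (.leaf 0) (.leaf 0)) (.node (.leaf 538) (.leaf 1104))))) (.node (.node (.node (.node (.leaf 0) (.leaf 644)) (.node (.leaf 0) (.leaf 199))) (.node (.node (.leaf 0) (.leaf 397)) (.node (.leaf 0) (.leaf 704)))) (.node (.node (.node (.leaf 0) (.leaf 1084)) (.node (.leaf 453) (.leaf 0))) (.node (.node (.leaf 0) (.leaf 488)) (.node (.leaf 709) (.leaf 0)))))))) (.node (.node (.node (.node (.node (.node (.node (.leaf 0) (.leaf 0)) (.node (.leaf 0) (.leaf 0))) (.node (.node (.leaf 0) (.leaf 0)) (.node (.leaf 0) (.leaf 0)))) (.node (.node (.node (.leaf 0) (.leaf 0)) (.node (.leaf 646) (.leaf 167))) (.node (.node (.leaf 0) (.leaf 0)) (.node (.leaf 630) (.leaf 201))))) (.node (.node (.node (.node (.leaf 0) (.leaf 496)) (.node (.leaf 0) (.leaf 1447))) (.node (.node (.leaf 0) (.leaf 1164)) (.node (.leaf 0) (.leaf 894)))) (.node (.node (.node (.leaf 0) (.leaf 1074)) (.node (.leaf 859) (.leaf 0))) (.node (.node (.leaf 0) (.leaf 406)) (.node (.leaf 399) (.leaf 0)))))) (.node (.node (.node (.node (.node (.leaf 0) (.leaf 0)) (.node (.leaf 0) (.leaf 0))) (.node (.node (.leaf 0) (.leaf 0)) (.node (.leaf 0) (.leaf 0)))) (.node (.node (.node (.leaf 0) (.leaf 0)) (.node (.leaf 652) (.leaf 215))) (.node (.node (.leaf 0) (.leaf 0)) (.node (.leaf 234) (.leaf 664))))) (.node (.node (.node (.node (.leaf 0) (.leaf 540)) (.node (.leaf 0) (.leaf 380))) (.node (.node (.leaf 0) (.leaf 680)) (.node (.leaf 0) (.leaf 263)))) (.node (.node (.node (.leaf 0) (.leaf 90)) (.node (.leaf 323) (.leaf 0))) (.node (.node (.leaf 0) (.leaf 362)) (.node (.leaf 1065) (.leaf 0))))))) (.node (.node (.node (.node (.node (.node (.leaf 0) (.leaf 0)) (.node (.leaf 0) (.leaf 0))) (.node (.node (.leaf 0) (.leaf 0)) (.node (.leaf 0) (.leaf 0)))) (.node (.node (.node (.leaf 0) (.leaf 0)) (.node (.leaf 640) (.leaf 466))) (.node (.node (.leaf 0) (.leaf 0)) (.node (.leaf 190) (.leaf 186))))) (.node (.node (.node (.node (.leaf 0) (.leaf 74)) (.node (.leaf 0) (.leaf 862))) (.node (.node (.leaf 0) (.leaf 448)) (.node (.leaf 0) (.leaf 312)))) (.node (.node (.node (.leaf 0) (.leaf 1405)) (.node (.leaf 239) (.leaf 0))) (.node (.node (.leaf 0) (.leaf 667)) (.node (.leaf 750) (.leaf 0)))))) (.node (.node (.node (.node (.node (.leaf 0) (.leaf 0)) (.node (.leaf 0) (.leaf 0))) (.node (.node (.leaf 0) (.leaf 0)) (.node (.leaf 0) (.leaf 0)))) (.node (.node (.node (.leaf 0) (.leaf 0)) (.node (.leaf 38) (.leaf 149))) (.node (.node (.leaf 0) (.leaf 0)) (.node (.leaf 754) (.leaf 757))))) (.node (.node (.node (.node (.leaf 0) (.leaf 97)) (.node (.leaf 0) (.leaf 327))) (.node (.node (.leaf 0) (.leaf 335)) (.node (.leaf 0) (.leaf 106)))) (.node (.node (.node (.leaf 0) (.leaf 176)) (.node (.leaf 633) (.leaf 0))) (.node (.node (.leaf 0) (.leaf 120)) (.node (.leaf 345) (.leaf 0))))))))) (.node (.node (.node (.node (.node (.node (.node (.node (.leaf 0) (.leaf 0)) (.node (.leaf 0) (.leaf 0))) (.node (.node (.leaf 0) (.leaf 0)) (.node (.leaf 0) (.leaf 0)))) (.node (.node (.node (.leaf 0) (.leaf 0)) (.node (.leaf 1502) (.leaf 1137))) (.node (.node (.leaf 0) (.leaf 0)) (.node (.leaf 1022) (.leaf 1495))))) (.node (.node (.node (.node (.leaf 0) (.leaf 1458)) (.node (.leaf 0) (.leaf 1532))) (.node (.node (.leaf 0) (.leaf 1470)) (.node (.leaf 0) (.leaf 1190)))) (.node (.node (.node (.leaf 0) (.leaf 1515)) (.node (.leaf 1346) (.leaf 0))) (.node (.node (.leaf 0) (.leaf 984)) (.node (.leaf 1326) (.leaf 0)))))) (.node (.node (.node (.node (.node (.leaf 0) (.leaf 0)) (.node (.leaf 0) (.leaf 0))) (.node (.node (.leaf 0) (.leaf 0)) (.node (.leaf 0) (.leaf 0)))) (.node (.node (.node (.leaf 0) (.leaf 0)) (.node (.leaf 979) (.leaf 1327))) (.node (.node (.leaf 0) (.leaf 0)) (.node (.leaf 943) (.leaf 1376))))) (.node (.node (.node (.node (.leaf 0) (.leaf 944)) (.node (.leaf 0) (.leaf 1297))) (.node (.node (.leaf 0) (.leaf 1017)) (.node (.leaf 0) (.leaf 530)))) (.node (.node (.node (.leaf 0) (.leaf 1345)) (.node (.leaf 1497) (.leaf 0))) (.node (.node (.leaf 0) (.leaf 1324)) (.node (.leaf 1379) (.leaf 0))))))) (.node (.node (.node (.node (.node (.node (.leaf 0) (.leaf 0)) (.node (.leaf 0) (.leaf 0))) (.node (.node (.leaf 0) (.leaf 0)) (.node (.leaf 0) (.leaf 0)))) (.node (.node (.node (.leaf 0) (.leaf 0)) (.node (.leaf 1067) (.leaf 264))) (.node (.node (.leaf 0) (.leaf 0)) (.node (.leaf 681) (.leaf 381))))) (.node (.node (.node (.node (.leaf 0) (.leaf 187)) (.node (.leaf 0) (.leaf 835))) (.node (.node (.leaf 0) (.leaf 467)) (.node (.leaf 0) (.leaf 169)))) (.node (.node (.node (.leaf 0) (.leaf 1073)) (.node (.leaf 14) (.leaf 0))) (.node (.node (.leaf 0) (.leaf 65)) (.node (.leaf 394) (.leaf 0)))))) (.node (.node (.node (.node (.node (.leaf 0) (.leaf 0)) (.node (.leaf 0) (.leaf 0))) (.node (.node (.leaf 0) (.leaf 0)) (.node (.leaf 0) (.leaf 0)))) (.node (.node (.node (.leaf 0) (.leaf 0)) (.node (.leaf 497) (.leaf 976))) (.node (.node (.leaf 0) (.leaf 0)) (.node (.leaf 952) (.leaf 1420))))) (.node (.node (.node (.node (.leaf 0) (.leaf 235)) (.node (.leaf 0) (.leaf 665))) (.node (.node (.leaf 0) (.leaf 150)) (.node (.leaf 0) (.leaf 41)))) (.node (.node (.node (.leaf 0) (.leaf 83)) (.node (.leaf 318) (.leaf 0))) (.node (.node (.leaf 0) (.leaf 221)) (.node (.leaf 408) (.leaf 0)))))))) (.node (.node (.node (.node (.node (.node (.node (.leaf 0) (.leaf 0)) (.node (.leaf 0) (.leaf 0))) (.node (.node (.leaf 0) (.leaf 0)) (.node (.leaf 0) (.leaf 0)))) (.node (.node (.node (.leaf 0) (.leaf 0)) (.node (.leaf 639) (.leaf 5))) (.node (.node (.leaf 0) (.leaf 0)) (.node (.leaf 27) (.leaf 183))))) (.node (.node (.node (.node (.leaf 0) (.leaf 958)) (.node (.leaf 0) (.leaf 1281))) (.node (.node (.leaf 0) (.leaf 886)) (.node (.leaf 0) (.leaf 1134)))) (.node (.node (.node (.leaf 0) (.leaf 657)) (.node (.leaf 84) (.leaf 0))) (.node (.node (.leaf 0) (.leaf 319)) (.node (.leaf 222) (.leaf 0)))))) (.node (.node (.node (.node (.node (.leaf 0) (.leaf 0)) (.node (.leaf 0) (.leaf 0))) (.node (.node (.leaf 0) (.leaf 0)) (.node (.leaf 0) (.leaf 0)))) (.node (.node (.node (.leaf 0) (.leaf 0)) (.node (.leaf 35) (.leaf 146))) (.node (.node (.leaf 0) (.leaf 0)) (.node (.leaf 100) (.leaf 330))))) (.node (.node (.node (.node (.leaf 0) (.leaf 1124)) (.node (.leaf 0) (.leaf 931))) (.node (.node (.leaf 0) (.leaf 1312)) (.node (.leaf 0) (.leaf 701)))) (.node (.node (.node (.leaf 0) (.leaf 395)) (.node (.leaf 887) (.leaf 0))) (.node (.node (.leaf 0) (.leaf 16)) (.node (.leaf 66) (.leaf 0))))))) (.node (.node (.node (.node (.node (.node (.leaf 0) (.leaf 0)) (.node (.leaf 0) (.leaf 0))) (.node (.node (.leaf 0) (.leaf 0)) (.node (.leaf 0) (.leaf 0)))) (.node (.node (.node (.leaf 0) (.leaf 0)) (.node (.leaf 841) (.leaf 401))) (.node (.node (.leaf 0) (.leaf 0)) (.node (.leaf 364) (.leaf 860))))) (.node (.node (.node (.node (.leaf 0) (.leaf 36)) (.node (.leaf 0) (.leaf 1175))) (.node (.node (.leaf 0) (.leaf 752)) (.node (.leaf 0) (.leaf 147)))) (.node (.node (.node (.leaf 0) (.leaf 1094)) (.node (.leaf 541) (.leaf 0))) (.node (.node (.leaf 0) (.leaf 712)) (.node (.leaf 487) (.leaf 0)))))) (.node (.node (.node (.node (.node (.leaf 0) (.leaf 0)) (.node (.leaf 0) (.leaf 0))) (.node (.node (.leaf 0) (.leaf 0)) (.node (.leaf 0) (.leaf 0)))) (.node (.node (.node (.leaf 0) (.leaf 0)) (.node (.leaf 504) (.leaf 490))) (.node (.node (.leaf 0) (.leaf 0)) (.node (.leaf 95) (.leaf 325))))) (.node (.node (.node (.node (.leaf 0) (.leaf 537)) (.node (.leaf 0) (.leaf 184))) (.node (.node (.leaf 0) (.leaf 424)) (.node (.leaf 0) (.leaf 465)))) (.node (.node (.node (.leaf 0) (.leaf 523)) (.node (.leaf 890) (.leaf 0))) (.node (.node (.leaf 0) (.leaf 360)) (.node (.leaf 1064) (.leaf 0))))))))))) (.node (.node (.node (.node (.node (.node (.node (.node (.node (.node (.leaf 0) (.leaf 0)) (.node (.leaf 0) (.leaf 0))) (.node (.node (.leaf 0) (.leaf 0)) (.node (.leaf 0) (.leaf 0)))) (.node (.node (.node (.leaf 0) (.leaf 0)) (.node (.leaf 1416) (.leaf 1402))) (.node (.node (.leaf 0) (.leaf 0)) (.node (.leaf 767) (.leaf 1144))))) (.node (.node (.node (.node (.leaf 0) (.leaf 1145)) (.node (.leaf 0) (.leaf 1476))) (.node (.node (.leaf 0) (.leaf 1242)) (.node (.leaf 0) (.leaf 1433)))) (.node (.node (.node (.leaf 0) (.leaf 1425)) (.node (.leaf 724) (.leaf 0))) (.node (.node (.leaf 0) (.leaf 1136)) (.node (.leaf 1224) (.leaf 0)))))) (.node (.node (.node (.node (.node (.leaf 0) (.leaf 0)) (.node (.leaf 0) (.leaf 0))) (.node (.node (.leaf 0) (.leaf 0)) (.node (.leaf 0) (.leaf 0)))) (.node (.node (.node (.leaf 0) (.leaf 0)) (.node (.leaf 372) (.leaf 1048))) (.node (.node (.leaf 0) (.leaf 0)) (.node (.leaf 1316) (.leaf 1368))))) (.node (.node (.node (.node (.leaf 0) (.leaf 851)) (.node (.leaf 0) (.leaf 1142))) (.node (.node (.leaf 0) (.leaf 1006)) (.node (.leaf 0) (.leaf 1259)))) (.node (.node (.node (.leaf 0) (.leaf 723)) (.node (.leaf 1097) (.leaf 0))) (.node (.node (.leaf 0) (.leaf 1060)) (.node (.leaf 576) (.leaf 0))))))) (.node (.node (.node (.node (.node (.node (.leaf 0) (.leaf 0)) (.node (.leaf 0) (.leaf 0))) (.node (.node (.leaf 0) (.leaf 0)) (.node (.leaf 0) (.leaf 0)))) (.node (.node (.node (.leaf 0) (.leaf 0)) (.node (.leaf 878) (.leaf 192))) (.node (.node (.leaf 0) (.leaf 0)) (.node (.leaf 414) (.leaf 420))))) (.node (.node (.node (.node (.leaf 0) (.leaf 410)) (.node (.leaf 0) (.leaf 1163))) (.node (.node (.leaf 0) (.leaf 838)) (.node (.leaf 0) (.leaf 342)))) (.node (.node (.node (.leaf 0) (.leaf 1105)) (.node (.leaf 747) (.leaf 0))) (.node (.node (.leaf 0) (.leaf 676)) (.node (.leaf 233) (.leaf 0)))))) (.node (.node (.node (.node (.node (.leaf 0) (.leaf 0)) (.node (.leaf 0) (.leaf 0))) (.node (.node (.leaf 0) (.leaf 0)) (.node (.leaf 0) (.leaf 0)))) (.node (.node (.node (.leaf 0) (.leaf 0)) (.node (.leaf 49) (.leaf 134))) (.node (.node (.leaf 0) (.leaf 0)) (.node (.leaf 121) (.leaf 298))))) (.node (.node (.node (.node (.leaf 0) (.leaf 953)) (.node (.leaf 0) (.leaf 679))) (.node (.node (.leaf 0) (.leaf 686)) (.node (.leaf 0) (.leaf 868)))) (.node (.node (.node (.leaf 0) (.leaf 429)) (.node (.leaf 492) (.leaf 0))) (.node (.node (.leaf 0) (.leaf 449)) (.node (.leaf 629) (.leaf 0)))))))) (.node (.node (.node (.node (.node (.node (.node (.leaf 0) (.leaf 0)) (.node (.leaf 0) (.leaf 0))) (.node (.node (.leaf 0) (.leaf 0)) (.node (.leaf 0) (.leaf 0)))) (.node (.node (.node (.leaf 0) (.leaf 0)) (.node (.leaf 1273) (.leaf 631))) (.node (.node (.leaf 0) (.leaf 0)) (.node (.leaf 710) (.leaf 883))))) (.node (.node (.node (.node (.leaf 0) (.leaf 87)) (.node (.leaf 0) (.leaf 1091))) (.node (.node (.leaf 0) (.leaf 1168)) (.node (.leaf 0) (.leaf 194)))) (.node (.node (.node (.leaf 0) (.leaf 1068)) (.node (.leaf 353) (.leaf 0))) (.node (.node (.leaf 0) (.leaf 158)) (.node (.leaf 451) (.leaf 0)))))) (.node (.node (.node (.node (.node (.leaf 0) (.leaf 0)) (.node (.leaf 0) (.leaf 0))) (.node (.node (.leaf 0) (.leaf 0)) (.node (.leaf 0) (.leaf 0)))) (.node (.node (.node (.leaf 0) (.leaf 0)) (.node (.leaf 690) (.leaf 236))) (.node (.node (.leaf 0) (.leaf 0)) (.node (.leaf 213) (.leaf 748))))) (.node (.node (.node (.node (.leaf 0) (.leaf 123)) (.node (.leaf 0) (.leaf 247))) (.node (.node (.leaf 0) (.leaf 137)) (.node (.leaf 0) (.leaf 53)))) (.node (.node (.node (.leaf 0) (.leaf 498)) (.node (.leaf 875) (.leaf 0))) (.node (.node (.leaf 0) (.leaf 474)) (.node (.leaf 1133) (.leaf 0))))))) (.node (.node (.node (.node (.node (.node (.leaf 0) (.leaf 0)) (.node (.leaf 0) (.leaf 0))) (.node (.node (.leaf 0) (.leaf 0)) (.node (.leaf 0) (.leaf 0)))) (.node (.node (.node (.leaf 0) (.leaf 0)) (.node (.leaf 634) (.leaf 163))) (.node (.node (.leaf 0) (.leaf 0)) (.node (.leaf 70) (.leaf 759))))) (.node (.node (.node (.node (.leaf 0) (.leaf 313)) (.node (.leaf 0) (.leaf 1246))) (.node (.node (.leaf 0) (.leaf 486)) (.node (.leaf 0) (.leaf 365)))) (.node (.node (.node (.leaf 0) (.leaf 661)) (.node (.leaf 37) (.leaf 0))) (.node (.node (.leaf 0) (.leaf 482)) (.node (.leaf 753) (.leaf 0)))))) (.node (.node (.node (.node (.node (.leaf 0) (.leaf 0)) (.node (.leaf 0) (.leaf 0))) (.node (.node (.leaf 0) (.leaf 0)) (.node (.leaf 0) (.leaf 0)))) (.node (.node (.node (.leaf 0) (.leaf 0)) (.node (.leaf 240) (.leaf 478))) (.node (.node (.leaf 0) (.leaf 0)) (.node (.leaf 226) (.leaf 1112))))) (.node (.node (.node (.node (.leaf 0) (.leaf 107)) (.node (.leaf 0) (.leaf 802))) (.node (.node (.leaf 0) (.leaf 391)) (.node (.leaf 0) (.leaf 96)))) (.node (.node (.node (.leaf 0) (.leaf 112)) (.node (.leaf 291) (.leaf 0))) (.node (.node (.leaf 0) (.leaf 21)) (.node (.leaf 60) (.leaf 0))))))))) (.node (.node (.node (.node (.node (.node (.node (.node (.leaf 0) (.leaf 0)) (.node (.leaf 0) (.leaf 0))) (.node (.node (.leaf 0) (.leaf 0)) (.node (.leaf 0) (.leaf 0)))) (.node (.node (.node (.leaf 0) (.leaf 0)) (.node (.leaf 1509) (.leaf 1213))) (.node (.node (.leaf 0) (.leaf 0)) (.node (.leaf 1127) (.leaf 1494))))) (.node (.node (.node (.node (.leaf 0) (.leaf 806)) (.node (.leaf 0) (.leaf 1530))) (.node (.node (.leaf 0) (.leaf 1466)) (.node (.leaf 0) (.leaf 1214)))) (.node (.node (.node (.leaf 0) (.leaf 1525)) (.node (.leaf 1311) (.leaf 0))) (.node (.node (.leaf 0) (.leaf 1113)) (.node (.leaf 1441) (.leaf 0)))))) (.node (.node (.node (.node (.node (.leaf 0) (.leaf 0)) (.node (.leaf 0) (.leaf 0))) (.node (.node (.leaf 0) (.leaf 0)) (.node (.leaf 0) (.leaf 0)))) (.node (.node (.node (.leaf 0) (.leaf 0)) (.node (.leaf 927) (.leaf 1354))) (.node (.node (.leaf 0) (.leaf 0)) (.node (.leaf 1254) (.leaf 1511))))) (.node (.node (.node (.node (.leaf 0) (.leaf 1475)) (.node (.leaf 0) (.leaf 1435))) (.node (.node (.leaf 0) (.leaf 1455)) (.node (.leaf 0) (.leaf 1320)))) (.node (.node (.node (.leaf 0) (.leaf 1310)) (.node (.leaf 1365) (.leaf 0))) (.node (.node (.leaf 0) (.leaf 1332)) (.node (.leaf 1415) (.leaf 0))))))) (.node (.node (.node (.node (.node (.node (.leaf 0) (.leaf 0)) (.node (.leaf 0) (.leaf 0))) (.node (.node (.leaf 0) (.leaf 0)) (.node (.leaf 0) (.leaf 0)))) (.node (.node (.node (.leaf 0) (.leaf 0)) (.node (.leaf 594) (.leaf 7))) (.node (.node (.leaf 0) (.leaf 0)) (.node (.leaf 24) (.leaf 249))))) (.node (.node (.node (.node (.leaf 0) (.leaf 711)) (.node (.leaf 0) (.leaf 885))) (.node (.node (.leaf 0) (.leaf 1465)) (.node (.leaf 0) (.leaf 143)))) (.node (.node (.node (.leaf 0) (.leaf 1419)) (.node (.leaf 108) (.leaf 0))) (.node (.node (.leaf 0) (.leaf 773)) (.node (.leaf 392) (.leaf 0)))))) (.node (.node (.node (.node (.node (.leaf 0) (.leaf 0)) (.node (.leaf 0) (.leaf 0))) (.node (.node (.leaf 0) (.leaf 0)) (.node (.leaf 0) (.leaf 0)))) (.node (.node (.node (.leaf 0) (.leaf 0)) (.node (.leaf 89) (.leaf 230))) (.node (.node (.leaf 0) (.leaf 0)) (.node (.leaf 483) (.leaf 332))))) (.node (.node (.node (.node (.leaf 0) (.leaf 214)) (.node (.leaf 0) (.leaf 181))) (.node (.node (.leaf 0) (.leaf 1187)) (.node (.leaf 0) (.leaf 46)))) (.node (.node (.node (.leaf 0) (.leaf 1173)) (.node (.leaf 314) (.leaf 0))) (.node (.node (.leaf 0) (.leaf 354)) (.node (.leaf 159) (.leaf 0)))))))) (.node (.node (.node (.node (.node (.node (.node (.leaf 0) (.leaf 0)) (.node (.leaf 0) (.leaf 0))) (.node (.node (.leaf 0) (.leaf 0)) (.node (.leaf 0) (.leaf 0)))) (.node (.node (.node (.leaf 0) (.leaf 0)) (.node (.leaf 1101) (.leaf 47))) (.node (.node (.leaf 0) (.leaf 0)) (.node (.leaf 409) (.leaf 182))))) (.node (.node (.node (.node (.leaf 0) (.leaf 2)) (.node (.leaf 0) (.leaf 864))) (.node (.node (.leaf 0) (.leaf 469)) (.node (.leaf 0) (.leaf 9)))) (.node (.node (.node (.leaf 0) (.leaf 658)) (.node (.leaf 1203) (.leaf 0))) (.node (.node (.leaf 0) (.leaf 63)) (.node (.leaf 1210) (.leaf 0)))))) (.node (.node (.node (.node (.node (.leaf 0) (.leaf 0)) (.node (.leaf 0) (.leaf 0))) (.node (.node (.leaf 0) (.leaf 0)) (.node (.leaf 0) (.leaf 0)))) (.node (.node (.node (.leaf 0) (.leaf 0)) (.node (.leaf 794) (.leaf 144))) (.node (.node (.leaf 0) (.leaf 0)) (.node (.leaf 1114) (.leaf 677))))) (.node (.node (.node (.node (.leaf 0) (.leaf 104)) (.node (.leaf 0) (.leaf 333))) (.node (.node (.leaf 0) (.leaf 153)) (.node (.leaf 0) (.leaf 231)))) (.node (.node (.node (.leaf 0) (.leaf 81)) (.node (.leaf 675) (.leaf 0))) (.node (.node (.leaf 0) (.leaf 18)) (.node (.leaf 775) (.leaf 0))))))) (.node (.node (.node (.node (.node (.node (.leaf 0) (.leaf 0)) (.node (.leaf 0) (.leaf 0))) (.node (.node (.leaf 0) (.leaf 0)) (.node (.leaf 0) (.leaf 0)))) (.node (.node (.node (.leaf 0) (.leaf 0)) (.node (.leaf 891) (.leaf 837))) (.node (.node (.leaf 0) (.leaf 0)) (.node (.leaf 311) (.leaf 803))))) (.node (.node (.node (.node (.leaf 0) (.leaf 238)) (.node (.leaf 0) (.leaf 1249))) (.node (.node (.leaf 0) (.leaf 749)) (.node (.leaf 0) (.leaf 191)))) (.node (.node (.node (.leaf 0) (.leaf 604)) (.node (.leaf 19) (.leaf 0))) (.node (.node (.leaf 0) (.leaf 58)) (.node (.leaf 266) (.leaf 0)))))) (.node (.node (.node (.node (.node (.leaf 0) (.leaf 0)) (.node (.leaf 0) (.leaf 0))) (.node (.node (.leaf 0) (.leaf 0)) (.node (.leaf 0) (.leaf 0)))) (.node (.node (.node (.leaf 0) (.leaf 0)) (.node (.leaf 390) (.leaf 341))) (.node (.node (.leaf 0) (.leaf 0)) (.node (.leaf 105) (.leaf 682))))) (.node (.node (.node (.node (.leaf 0) (.leaf 632)) (.node (.leaf 0) (.leaf 423))) (.node (.node (.leaf 0) (.leaf 344)) (.node (.leaf 0) (.leaf 691)))) (.node (.node (.node (.leaf 0) (.leaf 197)) (.node (.leaf 480) (.leaf 0))) (.node (.node (.leaf 0) (.leaf 411)) (.node (.leaf 659) (.leaf 0)))))))))) (.node (.node (.node (.node (.node (.node (.node (.node (.node (.leaf 0) (.leaf 0)) (.node (.leaf 0) (.leaf 0))) (.node (.node (.leaf 0) (.leaf 0)) (.node (.leaf 0) (.leaf 0)))) (.node (.node (.node (.leaf 0) (.leaf 0)) (.node (.leaf 1381) (.leaf 436))) (.node (.node (.leaf 0) (.leaf 0)) (.node (.leaf 1054) (.leaf 913))))) (.node (.node (.node (.node (.leaf 0) (.leaf 1221)) (.node (.leaf 0) (.leaf 1477))) (.node (.node (.leaf 0) (.leaf 1341)) (.node (.leaf 0) (.leaf 1446)))) (.node (.node (.node (.leaf 0) (.leaf 1392)) (.node (.leaf 815) (.leaf 0))) (.node (.node (.leaf 0) (.leaf 1290)) (.node (.leaf 970) (.leaf 0)))))) (.node (.node (.node (.node (.node (.leaf 0) (.leaf 0)) (.node (.leaf 0) (.leaf 0))) (.node (.node (.leaf 0) (.leaf 0)) (.node (.leaf 0) (.leaf 0)))) (.node (.node (.node (.leaf 0) (.leaf 0)) (.node (.leaf 1209) (.leaf 998))) (.node (.node (.leaf 0) (.leaf 0)) (.node (.leaf 812) (.leaf 1397))))) (.node (.node (.node (.node (.leaf 0) (.leaf 814)) (.node (.leaf 0) (.leaf 801))) (.node (.node (.leaf 0) (.leaf 1053)) (.node (.leaf 0) (.leaf 435)))) (.node (.node (.node (.leaf 0) (.leaf 508)) (.node (.leaf 1025) (.leaf 0))) (.node (.node (.leaf 0) (.leaf 205)) (.node (.leaf 617) (.leaf 0))))))) (.node (.node (.node (.node (.node (.node (.leaf 0) (.leaf 0)) (.node (.leaf 0) (.leaf 0))) (.node (.node (.leaf 0) (.leaf 0)) (.node (.leaf 0) (.leaf 0)))) (.node (.node (.node (.leaf 0) (.leaf 0)) (.node (.leaf 874) (.leaf 473))) (.node (.node (.leaf 0) (.leaf 0)) (.node (.leaf 642) (.leaf 869))))) (.node (.node (.node (.node (.leaf 0) (.leaf 114)) (.node (.leaf 0) (.leaf 1410))) (.node (.node (.leaf 0) (.leaf 734)) (.node (.leaf 0) (.leaf 293)))) (.node (.node (.node (.leaf 0) (.leaf 663)) (.node (.leaf 251) (.leaf 0))) (.node (.node (.leaf 0) (.leaf 366)) (.node (.leaf 543) (.leaf 0)))))) (.node (.node (.node (.node (.node (.leaf 0) (.leaf 0)) (.node (.leaf 0) (.leaf 0))) (.node (.node (.leaf 0) (.leaf 0)) (.node (.leaf 0) (.leaf 0)))) (.node (.node (.node (.leaf 0) (.leaf 0)) (.node (.leaf 352) (.leaf 157))) (.node (.node (.leaf 0) (.leaf 0)) (.node (.leaf 693) (.leaf 346))))) (.node (.node (.node (.node (.leaf 0) (.leaf 262)) (.node (.leaf 0) (.leaf 601))) (.node (.node (.leaf 0) (.leaf 379)) (.node (.leaf 0) (.leaf 271)))) (.node (.node (.node (.leaf 0) (.leaf 255)) (.node (.leaf 597) (.leaf 0))) (.node (.node (.leaf 0) (.leaf 166)) (.node (.leaf 1081) (.leaf 0)))))))) (.node (.node (.node (.node (.node (.node (.node (.leaf 0) (.leaf 0)) (.node (.leaf 0) (.leaf 0))) (.node (.node (.leaf 0) (.leaf 0)) (.node (.leaf 0) (.leaf 0)))) (.node (.node (.node (.leaf 0) (.leaf 0)) (.node (.leaf 1267) (.leaf 764))) (.node (.node (.leaf 0) (.leaf 0)) (.node (.leaf 170) (.leaf 793))))) (.node (.node (.node (.node (.leaf 0) (.leaf 643)) (.node (.leaf 0) (.leaf 871))) (.node (.node (.leaf 0) (.leaf 475)) (.node (.leaf 0) (.leaf 322)))) (.node (.node (.node (.leaf 0) (.leaf 1083)) (.node (.leaf 50) (.leaf 0))) (.node (.node (.leaf 0) (.leaf 135)) (.node (.leaf 382) (.leaf 0)))))) (.node (.node (.node (.node (.node (.leaf 0) (.leaf 0)) (.node (.leaf 0) (.leaf 0))) (.node (.node (.leaf 0) (.leaf 0)) (.node (.leaf 0) (.leaf 0)))) (.node (.node (.node (.leaf 0) (.leaf 0)) (.node (.leaf 116) (.leaf 295))) (.node (.node (.leaf 0) (.leaf 0)) (.node (.leaf 699) (.leaf 651))))) (.node (.node (.node (.node (.leaf 0) (.leaf 672)) (.node (.leaf 0) (.leaf 348))) (.node (.node (.leaf 0) (.leaf 160)) (.node (.leaf 0) (.leaf 355)))) (.node (.node (.node (.leaf 0) (.leaf 421)) (.node (.leaf 879) (.leaf 0))) (.node (.node (.leaf 0) (.leaf 971)) (.node (.leaf 368) (.leaf 0))))))) (.node (.node (.node (.node (.node (.node (.leaf 0) (.leaf 0)) (.node (.leaf 0) (.leaf 0))) (.node (.node (.leaf 0) (.leaf 0)) (.node (.leaf 0) (.leaf 0)))) (.node (.node (.node (.leaf 0) (.leaf 0)) (.node (.leaf 1029) (.leaf 20))) (.node (.node (.leaf 0) (.leaf 0)) (.node (.leaf 59) (.leaf 177))))) (.node (.node (.node (.node (.leaf 0) (.leaf 402)) (.node (.leaf 0) (.leaf 866))) (.node (.node (.leaf 0) (.leaf 861)) (.node (.leaf 0) (.leaf 75)))) (.node (.node (.node (.leaf 0) (.leaf 1160)) (.node (.leaf 744) (.leaf 0))) (.node (.node (.leaf 0) (.leaf 148)) (.node (.leaf 227) (.leaf 0)))))) (.node (.node (.node (.node (.node (.leaf 0) (.leaf 0)) (.node (.leaf 0) (.leaf 0))) (.node (.node (.leaf 0) (.leaf 0)) (.node (.leaf 0) (.leaf 0)))) (.node (.node (.node (.leaf 0) (.leaf 0)) (.node (.leaf 198) (.leaf 481))) (.node (.node (.leaf 0) (.leaf 0)) (.node (.leaf 553) (.leaf 660))))) (.node (.node (.node (.node (.leaf 0) (.leaf 491)) (.node (.leaf 0) (.leaf 336))) (.node (.node (.leaf 0) (.leaf 326)) (.node (.leaf 0) (.leaf 359)))) (.node (.node (.node (.leaf 0) (.leaf 185)) (.node (.leaf 340) (.leaf 0))) (.node (.node (.leaf 0) (.leaf 164)) (.node (.leaf 71) (.leaf 0))))))))) (.node (.node (.node (.node (.node (.node (.node (.node (.leaf 0) (.leaf 0)) (.node (.leaf 0) (.leaf 0))) (.node (.node (.leaf 0) (.leaf 0)) (.node (.leaf 0) (.leaf 0)))) (.node (.node (.node (.leaf 0) (.leaf 0)) (.node (.leaf 1501) (.leaf 1289))) (.node (.node (.leaf 0) (.leaf 0)) (.node (.leaf 1294) (.leaf 1196))))) (.node (.node (.node (.node (.leaf 0) (.leaf 977)) (.node (.leaf 0) (.leaf 1531))) (.node (.node (.leaf 0) (.leaf 1491)) (.node (.leaf 0) (.leaf 1215)))) (.node (.node (.node (.leaf 0) (.leaf 1517)) (.node (.leaf 557) (.leaf 0))) (.node (.node (.leaf 0) (.leaf 1044)) (.node (.leaf 1304) (.leaf 0)))))) (.node (.node (.node (.node (.node (.leaf 0) (.leaf 0)) (.node (.leaf 0) (.leaf 0))) (.node (.node (.leaf 0) (.leaf 0)) (.node (.leaf 0) (.leaf 0)))) (.node (.node (.node (.leaf 0) (.leaf 0)) (.node (.leaf 978) (.leaf 1237))) (.node (.node (.leaf 0) (.leaf 0)) (.node (.leaf 1217) (.leaf 1521))))) (.node (.node (.node (.node (.leaf 0) (.leaf 1474)) (.node (.leaf 0) (.leaf 1195))) (.node (.node (.leaf 0) (.leaf 1459)) (.node (.leaf 0) (.leaf 1239)))) (.node (.node (.node (.leaf 0) (.leaf 786)) (.node (.leaf 1343) (.leaf 0))) (.node (.node (.leaf 0) (.leaf 900)) (.node (.leaf 1380) (.leaf 0))))))) (.node (.node (.node (.node (.node (.node (.leaf 0) (.leaf 0)) (.node (.leaf 0) (.leaf 0))) (.node (.node (.leaf 0) (.leaf 0)) (.node (.leaf 0) (.leaf 0)))) (.node (.node (.node (.leaf 0) (.leaf 0)) (.node (.leaf 674) (.leaf 72))) (.node (.node (.leaf 0) (.leaf 0)) (.node (.leaf 29) (.leaf 398))))) (.node (.node (.node (.node (.leaf 0) (.leaf 31)) (.node (.leaf 0) (.leaf 1263))) (.node (.node (.leaf 0) (.leaf 471)) (.node (.leaf 0) (.leaf 589)))) (.node (.node (.node (.leaf 0) (.leaf 1071)) (.node (.leaf 422) (.leaf 0))) (.node (.node (.leaf 0) (.leaf 337)) (.node (.leaf 923) (.leaf 0)))))) (.node (.node (.node (.node (.node (.leaf 0) (.leaf 0)) (.node (.leaf 0) (.leaf 0))) (.node (.node (.leaf 0) (.leaf 0)) (.node (.leaf 0) (.leaf 0)))) (.node (.node (.node (.leaf 0) (.leaf 0)) (.node (.leaf 388) (.leaf 228))) (.node (.node (.leaf 0) (.leaf 0)) (.node (.leaf 102) (.leaf 745))))) (.node (.node (.node (.node (.leaf 0) (.leaf 637)) (.node (.leaf 0) (.leaf 515))) (.node (.node (.leaf 0) (.leaf 154)) (.node (.leaf 0) (.leaf 889)))) (.node (.node (.node (.leaf 0) (.leaf 78)) (.node (.leaf 1342) (.leaf 0))) (.node (.node (.leaf 0) (.leaf 52)) (.node (.leaf 136) (.leaf 0)))))))) (.node (.node (.node (.node (.node (.node (.node (.leaf 0) (.leaf 0)) (.node (.leaf 0) (.leaf 0))) (.node (.node (.leaf 0) (.leaf 0)) (.node (.leaf 0) (.leaf 0)))) (.node (.node (.node (.leaf 0) (.leaf 0)) (.node (.leaf 638) (.leaf 960))) (.node (.node (.leaf 0) (.leaf 0)) (.node (.leaf 155) (.leaf 517))))) (.node (.node (.node (.node (.leaf 0) (.leaf 30)) (.node (.leaf 0) (.leaf 865))) (.node (.node (.leaf 0) (.leaf 1171)) (.node (.leaf 0) (.leaf 11)))) (.node (.node (.node (.leaf 0) (.leaf 1033)) (.node (.leaf 12) (.leaf 0))) (.node (.node (.leaf 0) (.leaf 988)) (.node (.leaf 224) (.leaf 0)))))) (.node (.node (.node (.node (.node (.leaf 0) (.leaf 0)) (.node (.leaf 0) (.leaf 0))) (.node (.node (.leaf 0) (.leaf 0)) (.node (.leaf 0) (.leaf 0)))) (.node (.node (.node (.leaf 0) (.leaf 0)) (.node (.leaf 33) (.leaf 973))) (.node (.node (.leaf 0) (.leaf 0)) (.node (.leaf 260) (.leaf 599))))) (.node (.node (.node (.node (.leaf 0) (.leaf 103)) (.node (.leaf 0) (.leaf 180))) (.node (.node (.leaf 0) (.leaf 389)) (.node (.leaf 0) (.leaf 44)))) (.node (.node (.node (.leaf 0) (.leaf 250)) (.node (.leaf 316) (.leaf 0))) (.node (.node (.leaf 0) (.leaf 542)) (.node (.leaf 68) (.leaf 0))))))) (.node (.node (.node (.node (.node (.node (.leaf 0) (.leaf 0)) (.node (.leaf 0) (.leaf 0))) (.node (.node (.leaf 0) (.leaf 0)) (.node (.leaf 0) (.leaf 0)))) (.node (.node (.node (.leaf 0) (.leaf 0)) (.node (.leaf 1032) (.leaf 73))) (.node (.node (.leaf 0) (.leaf 0)) (.node (.leaf 781) (.leaf 524))))) (.node (.node (.node (.node (.leaf 0) (.leaf 596)) (.node (.leaf 0) (.leaf 1151))) (.node (.node (.leaf 0) (.leaf 1174)) (.node (.leaf 0) (.leaf 252)))) (.node (.node (.node (.leaf 0) (.leaf 683)) (.node (.leaf 162) (.leaf 0))) (.node (.node (.leaf 0) (.leaf 69)) (.node (.leaf 758) (.leaf 0)))))) (.node (.node (.node (.node (.node (.leaf 0) (.leaf 0)) (.node (.leaf 0) (.leaf 0))) (.node (.node (.leaf 0) (.leaf 0)) (.node (.leaf 0) (.leaf 0)))) (.node (.node (.node (.leaf 0) (.leaf 0)) (.node (.leaf 113) (.leaf 292))) (.node (.node (.leaf 0) (.leaf 0)) (.node (.leaf 265) (.leaf 334))))) (.node (.node (.node (.node (.leaf 0) (.leaf 554)) (.node (.leaf 0) (.leaf 175))) (.node (.node (.leaf 0) (.leaf 296)) (.node (.leaf 0) (.leaf 119)))) (.node (.node (.node (.leaf 0) (.leaf 743)) (.node (.leaf 477) (.leaf 0))) (.node (.node (.leaf 0) (.leaf 225)) (.node (.leaf 1076) (.leaf 0)))))))))))) (.node (.node (.node (.node (.node (.node (.node (.node (.node (.node (.node (.leaf 0) (.leaf 0)) (.node (.leaf 0) (.leaf 0))) (.node (.node (.leaf 0) (.leaf 0)) (.node (.leaf 0) (.leaf 0)))) (.node (.node (.node (.leaf 0) (.leaf 0)) (.node (.leaf 0) (.leaf 0))) (.node (.node (.leaf 0) (.leaf 0)) (.node (.leaf 0) (.leaf 0))))) (.node (.node (.node (.node (.leaf 0) (.leaf 0)) (.node (.leaf 0) (.leaf 0))) (.node (.node (.leaf 0) (.leaf 0)) (.node (.leaf 0) (.leaf 0)))) (.node (.node (.node (.leaf 0) (.leaf 0)) (.node (.leaf 0) (.leaf 0))) (.node (.node (.leaf 0) (.leaf 0)) (.node (.leaf 0) (.leaf 0)))))) (.node (.node (.node (.node (.node (.leaf 0) (.leaf 0)) (.node (.leaf 0) (.leaf 0))) (.node (.node (.leaf 0) (.leaf 0)) (.node (.leaf 0) (.leaf 0)))) (.node (.node (.node (.leaf 0) (.leaf 0)) (.node (.leaf 0) (.leaf 0))) (.node (.node (.leaf 0) (.leaf 0)) (.node (.leaf 0) (.leaf 0))))) (.node (.node (.node (.node (.leaf 0) (.leaf 0)) (.node (.leaf 0) (.leaf 0))) (.node (.node (.leaf 0) (.leaf 0)) (.node (.leaf 0) (.leaf 0)))) (.node (.node (.node (.leaf 0) (.leaf 0)) (.node (.leaf 0) (.leaf 0))) (.node (.node (.leaf 0) (.leaf 0)) (.node (.leaf 0) (.leaf 0))))))) (.node (.node (.node (.node (.node (.node (.leaf 0) (.leaf 0)) (.node (.leaf 0) (.leaf 0))) (.node (.node (.leaf 0) (.leaf 0)) (.node (.leaf 0) (.leaf 0)))) (.node (.node (.node (.leaf 0) (.leaf 0)) (.node (.leaf 0) (.leaf 0))) (.node (.node (.leaf 0) (.leaf 0)) (.node (.leaf 0) (.leaf 0))))) (.node (.node (.node (.node (.leaf 0) (.leaf 0)) (.node (.leaf 0) (.leaf 0))) (.node (.node (.leaf 0) (.leaf 0)) (.node (.leaf 0) (.leaf 0)))) (.node (.node (.node (.leaf 0) (.leaf 0)) (.node (.leaf 0) (.leaf 0))) (.node (.node (.leaf 0) (.leaf 0)) (.node (.leaf 0) (.leaf 0)))))) (.node (.node (.node (.node (.node (.leaf 0) (.leaf 0)) (.node (.leaf 0) (.leaf 0))) (.node (.node (.leaf 0) (.leaf 0)) (.node (.leaf 0) (.leaf 0)))) (.node (.node (.node (.leaf 0) (.leaf 0)) (.node (.leaf 0) (.leaf 0))) (.node (.node (.leaf 0) (.leaf 0)) (.node (.leaf 0) (.leaf 0))))) (.node (.node (.node (.node (.leaf 0) (.leaf 0)) (.node (.leaf 0) (.leaf 0))) (.node (.node (.leaf 0) (.leaf 0)) (.node (.leaf 0) (.leaf 0)))) (.node (.node (.node (.leaf 0) (.leaf 0)) (.node (.leaf 0) (.leaf 0))) (.node (.node (.leaf 0) (.leaf 0)) (.node (.leaf 0) (.leaf 0)))))))) (.node (.node (.node (.node (.node (.node (.node (.leaf 0) (.leaf 0)) (.node (.leaf 0) (.leaf 0))) (.node (.node (.leaf 0) (.leaf 0)) (.node (.leaf 0) (.leaf 0)))) (.node (.node (.node (.leaf 0) (.leaf 0)) (.node (.leaf 0) (.leaf 0))) (.node (.node (.leaf 0) (.leaf 0)) (.node (.leaf 0) (.leaf 0))))) (.node (.node (.node (.node (.leaf 0) (.leaf 0)) (.node (.leaf 0) (.leaf 0))) (.node (.node (.leaf 0) (.leaf 0)) (.node (.leaf 0) (.leaf 0)))) (.node (.node (.node (.leaf 0) (.leaf 0)) (.node (.leaf 0) (.leaf 0))) (.node (.node (.leaf 0) (.leaf 0)) (.node (.leaf 0) (.leaf 0)))))) (.node (.node (.node (.node (.node (.leaf 0) (.leaf 0)) (.node (.leaf 0) (.leaf 0))) (.node (.node (.leaf 0) (.leaf 0)) (.node (.leaf 0) (.leaf 0)))) (.node (.node (.node (.leaf 0) (.leaf 0)) (.node (.leaf 0) (.leaf 0))) (.node (.node (.leaf 0) (.leaf 0)) (.node (.leaf 0) (.leaf 0))))) (.node (.node (.node (.node (.leaf 0) (.leaf 0)) (.node (.leaf 0) (.leaf 0))) (.node (.node (.leaf 0) (.leaf 0)) (.node (.leaf 0) (.leaf 0)))) (.node (.node (.node (.leaf 0) (.leaf 0)) (.node (.leaf 0) (.leaf 0))) (.node (.node (.leaf 0) (.leaf 0)) (.node (.leaf 0) (.leaf 0))))))) (.node (.node (.node (.node (.node (.node (.leaf 0) (.leaf 0)) (.node (.leaf 0) (.leaf 0))) (.node (.node (.leaf 0) (.leaf 0)) (.node (.leaf 0) (.leaf 0)))) (.node (.node (.node (.leaf 0) (.leaf 0)) (.node (.leaf 0) (.leaf 0))) (.node (.node (.leaf 0) (.leaf 0)) (.node (.leaf 0) (.leaf 0))))) (.node (.node (.node (.node (.leaf 0) (.leaf 0)) (.node (.leaf 0) (.leaf 0))) (.node (.node (.leaf 0) (.leaf 0)) (.node (.leaf 0) (.leaf 0)))) (.node (.node (.node (.leaf 0) (.leaf 0)) (.node (.leaf 0) (.leaf 0))) (.node (.node (.leaf 0) (.leaf 0)) (.node (.leaf 0) (.leaf 0)))))) (.node (.node (.node (.node (.node (.leaf 0) (.leaf 0)) (.node (.leaf 0) (.leaf 0))) (.node (.node (.leaf 0) (.leaf 0)) (.node (.leaf 0) (.leaf 0)))) (.node (.node (.node (.leaf 0) (.leaf 0)) (.node (.leaf 0) (.leaf 0))) (.node (.node (.leaf 0) (.leaf 0)) (.node (.leaf 0) (.leaf 0))))) (.node (.node (.node (.node (.leaf 0) (.leaf 0)) (.node (.leaf 0) (.leaf 0))) (.node (.node (.leaf 0) (.leaf 0)) (.node (.leaf 0) (.leaf 0)))) (.node (.node (.node (.leaf 0) (.leaf 0)) (.node (.leaf 0) (.leaf 0))) (.node (.node (.leaf 0) (.leaf 0)) (.node (.leaf 0) (.leaf 0))))))))) (.node (.node (.node (.node (.node (.node (.node (.node (.leaf 0) (.leaf 0)) (.node (.leaf 0) (.leaf 0))) (.node (.node (.leaf 0) (.leaf 0)) (.node (.leaf 0) (.leaf 0)))) (.node (.node (.node (.leaf 0) (.leaf 0)) (.node (.leaf 0) (.leaf 0))) (.node (.node (.leaf 0) (.leaf 0)) (.node (.leaf 0) (.leaf 0))))) (.node (.node (.node (.node (.leaf 0) (.leaf 0)) (.node (.leaf 0) (.leaf 0))) (.node (.node (.leaf 0) (.leaf 0)) (.node (.leaf 0) (.leaf 0)))) (.node (.node (.node (.leaf 0) (.leaf 0)) (.node (.leaf 0) (.leaf 0))) (.node (.node (.leaf 0) (.leaf 0)) (.node (.leaf 0) (.leaf 0)))))) (.node (.node (.node (.node (.node (.leaf 0) (.leaf 0)) (.node (.leaf 0) (.leaf 0))) (.node (.node (.leaf 0) (.leaf 0)) (.node (.leaf 0) (.leaf 0)))) (.node (.node (.node (.leaf 0) (.leaf 0)) (.node (.leaf 0) (.leaf 0))) (.node (.node (.leaf 0) (.leaf 0)) (.node (.leaf 0) (.leaf 0))))) (.node (.node (.node (.node (.leaf 0) (.leaf 0)) (.node (.leaf 0) (.leaf 0))) (.node (.node (.leaf 0) (.leaf 0)) (.node (.leaf 0) (.leaf 0)))) (.node (.node (.node (.leaf 0) (.leaf 0)) (.node (.leaf 0) (.leaf 0))) (.node (.node (.leaf 0) (.leaf 0)) (.node (.leaf 0) (.leaf 0))))))) (.node (.node (.node (.node (.node (.node (.leaf 0) (.leaf 0)) (.node (.leaf 0) (.leaf 0))) (.node (.node (.leaf 0) (.leaf 0)) (.node (.leaf 0) (.leaf 0)))) (.node (.node (.node (.leaf 0) (.leaf 0)) (.node (.leaf 0) (.leaf 0))) (.node (.node (.leaf 0) (.leaf 0)) (.node (.leaf 0) (.leaf 0))))) (.node (.node (.node (.node (.leaf 0) (.leaf 0)) (.node (.leaf 0) (.leaf 0))) (.node (.node (.leaf 0) (.leaf 0)) (.node (.leaf 0) (.leaf 0)))) (.node (.node (.node (.leaf 0) (.leaf 0)) (.node (.leaf 0) (.leaf 0))) (.node (.node (.leaf 0) (.leaf 0)) (.node (.leaf 0) (.leaf 0)))))) (.node (.node (.node (.node (.node (.leaf 0) (.leaf 0)) (.node (.leaf 0) (.leaf 0))) (.node (.node (.leaf 0) (.leaf 0)) (.node (.leaf 0) (.leaf 0)))) (.node (.node (.node (.leaf 0) (.leaf 0)) (.node (.leaf 0) (.leaf 0))) (.node (.node (.leaf 0) (.leaf 0)) (.node (.leaf 0) (.leaf 0))))) (.node (.node (.node (.node (.leaf 0) (.leaf 0)) (.node (.leaf 0) (.leaf 0))) (.node (.node (.leaf 0) (.leaf 0)) (.node (.leaf 0) (.leaf 0)))) (.node (.node (.node (.leaf 0) (.leaf 0)) (.node (.leaf 0) (.leaf 0))) (.node (.node (.leaf 0) (.leaf 0)) (.node (.leaf 0) (.leaf 0)))))))) (.node (.node (.node (.node (.node (.node (.node (.leaf 0) (.leaf 0)) (.node (.leaf 0) (.leaf 0))) (.node (.node (.leaf 0) (.leaf 0)) (.node (.leaf 0) (.leaf 0)))) (.node (.node (.node (.leaf 0) (.leaf 0)) (.node (.leaf 0) (.leaf 0))) (.node (.node (.leaf 0) (.leaf 0)) (.node (.leaf 0) (.leaf 0))))) (.node (.node (.node (.node (.leaf 0) (.leaf 0)) (.node (.leaf 0) (.leaf 0))) (.node (.node (.leaf 0) (.leaf 0)) (.node (.leaf 0) (.leaf 0)))) (.node (.node (.node (.leaf 0) (.leaf 0)) (.node (.leaf 0) (.leaf 0))) (.node (.node (.leaf 0) (.leaf 0)) (.node (.leaf 0) (.leaf 0)))))) (.node (.node (.node (.node (.node (.leaf 0) (.leaf 0)) (.node (.leaf 0) (.leaf 0))) (.node (.node (.leaf 0) (.leaf 0)) (.node (.leaf 0) (.leaf 0)))) (.node (.node (.node (.leaf 0) (.leaf 0)) (.node (.leaf 0) (.leaf 0))) (.node (.node (.leaf 0) (.leaf 0)) (.node (.leaf 0) (.leaf 0))))) (.node (.node (.node (.node (.leaf 0) (.leaf 0)) (.node (.leaf 0) (.leaf 0))) (.node (.node (.leaf 0) (.leaf 0)) (.node (.leaf 0) (.leaf 0)))) (.node (.node (.node (.leaf 0) (.leaf 0)) (.node (.leaf 0) (.leaf 0))) (.node (.node (.leaf 0) (.leaf 0)) (.node (.leaf 0) (.leaf 0))))))) (.node (.node (.node (.node (.node (.node (.leaf 0) (.leaf 0)) (.node (.leaf 0) (.leaf 0))) (.node (.node (.leaf 0) (.leaf 0)) (.node (.leaf 0) (.leaf 0)))) (.node (.node (.node (.leaf 0) (.leaf 0)) (.node (.leaf 0) (.leaf 0))) (.node (.node (.leaf 0) (.leaf 0)) (.node (.leaf 0) (.leaf 0))))) (.node (.node (.node (.node (.leaf 0) (.leaf 0)) (.node (.leaf 0) (.leaf 0))) (.node (.node (.leaf 0) (.leaf 0)) (.node (.leaf 0) (.leaf 0)))) (.node (.node (.node (.leaf 0) (.leaf 0)) (.node (.leaf 0) (.leaf 0))) (.node (.node (.leaf 0) (.leaf 0)) (.node (.leaf 0) (.leaf 0)))))) (.node (.node (.node (.node (.node (.leaf 0) (.leaf 0)) (.node (.leaf 0) (.leaf 0))) (.node (.node (.leaf 0) (.leaf 0)) (.node (.leaf 0) (.leaf 0)))) (.node (.node (.node (.leaf 0) (.leaf 0)) (.node (.leaf 0) (.leaf 0))) (.node (.node (.leaf 0) (.leaf 0)) (.node (.leaf 0) (.leaf 0))))) (.node (.node (.node (.node (.leaf 0) (.leaf 0)) (.node (.leaf 0) (.leaf 0))) (.node (.node (.leaf 0) (.leaf 0)) (.node (.leaf 0) (.leaf 0)))) (.node (.node (.node (.leaf 0) (.leaf 0)) (.node (.leaf 0) (.leaf 0))) (.node (.node (.leaf 0) (.leaf 0)) (.node (.leaf 0) (.leaf 0)))))))))) (.node (.node (.node (.node (.node (.node (.node (.node (.node (.leaf 0) (.leaf 0)) (.node (.leaf 0) (.leaf 0))) (.node (.node (.leaf 0) (.leaf 0)) (.node (.leaf 0) (.leaf 0)))) (.node (.node (.node (.leaf 0) (.leaf 0)) (.node (.leaf 0) (.leaf 0))) (.node (.node (.leaf 0) (.leaf 0)) (.node (.leaf 0) (.leaf 0))))) (.node (.node (.node (.node (.leaf 0) (.leaf 0)) (.node (.leaf 0) (.leaf 0))) (.node (.node (.leaf 0) (.leaf 0)) (.node (.leaf 0) (.leaf 0)))) (.node (.node (.node (.leaf 0) (.leaf 0)) (.node (.leaf 0) (.leaf 0))) (.node (.node (.leaf 0) (.leaf 0)) (.node (.leaf 0) (.leaf 0)))))) (.node (.node (.node (.node (.node (.leaf 0) (.leaf 0)) (.node (.leaf 0) (.leaf 0))) (.node (.node (.leaf 0) (.leaf 0)) (.node (.leaf 0) (.leaf 0)))) (.node (.node (.node (.leaf 0) (.leaf 0)) (.node (.leaf 0) (.leaf 0))) (.node (.node (.leaf 0) (.leaf 0)) (.node (.leaf 0) (.leaf 0))))) (.node (.node (.node (.node (.leaf 0) (.leaf 0)) (.node (.leaf 0) (.leaf 0))) (.node (.node (.leaf 0) (.leaf 0)) (.node (.leaf 0) (.leaf 0)))) (.node (.node (.node (.leaf 0) (.leaf 0)) (.node (.leaf 0) (.leaf 0))) (.node (.node (.leaf 0) (.leaf 0)) (.node (.leaf 0) (.leaf 0))))))) (.node (.node (.node (.node (.node (.node (.leaf 0) (.leaf 0)) (.node (.leaf 0) (.leaf 0))) (.node (.node (.leaf 0) (.leaf 0)) (.node (.leaf 0) (.leaf 0)))) (.node (.node (.node (.leaf 0) (.leaf 0)) (.node (.leaf 0) (.leaf 0))) (.node (.node (.leaf 0) (.leaf 0)) (.node (.leaf 0) (.leaf 0))))) (.node (.node (.node (.node (.leaf 0) (.leaf 0)) (.node (.leaf 0) (.leaf 0))) (.node (.node (.leaf 0) (.leaf 0)) (.node (.leaf 0) (.leaf 0)))) (.node (.node (.node (.leaf 0) (.leaf 0)) (.node (.leaf 0) (.leaf 0))) (.node (.node (.leaf 0) (.leaf 0)) (.node (.leaf 0) (.leaf 0)))))) (.node (.node (.node (.node (.node (.leaf 0) (.leaf 0)) (.node (.leaf 0) (.leaf 0))) (.node (.node (.leaf 0) (.leaf 0)) (.node (.leaf 0) (.leaf 0)))) (.node (.node (.node (.leaf 0) (.leaf 0)) (.node (.leaf 0) (.leaf 0))) (.node (.node (.leaf 0) (.leaf 0)) (.node (.leaf 0) (.leaf 0))))) (.node (.node (.node (.node (.leaf 0) (.leaf 0)) (.node (.leaf 0) (.leaf 0))) (.node (.node (.leaf 0) (.leaf 0)) (.node (.leaf 0) (.leaf 0)))) (.node (.node (.node (.leaf 0) (.leaf 0)) (.node (.leaf 0) (.leaf 0))) (.node (.node (.leaf 0) (.leaf 0)) (.node (.leaf 0) (.leaf 0)))))))) (.node (.node (.node (.node (.node (.node (.node (.leaf 0) (.leaf 0)) (.node (.leaf 0) (.leaf 0))) (.node (.node (.leaf 0) (.leaf 0)) (.node (.leaf 0) (.leaf 0)))) (.node (.node (.node (.leaf 0) (.leaf 0)) (.node (.leaf 0) (.leaf 0))) (.node (.node (.leaf 0) (.leaf 0)) (.node (.leaf 0) (.leaf 0))))) (.node (.node (.node (.node (.leaf 0) (.leaf 0)) (.node (.leaf 0) (.leaf 0))) (.node (.node (.leaf 0) (.leaf 0)) (.node (.leaf 0) (.leaf 0)))) (.node (.node (.node (.leaf 0) (.leaf 0)) (.node (.leaf 0) (.leaf 0))) (.node (.node (.leaf 0) (.leaf 0)) (.node (.leaf 0) (.leaf 0)))))) (.node (.node (.node (.node (.node (.leaf 0) (.leaf 0)) (.node (.leaf 0) (.leaf 0))) (.node (.node (.leaf 0) (.leaf 0)) (.node (.leaf 0) (.leaf 0)))) (.node (.node (.node (.leaf 0) (.leaf 0)) (.node (.leaf 0) (.leaf 0))) (.node (.node (.leaf 0) (.leaf 0)) (.node (.leaf 0) (.leaf 0))))) (.node (.node (.node (.node (.leaf 0) (.leaf 0)) (.node (.leaf 0) (.leaf 0))) (.node (.node (.leaf 0) (.leaf 0)) (.node (.leaf 0) (.leaf 0)))) (.node (.node (.node (.leaf 0) (.leaf 0)) (.node (.leaf 0) (.leaf 0))) (.node (.node (.leaf 0) (.leaf 0)) (.node (.leaf 0) (.leaf 0))))))) (.node (.node (.node (.node (.node (.node (.leaf 0) (.leaf 0)) (.node (.leaf 0) (.leaf 0))) (.node (.node (.leaf 0) (.leaf 0)) (.node (.leaf 0) (.leaf 0)))) (.node (.node (.node (.leaf 0) (.leaf 0)) (.node (.leaf 0) (.leaf 0))) (.node (.node (.leaf 0) (.leaf 0)) (.node (.leaf 0) (.leaf 0))))) (.node (.node (.node (.node (.leaf 0) (.leaf 0)) (.node (.leaf 0) (.leaf 0))) (.node (.node (.leaf 0) (.leaf 0)) (.node (.leaf 0) (.leaf 0)))) (.node (.node (.node (.leaf 0) (.leaf 0)) (.node (.leaf 0) (.leaf 0))) (.node (.node (.leaf 0) (.leaf 0)) (.node (.leaf 0) (.leaf 0)))))) (.node (.node (.node (.node (.node (.leaf 0) (.leaf 0)) (.node (.leaf 0) (.leaf 0))) (.node (.node (.leaf 0) (.leaf 0)) (.node (.leaf 0) (.leaf 0)))) (.node (.node (.node (.leaf 0) (.leaf 0)) (.node (.leaf 0) (.leaf 0))) (.node (.node (.leaf 0) (.leaf 0)) (.node (.leaf 0) (.leaf 0))))) (.node (.node (.node (.node (.leaf 0) (.leaf 0)) (.node (.leaf 0) (.leaf 0))) (.node (.node (.leaf 0) (.leaf 0)) (.node (.leaf 0) (.leaf 0)))) (.node (.node (.node (.leaf 0) (.leaf 0)) (.node (.leaf 0) (.leaf 0))) (.node (.node (.leaf 0) (.leaf 0)) (.node (.leaf 0) (.leaf 0))))))))) (.node (.node (.node (.node (.node (.node (.node (.node (.leaf 0) (.leaf 0)) (.node (.leaf 0) (.leaf 0))) (.node (.node (.leaf 0) (.leaf 0)) (.node (.leaf 0) (.leaf 0)))) (.node (.node (.node (.leaf 0) (.leaf 0)) (.node (.leaf 0) (.leaf 0))) (.node (.node (.leaf 0) (.leaf 0)) (.node (.leaf 0) (.leaf 0))))) (.node (.node (.node (.node (.leaf 0) (.leaf 0)) (.node (.leaf 0) (.leaf 0))) (.node (.node (.leaf 0) (.leaf 0)) (.node (.leaf 0) (.leaf 0)))) (.node (.node (.node (.leaf 0) (.leaf 0)) (.node (.leaf 0) (.leaf 0))) (.node (.node (.leaf 0) (.leaf 0)) (.node (.leaf 0) (.leaf 0)))))) (.node (.node (.node (.node (.node (.leaf 0) (.leaf 0)) (.node (.leaf 0) (.leaf 0))) (.node (.node (.leaf 0) (.leaf 0)) (.node (.leaf 0) (.leaf 0)))) (.node (.node (.node (.leaf 0) (.leaf 0)) (.node (.leaf 0) (.leaf 0))) (.node (.node (.leaf 0) (.leaf 0)) (.node (.leaf 0) (.leaf 0))))) (.node (.node (.node (.node (.leaf 0) (.leaf 0)) (.node (.leaf 0) (.leaf 0))) (.node (.node (.leaf 0) (.leaf 0)) (.node (.leaf 0) (.leaf 0)))) (.node (.node (.node (.leaf 0) (.leaf 0)) (.node (.leaf 0) (.leaf 0))) (.node (.node (.leaf 0) (.leaf 0)) (.node (.leaf 0) (.leaf 0))))))) (.node (.node (.node (.node (.node (.node (.leaf 0) (.leaf 0)) (.node (.leaf 0) (.leaf 0))) (.node (.node (.leaf 0) (.leaf 0)) (.node (.leaf 0) (.leaf 0)))) (.node (.node (.node (.leaf 0) (.leaf 0)) (.node (.leaf 0) (.leaf 0))) (.node (.node (.leaf 0) (.leaf 0)) (.node (.leaf 0) (.leaf 0))))) (.node (.node (.node (.node (.leaf 0) (.leaf 0)) (.node (.leaf 0) (.leaf 0))) (.node (.node (.leaf 0) (.leaf 0)) (.node (.leaf 0) (.leaf 0)))) (.node (.node (.node (.leaf 0) (.leaf 0)) (.node (.leaf 0) (.leaf 0))) (.node (.node (.leaf 0) (.leaf 0)) (.node (.leaf 0) (.leaf 0)))))) (.node (.node (.node (.node (.node (.leaf 0) (.leaf 0)) (.node (.leaf 0) (.leaf 0))) (.node (.node (.leaf 0) (.leaf 0)) (.node (.leaf 0) (.leaf 0)))) (.node (.node (.node (.leaf 0) (.leaf 0)) (.node (.leaf 0) (.leaf 0))) (.node (.node (.leaf 0) (.leaf 0)) (.node (.leaf 0) (.leaf 0))))) (.node (.node (.node (.node (.leaf 0) (.leaf 0)) (.node (.leaf 0) (.leaf 0))) (.node (.node (.leaf 0) (.leaf 0)) (.node (.leaf 0) (.leaf 0)))) (.node (.node (.node (.leaf 0) (.leaf 0)) (.node (.leaf 0) (.leaf 0))) (.node (.node (.leaf 0) (.leaf 0)) (.node (.leaf 0) (.leaf 0)))))))) (.node (.node (.node (.node (.node (.node (.node (.leaf 0) (.leaf 0)) (.node (.leaf 0) (.leaf 0))) (.node (.node (.leaf 0) (.leaf 0)) (.node (.leaf 0) (.leaf 0)))) (.node (.node (.node (.leaf 0) (.leaf 0)) (.node (.leaf 0) (.leaf 0))) (.node (.node (.leaf 0) (.leaf 0)) (.node (.leaf 0) (.leaf 0))))) (.node (.node (.node (.node (.leaf 0) (.leaf 0)) (.node (.leaf 0) (.leaf 0))) (.node (.node (.leaf 0) (.leaf 0)) (.node (.leaf 0) (.leaf 0)))) (.node (.node (.node (.leaf 0) (.leaf 0)) (.node (.leaf 0) (.leaf 0))) (.node (.node (.leaf 0) (.leaf 0)) (.node (.leaf 0) (.leaf 0)))))) (.node (.node (.node (.node (.node (.leaf 0) (.leaf 0)) (.node (.leaf 0) (.leaf 0))) (.node (.node (.leaf 0) (.leaf 0)) (.node (.leaf 0) (.leaf 0)))) (.node (.node (.node (.leaf 0) (.leaf 0)) (.node (.leaf 0) (.leaf 0))) (.node (.node (.leaf 0) (.leaf 0)) (.node (.leaf 0) (.leaf 0))))) (.node (.node (.node (.node (.leaf 0) (.leaf 0)) (.node (.leaf 0) (.leaf 0))) (.node (.node (.leaf 0) (.leaf 0)) (.node (.leaf 0) (.leaf 0)))) (.node (.node (.node (.leaf 0) (.leaf 0)) (.node (.leaf 0) (.leaf 0))) (.node (.node (.leaf 0) (.leaf 0)) (.node (.leaf 0) (.leaf 0))))))) (.node (.node (.node (.node (.node (.node (.leaf 0) (.leaf 0)) (.node (.leaf 0) (.leaf 0))) (.node (.node (.leaf 0) (.leaf 0)) (.node (.leaf 0) (.leaf 0)))) (.node (.node (.node (.leaf 0) (.leaf 0)) (.node (.leaf 0) (.leaf 0))) (.node (.node (.leaf 0) (.leaf 0)) (.node (.leaf 0) (.leaf 0))))) (.node (.node (.node (.node (.leaf 0) (.leaf 0)) (.node (.leaf 0) (.leaf 0))) (.node (.node (.leaf 0) (.leaf 0)) (.node (.leaf 0) (.leaf 0)))) (.node (.node (.node (.leaf 0) (.leaf 0)) (.node (.leaf 0) (.leaf 0))) (.node (.node (.leaf 0) (.leaf 0)) (.node (.leaf 0) (.leaf 0)))))) (.node (.node (.node (.node (.node (.leaf 0) (.leaf 0)) (.node (.leaf 0) (.leaf 0))) (.node (.node (.leaf 0) (.leaf 0)) (.node (.leaf 0) (.leaf 0)))) (.node (.node (.node (.leaf 0) (.leaf 0)) (.node (.leaf 0) (.leaf 0))) (.node (.node (.leaf 0) (.leaf 0)) (.node (.leaf 0) (.leaf 0))))) (.node (.node (.node (.node (.leaf 0) (.leaf 0)) (.node (.leaf 0) (.leaf 0))) (.node (.node (.leaf 0) (.leaf 0)) (.node (.leaf 0) (.leaf 0)))) (.node (.node (.node (.leaf 0) (.leaf 0)) (.node (.leaf 0) (.leaf 0))) (.node (.node (.leaf 0) (.leaf 0)) (.node (.leaf 0) (.leaf 0))))))))))) (.node (.node (.node (.node (.node (.node (.node (.node (.node (.node (.leaf 0) (.leaf 0)) (.node (.leaf 0) (.leaf 0))) (.node (.node (.leaf 0) (.leaf 0)) (.node (.leaf 0) (.leaf 0)))) (.node (.node (.node (.leaf 0) (.leaf 0)) (.node (.leaf 0) (.leaf 0))) (.node (.node (.leaf 0) (.leaf 0)) (.node (.leaf 0) (.leaf 0))))) (.node (.node (.node (.node (.leaf 0) (.leaf 0)) (.node (.leaf 0) (.leaf 0))) (.node (.node (.leaf 0) (.leaf 0)) (.node (.leaf 0) (.leaf 0)))) (.node (.node (.node (.leaf 0) (.leaf 0)) (.node (.leaf 0) (.leaf 0))) (.node (.node (.leaf 0) (.leaf 0)) (.node (.leaf 0) (.leaf 0)))))) (.node (.node (.node (.node (.node (.leaf 0) (.leaf 0)) (.node (.leaf 0) (.leaf 0))) (.node (.node (.leaf 0) (.leaf 0)) (.node (.leaf 0) (.leaf 0)))) (.node (.node (.node (.leaf 0) (.leaf 0)) (.node (.leaf 0) (.leaf 0))) (.node (.node (.leaf 0) (.leaf 0)) (.node (.leaf 0) (.leaf 0))))) (.node (.node (.node (.node (.leaf 0) (.leaf 0)) (.node (.leaf 0) (.leaf 0))) (.node (.node (.leaf 0) (.leaf 0)) (.node (.leaf 0) (.leaf 0)))) (.node (.node (.node (.leaf 0) (.leaf 0)) (.node (.leaf 0) (.leaf 0))) (.node (.node (.leaf 0) (.leaf 0)) (.node (.leaf 0) (.leaf 0))))))) (.node (.node (.node (.node (.node (.node (.leaf 0) (.leaf 0)) (.node (.leaf 0) (.leaf 0))) (.node (.node (.leaf 0) (.leaf 0)) (.node (.leaf 0) (.leaf 0)))) (.node (.node (.node (.leaf 0) (.leaf 0)) (.node (.leaf 0) (.leaf 0))) (.node (.node (.leaf 0) (.leaf 0)) (.node (.leaf 0) (.leaf 0))))) (.node (.node (.node (.node (.leaf 0) (.leaf 0)) (.node (.leaf 0) (.leaf 0))) (.node (.node (.leaf 0) (.leaf 0)) (.node (.leaf 0) (.leaf 0)))) (.node (.node (.node (.leaf 0) (.leaf 0)) (.node (.leaf 0) (.leaf 0))) (.node (.node (.leaf 0) (.leaf 0)) (.node (.leaf 0) (.leaf 0)))))) (.node (.node (.node (.node (.node (.leaf 0) (.leaf 0)) (.node (.leaf 0) (.leaf 0))) (.node (.node (.leaf 0) (.leaf 0)) (.node (.leaf 0) (.leaf 0)))) (.node (.node (.node (.leaf 0) (.leaf 0)) (.node (.leaf 0) (.leaf 0))) (.node (.node (.leaf 0) (.leaf 0)) (.node (.leaf 0) (.leaf 0))))) (.node (.node (.node (.node (.leaf 0) (.leaf 0)) (.node (.leaf 0) (.leaf 0))) (.node (.node (.leaf 0) (.leaf 0)) (.node (.leaf 0) (.leaf 0)))) (.node (.node (.node (.leaf 0) (.leaf 0)) (.node (.leaf 0) (.leaf 0))) (.node (.node (.leaf 0) (.leaf 0)) (.node (.leaf 0) (.leaf 0)))))))) (.node (.node (.node (.node (.node (.node (.node (.leaf 0) (.leaf 0)) (.node (.leaf 0) (.leaf 0))) (.node (.node (.leaf 0) (.leaf 0)) (.node (.leaf 0) (.leaf 0)))) (.node (.node (.node (.leaf 0) (.leaf 0)) (.node (.leaf 0) (.leaf 0))) (.node (.node (.leaf 0) (.leaf 0)) (.node (.leaf 0) (.leaf 0))))) (.node (.node (.node (.node (.leaf 0) (.leaf 0)) (.node (.leaf 0) (.leaf 0))) (.node (.node (.leaf 0) (.leaf 0)) (.node (.leaf 0) (.leaf 0)))) (.node (.node (.node (.leaf 0) (.leaf 0)) (.node (.leaf 0) (.leaf 0))) (.node (.node (.leaf 0) (.leaf 0)) (.node (.leaf 0) (.leaf 0)))))) (.node (.node (.node (.node (.node (.leaf 0) (.leaf 0)) (.node (.leaf 0) (.leaf 0))) (.node (.node (.leaf 0) (.leaf 0)) (.node (.leaf 0) (.leaf 0)))) (.node (.node (.node (.leaf 0) (.leaf 0)) (.node (.leaf 0) (.leaf 0))) (.node (.node (.leaf 0) (.leaf 0)) (.node (.leaf 0) (.leaf 0))))) (.node (.node (.node (.node (.leaf 0) (.leaf 0)) (.node (.leaf 0) (.leaf 0))) (.node (.node (.leaf 0) (.leaf 0)) (.node (.leaf 0) (.leaf 0)))) (.node (.node (.node (.leaf 0) (.leaf 0)) (.node (.leaf 0) (.leaf 0))) (.node (.node (.leaf 0) (.leaf 0)) (.node (.leaf 0) (.leaf 0))))))) (.node (.node (.node (.node (.node (.node (.leaf 0) (.leaf 0)) (.node (.leaf 0) (.leaf 0))) (.node (.node (.leaf 0) (.leaf 0)) (.node (.leaf 0) (.leaf 0)))) (.node (.node (.node (.leaf 0) (.leaf 0)) (.node (.leaf 0) (.leaf 0))) (.node (.node (.leaf 0) (.leaf 0)) (.node (.leaf 0) (.leaf 0))))) (.node (.node (.node (.node (.leaf 0) (.leaf 0)) (.node (.leaf 0) (.leaf 0))) (.node (.node (.leaf 0) (.leaf 0)) (.node (.leaf 0) (.leaf 0)))) (.node (.node (.node (.leaf 0) (.leaf 0)) (.node (.leaf 0) (.leaf 0))) (.node (.node (.leaf 0) (.leaf 0)) (.node (.leaf 0) (.leaf 0)))))) (.node (.node (.node (.node (.node (.leaf 0) (.leaf 0)) (.node (.leaf 0) (.leaf 0))) (.node (.node (.leaf 0) (.leaf 0)) (.node (.leaf 0) (.leaf 0)))) (.node (.node (.node (.leaf 0) (.leaf 0)) (.node (.leaf 0) (.leaf 0))) (.node (.node (.leaf 0) (.leaf 0)) (.node (.leaf 0) (.leaf 0))))) (.node (.node (.node (.node (.leaf 0) (.leaf 0)) (.node (.leaf 0) (.leaf 0))) (.node (.node (.leaf 0) (.leaf 0)) (.node (.leaf 0) (.leaf 0)))) (.node (.node (.node (.leaf 0) (.leaf 0)) (.node (.leaf 0) (.leaf 0))) (.node (.node (.leaf 0) (.leaf 0)) (.node (.leaf 0) (.leaf 0))))))))) (.node (.node (.node (.node (.node (.node (.node (.node (.leaf 0) (.leaf 0)) (.node (.leaf 0) (.leaf 0))) (.node (.node (.leaf 0) (.leaf 0)) (.node (.leaf 0) (.leaf 0)))) (.node (.node (.node (.leaf 0) (.leaf 0)) (.node (.leaf 0) (.leaf 0))) (.node (.node (.leaf 0) (.leaf 0)) (.node (.leaf 0) (.leaf 0))))) (.node (.node (.node (.node (.leaf 0) (.leaf 0)) (.node (.leaf 0) (.leaf 0))) (.node (.node (.leaf 0) (.leaf 0)) (.node (.leaf 0) (.leaf 0)))) (.node (.node (.node (.leaf 0) (.leaf 0)) (.node (.leaf 0) (.leaf 0))) (.node (.node (.leaf 0) (.leaf 0)) (.node (.leaf 0) (.leaf 0)))))) (.node (.node (.node (.node (.node (.leaf 0) (.leaf 0)) (.node (.leaf 0) (.leaf 0))) (.node (.node (.leaf 0) (.leaf 0)) (.node (.leaf 0) (.leaf 0)))) (.node (.node (.node (.leaf 0) (.leaf 0)) (.node (.leaf 0) (.leaf 0))) (.node (.node (.leaf 0) (.leaf 0)) (.node (.leaf 0) (.leaf 0))))) (.node (.node (.node (.node (.leaf 0) (.leaf 0)) (.node (.leaf 0) (.leaf 0))) (.node (.node (.leaf 0) (.leaf 0)) (.node (.leaf 0) (.leaf 0)))) (.node (.node (.node (.leaf 0) (.leaf 0)) (.node (.leaf 0) (.leaf 0))) (.node (.node (.leaf 0) (.leaf 0)) (.node (.leaf 0) (.leaf 0))))))) (.node (.node (.node (.node (.node (.node (.leaf 0) (.leaf 0)) (.node (.leaf 0) (.leaf 0))) (.node (.node (.leaf 0) (.leaf 0)) (.node (.leaf 0) (.leaf 0)))) (.node (.node (.node (.leaf 0) (.leaf 0)) (.node (.leaf 0) (.leaf 0))) (.node (.node (.leaf 0) (.leaf 0)) (.node (.leaf 0) (.leaf 0))))) (.node (.node (.node (.node (.leaf 0) (.leaf 0)) (.node (.leaf 0) (.leaf 0))) (.node (.node (.leaf 0) (.leaf 0)) (.node (.leaf 0) (.leaf 0)))) (.node (.node (.node (.leaf 0) (.leaf 0)) (.node (.leaf 0) (.leaf 0))) (.node (.node (.leaf 0) (.leaf 0)) (.node (.leaf 0) (.leaf 0)))))) (.node (.node (.node (.node (.node (.leaf 0) (.leaf 0)) (.node (.leaf 0) (.leaf 0))) (.node (.node (.leaf 0) (.leaf 0)) (.node (.leaf 0) (.leaf 0)))) (.node (.node (.node (.leaf 0) (.leaf 0)) (.node (.leaf 0) (.leaf 0))) (.node (.node (.leaf 0) (.leaf 0)) (.node (.leaf 0) (.leaf 0))))) (.node (.node (.node (.node (.leaf 0) (.leaf 0)) (.node (.leaf 0) (.leaf 0))) (.node (.node (.leaf 0) (.leaf 0)) (.node (.leaf 0) (.leaf 0)))) (.node (.node (.node (.leaf 0) (.leaf 0)) (.node (.leaf 0) (.leaf 0))) (.node (.node (.leaf 0) (.leaf 0)) (.node (.leaf 0) (.leaf 0)))))))) (.node (.node (.node (.node (.node (.node (.node (.leaf 0) (.leaf 0)) (.node (.leaf 0) (.leaf 0))) (.node (.node (.leaf 0) (.leaf 0)) (.node (.leaf 0) (.leaf 0)))) (.node (.node (.node (.leaf 0) (.leaf 0)) (.node (.leaf 0) (.leaf 0))) (.node (.node (.leaf 0) (.leaf 0)) (.node (.leaf 0) (.leaf 0))))) (.node (.node (.node (.node (.leaf 0) (.leaf 0)) (.node (.leaf 0) (.leaf 0))) (.node (.node (.leaf 0) (.leaf 0)) (.node (.leaf 0) (.leaf 0)))) (.node (.node (.node (.leaf 0) (.leaf 0)) (.node (.leaf 0) (.leaf 0))) (.node (.node (.leaf 0) (.leaf 0)) (.node (.leaf 0) (.leaf 0)))))) (.node (.node (.node (.node (.node (.leaf 0) (.leaf 0)) (.node (.leaf 0) (.leaf 0))) (.node (.node (.leaf 0) (.leaf 0)) (.node (.leaf 0) (.leaf 0)))) (.node (.node (.node (.leaf 0) (.leaf 0)) (.node (.leaf 0) (.leaf 0))) (.node (.node (.leaf 0) (.leaf 0)) (.node (.leaf 0) (.leaf 0))))) (.node (.node (.node (.node (.leaf 0) (.leaf 0)) (.node (.leaf 0) (.leaf 0))) (.node (.node (.leaf 0) (.leaf 0)) (.node (.leaf 0) (.leaf 0)))) (.node (.node (.node (.leaf 0) (.leaf 0)) (.node (.leaf 0) (.leaf 0))) (.node (.node (.leaf 0) (.leaf 0)) (.node (.leaf 0) (.leaf 0))))))) (.node (.node (.node (.node (.node (.node (.leaf 0) (.leaf 0)) (.node (.leaf 0) (.leaf 0))) (.node (.node (.leaf 0) (.leaf 0)) (.node (.leaf 0) (.leaf 0)))) (.node (.node (.node (.leaf 0) (.leaf 0)) (.node (.leaf 0) (.leaf 0))) (.node (.node (.leaf 0) (.leaf 0)) (.node (.leaf 0) (.leaf 0))))) (.node (.node (.node (.node (.leaf 0) (.leaf 0)) (.node (.leaf 0) (.leaf 0))) (.node (.node (.leaf 0) (.leaf 0)) (.node (.leaf 0) (.leaf 0)))) (.node (.node (.node (.leaf 0) (.leaf 0)) (.node (.leaf 0) (.leaf 0))) (.node (.node (.leaf 0) (.leaf 0)) (.node (.leaf 0) (.leaf 0)))))) (.node (.node (.node (.node (.node (.leaf 0) (.leaf 0)) (.node (.leaf 0) (.leaf 0))) (.node (.node (.leaf 0) (.leaf 0)) (.node (.leaf 0) (.leaf 0)))) (.node (.node (.node (.leaf 0) (.leaf 0)) (.node (.leaf 0) (.leaf 0))) (.node (.node (.leaf 0) (.leaf 0)) (.node (.leaf 0) (.leaf 0))))) (.node (.node (.node (.node (.leaf 0) (.leaf 0)) (.node (.leaf 0) (.leaf 0))) (.node (.node (.leaf 0) (.leaf 0)) (.node (.leaf 0) (.leaf 0)))) (.node (.node (.node (.leaf 0) (.leaf 0)) (.node (.leaf 0) (.leaf 0))) (.node (.node (.leaf 0) (.leaf 0)) (.node (.leaf 0) (.leaf 0)))))))))) (.node (.node (.node (.node (.node (.node (.node (.node (.node (.leaf 0) (.leaf 0)) (.node (.leaf 0) (.leaf 0))) (.node (.node (.leaf 0) (.leaf 0)) (.node (.leaf 0) (.leaf 0)))) (.node (.node (.node (.leaf 0) (.leaf 0)) (.node (.leaf 0) (.leaf 0))) (.node (.node (.leaf 0) (.leaf 0)) (.node (.leaf 0) (.leaf 0))))) (.node (.node (.node (.node (.leaf 0) (.leaf 0)) (.node (.leaf 0) (.leaf 0))) (.node (.node (.leaf 0) (.leaf 0)) (.node (.leaf 0) (.leaf 0)))) (.node (.node (.node (.leaf 0) (.leaf 0)) (.node (.leaf 0) (.leaf 0))) (.node (.node (.leaf 0) (.leaf 0)) (.node (.leaf 0) (.leaf 0)))))) (.node (.node (.node (.node (.node (.leaf 0) (.leaf 0)) (.node (.leaf 0) (.leaf 0))) (.node (.node (.leaf 0) (.leaf 0)) (.node (.leaf 0) (.leaf 0)))) (.node (.node (.node (.leaf 0) (.leaf 0)) (.node (.leaf 0) (.leaf 0))) (.node (.node (.leaf 0) (.leaf 0)) (.node (.leaf 0) (.leaf 0))))) (.node (.node (.node (.node (.leaf 0) (.leaf 0)) (.node (.leaf 0) (.leaf 0))) (.node (.node (.leaf 0) (.leaf 0)) (.node (.leaf 0) (.leaf 0)))) (.node (.node (.node (.leaf 0) (.leaf 0)) (.node (.leaf 0) (.leaf 0))) (.node (.node (.leaf 0) (.leaf 0)) (.node (.leaf 0) (.leaf 0))))))) (.node (.node (.node (.node (.node (.node (.leaf 0) (.leaf 0)) (.node (.leaf 0) (.leaf 0))) (.node (.node (.leaf 0) (.leaf 0)) (.node (.leaf 0) (.leaf 0)))) (.node (.node (.node (.leaf 0) (.leaf 0)) (.node (.leaf 0) (.leaf 0))) (.node (.node (.leaf 0) (.leaf 0)) (.node (.leaf 0) (.leaf 0))))) (.node (.node (.node (.node (.leaf 0) (.leaf 0)) (.node (.leaf 0) (.leaf 0))) (.node (.node (.leaf 0) (.leaf 0)) (.node (.leaf 0) (.leaf 0)))) (.node (.node (.node (.leaf 0) (.leaf 0)) (.node (.leaf 0) (.leaf 0))) (.node (.node (.leaf 0) (.leaf 0)) (.node (.leaf 0) (.leaf 0)))))) (.node (.node (.node (.node (.node (.leaf 0) (.leaf 0)) (.node (.leaf 0) (.leaf 0))) (.node (.node (.leaf 0) (.leaf 0)) (.node (.leaf 0) (.leaf 0)))) (.node (.node (.node (.leaf 0) (.leaf 0)) (.node (.leaf 0) (.leaf 0))) (.node (.node (.leaf 0) (.leaf 0)) (.node (.leaf 0) (.leaf 0))))) (.node (.node (.node (.node (.leaf 0) (.leaf 0)) (.node (.leaf 0) (.leaf 0))) (.node (.node (.leaf 0) (.leaf 0)) (.node (.leaf 0) (.leaf 0)))) (.node (.node (.node (.leaf 0) (.leaf 0)) (.node (.leaf 0) (.leaf 0))) (.node (.node (.leaf 0) (.leaf 0)) (.node (.leaf 0) (.leaf 0)))))))) (.node (.node (.node (.node (.node (.node (.node (.leaf 0) (.leaf 0)) (.node (.leaf 0) (.leaf 0))) (.node (.node (.leaf 0) (.leaf 0)) (.node (.leaf 0) (.leaf 0)))) (.node (.node (.node (.leaf 0) (.leaf 0)) (.node (.leaf 0) (.leaf 0))) (.node (.node (.leaf 0) (.leaf 0)) (.node (.leaf 0) (.leaf 0))))) (.node (.node (.node (.node (.leaf 0) (.leaf 0)) (.node (.leaf 0) (.leaf 0))) (.node (.node (.leaf 0) (.leaf 0)) (.node (.leaf 0) (.leaf 0)))) (.node (.node (.node (.leaf 0) (.leaf 0)) (.node (.leaf 0) (.leaf 0))) (.node (.node (.leaf 0) (.leaf 0)) (.node (.leaf 0) (.leaf 0)))))) (.node (.node (.node (.node (.node (.leaf 0) (.leaf 0)) (.node (.leaf 0) (.leaf 0))) (.node (.node (.leaf 0) (.leaf 0)) (.node (.leaf 0) (.leaf 0)))) (.node (.node (.node (.leaf 0) (.leaf 0)) (.node (.leaf 0) (.leaf 0))) (.node (.node (.leaf 0) (.leaf 0)) (.node (.leaf 0) (.leaf 0))))) (.node (.node (.node (.node (.leaf 0) (.leaf 0)) (.node (.leaf 0) (.leaf 0))) (.node (.node (.leaf 0) (.leaf 0)) (.node (.leaf 0) (.leaf 0)))) (.node (.node (.node (.leaf 0) (.leaf 0)) (.node (.leaf 0) (.leaf 0))) (.node (.node (.leaf 0) (.leaf 0)) (.node (.leaf 0) (.leaf 0))))))) (.node (.node (.node (.node (.node (.node (.leaf 0) (.leaf 0)) (.node (.leaf 0) (.leaf 0))) (.node (.node (.leaf 0) (.leaf 0)) (.node (.leaf 0) (.leaf 0)))) (.node (.node (.node (.leaf 0) (.leaf 0)) (.node (.leaf 0) (.leaf 0))) (.node (.node (.leaf 0) (.leaf 0)) (.node (.leaf 0) (.leaf 0))))) (.node (.node (.node (.node (.leaf 0) (.leaf 0)) (.node (.leaf 0) (.leaf 0))) (.node (.node (.leaf 0) (.leaf 0)) (.node (.leaf 0) (.leaf 0)))) (.node (.node (.node (.leaf 0) (.leaf 0)) (.node (.leaf 0) (.leaf 0))) (.node (.node (.leaf 0) (.leaf 0)) (.node (.leaf 0) (.leaf 0)))))) (.node (.node (.node (.node (.node (.leaf 0) (.leaf 0)) (.node (.leaf 0) (.leaf 0))) (.node (.node (.leaf 0) (.leaf 0)) (.node (.leaf 0) (.leaf 0)))) (.node (.node (.node (.leaf 0) (.leaf 0)) (.node (.leaf 0) (.leaf 0))) (.node (.node (.leaf 0) (.leaf 0)) (.node (.leaf 0) (.leaf 0))))) (.node (.node (.node (.node (.leaf 0) (.leaf 0)) (.node (.leaf 0) (.leaf 0))) (.node (.node (.leaf 0) (.leaf 0)) (.node (.leaf 0) (.leaf 0)))) (.node (.node (.node (.leaf 0) (.leaf 0)) (.node (.leaf 0) (.leaf 0))) (.node (.node (.leaf 0) (.leaf 0)) (.node (.leaf 0) (.leaf 0))))))))) (.node (.node (.node (.node (.node (.node (.node (.node (.leaf 0) (.leaf 0)) (.node (.leaf 0) (.leaf 0))) (.node (.node (.leaf 0) (.leaf 0)) (.node (.leaf 0) (.leaf 0)))) (.node (.node (.node (.leaf 0) (.leaf 0)) (.node (.leaf 0) (.leaf 0))) (.node (.node (.leaf 0) (.leaf 0)) (.node (.leaf 0) (.leaf 0))))) (.node (.node (.node (.node (.leaf 0) (.leaf 0)) (.node (.leaf 0) (.leaf 0))) (.node (.node (.leaf 0) (.leaf 0)) (.node (.leaf 0) (.leaf 0)))) (.node (.node (.node (.leaf 0) (.leaf 0)) (.node (.leaf 0) (.leaf 0))) (.node (.node (.leaf 0) (.leaf 0)) (.node (.leaf 0) (.leaf 0)))))) (.node (.node (.node (.node (.node (.leaf 0) (.leaf 0)) (.node (.leaf 0) (.leaf 0))) (.node (.node (.leaf 0) (.leaf 0)) (.node (.leaf 0) (.leaf 0)))) (.node (.node (.node (.leaf 0) (.leaf 0)) (.node (.leaf 0) (.leaf 0))) (.node (.node (.leaf 0) (.leaf 0)) (.node (.leaf 0) (.leaf 0))))) (.node (.node (.node (.node (.leaf 0) (.leaf 0)) (.node (.leaf 0) (.leaf 0))) (.node (.node (.leaf 0) (.leaf 0)) (.node (.leaf 0) (.leaf 0)))) (.node (.node (.node (.leaf 0) (.leaf 0)) (.node (.leaf 0) (.leaf 0))) (.node (.node (.leaf 0) (.leaf 0)) (.node (.leaf 0) (.leaf 0))))))) (.node (.node (.node (.node (.node (.node (.leaf 0) (.leaf 0)) (.node (.leaf 0) (.leaf 0))) (.node (.node (.leaf 0) (.leaf 0)) (.node (.leaf 0) (.leaf 0)))) (.node (.node (.node (.leaf 0) (.leaf 0)) (.node (.leaf 0) (.leaf 0))) (.node (.node (.leaf 0) (.leaf 0)) (.node (.leaf 0) (.leaf 0))))) (.node (.node (.node (.node (.leaf 0) (.leaf 0)) (.node (.leaf 0) (.leaf 0))) (.node (.node (.leaf 0) (.leaf 0)) (.node (.leaf 0) (.leaf 0)))) (.node (.node (.node (.leaf 0) (.leaf 0)) (.node (.leaf 0) (.leaf 0))) (.node (.node (.leaf 0) (.leaf 0)) (.node (.leaf 0) (.leaf 0)))))) (.node (.node (.node (.node (.node (.leaf 0) (.leaf 0)) (.node (.leaf 0) (.leaf 0))) (.node (.node (.leaf 0) (.leaf 0)) (.node (.leaf 0) (.leaf 0)))) (.node (.node (.node (.leaf 0) (.leaf 0)) (.node (.leaf 0) (.leaf 0))) (.node (.node (.leaf 0) (.leaf 0)) (.node (.leaf 0) (.leaf 0))))) (.node (.node (.node (.node (.leaf 0) (.leaf 0)) (.node (.leaf 0) (.leaf 0))) (.node (.node (.leaf 0) (.leaf 0)) (.node (.leaf 0) (.leaf 0)))) (.node (.node (.node (.leaf 0) (.leaf 0)) (.node (.leaf 0) (.leaf 0))) (.node (.node (.leaf 0) (.leaf 0)) (.node (.leaf 0) (.leaf 0)))))))) (.node (.node (.node (.node (.node (.node (.node (.leaf 0) (.leaf 0)) (.node (.leaf 0) (.leaf 0))) (.node (.node (.leaf 0) (.leaf 0)) (.node (.leaf 0) (.leaf 0)))) (.node (.node (.node (.leaf 0) (.leaf 0)) (.node (.leaf 0) (.leaf 0))) (.node (.node (.leaf 0) (.leaf 0)) (.node (.leaf 0) (.leaf 0))))) (.node (.node (.node (.node (.leaf 0) (.leaf 0)) (.node (.leaf 0) (.leaf 0))) (.node (.node (.leaf 0) (.leaf 0)) (.node (.leaf 0) (.leaf 0)))) (.node (.node (.node (.leaf 0) (.leaf 0)) (.node (.leaf 0) (.leaf 0))) (.node (.node (.leaf 0) (.leaf 0)) (.node (.leaf 0) (.leaf 0)))))) (.node (.node (.node (.node (.node (.leaf 0) (.leaf 0)) (.node (.leaf 0) (.leaf 0))) (.node (.node (.leaf 0) (.leaf 0)) (.node (.leaf 0) (.leaf 0)))) (.node (.node (.node (.leaf 0) (.leaf 0)) (.node (.leaf 0) (.leaf 0))) (.node (.node (.leaf 0) (.leaf 0)) (.node (.leaf 0) (.leaf 0))))) (.node (.node (.node (.node (.leaf 0) (.leaf 0)) (.node (.leaf 0) (.leaf 0))) (.node (.node (.leaf 0) (.leaf 0)) (.node (.leaf 0) (.leaf 0)))) (.node (.node (.node (.leaf 0) (.leaf 0)) (.node (.leaf 0) (.leaf 0))) (.node (.node (.leaf 0) (.leaf 0)) (.node (.leaf 0) (.leaf 0))))))) (.node (.node (.node (.node (.node (.node (.leaf 0) (.leaf 0)) (.node (.leaf 0) (.leaf 0))) (.node (.node (.leaf 0) (.leaf 0)) (.node (.leaf 0) (.leaf 0)))) (.node (.node (.node (.leaf 0) (.leaf 0)) (.node (.leaf 0) (.leaf 0))) (.node (.node (.leaf 0) (.leaf 0)) (.node (.leaf 0) (.leaf 0))))) (.node (.node (.node (.node (.leaf 0) (.leaf 0)) (.node (.leaf 0) (.leaf 0))) (.node (.node (.leaf 0) (.leaf 0)) (.node (.leaf 0) (.leaf 0)))) (.node (.node (.node (.leaf 0) (.leaf 0)) (.node (.leaf 0) (.leaf 0))) (.node (.node (.leaf 0) (.leaf 0)) (.node (.leaf 0) (.leaf 0)))))) (.node (.node (.node (.node (.node (.leaf 0) (.leaf 0)) (.node (.leaf 0) (.leaf 0))) (.node (.node (.leaf 0) (.leaf 0)) (.node (.leaf 0) (.leaf 0)))) (.node (.node (.node (.leaf 0) (.leaf 0)) (.node (.leaf 0) (.leaf 0))) (.node (.node (.leaf 0) (.leaf 0)) (.node (.leaf 0) (.leaf 0))))) (.node (.node (.node (.node (.leaf 0) (.leaf 0)) (.node (.leaf 0) (.leaf 0))) (.node (.node (.leaf 0) (.leaf 0)) (.node (.leaf 0) (.leaf 0)))) (.node (.node (.node (.leaf 0) (.leaf 0)) (.node (.leaf 0) (.leaf 0))) (.node (.node (.leaf 0) (.leaf 0)) (.node (.leaf 0) (.leaf 0))))))))))))) (.node (.node (.node (.node (.node (.node (.node (.node (.node (.node (.node (.node (.leaf 0) (.leaf 0)) (.node (.leaf 0) (.leaf 0))) (.node (.node (.leaf 0) (.leaf 0)) (.node (.leaf 0) (.leaf 0)))) (.node (.node (.node (.leaf 0) (.leaf 0)) (.node (.leaf 999) (.leaf 15))) (.node (.node (.leaf 0) (.leaf 0)) (.node (.leaf 56) (.leaf 375))))) (.node (.node (.node (.node (.leaf 0) (.leaf 8)) (.node (.leaf 0) (.leaf 1225))) (.node (.node (.leaf 0) (.leaf 817)) (.node (.leaf 0) (.leaf 23)))) (.node (.node (.node (.leaf 0) (.leaf 1007)) (.node (.leaf 32) (.leaf 0))) (.node (.node (.leaf 0) (.leaf 128)) (.node (.leaf 438) (.leaf 0)))))) (.node (.node (.node (.node (.node (.leaf 0) (.leaf 0)) (.node (.leaf 0) (.leaf 0))) (.node (.node (.leaf 0) (.leaf 0)) (.node (.leaf 0) (.leaf 0)))) (.node (.node (.node (.leaf 0) (.leaf 0)) (.node (.leaf 77) (.leaf 280))) (.node (.node (.leaf 0) (.leaf 0)) (.node (.leaf 206) (.leaf 577))))) (.node (.node (.node (.node (.leaf 0) (.leaf 208)) (.node (.leaf 0) (.leaf 373))) (.node (.node (.leaf 0) (.leaf 283)) (.node (.leaf 0) (.leaf 93)))) (.node (.node (.node (.leaf 0) (.leaf 173)) (.node (.leaf 570) (.leaf 0))) (.node (.node (.leaf 0) (.leaf 40)) (.node (.leaf 130) (.leaf 0))))))) (.node (.node (.node (.node (.node (.node (.leaf 0) (.leaf 0)) (.node (.leaf 0) (.leaf 0))) (.node (.node (.leaf 0) (.leaf 0)) (.node (.leaf 0) (.leaf 0)))) (.node (.node (.node (.leaf 0) (.leaf 0)) (.node (.leaf 1079) (.leaf 763))) (.node (.node (.leaf 0) (.leaf 0)) (.node (.leaf 708) (.leaf 430))))) (.node (.node (.node (.node (.leaf 0) (.leaf 495)) (.node (.leaf 0) (.leaf 1271))) (.node (.node (.leaf 0) (.leaf 1162)) (.node (.leaf 0) (.leaf 518)))) (.node (.node (.node (.leaf 0) (.leaf 1039)) (.node (.leaf 351) (.leaf 0))) (.node (.node (.leaf 0) (.leaf 133)) (.node (.leaf 1172) (.leaf 0)))))) (.node (.node (.node (.node (.node (.leaf 0) (.leaf 0)) (.node (.leaf 0) (.leaf 0))) (.node (.node (.leaf 0) (.leaf 0)) (.node (.leaf 0) (.leaf 0)))) (.node (.node (.node (.leaf 0) (.leaf 0)) (.node (.leaf 906) (.leaf 888))) (.node (.node (.leaf 0) (.leaf 0)) (.node (.leaf 211) (.leaf 649))))) (.node (.node (.node (.node (.leaf 0) (.leaf 272)) (.node (.leaf 0) (.leaf 378))) (.node (.node (.leaf 0) (.leaf 678)) (.node (.leaf 0) (.leaf 261)))) (.node (.node (.node (.leaf 0) (.leaf 419)) (.node (.leaf 873) (.leaf 0))) (.node (.node (.leaf 0) (.leaf 776)) (.node (.leaf 718) (.leaf 0)))))))) (.node (.node (.node (.node (.node (.node (.node (.leaf 0) (.leaf 0)) (.node (.leaf 0) (.leaf 0))) (.node (.node (.leaf 0) (.leaf 0)) (.node (.leaf 0) (.leaf 0)))) (.node (.node (.node (.leaf 0) (.leaf 0)) (.node (.leaf 1344) (.leaf 719))) (.node (.node (.leaf 0) (.leaf 0)) (.node (.leaf 588) (.leaf 1314))))) (.node (.node (.node (.node (.leaf 0) (.leaf 431)) (.node (.leaf 0) (.leaf 1467))) (.node (.node (.leaf 0) (.leaf 1212)) (.node (.leaf 0) (.leaf 807)))) (.node (.node (.node (.leaf 0) (.leaf 1418)) (.node (.leaf 273) (.leaf 0))) (.node (.node (.leaf 0) (.leaf 687)) (.node (.leaf 920) (.leaf 0)))))) (.node (.node (.node (.node (.node (.leaf 0) (.leaf 0)) (.node (.leaf 0) (.leaf 0))) (.node (.node (.leaf 0) (.leaf 0)) (.node (.leaf 0) (.leaf 0)))) (.node (.node (.node (.leaf 0) (.leaf 0)) (.node (.leaf 558) (.leaf 967))) (.node (.node (.leaf 0) (.leaf 0)) (.node (.leaf 546) (.leaf 1108))))) (.node (.node (.node (.node (.leaf 0) (.leaf 1240)) (.node (.leaf 0) (.leaf 797))) (.node (.node (.leaf 0) (.leaf 1184)) (.node (.leaf 0) (.leaf 831)))) (.node (.node (.node (.leaf 0) (.leaf 934)) (.node (.leaf 975) (.leaf 0))) (.node (.node (.leaf 0) (.leaf 951)) (.node (.leaf 1023) (.leaf 0))))))) (.node (.node (.node (.node (.node (.node (.leaf 0) (.leaf 0)) (.node (.leaf 0) (.leaf 0))) (.node (.node (.leaf 0) (.leaf 0)) (.node (.leaf 0) (.leaf 0)))) (.node (.node (.node (.leaf 0) (.leaf 0)) (.node (.leaf 1100) (.leaf 125))) (.node (.node (.leaf 0) (.leaf 0)) (.node (.leaf 350) (.leaf 514))))) (.node (.node (.node (.node (.leaf 0) (.leaf 370)) (.node (.leaf 0) (.leaf 1280))) (.node (.node (.leaf 0) (.leaf 1452)) (.node (.leaf 0) (.leaf 289)))) (.node (.node (.node (.leaf 0) (.leaf 1409)) (.node (.leaf 203) (.leaf 0))) (.node (.node (.leaf 0) (.leaf 648)) (.node (.leaf 804) (.leaf 0)))))) (.node (.node (.node (.node (.node (.leaf 0) (.leaf 0)) (.node (.leaf 0) (.leaf 0))) (.node (.node (.leaf 0) (.leaf 0)) (.node (.leaf 0) (.leaf 0)))) (.node (.node (.node (.leaf 0) (.leaf 0)) (.node (.leaf 730) (.leaf 555))) (.node (.node (.leaf 0) (.leaf 0)) (.node (.leaf 535) (.leaf 1103))))) (.node (.node (.node (.node (.leaf 0) (.leaf 1122)) (.node (.leaf 0) (.leaf 790))) (.node (.node (.leaf 0) (.leaf 1058)) (.node (.leaf 0) (.leaf 494)))) (.node (.node (.node (.leaf 0) (.leaf 762)) (.node (.leaf 1283) (.leaf 0))) (.node (.node (.leaf 0) (.leaf 446)) (.node (.leaf 772) (.leaf 0))))))))) (.node (.node (.node (.node (.node (.node (.node (.node (.leaf 0) (.leaf 0)) (.node (.leaf 0) (.leaf 0))) (.node (.node (.leaf 0) (.leaf 0)) (.node (.leaf 0) (.leaf 0)))) (.node (.node (.node (.leaf 0) (.leaf 0)) (.node (.leaf 1078) (.leaf 361))) (.node (.node (.leaf 0) (.leaf 0)) (.node (.leaf 779) (.leaf 427))))) (.node (.node (.node (.node (.leaf 0) (.leaf 193)) (.node (.leaf 0) (.leaf 1270))) (.node (.node (.leaf 0) (.leaf 1152)) (.node (.leaf 0) (.leaf 413)))) (.node (.node (.node (.leaf 0) (.leaf 1041)) (.node (.leaf 115) (.leaf 0))) (.node (.node (.leaf 0) (.leaf 343)) (.node (.leaf 735) (.leaf 0)))))) (.node (.node (.node (.node (.node (.leaf 0) (.leaf 0)) (.node (.leaf 0) (.leaf 0))) (.node (.node (.leaf 0) (.leaf 0)) (.node (.leaf 0) (.leaf 0)))) (.node (.node (.node (.leaf 0) (.leaf 0)) (.node (.leaf 254) (.leaf 454))) (.node (.node (.leaf 0) (.leaf 0)) (.node (.leaf 489) (.leaf 605))))) (.node (.node (.node (.node (.leaf 0) (.leaf 269)) (.node (.leaf 0) (.leaf 606))) (.node (.node (.leaf 0) (.leaf 299)) (.node (.leaf 0) (.leaf 550)))) (.node (.node (.node (.leaf 0) (.leaf 521)) (.node (.leaf 842) (.leaf 0))) (.node (.node (.leaf 0) (.leaf 703)) (.node (.leaf 715) (.leaf 0))))))) (.node (.node (.node (.node (.node (.node (.leaf 0) (.leaf 0)) (.node (.leaf 0) (.leaf 0))) (.node (.node (.leaf 0) (.leaf 0)) (.node (.leaf 0) (.leaf 0)))) (.node (.node (.node (.leaf 0) (.leaf 0)) (.node (.leaf 1075) (.leaf 832))) (.node (.node (.leaf 0) (.leaf 0)) (.node (.leaf 407) (.leaf 400))))) (.node (.node (.node (.node (.leaf 0) (.leaf 590)) (.node (.leaf 0) (.leaf 1268))) (.node (.node (.leaf 0) (.leaf 884)) (.node (.leaf 0) (.leaf 171)))) (.node (.node (.node (.leaf 0) (.leaf 1092)) (.node (.leaf 625) (.leaf 0))) (.node (.node (.leaf 0) (.leaf 304)) (.node (.leaf 476) (.leaf 0)))))) (.node (.node (.node (.node (.node (.leaf 0) (.leaf 0)) (.node (.leaf 0) (.leaf 0))) (.node (.node (.leaf 0) (.leaf 0)) (.node (.leaf 0) (.leaf 0)))) (.node (.node (.node (.leaf 0) (.leaf 0)) (.node (.leaf 91) (.leaf 324))) (.node (.node (.leaf 0) (.leaf 0)) (.node (.leaf 459) (.leaf 1088))))) (.node (.node (.node (.node (.leaf 0) (.leaf 237)) (.node (.leaf 0) (.leaf 666))) (.node (.node (.leaf 0) (.leaf 616)) (.node (.leaf 0) (.leaf 700)))) (.node (.node (.node (.leaf 0) (.leaf 248)) (.node (.leaf 673) (.leaf 0))) (.node (.node (.leaf 0) (.leaf 54)) (.node (.leaf 161) (.leaf 0)))))))) (.node (.node (.node (.node (.node (.node (.node (.leaf 0) (.leaf 0)) (.node (.leaf 0) (.leaf 0))) (.node (.node (.leaf 0) (.leaf 0)) (.node (.leaf 0) (.leaf 0)))) (.node (.node (.node (.leaf 0) (.leaf 0)) (.node (.leaf 1026) (.leaf 309))) (.node (.node (.leaf 0) (.leaf 0)) (.node (.leaf 140) (.leaf 738))))) (.node (.node (.node (.node (.leaf 0) (.leaf 741)) (.node (.leaf 0) (.leaf 1243))) (.node (.node (.leaf 0) (.leaf 833)) (.node (.leaf 0) (.leaf 1158)))) (.node (.node (.node (.leaf 0) (.leaf 1111)) (.node (.leaf 463) (.leaf 0))) (.node (.node (.leaf 0) (.leaf 716)) (.node (.leaf 552) (.leaf 0)))))) (.node (.node (.node (.node (.node (.leaf 0) (.leaf 0)) (.node (.leaf 0) (.leaf 0))) (.node (.node (.leaf 0) (.leaf 0)) (.node (.leaf 0) (.leaf 0)))) (.node (.node (.node (.leaf 0) (.leaf 0)) (.node (.leaf 856) (.leaf 613))) (.node (.node (.leaf 0) (.leaf 0)) (.node (.leaf 270) (.leaf 685))))) (.node (.node (.node (.node (.leaf 0) (.leaf 460)) (.node (.leaf 0) (.leaf 428))) (.node (.node (.leaf 0) (.leaf 655)) (.node (.leaf 0) (.leaf 218)))) (.node (.node (.node (.leaf 0) (.leaf 385)) (.node (.leaf 591) (.leaf 0))) (.node (.node (.leaf 0) (.leaf 626)) (.node (.leaf 305) (.leaf 0))))))) (.node (.node (.node (.node (.node (.node (.leaf 0) (.leaf 0)) (.node (.leaf 0) (.leaf 0))) (.node (.node (.leaf 0) (.leaf 0)) (.node (.leaf 0) (.leaf 0)))) (.node (.node (.node (.leaf 0) (.leaf 0)) (.node (.leaf 1272) (.leaf 1024))) (.node (.node (.leaf 0) (.leaf 0)) (.node (.leaf 369) (.leaf 791))))) (.node (.node (.node (.node (.leaf 0) (.leaf 924)) (.node (.leaf 0) (.leaf 1411))) (.node (.node (.leaf 0) (.leaf 872)) (.node (.leaf 0) (.leaf 614)))) (.node (.node (.node (.leaf 0) (.leaf 1080)) (.node (.leaf 1241) (.leaf 0))) (.node (.node (.leaf 0) (.leaf 771)) (.node (.leaf 447) (.leaf 0)))))) (.node (.node (.node (.node (.node (.leaf 0) (.leaf 0)) (.node (.leaf 0) (.leaf 0))) (.node (.node (.leaf 0) (.leaf 0)) (.node (.leaf 0) (.leaf 0)))) (.node (.node (.node (.leaf 0) (.leaf 0)) (.node (.leaf 688) (.leaf 290))) (.node (.node (.leaf 0) (.leaf 0)) (.node (.leaf 1121) (.leaf 1051))))) (.node (.node (.node (.node (.leaf 0) (.leaf 536)) (.node (.leaf 0) (.leaf 513))) (.node (.node (.leaf 0) (.leaf 349)) (.node (.leaf 0) (.leaf 124)))) (.node (.node (.node (.leaf 0) (.leaf 202)) (.node (.leaf 647) (.leaf 0))) (.node (.node (.leaf 0) (.leaf 849)) (.node (.leaf 1131) (.leaf 0)))))))))) (.node (.node (.node (.node (.node (.node (.node (.node (.node (.leaf 0) (.leaf 0)) (.node (.leaf 0) (.leaf 0))) (.node (.node (.leaf 0) (.leaf 0)) (.node (.leaf 0) (.leaf 0)))) (.node (.node (.node (.leaf 0) (.leaf 0)) (.node (.leaf 1050) (.leaf 142))) (.node (.node (.leaf 0) (.leaf 0)) (.node (.leaf 61) (.leaf 922))))) (.node (.node (.node (.node (.leaf 0) (.leaf 62)) (.node (.leaf 0) (.leaf 1266))) (.node (.node (.leaf 0) (.leaf 1451)) (.node (.leaf 0) (.leaf 25)))) (.node (.node (.node (.leaf 0) (.leaf 1055)) (.node (.leaf 308) (.leaf 0))) (.node (.node (.leaf 0) (.leaf 139)) (.node (.leaf 1274) (.leaf 0)))))) (.node (.node (.node (.node (.node (.leaf 0) (.leaf 0)) (.node (.leaf 0) (.leaf 0))) (.node (.node (.leaf 0) (.leaf 0)) (.node (.leaf 0) (.leaf 0)))) (.node (.node (.node (.leaf 0) (.leaf 0)) (.node (.leaf 624) (.leaf 303))) (.node (.node (.leaf 0) (.leaf 0)) (.node (.leaf 876) (.leaf 618))))) (.node (.node (.node (.node (.leaf 0) (.leaf 229)) (.node (.leaf 0) (.leaf 620))) (.node (.node (.leaf 0) (.leaf 306)) (.node (.leaf 0) (.leaf 479)))) (.node (.node (.node (.leaf 0) (.leaf 516)) (.node (.leaf 612) (.leaf 0))) (.node (.node (.leaf 0) (.leaf 310)) (.node (.leaf 141) (.leaf 0))))))) (.node (.node (.node (.node (.node (.node (.leaf 0) (.leaf 0)) (.node (.leaf 0) (.leaf 0))) (.node (.node (.leaf 0) (.leaf 0)) (.node (.leaf 0) (.leaf 0)))) (.node (.node (.node (.leaf 0) (.leaf 0)) (.node (.leaf 1485) (.leaf 1426))) (.node (.node (.leaf 0) (.leaf 0)) (.node (.leaf 1429) (.leaf 1493))))) (.node (.node (.node (.node (.leaf 0) (.leaf 1000)) (.node (.leaf 0) (.leaf 1480))) (.node (.node (.leaf 0) (.leaf 1440)) (.node (.leaf 0) (.leaf 403)))) (.node (.node (.node (.leaf 0) (.leaf 1106)) (.node (.leaf 48) (.leaf 0))) (.node (.node (.leaf 0) (.leaf 156)) (.node (.leaf 544) (.leaf 0)))))) (.node (.node (.node (.node (.node (.leaf 0) (.leaf 0)) (.node (.leaf 0) (.leaf 0))) (.node (.node (.leaf 0) (.leaf 0)) (.node (.leaf 0) (.leaf 0)))) (.node (.node (.node (.leaf 0) (.leaf 0)) (.node (.leaf 1434) (.leaf 1350))) (.node (.node (.leaf 0) (.leaf 0)) (.node (.leaf 1319) (.leaf 1462))))) (.node (.node (.node (.node (.leaf 0) (.leaf 974)) (.node (.leaf 0) (.leaf 608))) (.node (.node (.leaf 0) (.leaf 600)) (.node (.leaf 0) (.leaf 899)))) (.node (.node (.node (.leaf 0) (.leaf 929)) (.node (.leaf 877) (.leaf 0))) (.node (.node (.leaf 0) (.leaf 472)) (.node (.leaf 903) (.leaf 0)))))))) (.node (.node (.node (.node (.node (.node (.node (.leaf 0) (.leaf 0)) (.node (.leaf 0) (.leaf 0))) (.node (.node (.leaf 0) (.leaf 0)) (.node (.leaf 0) (.leaf 0)))) (.node (.node (.node (.leaf 0) (.leaf 0)) (.node (.leaf 1366) (.leaf 241))) (.node (.node (.leaf 0) (.leaf 0)) (.node (.leaf 668) (.leaf 787))))) (.node (.node (.node (.node (.leaf 0) (.leaf 1238)) (.node (.leaf 0) (.leaf 1529))) (.node (.node (.leaf 0) (.leaf 1463)) (.node (.leaf 0) (.leaf 1432)))) (.node (.node (.node (.leaf 0) (.leaf 1383)) (.node (.leaf 930) (.leaf 0))) (.node (.node (.leaf 0) (.leaf 609)) (.node (.leaf 1148) (.leaf 0)))))) (.node (.node (.node (.node (.node (.leaf 0) (.leaf 0)) (.node (.leaf 0) (.leaf 0))) (.node (.node (.leaf 0) (.leaf 0)) (.node (.leaf 0) (.leaf 0)))) (.node (.node (.node (.leaf 0) (.leaf 0)) (.node (.leaf 522) (.leaf 811))) (.node (.node (.leaf 0) (.leaf 0)) (.node (.leaf 826) (.leaf 1040))))) (.node (.node (.node (.node (.leaf 0) (.leaf 1321)) (.node (.leaf 0) (.leaf 1139))) (.node (.node (.leaf 0) (.leaf 1207)) (.node (.leaf 0) (.leaf 940)))) (.node (.node (.node (.leaf 0) (.leaf 417)) (.node (.leaf 1001) (.leaf 0))) (.node (.node (.leaf 0) (.leaf 501)) (.node (.leaf 1096) (.leaf 0))))))) (.node (.node (.node (.node (.node (.node (.leaf 0) (.leaf 0)) (.node (.leaf 0) (.leaf 0))) (.node (.node (.leaf 0) (.leaf 0)) (.node (.leaf 0) (.leaf 0)))) (.node (.node (.node (.leaf 0) (.leaf 0)) (.node (.leaf 1028) (.leaf 695))) (.node (.node (.leaf 0) (.leaf 0)) (.node (.leaf 301) (.leaf 729))))) (.node (.node (.node (.node (.leaf 0) (.leaf 109)) (.node (.leaf 0) (.leaf 1422))) (.node (.node (.leaf 0) (.leaf 962)) (.node (.leaf 0) (.leaf 338)))) (.node (.node (.node (.leaf 0) (.leaf 1528)) (.node (.leaf 830) (.leaf 0))) (.node (.node (.leaf 0) (.leaf 1179)) (.node (.leaf 1439) (.leaf 0)))))) (.node (.node (.node (.node (.node (.leaf 0) (.leaf 0)) (.node (.leaf 0) (.leaf 0))) (.node (.node (.leaf 0) (.leaf 0)) (.node (.leaf 0) (.leaf 0)))) (.node (.node (.node (.leaf 0) (.leaf 0)) (.node (.leaf 196) (.leaf 574))) (.node (.node (.leaf 0) (.leaf 0)) (.node (.leaf 850) (.leaf 1034))))) (.node (.node (.node (.node (.leaf 0) (.leaf 434)) (.node (.leaf 0) (.leaf 1005))) (.node (.node (.leaf 0) (.leaf 912)) (.node (.leaf 0) (.leaf 443)))) (.node (.node (.node (.leaf 0) (.leaf 721)) (.node (.leaf 1363) (.leaf 0))) (.node (.node (.leaf 0) (.leaf 528)) (.node (.leaf 1015) (.leaf 0))))))))) (.node (.node (.node (.node (.node (.node (.node (.node (.leaf 0) (.leaf 0)) (.node (.leaf 0) (.leaf 0))) (.node (.node (.leaf 0) (.leaf 0)) (.node (.leaf 0) (.leaf 0)))) (.node (.node (.node (.leaf 0) (.leaf 0)) (.node (.leaf 1340) (.leaf 964))) (.node (.node (.leaf 0) (.leaf 0)) (.node (.leaf 782) (.leaf 1202))))) (.node (.node (.node (.node (.leaf 0) (.leaf 783)) (.node (.leaf 0) (.leaf 1269))) (.node (.node (.leaf 0) (.leaf 870)) (.node (.leaf 0) (.leaf 415)))) (.node (.node (.node (.leaf 0) (.leaf 1109)) (.node (.leaf 689) (.leaf 0))) (.node (.node (.leaf 0) (.leaf 294)) (.node (.leaf 547) (.leaf 0)))))) (.node (.node (.node (.node (.node (.leaf 0) (.leaf 0)) (.node (.leaf 0) (.leaf 0))) (.node (.node (.leaf 0) (.leaf 0)) (.node (.leaf 0) (.leaf 0)))) (.node (.node (.node (.leaf 0) (.leaf 0)) (.node (.leaf 919) (.leaf 548))) (.node (.node (.leaf 0) (.leaf 0)) (.node (.leaf 267) (.leaf 684))))) (.node (.node (.node (.node (.leaf 0) (.leaf 268)) (.node (.leaf 0) (.leaf 512))) (.node (.node (.leaf 0) (.leaf 347)) (.node (.leaf 0) (.leaf 122)))) (.node (.node (.node (.leaf 0) (.leaf 792)) (.node (.leaf 966) (.leaf 0))) (.node (.node (.leaf 0) (.leaf 545)) (.node (.leaf 1107) (.leaf 0))))))) (.node (.node (.node (.node (.node (.node (.leaf 0) (.leaf 0)) (.node (.leaf 0) (.leaf 0))) (.node (.node (.leaf 0) (.leaf 0)) (.node (.leaf 0) (.leaf 0)))) (.node (.node (.node (.leaf 0) (.leaf 0)) (.node (.leaf 1508) (.leaf 941))) (.node (.node (.leaf 0) (.leaf 0)) (.node (.leaf 1182) (.leaf 1140))))) (.node (.node (.node (.node (.leaf 0) (.leaf 669)) (.node (.leaf 0) (.leaf 1336))) (.node (.node (.leaf 0) (.leaf 1223)) (.node (.leaf 0) (.leaf 242)))) (.node (.node (.node (.leaf 0) (.leaf 1388)) (.node (.leaf 88) (.leaf 0))) (.node (.node (.leaf 0) (.leaf 281)) (.node (.leaf 914) (.leaf 0)))))) (.node (.node (.node (.node (.node (.leaf 0) (.leaf 0)) (.node (.leaf 0) (.leaf 0))) (.node (.node (.leaf 0) (.leaf 0)) (.node (.leaf 0) (.leaf 0)))) (.node (.node (.node (.leaf 0) (.leaf 0)) (.node (.leaf 1154) (.leaf 852))) (.node (.node (.leaf 0) (.leaf 0)) (.node (.leaf 1261) (.leaf 1444))))) (.node (.node (.node (.node (.leaf 0) (.leaf 827)) (.node (.leaf 0) (.leaf 507))) (.node (.node (.leaf 0) (.leaf 575)) (.node (.leaf 0) (.leaf 204)))) (.node (.node (.node (.leaf 0) (.leaf 376)) (.node (.leaf 593) (.leaf 0))) (.node (.node (.leaf 0) (.leaf 356)) (.node (.leaf 138) (.leaf 0)))))))) (.node (.node (.node (.node (.node (.node (.node (.leaf 0) (.leaf 0)) (.node (.leaf 0) (.leaf 0))) (.node (.node (.leaf 0) (.leaf 0)) (.node (.leaf 0) (.leaf 0)))) (.node (.node (.node (.leaf 0) (.leaf 0)) (.node (.leaf 1098) (.leaf 39))) (.node (.node (.leaf 0) (.leaf 0)) (.node (.leaf 129) (.leaf 509))))) (.node (.node (.node (.node (.leaf 0) (.leaf 854)) (.node (.leaf 0) (.leaf 1484))) (.node (.node (.leaf 0) (.leaf 1257)) (.node (.leaf 0) (.leaf 1159)))) (.node (.node (.node (.leaf 0) (.leaf 1042)) (.node (.leaf 377) (.leaf 0))) (.node (.node (.leaf 0) (.leaf 901)) (.node (.leaf 816) (.leaf 0)))))) (.node (.node (.node (.node (.node (.leaf 0) (.leaf 0)) (.node (.leaf 0) (.leaf 0))) (.node (.node (.leaf 0) (.leaf 0)) (.node (.leaf 0) (.leaf 0)))) (.node (.node (.node (.leaf 0) (.leaf 0)) (.node (.leaf 174) (.leaf 571))) (.node (.node (.leaf 0) (.leaf 0)) (.node (.leaf 437) (.leaf 607))))) (.node (.node (.node (.node (.leaf 0) (.leaf 461)) (.node (.leaf 0) (.leaf 737))) (.node (.node (.leaf 0) (.leaf 1155)) (.node (.leaf 0) (.leaf 853)))) (.node (.node (.node (.leaf 0) (.leaf 245)) (.node (.leaf 670) (.leaf 0))) (.node (.node (.leaf 0) (.leaf 92)) (.node (.leaf 282) (.leaf 0))))))) (.node (.node (.node (.node (.node (.node (.leaf 0) (.leaf 0)) (.node (.leaf 0) (.leaf 0))) (.node (.node (.leaf 0) (.leaf 0)) (.node (.leaf 0) (.leaf 0)))) (.node (.node (.node (.leaf 0) (.leaf 0)) (.node (.leaf 1275) (.leaf 867))) (.node (.node (.leaf 0) (.leaf 0)) (.node (.leaf 502) (.leaf 805))))) (.node (.node (.node (.node (.leaf 0) (.leaf 188)) (.node (.leaf 0) (.leaf 1519))) (.node (.node (.leaf 0) (.leaf 1300)) (.node (.leaf 0) (.leaf 572)))) (.node (.node (.node (.leaf 0) (.leaf 1513)) (.node (.leaf 1322) (.leaf 0))) (.node (.node (.leaf 0) (.leaf 1253)) (.node (.leaf 1233) (.leaf 0)))))) (.node (.node (.node (.node (.node (.leaf 0) (.leaf 0)) (.node (.leaf 0) (.leaf 0))) (.node (.node (.leaf 0) (.leaf 0)) (.node (.leaf 0) (.leaf 0)))) (.node (.node (.node (.leaf 0) (.leaf 0)) (.node (.leaf 111) (.leaf 339))) (.node (.node (.leaf 0) (.leaf 0)) (.node (.leaf 432) (.leaf 1003))))) (.node (.node (.node (.node (.leaf 0) (.leaf 1027)) (.node (.leaf 0) (.leaf 727))) (.node (.node (.leaf 0) (.leaf 300)) (.node (.leaf 0) (.leaf 694)))) (.node (.node (.node (.leaf 0) (.leaf 1309)) (.node (.leaf 1260) (.leaf 0))) (.node (.node (.leaf 0) (.leaf 1117)) (.node (.leaf 1507) (.leaf 0))))))))))) (.node (.node (.node (.node (.node (.node (.node (.node (.node (.node (.leaf 0) (.leaf 0)) (.node (.leaf 0) (.leaf 0))) (.node (.node (.leaf 0) (.leaf 0)) (.node (.leaf 0) (.leaf 0)))) (.node (.node (.node (.leaf 0) (.leaf 0)) (.node (.leaf 1072) (.leaf 740))) (.node (.node (.leaf 0) (.leaf 0)) (.node (.leaf 329) (.leaf 386))))) (.node (.node (.node (.node (.leaf 0) (.leaf 387)) (.node (.leaf 0) (.leaf 1265))) (.node (.node (.leaf 0) (.leaf 863)) (.node (.leaf 0) (.leaf 742)))) (.node (.node (.node (.leaf 0) (.leaf 1087)) (.node (.leaf 179) (.leaf 0))) (.node (.node (.leaf 0) (.leaf 656)) (.node (.leaf 468) (.leaf 0)))))) (.node (.node (.node (.node (.node (.leaf 0) (.leaf 0)) (.node (.leaf 0) (.leaf 0))) (.node (.node (.leaf 0) (.leaf 0)) (.node (.leaf 0) (.leaf 0)))) (.node (.node (.node (.leaf 0) (.leaf 0)) (.node (.leaf 79) (.leaf 1089))) (.node (.node (.leaf 0) (.leaf 0)) (.node (.leaf 534) (.leaf 654))))) (.node (.node (.node (.node (.leaf 0) (.leaf 1427)) (.node (.leaf 0) (.leaf 384))) (.node (.node (.leaf 0) (.leaf 328)) (.node (.leaf 0) (.leaf 1123)))) (.node (.node (.node (.leaf 0) (.leaf 178)) (.node (.leaf 1282) (.leaf 0))) (.node (.node (.leaf 0) (.leaf 950)) (.node (.leaf 151) (.leaf 0))))))) (.node (.node (.node (.node (.node (.node (.leaf 0) (.leaf 0)) (.node (.leaf 0) (.leaf 0))) (.node (.node (.leaf 0) (.leaf 0)) (.node (.leaf 0) (.leaf 0)))) (.node (.node (.node (.leaf 0) (.leaf 0)) (.node (.leaf 1386) (.leaf 165))) (.node (.node (.leaf 0) (.leaf 0)) (.node (.leaf 1189) (.leaf 933))))) (.node (.node (.node (.node (.leaf 0) (.leaf 1178)) (.node (.leaf 0) (.leaf 1453))) (.node (.node (.leaf 0) (.leaf 1338)) (.node (.leaf 0) (.leaf 320)))) (.node (.node (.node (.leaf 0) (.leaf 1401)) (.node (.leaf 959) (.leaf 0))) (.node (.node (.leaf 0) (.leaf 1293)) (.node (.leaf 825) (.leaf 0)))))) (.node (.node (.node (.node (.node (.leaf 0) (.leaf 0)) (.node (.leaf 0) (.leaf 0))) (.node (.node (.leaf 0) (.leaf 0)) (.node (.leaf 0) (.leaf 0)))) (.node (.node (.node (.leaf 0) (.leaf 0)) (.node (.leaf 244) (.leaf 560))) (.node (.node (.leaf 0) (.leaf 0)) (.node (.leaf 529) (.leaf 662))))) (.node (.node (.node (.node (.leaf 0) (.leaf 1482)) (.node (.leaf 0) (.leaf 396))) (.node (.node (.leaf 0) (.leaf 1378)) (.node (.leaf 0) (.leaf 858)))) (.node (.node (.node (.leaf 0) (.leaf 1199)) (.node (.leaf 1236) (.leaf 0))) (.node (.node (.leaf 0) (.leaf 1216)) (.node (.leaf 1361) (.leaf 0)))))))) (.node (.node (.node (.node (.node (.node (.node (.leaf 0) (.leaf 0)) (.node (.leaf 0) (.leaf 0))) (.node (.node (.leaf 0) (.leaf 0)) (.node (.leaf 0) (.leaf 0)))) (.node (.node (.node (.leaf 0) (.leaf 0)) (.node (.leaf 1490) (.leaf 1362))) (.node (.node (.leaf 0) (.leaf 0)) (.node (.leaf 904) (.leaf 800))))) (.node (.node (.node (.node (.leaf 0) (.leaf 412)) (.node (.leaf 0) (.leaf 1487))) (.node (.node (.leaf 0) (.leaf 1443)) (.node (.leaf 0) (.leaf 778)))) (.node (.node (.node (.leaf 0) (.leaf 1391)) (.node (.leaf 1021) (.leaf 0))) (.node (.node (.leaf 0) (.leaf 582)) (.node (.leaf 965) (.leaf 0)))))) (.node (.node (.node (.node (.node (.leaf 0) (.leaf 0)) (.node (.leaf 0) (.leaf 0))) (.node (.node (.leaf 0) (.leaf 0)) (.node (.leaf 0) (.leaf 0)))) (.node (.node (.node (.leaf 0) (.leaf 0)) (.node (.leaf 1205) (.leaf 828))) (.node (.node (.leaf 0) (.leaf 0)) (.node (.leaf 809) (.leaf 1396))))) (.node (.node (.node (.node (.leaf 0) (.leaf 531)) (.node (.leaf 0) (.leaf 907))) (.node (.node (.leaf 0) (.leaf 563)) (.node (.leaf 0) (.leaf 258)))) (.node (.node (.node (.leaf 0) (.leaf 928)) (.node (.leaf 1339) (.leaf 0))) (.node (.node (.leaf 0) (.leaf 1125)) (.node (.leaf 1295) (.leaf 0))))))) (.node (.node (.node (.node (.node (.node (.leaf 0) (.leaf 0)) (.node (.leaf 0) (.leaf 0))) (.node (.node (.leaf 0) (.leaf 0)) (.node (.leaf 0) (.leaf 0)))) (.node (.node (.node (.leaf 0) (.leaf 0)) (.node (.leaf 1364) (.leaf 587))) (.node (.node (.leaf 0) (.leaf 0)) (.node (.leaf 286) (.leaf 1302))))) (.node (.node (.node (.node (.leaf 0) (.leaf 996)) (.node (.leaf 0) (.leaf 1483))) (.node (.node (.leaf 0) (.leaf 1232)) (.node (.leaf 0) (.leaf 503)))) (.node (.node (.node (.leaf 0) (.leaf 1371)) (.node (.leaf 195) (.leaf 0))) (.node (.node (.leaf 0) (.leaf 615)) (.node (.leaf 1301) (.leaf 0)))))) (.node (.node (.node (.node (.node (.leaf 0) (.leaf 0)) (.node (.leaf 0) (.leaf 0))) (.node (.node (.leaf 0) (.leaf 0)) (.node (.leaf 0) (.leaf 0)))) (.node (.node (.node (.leaf 0) (.leaf 0)) (.node (.leaf 755) (.leaf 1230))) (.node (.node (.leaf 0) (.leaf 0)) (.node (.leaf 820) (.leaf 1399))))) (.node (.node (.node (.node (.leaf 0) (.leaf 444)) (.node (.leaf 0) (.leaf 911))) (.node (.node (.leaf 0) (.leaf 1052)) (.node (.leaf 0) (.leaf 433)))) (.node (.node (.node (.leaf 0) (.leaf 505)) (.node (.leaf 982) (.leaf 0))) (.node (.node (.leaf 0) (.leaf 118)) (.node (.leaf 276) (.leaf 0))))))))) (.node (.node (.node (.node (.node (.node (.node (.node (.leaf 0) (.leaf 0)) (.node (.leaf 0) (.leaf 0))) (.node (.node (.leaf 0) (.leaf 0)) (.node (.leaf 0) (.leaf 0)))) (.node (.node (.node (.leaf 0) (.leaf 0)) (.node (.leaf 1077) (.leaf 1177))) (.node (.node (.leaf 0) (.leaf 0)) (.node (.leaf 367) (.leaf 935))))) (.node (.node (.node (.node (.leaf 0) (.leaf 936)) (.node (.leaf 0) (.leaf 1454))) (.node (.node (.leaf 0) (.leaf 1176)) (.node (.leaf 0) (.leaf 1135)))) (.node (.node (.node (.leaf 0) (.leaf 1407)) (.node (.leaf 526) (.leaf 0))) (.node (.node (.leaf 0) (.leaf 713)) (.node (.leaf 761) (.leaf 0)))))) (.node (.node (.node (.node (.node (.leaf 0) (.leaf 0)) (.node (.leaf 0) (.leaf 0))) (.node (.node (.leaf 0) (.leaf 0)) (.node (.leaf 0) (.leaf 0)))) (.node (.node (.node (.leaf 0) (.leaf 0)) (.node (.leaf 256) (.leaf 598))) (.node (.node (.leaf 0) (.leaf 0)) (.node (.leaf 955) (.leaf 1082))))) (.node (.node (.node (.node (.leaf 0) (.leaf 956)) (.node (.leaf 0) (.leaf 732))) (.node (.node (.leaf 0) (.leaf 1037)) (.node (.leaf 0) (.leaf 539)))) (.node (.node (.node (.leaf 0) (.leaf 525)) (.node (.leaf 645) (.leaf 0))) (.node (.node (.leaf 0) (.leaf 1334)) (.node (.leaf 714) (.leaf 0))))))) (.node (.node (.node (.node (.node (.node (.leaf 0) (.leaf 0)) (.node (.leaf 0) (.leaf 0))) (.node (.node (.leaf 0) (.leaf 0)) (.node (.leaf 0) (.leaf 0)))) (.node (.node (.node (.leaf 0) (.leaf 0)) (.node (.leaf 1351) (.leaf 51))) (.node (.node (.leaf 0) (.leaf 0)) (.node (.leaf 126) (.leaf 383))))) (.node (.node (.node (.node (.leaf 0) (.leaf 905)) (.node (.leaf 0) (.leaf 1264))) (.node (.node (.leaf 0) (.leaf 1256)) (.node (.leaf 0) (.leaf 568)))) (.node (.node (.node (.leaf 0) (.leaf 1520)) (.node (.leaf 445) (.leaf 0))) (.node (.node (.leaf 0) (.leaf 1059)) (.node (.leaf 1146) (.leaf 0)))))) (.node (.node (.node (.node (.node (.leaf 0) (.leaf 0)) (.node (.leaf 0) (.leaf 0))) (.node (.node (.leaf 0) (.leaf 0)) (.node (.leaf 0) (.leaf 0)))) (.node (.node (.node (.leaf 0) (.leaf 0)) (.node (.leaf 416) (.leaf 824))) (.node (.node (.leaf 0) (.leaf 0)) (.node (.leaf 972) (.leaf 1008))))) (.node (.node (.node (.node (.leaf 0) (.leaf 810)) (.node (.leaf 0) (.leaf 653))) (.node (.node (.leaf 0) (.leaf 621)) (.node (.leaf 0) (.leaf 209)))) (.node (.node (.node (.leaf 0) (.leaf 916)) (.node (.leaf 997) (.leaf 0))) (.node (.node (.leaf 0) (.leaf 846)) (.node (.leaf 583) (.leaf 0)))))))) (.node (.node (.node (.node (.node (.node (.node (.leaf 0) (.leaf 0)) (.node (.leaf 0) (.leaf 0))) (.node (.node (.leaf 0) (.leaf 0)) (.node (.leaf 0) (.leaf 0)))) (.node (.node (.node (.leaf 0) (.leaf 0)) (.node (.leaf 1395) (.leaf 210))) (.node (.node (.leaf 0) (.leaf 0)) (.node (.leaf 622) (.leaf 726))))) (.node (.node (.node (.node (.leaf 0) (.leaf 22)) (.node (.leaf 0) (.leaf 1412))) (.node (.node (.leaf 0) (.leaf 1153)) (.node (.leaf 0) (.leaf 55)))) (.node (.node (.node (.leaf 0) (.leaf 1370)) (.node (.leaf 623) (.leaf 0))) (.node (.node (.leaf 0) (.leaf 279)) (.node (.leaf 847) (.leaf 0)))))) (.node (.node (.node (.node (.node (.leaf 0) (.leaf 0)) (.node (.leaf 0) (.leaf 0))) (.node (.node (.leaf 0) (.leaf 0)) (.node (.leaf 0) (.leaf 0)))) (.node (.node (.node (.leaf 0) (.leaf 0)) (.node (.leaf 857) (.leaf 569))) (.node (.node (.leaf 0) (.leaf 0)) (.node (.leaf 457) (.leaf 1169))))) (.node (.node (.node (.node (.leaf 0) (.leaf 441)) (.node (.leaf 0) (.leaf 1009))) (.node (.node (.leaf 0) (.leaf 578)) (.node (.leaf 0) (.leaf 697)))) (.node (.node (.node (.leaf 0) (.leaf 374)) (.node (.leaf 1049) (.leaf 0))) (.node (.node (.leaf 0) (.leaf 94)) (.node (.leaf 307) (.leaf 0))))))) (.node (.node (.node (.node (.node (.node (.leaf 0) (.leaf 0)) (.node (.leaf 0) (.leaf 0))) (.node (.node (.leaf 0) (.leaf 0)) (.node (.leaf 0) (.leaf 0)))) (.node (.node (.node (.leaf 0) (.leaf 0)) (.node (.leaf 1473) (.leaf 1296))) (.node (.node (.leaf 0) (.leaf 0)) (.node (.leaf 995) (.leaf 1460))))) (.node (.node (.node (.node (.leaf 0) (.leaf 641)) (.node (.leaf 0) (.leaf 1500))) (.node (.node (.leaf 0) (.leaf 1438)) (.node (.leaf 0) (.leaf 765)))) (.node (.node (.node (.leaf 0) (.leaf 1093)) (.node (.leaf 110) (.leaf 0))) (.node (.node (.leaf 0) (.leaf 274)) (.node (.leaf 736) (.leaf 0)))))) (.node (.node (.node (.node (.node (.leaf 0) (.leaf 0)) (.node (.leaf 0) (.leaf 0))) (.node (.node (.leaf 0) (.leaf 0)) (.node (.leaf 0) (.leaf 0)))) (.node (.node (.node (.leaf 0) (.leaf 0)) (.node (.leaf 1085) (.leaf 1013))) (.node (.node (.leaf 0) (.leaf 0)) (.node (.leaf 442) (.leaf 1057))))) (.node (.node (.node (.node (.leaf 0) (.leaf 556)) (.node (.leaf 0) (.leaf 1043))) (.node (.node (.leaf 0) (.leaf 756)) (.node (.leaf 0) (.leaf 1255)))) (.node (.node (.node (.leaf 0) (.leaf 784)) (.node (.leaf 1231) (.leaf 0))) (.node (.node (.leaf 0) (.leaf 358)) (.node (.leaf 1292) (.leaf 0)))))))))) (.node (.node (.node (.node (.node (.node (.node (.node (.node (.leaf 0) (.leaf 0)) (.node (.leaf 0) (.leaf 0))) (.node (.node (.leaf 0) (.leaf 0)) (.node (.leaf 0) (.leaf 0)))) (.node (.node (.node (.leaf 0) (.leaf 0)) (.node (.leaf 1070) (.leaf 99))) (.node (.node (.leaf 0) (.leaf 0)) (.node (.leaf 774) (.leaf 393))))) (.node (.node (.node (.node (.leaf 0) (.leaf 462)) (.node (.leaf 0) (.leaf 1258))) (.node (.node (.leaf 0) (.leaf 848)) (.node (.leaf 0) (.leaf 855)))) (.node (.node (.node (.leaf 0) (.leaf 1090)) (.node (.leaf 220) (.leaf 0))) (.node (.node (.leaf 0) (.leaf 636)) (.node (.leaf 458) (.leaf 0)))))) (.node (.node (.node (.node (.node (.leaf 0) (.leaf 0)) (.node (.leaf 0) (.leaf 0))) (.node (.node (.leaf 0) (.leaf 0)) (.node (.leaf 0) (.leaf 0)))) (.node (.node (.node (.leaf 0) (.leaf 0)) (.node (.leaf 464) (.leaf 315))) (.node (.node (.leaf 0) (.leaf 0)) (.node (.leaf 217) (.leaf 1102))))) (.node (.node (.node (.node (.leaf 0) (.leaf 219)) (.node (.leaf 0) (.leaf 1165))) (.node (.node (.leaf 0) (.leaf 1448)) (.node (.leaf 0) (.leaf 98)))) (.node (.node (.node (.leaf 0) (.leaf 751)) (.node (.leaf 635) (.leaf 0))) (.node (.node (.leaf 0) (.leaf 42)) (.node (.leaf 1186) (.leaf 0))))))) (.node (.node (.node (.node (.node (.node (.leaf 0) (.leaf 0)) (.node (.leaf 0) (.leaf 0))) (.node (.node (.leaf 0) (.leaf 0)) (.node (.leaf 0) (.leaf 0)))) (.node (.node (.node (.leaf 0) (.leaf 0)) (.node (.leaf 1285) (.leaf 1226))) (.node (.node (.leaf 0) (.leaf 0)) (.node (.leaf 628) (.leaf 1211))))) (.node (.node (.node (.node (.leaf 0) (.leaf 85)) (.node (.leaf 0) (.leaf 1526))) (.node (.node (.leaf 0) (.leaf 1166)) (.node (.leaf 0) (.leaf 983)))) (.node (.node (.node (.leaf 0) (.leaf 1372)) (.node (.leaf 910) (.leaf 0))) (.node (.node (.leaf 0) (.leaf 844)) (.node (.leaf 1323) (.leaf 0)))))) (.node (.node (.node (.node (.node (.leaf 0) (.leaf 0)) (.node (.leaf 0) (.leaf 0))) (.node (.node (.leaf 0) (.leaf 0)) (.node (.leaf 0) (.leaf 0)))) (.node (.node (.node (.leaf 0) (.leaf 0)) (.node (.leaf 746) (.leaf 581))) (.node (.node (.leaf 0) (.leaf 0)) (.node (.leaf 232) (.leaf 1016))))) (.node (.node (.node (.node (.leaf 0) (.leaf 939)) (.node (.leaf 0) (.leaf 1355))) (.node (.node (.leaf 0) (.leaf 795)) (.node (.leaf 0) (.leaf 947)))) (.node (.node (.node (.leaf 0) (.leaf 926)) (.node (.leaf 1353) (.leaf 0))) (.node (.node (.leaf 0) (.leaf 696)) (.node (.leaf 1393) (.leaf 0)))))))) (.node (.node (.node (.node (.node (.node (.node (.leaf 0) (.leaf 0)) (.node (.leaf 0) (.leaf 0))) (.node (.node (.leaf 0) (.leaf 0)) (.node (.leaf 0) (.leaf 0)))) (.node (.node (.node (.leaf 0) (.leaf 0)) (.node (.leaf 1408) (.leaf 1337))) (.node (.node (.leaf 0) (.leaf 0)) (.node (.leaf 706) (.leaf 1315))))) (.node (.node (.node (.node (.leaf 0) (.leaf 1191)) (.node (.leaf 0) (.leaf 1471))) (.node (.node (.leaf 0) (.leaf 1227)) (.node (.leaf 0) (.leaf 780)))) (.node (.node (.node (.leaf 0) (.leaf 1423)) (.node (.leaf 253) (.leaf 0))) (.node (.node (.leaf 0) (.leaf 561)) (.node (.leaf 1141) (.leaf 0)))))) (.node (.node (.node (.node (.node (.leaf 0) (.leaf 0)) (.node (.leaf 0) (.leaf 0))) (.node (.node (.leaf 0) (.leaf 0)) (.node (.leaf 0) (.leaf 0)))) (.node (.node (.node (.leaf 0) (.leaf 0)) (.node (.leaf 520) (.leaf 985))) (.node (.node (.leaf 0) (.leaf 0)) (.node (.leaf 845) (.leaf 1367))))) (.node (.node (.node (.node (.leaf 0) (.leaf 549)) (.node (.leaf 0) (.leaf 1018))) (.node (.node (.leaf 0) (.leaf 584)) (.node (.leaf 0) (.leaf 880)))) (.node (.node (.node (.leaf 0) (.leaf 1193)) (.node (.leaf 1251) (.leaf 0))) (.node (.node (.leaf 0) (.leaf 963)) (.node (.leaf 1128) (.leaf 0))))))) (.node (.node (.node (.node (.node (.node (.leaf 0) (.leaf 0)) (.node (.leaf 0) (.leaf 0))) (.node (.node (.leaf 0) (.leaf 0)) (.node (.leaf 0) (.leaf 0)))) (.node (.node (.node (.leaf 0) (.leaf 0)) (.node (.leaf 1394) (.leaf 117))) (.node (.node (.leaf 0) (.leaf 0)) (.node (.leaf 275) (.leaf 722))))) (.node (.node (.node (.node (.leaf 0) (.leaf 1046)) (.node (.leaf 0) (.leaf 1245))) (.node (.node (.leaf 0) (.leaf 1469)) (.node (.leaf 0) (.leaf 363)))) (.node (.node (.node (.leaf 0) (.leaf 1400)) (.node (.leaf 897) (.leaf 0))) (.node (.node (.leaf 0) (.leaf 573)) (.node (.leaf 821) (.leaf 0)))))) (.node (.node (.node (.node (.node (.leaf 0) (.leaf 0)) (.node (.leaf 0) (.leaf 0))) (.node (.node (.leaf 0) (.leaf 0)) (.node (.leaf 0) (.leaf 0)))) (.node (.node (.node (.leaf 0) (.leaf 0)) (.node (.leaf 785) (.leaf 1180))) (.node (.node (.leaf 0) (.leaf 0)) (.node (.leaf 1329) (.leaf 1204))))) (.node (.node (.node (.node (.leaf 0) (.leaf 1235)) (.node (.leaf 0) (.leaf 1011))) (.node (.node (.leaf 0) (.leaf 1004)) (.node (.leaf 0) (.leaf 456)))) (.node (.node (.node (.leaf 0) (.leaf 728)) (.node (.leaf 1012) (.leaf 0))) (.node (.node (.leaf 0) (.leaf 484)) (.node (.leaf 287) (.leaf 0))))))))) (.node (.node (.node (.node (.node (.node (.node (.node (.leaf 0) (.leaf 0)) (.node (.leaf 0) (.leaf 0))) (.node (.node (.leaf 0) (.leaf 0)) (.node (.leaf 0) (.leaf 0)))) (.node (.node (.node (.leaf 0) (.leaf 0)) (.node (.leaf 1286) (.leaf 1066))) (.node (.node (.leaf 0) (.leaf 0)) (.node (.leaf 1132) (.leaf 426))))) (.node (.node (.node (.node (.leaf 0) (.leaf 893)) (.node (.leaf 0) (.leaf 1464))) (.node (.node (.leaf 0) (.leaf 1208)) (.node (.leaf 0) (.leaf 1183)))) (.node (.node (.node (.leaf 0) (.leaf 1406)) (.node (.leaf 1206) (.leaf 0))) (.node (.node (.leaf 0) (.leaf 770)) (.node (.leaf 799) (.leaf 0)))))) (.node (.node (.node (.node (.node (.leaf 0) (.leaf 0)) (.node (.leaf 0) (.leaf 0))) (.node (.node (.leaf 0) (.leaf 0)) (.node (.leaf 0) (.leaf 0)))) (.node (.node (.node (.leaf 0) (.leaf 0)) (.node (.leaf 796) (.leaf 493))) (.node (.node (.leaf 0) (.leaf 0)) (.node (.leaf 450) (.leaf 1161))))) (.node (.node (.node (.node (.leaf 0) (.leaf 957)) (.node (.leaf 0) (.leaf 425))) (.node (.node (.leaf 0) (.leaf 798)) (.node (.leaf 0) (.leaf 1126)))) (.node (.node (.node (.leaf 0) (.leaf 200)) (.node (.leaf 892) (.leaf 0))) (.node (.node (.leaf 0) (.leaf 705)) (.node (.leaf 1431) (.leaf 0))))))) (.node (.node (.node (.node (.node (.node (.leaf 0) (.leaf 0)) (.node (.leaf 0) (.leaf 0))) (.node (.node (.leaf 0) (.leaf 0)) (.node (.leaf 0) (.leaf 0)))) (.node (.node (.node (.leaf 0) (.leaf 0)) (.node (.leaf 1069) (.leaf 288))) (.node (.node (.leaf 0) (.leaf 0)) (.node (.leaf 131) (.leaf 1147))))) (.node (.node (.node (.node (.leaf 0) (.leaf 168)) (.node (.leaf 0) (.leaf 1522))) (.node (.node (.leaf 0) (.leaf 834)) (.node (.leaf 0) (.leaf 610)))) (.node (.node (.node (.leaf 0) (.leaf 1461)) (.node (.leaf 1194) (.leaf 0))) (.node (.node (.leaf 0) (.leaf 766)) (.node (.leaf 1157) (.leaf 0)))))) (.node (.node (.node (.node (.node (.leaf 0) (.leaf 0)) (.node (.leaf 0) (.leaf 0))) (.node (.node (.leaf 0) (.leaf 0)) (.node (.leaf 0) (.leaf 0)))) (.node (.node (.node (.leaf 0) (.leaf 0)) (.node (.leaf 499) (.leaf 822))) (.node (.node (.leaf 0) (.leaf 0)) (.node (.leaf 439) (.leaf 1056))))) (.node (.node (.node (.node (.leaf 0) (.leaf 216)) (.node (.leaf 0) (.leaf 1298))) (.node (.node (.leaf 0) (.leaf 579)) (.node (.leaf 0) (.leaf 1061)))) (.node (.node (.node (.leaf 0) (.leaf 371)) (.node (.leaf 1047) (.leaf 0))) (.node (.node (.leaf 0) (.leaf 257)) (.node (.leaf 562) (.leaf 0)))))))) (.node (.node (.node (.node (.node (.node (.node (.leaf 0) (.leaf 0)) (.node (.leaf 0) (.leaf 0))) (.node (.node (.leaf 0) (.leaf 0)) (.node (.leaf 0) (.leaf 0)))) (.node (.node (.node (.leaf 0) (.leaf 0)) (.node (.leaf 1252) (.leaf 1062))) (.node (.node (.leaf 0) (.leaf 0)) (.node (.leaf 404) (.leaf 739))))) (.node (.node (.node (.node (.leaf 0) (.leaf 132)) (.node (.leaf 0) (.leaf 1278))) (.node (.node (.leaf 0) (.leaf 881)) (.node (.leaf 0) (.leaf 57)))) (.node (.node (.node (.leaf 0) (.leaf 1398)) (.node (.leaf 76) (.leaf 0))) (.node (.node (.leaf 0) (.leaf 302)) (.node (.leaf 818) (.leaf 0)))))) (.node (.node (.node (.node (.node (.leaf 0) (.leaf 0)) (.node (.leaf 0) (.leaf 0))) (.node (.node (.leaf 0) (.leaf 0)) (.node (.leaf 0) (.leaf 0)))) (.node (.node (.node (.leaf 0) (.leaf 0)) (.node (.leaf 172) (.leaf 611))) (.node (.node (.leaf 0) (.leaf 0)) (.node (.leaf 937) (.leaf 1086))))) (.node (.node (.node (.node (.leaf 0) (.leaf 440)) (.node (.leaf 0) (.leaf 725))) (.node (.node (.leaf 0) (.leaf 619)) (.node (.leaf 0) (.leaf 207)))) (.node (.node (.node (.leaf 0) (.leaf 909)) (.node (.leaf 843) (.leaf 0))) (.node (.node (.leaf 0) (.leaf 627)) (.node (.leaf 284) (.leaf 0))))))) (.node (.node (.node (.node (.node (.node (.leaf 0) (.leaf 0)) (.node (.leaf 0) (.leaf 0))) (.node (.node (.leaf 0) (.leaf 0)) (.node (.leaf 0) (.leaf 0)))) (.node (.node (.node (.leaf 0) (.leaf 0)) (.node (.leaf 1505) (.leaf 357))) (.node (.node (.leaf 0) (.leaf 0)) (.node (.leaf 1045) (.leaf 1244))))) (.node (.node (.node (.node (.leaf 0) (.leaf 1352)) (.node (.leaf 0) (.leaf 1449))) (.node (.node (.leaf 0) (.leaf 1445)) (.node (.leaf 0) (.leaf 189)))) (.node (.node (.node (.leaf 0) (.leaf 1375)) (.node (.leaf 586) (.leaf 0))) (.node (.node (.leaf 0) (.leaf 285)) (.node (.leaf 485) (.leaf 0)))))) (.node (.node (.node (.node (.node (.leaf 0) (.leaf 0)) (.node (.leaf 0) (.leaf 0))) (.node (.node (.leaf 0) (.leaf 0)) (.node (.leaf 0) (.leaf 0)))) (.node (.node (.node (.leaf 0) (.leaf 0)) (.node (.leaf 506) (.leaf 455))) (.node (.node (.leaf 0) (.leaf 0)) (.node (.leaf 942) (.leaf 1010))))) (.node (.node (.node (.node (.leaf 0) (.leaf 1330)) (.node (.leaf 0) (.leaf 720))) (.node (.node (.leaf 0) (.leaf 986)) (.node (.leaf 0) (.leaf 527)))) (.node (.node (.node (.leaf 0) (.leaf 896)) (.node (.leaf 1229) (.leaf 0))) (.node (.node (.leaf 0) (.leaf 819)) (.node (.leaf 1063) (.leaf 0)))))))))))) (.node (.node (.node (.node (.node (.node (.node (.node (.node (.node (.node (.leaf 0) (.leaf 0)) (.node (.leaf 0) (.leaf 0))) (.node (.node (.leaf 0) (.leaf 0)) (.node (.leaf 0) (.leaf 0)))) (.node (.node (.node (.leaf 0) (.leaf 0)) (.node (.leaf 0) (.leaf 0))) (.node (.node (.leaf 0) (.leaf 0)) (.node (.leaf 0) (.leaf 0))))) (.node (.node (.node (.node (.leaf 0) (.leaf 0)) (.node (.leaf 0) (.leaf 0))) (.node (.node (.leaf 0) (.leaf 0)) (.node (.leaf 0) (.leaf 0)))) (.node (.node (.node (.leaf 0) (.leaf 0)) (.node (.leaf 0) (.leaf 0))) (.node (.node (.leaf 0) (.leaf 0)) (.node (.leaf 0) (.leaf 0)))))) (.node (.node (.node (.node (.node (.leaf 0) (.leaf 0)) (.node (.leaf 0) (.leaf 0))) (.node (.node (.leaf 0) (.leaf 0)) (.node (.leaf 0) (.leaf 0)))) (.node (.node (.node (.leaf 0) (.leaf 0)) (.node (.leaf 0) (.leaf 0))) (.node (.node (.leaf 0) (.leaf 0)) (.node (.leaf 0) (.leaf 0))))) (.node (.node (.node (.node (.leaf 0) (.leaf 0)) (.node (.leaf 0) (.leaf 0))) (.node (.node (.leaf 0) (.leaf 0)) (.node (.leaf 0) (.leaf 0)))) (.node (.node (.node (.leaf 0) (.leaf 0)) (.node (.leaf 0) (.leaf 0))) (.node (.node (.leaf 0) (.leaf 0)) (.node (.leaf 0) (.leaf 0))))))) (.node (.node (.node (.node (.node (.node (.leaf 0) (.leaf 0)) (.node (.leaf 0) (.leaf 0))) (.node (.node (.leaf 0) (.leaf 0)) (.node (.leaf 0) (.leaf 0)))) (.node (.node (.node (.leaf 0) (.leaf 0)) (.node (.leaf 0) (.leaf 0))) (.node (.node (.leaf 0) (.leaf 0)) (.node (.leaf 0) (.leaf 0))))) (.node (.node (.node (.node (.leaf 0) (.leaf 0)) (.node (.leaf 0) (.leaf 0))) (.node (.node (.leaf 0) (.leaf 0)) (.node (.leaf 0) (.leaf 0)))) (.node (.node (.node (.leaf 0) (.leaf 0)) (.node (.leaf 0) (.leaf 0))) (.node (.node (.leaf 0) (.leaf 0)) (.node (.leaf 0) (.leaf 0)))))) (.node (.node (.node (.node (.node (.leaf 0) (.leaf 0)) (.node (.leaf 0) (.leaf 0))) (.node (.node (.leaf 0) (.leaf 0)) (.node (.leaf 0) (.leaf 0)))) (.node (.node (.node (.leaf 0) (.leaf 0)) (.node (.leaf 0) (.leaf 0))) (.node (.node (.leaf 0) (.leaf 0)) (.node (.leaf 0) (.leaf 0))))) (.node (.node (.node (.node (.leaf 0) (.leaf 0)) (.node (.leaf 0) (.leaf 0))) (.node (.node (.leaf 0) (.leaf 0)) (.node (.leaf 0) (.leaf 0)))) (.node (.node (.node (.leaf 0) (.leaf 0)) (.node (.leaf 0) (.leaf 0))) (.node (.node (.leaf 0) (.leaf 0)) (.node (.leaf 0) (.leaf 0)))))))) (.node (.node (.node (.node (.node (.node (.node (.leaf 0) (.leaf 0)) (.node (.leaf 0) (.leaf 0))) (.node (.node (.leaf 0) (.leaf 0)) (.node (.leaf 0) (.leaf 0)))) (.node (.node (.node (.leaf 0) (.leaf 0)) (.node (.leaf 0) (.leaf 0))) (.node (.node (.leaf 0) (.leaf 0)) (.node (.leaf 0) (.leaf 0))))) (.node (.node (.node (.node (.leaf 0) (.leaf 0)) (.node (.leaf 0) (.leaf 0))) (.node (.node (.leaf 0) (.leaf 0)) (.node (.leaf 0) (.leaf 0)))) (.node (.node (.node (.leaf 0) (.leaf 0)) (.node (.leaf 0) (.leaf 0))) (.node (.node (.leaf 0) (.leaf 0)) (.node (.leaf 0) (.leaf 0)))))) (.node (.node (.node (.node (.node (.leaf 0) (.leaf 0)) (.node (.leaf 0) (.leaf 0))) (.node (.node (.leaf 0) (.leaf 0)) (.node (.leaf 0) (.leaf 0)))) (.node (.node (.node (.leaf 0) (.leaf 0)) (.node (.leaf 0) (.leaf 0))) (.node (.node (.leaf 0) (.leaf 0)) (.node (.leaf 0) (.leaf 0))))) (.node (.node (.node (.node (.leaf 0) (.leaf 0)) (.node (.leaf 0) (.leaf 0))) (.node (.node (.leaf 0) (.leaf 0)) (.node (.leaf 0) (.leaf 0)))) (.node (.node (.node (.leaf 0) (.leaf 0)) (.node (.leaf 0) (.leaf 0))) (.node (.node (.leaf 0) (.leaf 0)) (.node (.leaf 0) (.leaf 0))))))) (.node (.node (.node (.node (.node (.node (.leaf 0) (.leaf 0)) (.node (.leaf 0) (.leaf 0))) (.node (.node (.leaf 0) (.leaf 0)) (.node (.leaf 0) (.leaf 0)))) (.node (.node (.node (.leaf 0) (.leaf 0)) (.node (.leaf 0) (.leaf 0))) (.node (.node (.leaf 0) (.leaf 0)) (.node (.leaf 0) (.leaf 0))))) (.node (.node (.node (.node (.leaf 0) (.leaf 0)) (.node (.leaf 0) (.leaf 0))) (.node (.node (.leaf 0) (.leaf 0)) (.node (.leaf 0) (.leaf 0)))) (.node (.node (.node (.leaf 0) (.leaf 0)) (.node (.leaf 0) (.leaf 0))) (.node (.node (.leaf 0) (.leaf 0)) (.node (.leaf 0) (.leaf 0)))))) (.node (.node (.node (.node (.node (.leaf 0) (.leaf 0)) (.node (.leaf 0) (.leaf 0))) (.node (.node (.leaf 0) (.leaf 0)) (.node (.leaf 0) (.leaf 0)))) (.node (.node (.node (.leaf 0) (.leaf 0)) (.node (.leaf 0) (.leaf 0))) (.node (.node (.leaf 0) (.leaf 0)) (.node (.leaf 0) (.leaf 0))))) (.node (.node (.node (.node (.leaf 0) (.leaf 0)) (.node (.leaf 0) (.leaf 0))) (.node (.node (.leaf 0) (.leaf 0)) (.node (.leaf 0) (.leaf 0)))) (.node (.node (.node (.leaf 0) (.leaf 0)) (.node (.leaf 0) (.leaf 0))) (.node (.node (.leaf 0) (.leaf 0)) (.node (.leaf 0) (.leaf 0))))))))) (.node (.node (.node (.node (.node (.node (.node (.node (.leaf 0) (.leaf 0)) (.node (.leaf 0) (.leaf 0))) (.node (.node (.leaf 0) (.leaf 0)) (.node (.leaf 0) (.leaf 0)))) (.node (.node (.node (.leaf 0) (.leaf 0)) (.node (.leaf 0) (.leaf 0))) (.node (.node (.leaf 0) (.leaf 0)) (.node (.leaf 0) (.leaf 0))))) (.node (.node (.node (.node (.leaf 0) (.leaf 0)) (.node (.leaf 0) (.leaf 0))) (.node (.node (.leaf 0) (.leaf 0)) (.node (.leaf 0) (.leaf 0)))) (.node (.node (.node (.leaf 0) (.leaf 0)) (.node (.leaf 0) (.leaf 0))) (.node (.node (.leaf 0) (.leaf 0)) (.node (.leaf 0) (.leaf 0)))))) (.node (.node (.node (.node (.node (.leaf 0) (.leaf 0)) (.node (.leaf 0) (.leaf 0))) (.node (.node (.leaf 0) (.leaf 0)) (.node (.leaf 0) (.leaf 0)))) (.node (.node (.node (.leaf 0) (.leaf 0)) (.node (.leaf 0) (.leaf 0))) (.node (.node (.leaf 0) (.leaf 0)) (.node (.leaf 0) (.leaf 0))))) (.node (.node (.node (.node (.leaf 0) (.leaf 0)) (.node (.leaf 0) (.leaf 0))) (.node (.node (.leaf 0) (.leaf 0)) (.node (.leaf 0) (.leaf 0)))) (.node (.node (.node (.leaf 0) (.leaf 0)) (.node (.leaf 0) (.leaf 0))) (.node (.node (.leaf 0) (.leaf 0)) (.node (.leaf 0) (.leaf 0))))))) (.node (.node (.node (.node (.node (.node (.leaf 0) (.leaf 0)) (.node (.leaf 0) (.leaf 0))) (.node (.node (.leaf 0) (.leaf 0)) (.node (.leaf 0) (.leaf 0)))) (.node (.node (.node (.leaf 0) (.leaf 0)) (.node (.leaf 0) (.leaf 0))) (.node (.node (.leaf 0) (.leaf 0)) (.node (.leaf 0) (.leaf 0))))) (.node (.node (.node (.node (.leaf 0) (.leaf 0)) (.node (.leaf 0) (.leaf 0))) (.node (.node (.leaf 0) (.leaf 0)) (.node (.leaf 0) (.leaf 0)))) (.node (.node (.node (.leaf 0) (.leaf 0)) (.node (.leaf 0) (.leaf 0))) (.node (.node (.leaf 0) (.leaf 0)) (.node (.leaf 0) (.leaf 0)))))) (.node (.node (.node (.node (.node (.leaf 0) (.leaf 0)) (.node (.leaf 0) (.leaf 0))) (.node (.node (.leaf 0) (.leaf 0)) (.node (.leaf 0) (.leaf 0)))) (.node (.node (.node (.leaf 0) (.leaf 0)) (.node (.leaf 0) (.leaf 0))) (.node (.node (.leaf 0) (.leaf 0)) (.node (.leaf 0) (.leaf 0))))) (.node (.node (.node (.node (.leaf 0) (.leaf 0)) (.node (.leaf 0) (.leaf 0))) (.node (.node (.leaf 0) (.leaf 0)) (.node (.leaf 0) (.leaf 0)))) (.node (.node (.node (.leaf 0) (.leaf 0)) (.node (.leaf 0) (.leaf 0))) (.node (.node (.leaf 0) (.leaf 0)) (.node (.leaf 0) (.leaf 0)))))))) (.node (.node (.node (.node (.node (.node (.node (.leaf 0) (.leaf 0)) (.node (.leaf 0) (.leaf 0))) (.node (.node (.leaf 0) (.leaf 0)) (.node (.leaf 0) (.leaf 0)))) (.node (.node (.node (.leaf 0) (.leaf 0)) (.node (.leaf 0) (.leaf 0))) (.node (.node (.leaf 0) (.leaf 0)) (.node (.leaf 0) (.leaf 0))))) (.node (.node (.node (.node (.leaf 0) (.leaf 0)) (.node (.leaf 0) (.leaf 0))) (.node (.node (.leaf 0) (.leaf 0)) (.node (.leaf 0) (.leaf 0)))) (.node (.node (.node (.leaf 0) (.leaf 0)) (.node (.leaf 0) (.leaf 0))) (.node (.node (.leaf 0) (.leaf 0)) (.node (.leaf 0) (.leaf 0)))))) (.node (.node (.node (.node (.node (.leaf 0) (.leaf 0)) (.node (.leaf 0) (.leaf 0))) (.node (.node (.leaf 0) (.leaf 0)) (.node (.leaf 0) (.leaf 0)))) (.node (.node (.node (.leaf 0) (.leaf 0)) (.node (.leaf 0) (.leaf 0))) (.node (.node (.leaf 0) (.leaf 0)) (.node (.leaf 0) (.leaf 0))))) (.node (.node (.node (.node (.leaf 0) (.leaf 0)) (.node (.leaf 0) (.leaf 0))) (.node (.node (.leaf 0) (.leaf 0)) (.node (.leaf 0) (.leaf 0)))) (.node (.node (.node (.leaf 0) (.leaf 0)) (.node (.leaf 0) (.leaf 0))) (.node (.node (.leaf 0) (.leaf 0)) (.node (.leaf 0) (.leaf 0))))))) (.node (.node (.node (.node (.node (.node (.leaf 0) (.leaf 0)) (.node (.leaf 0) (.leaf 0))) (.node (.node (.leaf 0) (.leaf 0)) (.node (.leaf 0) (.leaf 0)))) (.node (.node (.node (.leaf 0) (.leaf 0)) (.node (.leaf 0) (.leaf 0))) (.node (.node (.leaf 0) (.leaf 0)) (.node (.leaf 0) (.leaf 0))))) (.node (.node (.node (.node (.leaf 0) (.leaf 0)) (.node (.leaf 0) (.leaf 0))) (.node (.node (.leaf 0) (.leaf 0)) (.node (.leaf 0) (.leaf 0)))) (.node (.node (.node (.leaf 0) (.leaf 0)) (.node (.leaf 0) (.leaf 0))) (.node (.node (.leaf 0) (.leaf 0)) (.node (.leaf 0) (.leaf 0)))))) (.node (.node (.node (.node (.node (.leaf 0) (.leaf 0)) (.node (.leaf 0) (.leaf 0))) (.node (.node (.leaf 0) (.leaf 0)) (.node (.leaf 0) (.leaf 0)))) (.node (.node (.node (.leaf 0) (.leaf 0)) (.node (.leaf 0) (.leaf 0))) (.node (.node (.leaf 0) (.leaf 0)) (.node (.leaf 0) (.leaf 0))))) (.node (.node (.node (.node (.leaf 0) (.leaf 0)) (.node (.leaf 0) (.leaf 0))) (.node (.node (.leaf 0) (.leaf 0)) (.node (.leaf 0) (.leaf 0)))) (.node (.node (.node (.leaf 0) (.leaf 0)) (.node (.leaf 0) (.leaf 0))) (.node (.node (.leaf 0) (.leaf 0)) (.node (.leaf 0) (.leaf 0)))))))))) (.node (.node (.node (.node (.node (.node (.node (.node (.node (.leaf 0) (.leaf 0)) (.node (.leaf 0) (.leaf 0))) (.node (.node (.leaf 0) (.leaf 0)) (.node (.leaf 0) (.leaf 0)))) (.node (.node (.node (.leaf 0) (.leaf 0)) (.node (.leaf 0) (.leaf 0))) (.node (.node (.leaf 0) (.leaf 0)) (.node (.leaf 0) (.leaf 0))))) (.node (.node (.node (.node (.leaf 0) (.leaf 0)) (.node (.leaf 0) (.leaf 0))) (.node (.node (.leaf 0) (.leaf 0)) (.node (.leaf 0) (.leaf 0)))) (.node (.node (.node (.leaf 0) (.leaf 0)) (.node (.leaf 0) (.leaf 0))) (.node (.node (.leaf 0) (.leaf 0)) (.node (.leaf 0) (.leaf 0)))))) (.node (.node (.node (.node (.node (.leaf 0) (.leaf 0)) (.node (.leaf 0) (.leaf 0))) (.node (.node (.leaf 0) (.leaf 0)) (.node (.leaf 0) (.leaf 0)))) (.node (.node (.node (.leaf 0) (.leaf 0)) (.node (.leaf 0) (.leaf 0))) (.node (.node (.leaf 0) (.leaf 0)) (.node (.leaf 0) (.leaf 0))))) (.node (.node (.node (.node (.leaf 0) (.leaf 0)) (.node (.leaf 0) (.leaf 0))) (.node (.node (.leaf 0) (.leaf 0)) (.node (.leaf 0) (.leaf 0)))) (.node (.node (.node (.leaf 0) (.leaf 0)) (.node (.leaf 0) (.leaf 0))) (.node (.node (.leaf 0) (.leaf 0)) (.node (.leaf 0) (.leaf 0))))))) (.node (.node (.node (.node (.node (.node (.leaf 0) (.leaf 0)) (.node (.leaf 0) (.leaf 0))) (.node (.node (.leaf 0) (.leaf 0)) (.node (.leaf 0) (.leaf 0)))) (.node (.node (.node (.leaf 0) (.leaf 0)) (.node (.leaf 0) (.leaf 0))) (.node (.node (.leaf 0) (.leaf 0)) (.node (.leaf 0) (.leaf 0))))) (.node (.node (.node (.node (.leaf 0) (.leaf 0)) (.node (.leaf 0) (.leaf 0))) (.node (.node (.leaf 0) (.leaf 0)) (.node (.leaf 0) (.leaf 0)))) (.node (.node (.node (.leaf 0) (.leaf 0)) (.node (.leaf 0) (.leaf 0))) (.node (.node (.leaf 0) (.leaf 0)) (.node (.leaf 0) (.leaf 0)))))) (.node (.node (.node (.node (.node (.leaf 0) (.leaf 0)) (.node (.leaf 0) (.leaf 0))) (.node (.node (.leaf 0) (.leaf 0)) (.node (.leaf 0) (.leaf 0)))) (.node (.node (.node (.leaf 0) (.leaf 0)) (.node (.leaf 0) (.leaf 0))) (.node (.node (.leaf 0) (.leaf 0)) (.node (.leaf 0) (.leaf 0))))) (.node (.node (.node (.node (.leaf 0) (.leaf 0)) (.node (.leaf 0) (.leaf 0))) (.node (.node (.leaf 0) (.leaf 0)) (.node (.leaf 0) (.leaf 0)))) (.node (.node (.node (.leaf 0) (.leaf 0)) (.node (.leaf 0) (.leaf 0))) (.node (.node (.leaf 0) (.leaf 0)) (.node (.leaf 0) (.leaf 0)))))))) (.node (.node (.node (.node (.node (.node (.node (.leaf 0) (.leaf 0)) (.node (.leaf 0) (.leaf 0))) (.node (.node (.leaf 0) (.leaf 0)) (.node (.leaf 0) (.leaf 0)))) (.node (.node (.node (.leaf 0) (.leaf 0)) (.node (.leaf 0) (.leaf 0))) (.node (.node (.leaf 0) (.leaf 0)) (.node (.leaf 0) (.leaf 0))))) (.node (.node (.node (.node (.leaf 0) (.leaf 0)) (.node (.leaf 0) (.leaf 0))) (.node (.node (.leaf 0) (.leaf 0)) (.node (.leaf 0) (.leaf 0)))) (.node (.node (.node (.leaf 0) (.leaf 0)) (.node (.leaf 0) (.leaf 0))) (.node (.node (.leaf 0) (.leaf 0)) (.node (.leaf 0) (.leaf 0)))))) (.node (.node (.node (.node (.node (.leaf 0) (.leaf 0)) (.node (.leaf 0) (.leaf 0))) (.node (.node (.leaf 0) (.leaf 0)) (.node (.leaf 0) (.leaf 0)))) (.node (.node (.node (.leaf 0) (.leaf 0)) (.node (.leaf 0) (.leaf 0))) (.node (.node (.leaf 0) (.leaf 0)) (.node (.leaf 0) (.leaf 0))))) (.node (.node (.node (.node (.leaf 0) (.leaf 0)) (.node (.leaf 0) (.leaf 0))) (.node (.node (.leaf 0) (.leaf 0)) (.node (.leaf 0) (.leaf 0)))) (.node (.node (.node (.leaf 0) (.leaf 0)) (.node (.leaf 0) (.leaf 0))) (.node (.node (.leaf 0) (.leaf 0)) (.node (.leaf 0) (.leaf 0))))))) (.node (.node (.node (.node (.node (.node (.leaf 0) (.leaf 0)) (.node (.leaf 0) (.leaf 0))) (.node (.node (.leaf 0) (.leaf 0)) (.node (.leaf 0) (.leaf 0)))) (.node (.node (.node (.leaf 0) (.leaf 0)) (.node (.leaf 0) (.leaf 0))) (.node (.node (.leaf 0) (.leaf 0)) (.node (.leaf 0) (.leaf 0))))) (.node (.node (.node (.node (.leaf 0) (.leaf 0)) (.node (.leaf 0) (.leaf 0))) (.node (.node (.leaf 0) (.leaf 0)) (.node (.leaf 0) (.leaf 0)))) (.node (.node (.node (.leaf 0) (.leaf 0)) (.node (.leaf 0) (.leaf 0))) (.node (.node (.leaf 0) (.leaf 0)) (.node (.leaf 0) (.leaf 0)))))) (.node (.node (.node (.node (.node (.leaf 0) (.leaf 0)) (.node (.leaf 0) (.leaf 0))) (.node (.node (.leaf 0) (.leaf 0)) (.node (.leaf 0) (.leaf 0)))) (.node (.node (.node (.leaf 0) (.leaf 0)) (.node (.leaf 0) (.leaf 0))) (.node (.node (.leaf 0) (.leaf 0)) (.node (.leaf 0) (.leaf 0))))) (.node (.node (.node (.node (.leaf 0) (.leaf 0)) (.node (.leaf 0) (.leaf 0))) (.node (.node (.leaf 0) (.leaf 0)) (.node (.leaf 0) (.leaf 0)))) (.node (.node (.node (.leaf 0) (.leaf 0)) (.node (.leaf 0) (.leaf 0))) (.node (.node (.leaf 0) (.leaf 0)) (.node (.leaf 0) (.leaf 0))))))))) (.node (.node (.node (.node (.node (.node (.node (.node (.leaf 0) (.leaf 0)) (.node (.leaf 0) (.leaf 0))) (.node (.node (.leaf 0) (.leaf 0)) (.node (.leaf 0) (.leaf 0)))) (.node (.node (.node (.leaf 0) (.leaf 0)) (.node (.leaf 0) (.leaf 0))) (.node (.node (.leaf 0) (.leaf 0)) (.node (.leaf 0) (.leaf 0))))) (.node (.node (.node (.node (.leaf 0) (.leaf 0)) (.node (.leaf 0) (.leaf 0))) (.node (.node (.leaf 0) (.leaf 0)) (.node (.leaf 0) (.leaf 0)))) (.node (.node (.node (.leaf 0) (.leaf 0)) (.node (.leaf 0) (.leaf 0))) (.node (.node (.leaf 0) (.leaf 0)) (.node (.leaf 0) (.leaf 0)))))) (.node (.node (.node (.node (.node (.leaf 0) (.leaf 0)) (.node (.leaf 0) (.leaf 0))) (.node (.node (.leaf 0) (.leaf 0)) (.node (.leaf 0) (.leaf 0)))) (.node (.node (.node (.leaf 0) (.leaf 0)) (.node (.leaf 0) (.leaf 0))) (.node (.node (.leaf 0) (.leaf 0)) (.node (.leaf 0) (.leaf 0))))) (.node (.node (.node (.node (.leaf 0) (.leaf 0)) (.node (.leaf 0) (.leaf 0))) (.node (.node (.leaf 0) (.leaf 0)) (.node (.leaf 0) (.leaf 0)))) (.node (.node (.node (.leaf 0) (.leaf 0)) (.node (.leaf 0) (.leaf 0))) (.node (.node (.leaf 0) (.leaf 0)) (.node (.leaf 0) (.leaf 0))))))) (.node (.node (.node (.node (.node (.node (.leaf 0) (.leaf 0)) (.node (.leaf 0) (.leaf 0))) (.node (.node (.leaf 0) (.leaf 0)) (.node (.leaf 0) (.leaf 0)))) (.node (.node (.node (.leaf 0) (.leaf 0)) (.node (.leaf 0) (.leaf 0))) (.node (.node (.leaf 0) (.leaf 0)) (.node (.leaf 0) (.leaf 0))))) (.node (.node (.node (.node (.leaf 0) (.leaf 0)) (.node (.leaf 0) (.leaf 0))) (.node (.node (.leaf 0) (.leaf 0)) (.node (.leaf 0) (.leaf 0)))) (.node (.node (.node (.leaf 0) (.leaf 0)) (.node (.leaf 0) (.leaf 0))) (.node (.node (.leaf 0) (.leaf 0)) (.node (.leaf 0) (.leaf 0)))))) (.node (.node (.node (.node (.node (.leaf 0) (.leaf 0)) (.node (.leaf 0) (.leaf 0))) (.node (.node (.leaf 0) (.leaf 0)) (.node (.leaf 0) (.leaf 0)))) (.node (.node (.node (.leaf 0) (.leaf 0)) (.node (.leaf 0) (.leaf 0))) (.node (.node (.leaf 0) (.leaf 0)) (.node (.leaf 0) (.leaf 0))))) (.node (.node (.node (.node (.leaf 0) (.leaf 0)) (.node (.leaf 0) (.leaf 0))) (.node (.node (.leaf 0) (.leaf 0)) (.node (.leaf 0) (.leaf 0)))) (.node (.node (.node (.leaf 0) (.leaf 0)) (.node (.leaf 0) (.leaf 0))) (.node (.node (.leaf 0) (.leaf 0)) (.node (.leaf 0) (.leaf 0)))))))) (.node (.node (.node (.node (.node (.node (.node (.leaf 0) (.leaf 0)) (.node (.leaf 0) (.leaf 0))) (.node (.node (.leaf 0) (.leaf 0)) (.node (.leaf 0) (.leaf 0)))) (.node (.node (.node (.leaf 0) (.leaf 0)) (.node (.leaf 0) (.leaf 0))) (.node (.node (.leaf 0) (.leaf 0)) (.node (.leaf 0) (.leaf 0))))) (.node (.node (.node (.node (.leaf 0) (.leaf 0)) (.node (.leaf 0) (.leaf 0))) (.node (.node (.leaf 0) (.leaf 0)) (.node (.leaf 0) (.leaf 0)))) (.node (.node (.node (.leaf 0) (.leaf 0)) (.node (.leaf 0) (.leaf 0))) (.node (.node (.leaf 0) (.leaf 0)) (.node (.leaf 0) (.leaf 0)))))) (.node (.node (.node (.node (.node (.leaf 0) (.leaf 0)) (.node (.leaf 0) (.leaf 0))) (.node (.node (.leaf 0) (.leaf 0)) (.node (.leaf 0) (.leaf 0)))) (.node (.node (.node (.leaf 0) (.leaf 0)) (.node (.leaf 0) (.leaf 0))) (.node (.node (.leaf 0) (.leaf 0)) (.node (.leaf 0) (.leaf 0))))) (.node (.node (.node (.node (.leaf 0) (.leaf 0)) (.node (.leaf 0) (.leaf 0))) (.node (.node (.leaf 0) (.leaf 0)) (.node (.leaf 0) (.leaf 0)))) (.node (.node (.node (.leaf 0) (.leaf 0)) (.node (.leaf 0) (.leaf 0))) (.node (.node (.leaf 0) (.leaf 0)) (.node (.leaf 0) (.leaf 0))))))) (.node (.node (.node (.node (.node (.node (.leaf 0) (.leaf 0)) (.node (.leaf 0) (.leaf 0))) (.node (.node (.leaf 0) (.leaf 0)) (.node (.leaf 0) (.leaf 0)))) (.node (.node (.node (.leaf 0) (.leaf 0)) (.node (.leaf 0) (.leaf 0))) (.node (.node (.leaf 0) (.leaf 0)) (.node (.leaf 0) (.leaf 0))))) (.node (.node (.node (.node (.leaf 0) (.leaf 0)) (.node (.leaf 0) (.leaf 0))) (.node (.node (.leaf 0) (.leaf 0)) (.node (.leaf 0) (.leaf 0)))) (.node (.node (.node (.leaf 0) (.leaf 0)) (.node (.leaf 0) (.leaf 0))) (.node (.node (.leaf 0) (.leaf 0)) (.node (.leaf 0) (.leaf 0)))))) (.node (.node (.node (.node (.node (.leaf 0) (.leaf 0)) (.node (.leaf 0) (.leaf 0))) (.node (.node (.leaf 0) (.leaf 0)) (.node (.leaf 0) (.leaf 0)))) (.node (.node (.node (.leaf 0) (.leaf 0)) (.node (.leaf 0) (.leaf 0))) (.node (.node (.leaf 0) (.leaf 0)) (.node (.leaf 0) (.leaf 0))))) (.node (.node (.node (.node (.leaf 0) (.leaf 0)) (.node (.leaf 0) (.leaf 0))) (.node (.node (.leaf 0) (.leaf 0)) (.node (.leaf 0) (.leaf 0)))) (.node (.node (.node (.leaf 0) (.leaf 0)) (.node (.leaf 0) (.leaf 0))) (.node (.node (.leaf 0) (.leaf 0)) (.node (.leaf 0) (.leaf 0))))))))))) (.node (.node (.node (.node (.node (.node (.node (.node (.node (.node (.leaf 0) (.leaf 0)) (.node (.leaf 0) (.leaf 0))) (.node (.node (.leaf 0) (.leaf 0)) (.node (.leaf 0) (.leaf 0)))) (.node (.node (.node (.leaf 0) (.leaf 0)) (.node (.leaf 0) (.leaf 0))) (.node (.node (.leaf 0) (.leaf 0)) (.node (.leaf 0) (.leaf 0))))) (.node (.node (.node (.node (.leaf 0) (.leaf 0)) (.node (.leaf 0) (.leaf 0))) (.node (.node (.leaf 0) (.leaf 0)) (.node (.leaf 0) (.leaf 0)))) (.node (.node (.node (.leaf 0) (.leaf 0)) (.node (.leaf 0) (.leaf 0))) (.node (.node (.leaf 0) (.leaf 0)) (.node (.leaf 0) (.leaf 0)))))) (.node (.node (.node (.node (.node (.leaf 0) (.leaf 0)) (.node (.leaf 0) (.leaf 0))) (.node (.node (.leaf 0) (.leaf 0)) (.node (.leaf 0) (.leaf 0)))) (.node (.node (.node (.leaf 0) (.leaf 0)) (.node (.leaf 0) (.leaf 0))) (.node (.node (.leaf 0) (.leaf 0)) (.node (.leaf 0) (.leaf 0))))) (.node (.node (.node (.node (.leaf 0) (.leaf 0)) (.node (.leaf 0) (.leaf 0))) (.node (.node (.leaf 0) (.leaf 0)) (.node (.leaf 0) (.leaf 0)))) (.node (.node (.node (.leaf 0) (.leaf 0)) (.node (.leaf 0) (.leaf 0))) (.node (.node (.leaf 0) (.leaf 0)) (.node (.leaf 0) (.leaf 0))))))) (.node (.node (.node (.node (.node (.node (.leaf 0) (.leaf 0)) (.node (.leaf 0) (.leaf 0))) (.node (.node (.leaf 0) (.leaf 0)) (.node (.leaf 0) (.leaf 0)))) (.node (.node (.node (.leaf 0) (.leaf 0)) (.node (.leaf 0) (.leaf 0))) (.node (.node (.leaf 0) (.leaf 0)) (.node (.leaf 0) (.leaf 0))))) (.node (.node (.node (.node (.leaf 0) (.leaf 0)) (.node (.leaf 0) (.leaf 0))) (.node (.node (.leaf 0) (.leaf 0)) (.node (.leaf 0) (.leaf 0)))) (.node (.node (.node (.leaf 0) (.leaf 0)) (.node (.leaf 0) (.leaf 0))) (.node (.node (.leaf 0) (.leaf 0)) (.node (.leaf 0) (.leaf 0)))))) (.node (.node (.node (.node (.node (.leaf 0) (.leaf 0)) (.node (.leaf 0) (.leaf 0))) (.node (.node (.leaf 0) (.leaf 0)) (.node (.leaf 0) (.leaf 0)))) (.node (.node (.node (.leaf 0) (.leaf 0)) (.node (.leaf 0) (.leaf 0))) (.node (.node (.leaf 0) (.leaf 0)) (.node (.leaf 0) (.leaf 0))))) (.node (.node (.node (.node (.leaf 0) (.leaf 0)) (.node (.leaf 0) (.leaf 0))) (.node (.node (.leaf 0) (.leaf 0)) (.node (.leaf 0) (.leaf 0)))) (.node (.node (.node (.leaf 0) (.leaf 0)) (.node (.leaf 0) (.leaf 0))) (.node (.node (.leaf 0) (.leaf 0)) (.node (.leaf 0) (.leaf 0)))))))) (.node (.node (.node (.node (.node (.node (.node (.leaf 0) (.leaf 0)) (.node (.leaf 0) (.leaf 0))) (.node (.node (.leaf 0) (.leaf 0)) (.node (.leaf 0) (.leaf 0)))) (.node (.node (.node (.leaf 0) (.leaf 0)) (.node (.leaf 0) (.leaf 0))) (.node (.node (.leaf 0) (.leaf 0)) (.node (.leaf 0) (.leaf 0))))) (.node (.node (.node (.node (.leaf 0) (.leaf 0)) (.node (.leaf 0) (.leaf 0))) (.node (.node (.leaf 0) (.leaf 0)) (.node (.leaf 0) (.leaf 0)))) (.node (.node (.node (.leaf 0) (.leaf 0)) (.node (.leaf 0) (.leaf 0))) (.node (.node (.leaf 0) (.leaf 0)) (.node (.leaf 0) (.leaf 0)))))) (.node (.node (.node (.node (.node (.leaf 0) (.leaf 0)) (.node (.leaf 0) (.leaf 0))) (.node (.node (.leaf 0) (.leaf 0)) (.node (.leaf 0) (.leaf 0)))) (.node (.node (.node (.leaf 0) (.leaf 0)) (.node (.leaf 0) (.leaf 0))) (.node (.node (.leaf 0) (.leaf 0)) (.node (.leaf 0) (.leaf 0))))) (.node (.node (.node (.node (.leaf 0) (.leaf 0)) (.node (.leaf 0) (.leaf 0))) (.node (.node (.leaf 0) (.leaf 0)) (.node (.leaf 0) (.leaf 0)))) (.node (.node (.node (.leaf 0) (.leaf 0)) (.node (.leaf 0) (.leaf 0))) (.node (.node (.leaf 0) (.leaf 0)) (.node (.leaf 0) (.leaf 0))))))) (.node (.node (.node (.node (.node (.node (.leaf 0) (.leaf 0)) (.node (.leaf 0) (.leaf 0))) (.node (.node (.leaf 0) (.leaf 0)) (.node (.leaf 0) (.leaf 0)))) (.node (.node (.node (.leaf 0) (.leaf 0)) (.node (.leaf 0) (.leaf 0))) (.node (.node (.leaf 0) (.leaf 0)) (.node (.leaf 0) (.leaf 0))))) (.node (.node (.node (.node (.leaf 0) (.leaf 0)) (.node (.leaf 0) (.leaf 0))) (.node (.node (.leaf 0) (.leaf 0)) (.node (.leaf 0) (.leaf 0)))) (.node (.node (.node (.leaf 0) (.leaf 0)) (.node (.leaf 0) (.leaf 0))) (.node (.node (.leaf 0) (.leaf 0)) (.node (.leaf 0) (.leaf 0)))))) (.node (.node (.node (.node (.node (.leaf 0) (.leaf 0)) (.node (.leaf 0) (.leaf 0))) (.node (.node (.leaf 0) (.leaf 0)) (.node (.leaf 0) (.leaf 0)))) (.node (.node (.node (.leaf 0) (.leaf 0)) (.node (.leaf 0) (.leaf 0))) (.node (.node (.leaf 0) (.leaf 0)) (.node (.leaf 0) (.leaf 0))))) (.node (.node (.node (.node (.leaf 0) (.leaf 0)) (.node (.leaf 0) (.leaf 0))) (.node (.node (.leaf 0) (.leaf 0)) (.node (.leaf 0) (.leaf 0)))) (.node (.node (.node (.leaf 0) (.leaf 0)) (.node (.leaf 0) (.leaf 0))) (.node (.node (.leaf 0) (.leaf 0)) (.node (.leaf 0) (.leaf 0))))))))) (.node (.node (.node (.node (.node (.node (.node (.node (.leaf 0) (.leaf 0)) (.node (.leaf 0) (.leaf 0))) (.node (.node (.leaf 0) (.leaf 0)) (.node (.leaf 0) (.leaf 0)))) (.node (.node (.node (.leaf 0) (.leaf 0)) (.node (.leaf 0) (.leaf 0))) (.node (.node (.leaf 0) (.leaf 0)) (.node (.leaf 0) (.leaf 0))))) (.node (.node (.node (.node (.leaf 0) (.leaf 0)) (.node (.leaf 0) (.leaf 0))) (.node (.node (.leaf 0) (.leaf 0)) (.node (.leaf 0) (.leaf 0)))) (.node (.node (.node (.leaf 0) (.leaf 0)) (.node (.leaf 0) (.leaf 0))) (.node (.node (.leaf 0) (.leaf 0)) (.node (.leaf 0) (.leaf 0)))))) (.node (.node (.node (.node (.node (.leaf 0) (.leaf 0)) (.node (.leaf 0) (.leaf 0))) (.node (.node (.leaf 0) (.leaf 0)) (.node (.leaf 0) (.leaf 0)))) (.node (.node (.node (.leaf 0) (.leaf 0)) (.node (.leaf 0) (.leaf 0))) (.node (.node (.leaf 0) (.leaf 0)) (.node (.leaf 0) (.leaf 0))))) (.node (.node (.node (.node (.leaf 0) (.leaf 0)) (.node (.leaf 0) (.leaf 0))) (.node (.node (.leaf 0) (.leaf 0)) (.node (.leaf 0) (.leaf 0)))) (.node (.node (.node (.leaf 0) (.leaf 0)) (.node (.leaf 0) (.leaf 0))) (.node (.node (.leaf 0) (.leaf 0)) (.node (.leaf 0) (.leaf 0))))))) (.node (.node (.node (.node (.node (.node (.leaf 0) (.leaf 0)) (.node (.leaf 0) (.leaf 0))) (.node (.node (.leaf 0) (.leaf 0)) (.node (.leaf 0) (.leaf 0)))) (.node (.node (.node (.leaf 0) (.leaf 0)) (.node (.leaf 0) (.leaf 0))) (.node (.node (.leaf 0) (.leaf 0)) (.node (.leaf 0) (.leaf 0))))) (.node (.node (.node (.node (.leaf 0) (.leaf 0)) (.node (.leaf 0) (.leaf 0))) (.node (.node (.leaf 0) (.leaf 0)) (.node (.leaf 0) (.leaf 0)))) (.node (.node (.node (.leaf 0) (.leaf 0)) (.node (.leaf 0) (.leaf 0))) (.node (.node (.leaf 0) (.leaf 0)) (.node (.leaf 0) (.leaf 0)))))) (.node (.node (.node (.node (.node (.leaf 0) (.leaf 0)) (.node (.leaf 0) (.leaf 0))) (.node (.node (.leaf 0) (.leaf 0)) (.node (.leaf 0) (.leaf 0)))) (.node (.node (.node (.leaf 0) (.leaf 0)) (.node (.leaf 0) (.leaf 0))) (.node (.node (.leaf 0) (.leaf 0)) (.node (.leaf 0) (.leaf 0))))) (.node (.node (.node (.node (.leaf 0) (.leaf 0)) (.node (.leaf 0) (.leaf 0))) (.node (.node (.leaf 0) (.leaf 0)) (.node (.leaf 0) (.leaf 0)))) (.node (.node (.node (.leaf 0) (.leaf 0)) (.node (.leaf 0) (.leaf 0))) (.node (.node (.leaf 0) (.leaf 0)) (.node (.leaf 0) (.leaf 0)))))))) (.node (.node (.node (.node (.node (.node (.node (.leaf 0) (.leaf 0)) (.node (.leaf 0) (.leaf 0))) (.node (.node (.leaf 0) (.leaf 0)) (.node (.leaf 0) (.leaf 0)))) (.node (.node (.node (.leaf 0) (.leaf 0)) (.node (.leaf 0) (.leaf 0))) (.node (.node (.leaf 0) (.leaf 0)) (.node (.leaf 0) (.leaf 0))))) (.node (.node (.node (.node (.leaf 0) (.leaf 0)) (.node (.leaf 0) (.leaf 0))) (.node (.node (.leaf 0) (.leaf 0)) (.node (.leaf 0) (.leaf 0)))) (.node (.node (.node (.leaf 0) (.leaf 0)) (.node (.leaf 0) (.leaf 0))) (.node (.node (.leaf 0) (.leaf 0)) (.node (.leaf 0) (.leaf 0)))))) (.node (.node (.node (.node (.node (.leaf 0) (.leaf 0)) (.node (.leaf 0) (.leaf 0))) (.node (.node (.leaf 0) (.leaf 0)) (.node (.leaf 0) (.leaf 0)))) (.node (.node (.node (.leaf 0) (.leaf 0)) (.node (.leaf 0) (.leaf 0))) (.node (.node (.leaf 0) (.leaf 0)) (.node (.leaf 0) (.leaf 0))))) (.node (.node (.node (.node (.leaf 0) (.leaf 0)) (.node (.leaf 0) (.leaf 0))) (.node (.node (.leaf 0) (.leaf 0)) (.node (.leaf 0) (.leaf 0)))) (.node (.node (.node (.leaf 0) (.leaf 0)) (.node (.leaf 0) (.leaf 0))) (.node (.node (.leaf 0) (.leaf 0)) (.node (.leaf 0) (.leaf 0))))))) (.node (.node (.node (.node (.node (.node (.leaf 0) (.leaf 0)) (.node (.leaf 0) (.leaf 0))) (.node (.node (.leaf 0) (.leaf 0)) (.node (.leaf 0) (.leaf 0)))) (.node (.node (.node (.leaf 0) (.leaf 0)) (.node (.leaf 0) (.leaf 0))) (.node (.node (.leaf 0) (.leaf 0)) (.node (.leaf 0) (.leaf 0))))) (.node (.node (.node (.node (.leaf 0) (.leaf 0)) (.node (.leaf 0) (.leaf 0))) (.node (.node (.leaf 0) (.leaf 0)) (.node (.leaf 0) (.leaf 0)))) (.node (.node (.node (.leaf 0) (.leaf 0)) (.node (.leaf 0) (.leaf 0))) (.node (.node (.leaf 0) (.leaf 0)) (.node (.leaf 0) (.leaf 0)))))) (.node (.node (.node (.node (.node (.leaf 0) (.leaf 0)) (.node (.leaf 0) (.leaf 0))) (.node (.node (.leaf 0) (.leaf 0)) (.node (.leaf 0) (.leaf 0)))) (.node (.node (.node (.leaf 0) (.leaf 0)) (.node (.leaf 0) (.leaf 0))) (.node (.node (.leaf 0) (.leaf 0)) (.node (.leaf 0) (.leaf 0))))) (.node (.node (.node (.node (.leaf 0) (.leaf 0)) (.node (.leaf 0) (.leaf 0))) (.node (.node (.leaf 0) (.leaf 0)) (.node (.leaf 0) (.leaf 0)))) (.node (.node (.node (.leaf 0) (.leaf 0)) (.node (.leaf 0) (.leaf 0))) (.node (.node (.leaf 0) (.leaf 0)) (.node (.leaf 0) (.leaf 0)))))))))) (.node (.node (.node (.node (.node (.node (.node (.node (.node (.leaf 0) (.leaf 0)) (.node (.leaf 0) (.leaf 0))) (.node (.node (.leaf 0) (.leaf 0)) (.node (.leaf 0) (.leaf 0)))) (.node (.node (.node (.leaf 0) (.leaf 0)) (.node (.leaf 0) (.leaf 0))) (.node (.node (.leaf 0) (.leaf 0)) (.node (.leaf 0) (.leaf 0))))) (.node (.node (.node (.node (.leaf 0) (.leaf 0)) (.node (.leaf 0) (.leaf 0))) (.node (.node (.leaf 0) (.leaf 0)) (.node (.leaf 0) (.leaf 0)))) (.node (.node (.node (.leaf 0) (.leaf 0)) (.node (.leaf 0) (.leaf 0))) (.node (.node (.leaf 0) (.leaf 0)) (.node (.leaf 0) (.leaf 0)))))) (.node (.node (.node (.node (.node (.leaf 0) (.leaf 0)) (.node (.leaf 0) (.leaf 0))) (.node (.node (.leaf 0) (.leaf 0)) (.node (.leaf 0) (.leaf 0)))) (.node (.node (.node (.leaf 0) (.leaf 0)) (.node (.leaf 0) (.leaf 0))) (.node (.node (.leaf 0) (.leaf 0)) (.node (.leaf 0) (.leaf 0))))) (.node (.node (.node (.node (.leaf 0) (.leaf 0)) (.node (.leaf 0) (.leaf 0))) (.node (.node (.leaf 0) (.leaf 0)) (.node (.leaf 0) (.leaf 0)))) (.node (.node (.node (.leaf 0) (.leaf 0)) (.node (.leaf 0) (.leaf 0))) (.node (.node (.leaf 0) (.leaf 0)) (.node (.leaf 0) (.leaf 0))))))) (.node (.node (.node (.node (.node (.node (.leaf 0) (.leaf 0)) (.node (.leaf 0) (.leaf 0))) (.node (.node (.leaf 0) (.leaf 0)) (.node (.leaf 0) (.leaf 0)))) (.node (.node (.node (.leaf 0) (.leaf 0)) (.node (.leaf 0) (.leaf 0))) (.node (.node (.leaf 0) (.leaf 0)) (.node (.leaf 0) (.leaf 0))))) (.node (.node (.node (.node (.leaf 0) (.leaf 0)) (.node (.leaf 0) (.leaf 0))) (.node (.node (.leaf 0) (.leaf 0)) (.node (.leaf 0) (.leaf 0)))) (.node (.node (.node (.leaf 0) (.leaf 0)) (.node (.leaf 0) (.leaf 0))) (.node (.node (.leaf 0) (.leaf 0)) (.node (.leaf 0) (.leaf 0)))))) (.node (.node (.node (.node (.node (.leaf 0) (.leaf 0)) (.node (.leaf 0) (.leaf 0))) (.node (.node (.leaf 0) (.leaf 0)) (.node (.leaf 0) (.leaf 0)))) (.node (.node (.node (.leaf 0) (.leaf 0)) (.node (.leaf 0) (.leaf 0))) (.node (.node (.leaf 0) (.leaf 0)) (.node (.leaf 0) (.leaf 0))))) (.node (.node (.node (.node (.leaf 0) (.leaf 0)) (.node (.leaf 0) (.leaf 0))) (.node (.node (.leaf 0) (.leaf 0)) (.node (.leaf 0) (.leaf 0)))) (.node (.node (.node (.leaf 0) (.leaf 0)) (.node (.leaf 0) (.leaf 0))) (.node (.node (.leaf 0) (.leaf 0)) (.node (.leaf 0) (.leaf 0)))))))) (.node (.node (.node (.node (.node (.node (.node (.leaf 0) (.leaf 0)) (.node (.leaf 0) (.leaf 0))) (.node (.node (.leaf 0) (.leaf 0)) (.node (.leaf 0) (.leaf 0)))) (.node (.node (.node (.leaf 0) (.leaf 0)) (.node (.leaf 0) (.leaf 0))) (.node (.node (.leaf 0) (.leaf 0)) (.node (.leaf 0) (.leaf 0))))) (.node (.node (.node (.node (.leaf 0) (.leaf 0)) (.node (.leaf 0) (.leaf 0))) (.node (.node (.leaf 0) (.leaf 0)) (.node (.leaf 0) (.leaf 0)))) (.node (.node (.node (.leaf 0) (.leaf 0)) (.node (.leaf 0) (.leaf 0))) (.node (.node (.leaf 0) (.leaf 0)) (.node (.leaf 0) (.leaf 0)))))) (.node (.node (.node (.node (.node (.leaf 0) (.leaf 0)) (.node (.leaf 0) (.leaf 0))) (.node (.node (.leaf 0) (.leaf 0)) (.node (.leaf 0) (.leaf 0)))) (.node (.node (.node (.leaf 0) (.leaf 0)) (.node (.leaf 0) (.leaf 0))) (.node (.node (.leaf 0) (.leaf 0)) (.node (.leaf 0) (.leaf 0))))) (.node (.node (.node (.node (.leaf 0) (.leaf 0)) (.node (.leaf 0) (.leaf 0))) (.node (.node (.leaf 0) (.leaf 0)) (.node (.leaf 0) (.leaf 0)))) (.node (.node (.node (.leaf 0) (.leaf 0)) (.node (.leaf 0) (.leaf 0))) (.node (.node (.leaf 0) (.leaf 0)) (.node (.leaf 0) (.leaf 0))))))) (.node (.node (.node (.node (.node (.node (.leaf 0) (.leaf 0)) (.node (.leaf 0) (.leaf 0))) (.node (.node (.leaf 0) (.leaf 0)) (.node (.leaf 0) (.leaf 0)))) (.node (.node (.node (.leaf 0) (.leaf 0)) (.node (.leaf 0) (.leaf 0))) (.node (.node (.leaf 0) (.leaf 0)) (.node (.leaf 0) (.leaf 0))))) (.node (.node (.node (.node (.leaf 0) (.leaf 0)) (.node (.leaf 0) (.leaf 0))) (.node (.node (.leaf 0) (.leaf 0)) (.node (.leaf 0) (.leaf 0)))) (.node (.node (.node (.leaf 0) (.leaf 0)) (.node (.leaf 0) (.leaf 0))) (.node (.node (.leaf 0) (.leaf 0)) (.node (.leaf 0) (.leaf 0)))))) (.node (.node (.node (.node (.node (.leaf 0) (.leaf 0)) (.node (.leaf 0) (.leaf 0))) (.node (.node (.leaf 0) (.leaf 0)) (.node (.leaf 0) (.leaf 0)))) (.node (.node (.node (.leaf 0) (.leaf 0)) (.node (.leaf 0) (.leaf 0))) (.node (.node (.leaf 0) (.leaf 0)) (.node (.leaf 0) (.leaf 0))))) (.node (.node (.node (.node (.leaf 0) (.leaf 0)) (.node (.leaf 0) (.leaf 0))) (.node (.node (.leaf 0) (.leaf 0)) (.node (.leaf 0) (.leaf 0)))) (.node (.node (.node (.leaf 0) (.leaf 0)) (.node (.leaf 0) (.leaf 0))) (.node (.node (.leaf 0) (.leaf 0)) (.node (.leaf 0) (.leaf 0))))))))) (.node (.node (.node (.node (.node (.node (.node (.node (.leaf 0) (.leaf 0)) (.node (.leaf 0) (.leaf 0))) (.node (.node (.leaf 0) (.leaf 0)) (.node (.leaf 0) (.leaf 0)))) (.node (.node (.node (.leaf 0) (.leaf 0)) (.node (.leaf 0) (.leaf 0))) (.node (.node (.leaf 0) (.leaf 0)) (.node (.leaf 0) (.leaf 0))))) (.node (.node (.node (.node (.leaf 0) (.leaf 0)) (.node (.leaf 0) (.leaf 0))) (.node (.node (.leaf 0) (.leaf 0)) (.node (.leaf 0) (.leaf 0)))) (.node (.node (.node (.leaf 0) (.leaf 0)) (.node (.leaf 0) (.leaf 0))) (.node (.node (.leaf 0) (.leaf 0)) (.node (.leaf 0) (.leaf 0)))))) (.node (.node (.node (.node (.node (.leaf 0) (.leaf 0)) (.node (.leaf 0) (.leaf 0))) (.node (.node (.leaf 0) (.leaf 0)) (.node (.leaf 0) (.leaf 0)))) (.node (.node (.node (.leaf 0) (.leaf 0)) (.node (.leaf 0) (.leaf 0))) (.node (.node (.leaf 0) (.leaf 0)) (.node (.leaf 0) (.leaf 0))))) (.node (.node (.node (.node (.leaf 0) (.leaf 0)) (.node (.leaf 0) (.leaf 0))) (.node (.node (.leaf 0) (.leaf 0)) (.node (.leaf 0) (.leaf 0)))) (.node (.node (.node (.leaf 0) (.leaf 0)) (.node (.leaf 0) (.leaf 0))) (.node (.node (.leaf 0) (.leaf 0)) (.node (.leaf 0) (.leaf 0))))))) (.node (.node (.node (.node (.node (.node (.leaf 0) (.leaf 0)) (.node (.leaf 0) (.leaf 0))) (.node (.node (.leaf 0) (.leaf 0)) (.node (.leaf 0) (.leaf 0)))) (.node (.node (.node (.leaf 0) (.leaf 0)) (.node (.leaf 0) (.leaf 0))) (.node (.node (.leaf 0) (.leaf 0)) (.node (.leaf 0) (.leaf 0))))) (.node (.node (.node (.node (.leaf 0) (.leaf 0)) (.node (.leaf 0) (.leaf 0))) (.node (.node (.leaf 0) (.leaf 0)) (.node (.leaf 0) (.leaf 0)))) (.node (.node (.node (.leaf 0) (.leaf 0)) (.node (.leaf 0) (.leaf 0))) (.node (.node (.leaf 0) (.leaf 0)) (.node (.leaf 0) (.leaf 0)))))) (.node (.node (.node (.node (.node (.leaf 0) (.leaf 0)) (.node (.leaf 0) (.leaf 0))) (.node (.node (.leaf 0) (.leaf 0)) (.node (.leaf 0) (.leaf 0)))) (.node (.node (.node (.leaf 0) (.leaf 0)) (.node (.leaf 0) (.leaf 0))) (.node (.node (.leaf 0) (.leaf 0)) (.node (.leaf 0) (.leaf 0))))) (.node (.node (.node (.node (.leaf 0) (.leaf 0)) (.node (.leaf 0) (.leaf 0))) (.node (.node (.leaf 0) (.leaf 0)) (.node (.leaf 0) (.leaf 0)))) (.node (.node (.node (.leaf 0) (.leaf 0)) (.node (.leaf 0) (.leaf 0))) (.node (.node (.leaf 0) (.leaf 0)) (.node (.leaf 0) (.leaf 0)))))))) (.node (.node (.node (.node (.node (.node (.node (.leaf 0) (.leaf 0)) (.node (.leaf 0) (.leaf 0))) (.node (.node (.leaf 0) (.leaf 0)) (.node (.leaf 0) (.leaf 0)))) (.node (.node (.node (.leaf 0) (.leaf 0)) (.node (.leaf 0) (.leaf 0))) (.node (.node (.leaf 0) (.leaf 0)) (.node (.leaf 0) (.leaf 0))))) (.node (.node (.node (.node (.leaf 0) (.leaf 0)) (.node (.leaf 0) (.leaf 0))) (.node (.node (.leaf 0) (.leaf 0)) (.node (.leaf 0) (.leaf 0)))) (.node (.node (.node (.leaf 0) (.leaf 0)) (.node (.leaf 0) (.leaf 0))) (.node (.node (.leaf 0) (.leaf 0)) (.node (.leaf 0) (.leaf 0)))))) (.node (.node (.node (.node (.node (.leaf 0) (.leaf 0)) (.node (.leaf 0) (.leaf 0))) (.node (.node (.leaf 0) (.leaf 0)) (.node (.leaf 0) (.leaf 0)))) (.node (.node (.node (.leaf 0) (.leaf 0)) (.node (.leaf 0) (.leaf 0))) (.node (.node (.leaf 0) (.leaf 0)) (.node (.leaf 0) (.leaf 0))))) (.node (.node (.node (.node (.leaf 0) (.leaf 0)) (.node (.leaf 0) (.leaf 0))) (.node (.node (.leaf 0) (.leaf 0)) (.node (.leaf 0) (.leaf 0)))) (.node (.node (.node (.leaf 0) (.leaf 0)) (.node (.leaf 0) (.leaf 0))) (.node (.node (.leaf 0) (.leaf 0)) (.node (.leaf 0) (.leaf 0))))))) (.node (.node (.node (.node (.node (.node (.leaf 0) (.leaf 0)) (.node (.leaf 0) (.leaf 0))) (.node (.node (.leaf 0) (.leaf 0)) (.node (.leaf 0) (.leaf 0)))) (.node (.node (.node (.leaf 0) (.leaf 0)) (.node (.leaf 0) (.leaf 0))) (.node (.node (.leaf 0) (.leaf 0)) (.node (.leaf 0) (.leaf 0))))) (.node (.node (.node (.node (.leaf 0) (.leaf 0)) (.node (.leaf 0) (.leaf 0))) (.node (.node (.leaf 0) (.leaf 0)) (.node (.leaf 0) (.leaf 0)))) (.node (.node (.node (.leaf 0) (.leaf 0)) (.node (.leaf 0) (.leaf 0))) (.node (.node (.leaf 0) (.leaf 0)) (.node (.leaf 0) (.leaf 0)))))) (.node (.node (.node (.node (.node (.leaf 0) (.leaf 0)) (.node (.leaf 0) (.leaf 0))) (.node (.node (.leaf 0) (.leaf 0)) (.node (.leaf 0) (.leaf 0)))) (.node (.node (.node (.leaf 0) (.leaf 0)) (.node (.leaf 0) (.leaf 0))) (.node (.node (.leaf 0) (.leaf 0)) (.node (.leaf 0) (.leaf 0))))) (.node (.node (.node (.node (.leaf 0) (.leaf 0)) (.node (.leaf 0) (.leaf 0))) (.node (.node (.leaf 0) (.leaf 0)) (.node (.leaf 0) (.leaf 0)))) (.node (.node (.node (.leaf 0) (.leaf 0)) (.node (.leaf 0) (.leaf 0))) (.node (.node (.leaf 0) (.leaf 0)) (.node (.leaf 0) (.leaf 0))))))))))))))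

/-- matrices squaring to the identity -/
def invMats : List ℕ := [84, 124, 161, 167, 214, 233, 266, 273, 275, 277, 279, 281, 302, 305, 309, 313, 337, 345, 401, 403, 458, 465]

/-- representatives -/
def invReps : List ℕ := [34960, 34946, 34964, 43136, 43137, 43140, 43168]

/-- conjugators -/
def invWit : Tree (ℕ × ℕ) :=
  (.node (.node (.node (.node (.node (.node (.node (.node (.node (.node (.node (.node (.leaf (3, 52122)) (.leaf (3, 34944))) (.node (.leaf (3, 26131)) (.leaf (0, 34944)))) (.node (.node (.leaf (3, 44960)) (.leaf (3, 54808))) (.node (.leaf (3, 30640)) (.leaf (0, 34944))))) (.node (.node (.node (.leaf (3, 38300)) (.leaf (3, 42266))) (.node (.leaf (3, 27324)) (.leaf (0, 34944)))) (.node (.node (.leaf (3, 23462)) (.leaf (0, 34944))) (.node (.leaf (3, 14896)) (.leaf (0, 34944)))))) (.node (.node (.node (.node (.leaf (3, 62222)) (.leaf (3, 62617))) (.node (.leaf (3, 11825)) (.leaf (0, 34944)))) (.node (.node (.leaf (3, 54544)) (.leaf (3, 60726))) (.node (.leaf (3, 15639)) (.leaf (0, 34944))))) (.node (.node (.node (.leaf (3, 56861)) (.leaf (3, 34721))) (.node (.leaf (3, 28844)) (.leaf (0, 34944)))) (.node (.node (.leaf (0, 34944)) (.leaf (0, 34944))) (.node (.leaf (3, 31025)) (.leaf (0, 34944))))))) (.node (.node (.node (.node (.node (.leaf (0, 34944)) (.leaf (0, 34944))) (.node (.leaf (6, 26227)) (.leaf (0, 13813)))) (.node (.node (.leaf (0, 34944)) (.leaf (0, 34944))) (.node (.leaf (6, 30672)) (.leaf (0, 13813))))) (.node (.node (.node (.leaf (0, 34944)) (.leaf (0, 34944))) (.node (.leaf (6, 20145)) (.leaf (0, 13813)))) (.node (.node (.leaf (6, 23462)) (.leaf (0, 13813))) (.node (.leaf (3, 14181)) (.leaf (0, 13813)))))) (.node (.node (.node (.node (.leaf (0, 34944)) (.leaf (0, 34944))) (.node (.leaf (3, 11223)) (.leaf (0, 13813)))) (.node (.node (.leaf (0, 34944)) (.leaf (0, 34944))) (.node (.leaf (3, 13813)) (.leaf (0, 13813))))) (.node (.node (.node (.leaf (0, 34944)) (.leaf (0, 34944))) (.node (.leaf (6, 20624)) (.leaf (0, 13813)))) (.node (.node (.leaf (0, 13813)) (.leaf (0, 13813))) (.node (.leaf (6, 31088)) (.leaf (0, 13813)))))))) (.node (.node (.node (.node (.node (.node (.leaf (6, 52122)) (.leaf (6, 34944))) (.node (.leaf (3, 18378)) (.leaf (0, 34659)))) (.node (.node (.leaf (6, 59963)) (.leaf (0, 34944))) (.node (.leaf (0, 34944)) (.leaf (0, 34659))))) (.node (.node (.node (.leaf (0, 34944)) (.leaf (3, 42441))) (.node (.leaf (6, 20033)) (.leaf (0, 34659)))) (.node (.node (.leaf (0, 34944)) (.leaf (0, 34659))) (.node (.leaf (0, 34944)) (.leaf (0, 34659)))))) (.node (.node (.node (.node (.leaf (0, 34944)) (.leaf (0, 34944))) (.node (.leaf (6, 11858)) (.leaf (0, 34659)))) (.node (.node (.leaf (0, 34944)) (.leaf (6, 52584))) (.node (.leaf (0, 34944)) (.leaf (0, 34659))))) (.node (.node (.node (.leaf (0, 34944)) (.leaf (3, 34659))) (.node (.leaf (0, 34944)) (.leaf (0, 34659)))) (.node (.node (.leaf (0, 34659)) (.leaf (0, 34659))) (.node (.leaf (0, 34944)) (.leaf (0, 34659))))))) (.node (.node (.node (.node (.node (.leaf (0, 34944)) (.leaf (0, 34944))) (.node (.leaf (6, 26131)) (.leaf (0, 56861)))) (.node (.node (.leaf (0, 34944)) (.leaf (6, 53919))) (.node (.leaf (0, 34944)) (.leaf (0, 56861))))) (.node (.node (.node (.leaf (3, 56685)) (.leaf (0, 34944))) (.node (.leaf (3, 20033)) (.leaf (0, 56861)))) (.node (.node (.leaf (0, 34944)) (.leaf (0, 56861))) (.node (.leaf (0, 34944)) (.leaf (0, 56861)))))) (.node (.node (.node (.node (.leaf (6, 63247)) (.leaf (6, 40128))) (.node (.leaf (6, 11825)) (.leaf (0, 56861)))) (.node (.node (.leaf (6, 40305)) (.leaf (0, 34944))) (.node (.leaf (0, 34944)) (.leaf (0, 56861))))) (.node (.node (.node (.leaf (3, 56957)) (.leaf (0, 34944))) (.node (.leaf (0, 34944)) (.leaf (0, 56861)))) (.node (.node (.leaf (0, 56861)) (.leaf (0, 56861))) (.node (.leaf (0, 34944)) (.leaf (0, 56861))))))))) (.node (.node (.node (.node (.node (.node (.node (.leaf (0, 34944)) (.leaf (3, 35009))) (.node (.leaf (0, 34944)) (.leaf (0, 34944)))) (.node (.node (.leaf (0, 34944)) (.leaf (0, 34944))) (.node (.leaf (0, 34944)) (.leaf (0, 34944))))) (.node (.node (.node (.leaf (6, 45325)) (.leaf (6, 42441))) (.node (.leaf (0, 34944)) (.leaf (0, 34944)))) (.node (.node (.leaf (0, 34944)) (.leaf (0, 34944))) (.node (.leaf (0, 34944)) (.leaf (0, 34944)))))) (.node (.node (.node (.node (.leaf (0, 34944)) (.leaf (3, 40128))) (.node (.leaf (0, 34944)) (.leaf (0, 34944)))) (.node (.node (.leaf (6, 54544)) (.leaf (6, 43472))) (.node (.leaf (6, 13813)) (.leaf (0, 34944))))) (.node (.node (.node (.leaf (0, 34944)) (.leaf (0, 34944))) (.node (.leaf (3, 21721)) (.leaf (0, 34944)))) (.node (.node (.leaf (0, 34944)) (.leaf (0, 34944))) (.node (.leaf (6, 31025)) (.leaf (0, 34944))))))) (.node (.node (.node (.node (.node (.leaf (3, 52187)) (.leaf (0, 34944))) (.node (.leaf (0, 34944)) (.leaf (0, 52187)))) (.node (.node (.leaf (6, 44960)) (.leaf (6, 39905))) (.node (.leaf (0, 34944)) (.leaf (0, 52187))))) (.node (.node (.node (.leaf (0, 34944)) (.leaf (0, 34944))) (.node (.leaf (0, 34944)) (.leaf (0, 52187)))) (.node (.node (.leaf (0, 34944)) (.leaf (0, 52187))) (.node (.leaf (0, 34944)) (.leaf (0, 52187)))))) (.node (.node (.node (.node (.leaf (3, 63329)) (.leaf (0, 34944))) (.node (.leaf (0, 34944)) (.leaf (0, 52187)))) (.node (.node (.leaf (0, 34944)) (.leaf (0, 34944))) (.node (.leaf (6, 13748)) (.leaf (0, 52187))))) (.node (.node (.node (.leaf (6, 64161)) (.leaf (6, 34778))) (.node (.leaf (6, 28820)) (.leaf (0, 52187)))) (.node (.node (.leaf (0, 52187)) (.leaf (0, 52187))) (.node (.leaf (3, 22001)) (.leaf (0, 52187)))))))) (.node (.node (.node (.node (.node (.node (.leaf (0, 34944)) (.leaf (6, 35009))) (.node (.leaf (0, 34944)) (.leaf (0, 54904)))) (.node (.node (.leaf (0, 34944)) (.leaf (3, 54904))) (.node (.leaf (6, 22359)) (.leaf (0, 54904))))) (.node (.node (.node (.leaf (0, 34944)) (.leaf (6, 42376))) (.node (.leaf (0, 34944)) (.leaf (0, 54904)))) (.node (.node (.leaf (3, 30312)) (.leaf (0, 54904))) (.node (.leaf (6, 14896)) (.leaf (0, 54904)))))) (.node (.node (.node (.node (.leaf (6, 63329)) (.leaf (0, 34944))) (.node (.leaf (0, 34944)) (.leaf (0, 54904)))) (.node (.node (.leaf (0, 34944)) (.leaf (3, 59854))) (.node (.leaf (0, 34944)) (.leaf (0, 54904))))) (.node (.node (.node (.leaf (6, 64001)) (.leaf (0, 34944))) (.node (.leaf (0, 34944)) (.leaf (0, 54904)))) (.node (.node (.leaf (0, 54904)) (.leaf (0, 54904))) (.node (.leaf (0, 34944)) (.leaf (0, 54904))))))) (.node (.node (.node (.node (.node (.leaf (6, 52187)) (.leaf (0, 34944))) (.node (.leaf (0, 34944)) (.leaf (0, 30672)))) (.node (.node (.leaf (3, 36710)) (.leaf (0, 34944))) (.node (.leaf (3, 30672)) (.leaf (0, 30672))))) (.node (.node (.node (.leaf (6, 38300)) (.leaf (0, 34944))) (.node (.leaf (0, 34944)) (.leaf (0, 30672)))) (.node (.node (.leaf (6, 21191)) (.leaf (0, 30672))) (.node (.leaf (6, 16102)) (.leaf (0, 30672)))))) (.node (.node (.node (.node (.leaf (0, 34944)) (.leaf (6, 54401))) (.node (.leaf (0, 34944)) (.leaf (0, 30672)))) (.node (.node (.leaf (3, 39414)) (.leaf (0, 34944))) (.node (.leaf (0, 34944)) (.leaf (0, 30672))))) (.node (.node (.node (.leaf (0, 34944)) (.leaf (6, 34721))) (.node (.leaf (0, 34944)) (.leaf (0, 30672)))) (.node (.node (.leaf (0, 30672)) (.leaf (0, 30672))) (.node (.leaf (0, 34944)) (.leaf (0, 30672)))))))))) (.node (.node (.node (.node (.node (.node (.node (.node (.leaf (0, 34944)) (.leaf (3, 52363))) (.node (.leaf (5, 26131)) (.leaf (1, 27399)))) (.node (.node (.leaf (0, 34944)) (.leaf (5, 54808))) (.node (.leaf (0, 34944)) (.leaf (1, 27399))))) (.node (.node (.node (.leaf (0, 34944)) (.leaf (3, 50476))) (.node (.leaf (0, 34944)) (.leaf (1, 27399)))) (.node (.node (.leaf (5, 21127)) (.leaf (1, 27399))) (.node (.leaf (0, 34944)) (.leaf (1, 27399)))))) (.node (.node (.node (.node (.leaf (0, 34944)) (.leaf (5, 62617))) (.node (.leaf (0, 34944)) (.leaf (1, 27399)))) (.node (.node (.leaf (0, 34944)) (.leaf (3, 35203))) (.node (.leaf (0, 34944)) (.leaf (1, 27399))))) (.node (.node (.node (.leaf (0, 34944)) (.leaf (5, 34694))) (.node (.leaf (5, 31898)) (.leaf (1, 27399)))) (.node (.node (.leaf (1, 27399)) (.leaf (1, 27399))) (.node (.leaf (0, 34944)) (.leaf (1, 27399))))))) (.node (.node (.node (.node (.node (.leaf (0, 34944)) (.leaf (0, 34944))) (.node (.leaf (0, 34944)) (.leaf (0, 34944)))) (.node (.node (.leaf (0, 34944)) (.leaf (0, 34944))) (.node (.leaf (0, 34944)) (.leaf (0, 34944))))) (.node (.node (.node (.leaf (0, 34944)) (.leaf (0, 34944))) (.node (.leaf (0, 34944)) (.leaf (0, 34944)))) (.node (.node (.leaf (0, 34944)) (.leaf (0, 34944))) (.node (.leaf (0, 34944)) (.leaf (0, 34944)))))) (.node (.node (.node (.node (.leaf (0, 34944)) (.leaf (0, 34944))) (.node (.leaf (0, 34944)) (.leaf (0, 34944)))) (.node (.node (.leaf (0, 34944)) (.leaf (0, 34944))) (.node (.leaf (0, 34944)) (.leaf (0, 34944))))) (.node (.node (.node (.leaf (0, 34944)) (.leaf (0, 34944))) (.node (.leaf (0, 34944)) (.leaf (0, 34944)))) (.node (.node (.leaf (0, 34944)) (.leaf (0, 34944))) (.node (.leaf (0, 34944)) (.leaf (0, 34944)))))))) (.node (.node (.node (.node (.node (.node (.leaf (0, 34944)) (.leaf (6, 43138))) (.node (.leaf (5, 26305)) (.leaf (2, 59118)))) (.node (.node (.leaf (0, 34944)) (.leaf (0, 34944))) (.node (.leaf (0, 34944)) (.leaf (2, 59118))))) (.node (.node (.node (.leaf (0, 34944)) (.leaf (4, 50637))) (.node (.leaf (0, 34944)) (.leaf (2, 59118)))) (.node (.node (.leaf (0, 34944)) (.leaf (2, 59118))) (.node (.leaf (0, 34944)) (.leaf (2, 59118)))))) (.node (.node (.node (.node (.leaf (0, 34944)) (.leaf (0, 34944))) (.node (.leaf (0, 34944)) (.leaf (2, 59118)))) (.node (.node (.leaf (0, 34944)) (.leaf (6, 35203))) (.node (.leaf (0, 34944)) (.leaf (2, 59118))))) (.node (.node (.node (.leaf (0, 34944)) (.leaf (5, 43006))) (.node (.leaf (0, 34944)) (.leaf (2, 59118)))) (.node (.node (.leaf (2, 59118)) (.leaf (2, 59118))) (.node (.leaf (0, 34944)) (.leaf (2, 59118))))))) (.node (.node (.node (.node (.node (.leaf (0, 34944)) (.leaf (0, 34944))) (.node (.leaf (0, 34944)) (.leaf (0, 34944)))) (.node (.node (.leaf (0, 34944)) (.leaf (0, 34944))) (.node (.leaf (0, 34944)) (.leaf (0, 34944))))) (.node (.node (.node (.leaf (0, 34944)) (.leaf (0, 34944))) (.node (.leaf (0, 34944)) (.leaf (0, 34944)))) (.node (.node (.leaf (0, 34944)) (.leaf (0, 34944))) (.node (.leaf (0, 34944)) (.leaf (0, 34944)))))) (.node (.node (.node (.node (.leaf (0, 34944)) (.leaf (0, 34944))) (.node (.leaf (0, 34944)) (.leaf (0, 34944)))) (.node (.node (.leaf (0, 34944)) (.leaf (0, 34944))) (.node (.leaf (0, 34944)) (.leaf (0, 34944))))) (.node (.node (.node (.leaf (0, 34944)) (.leaf (0, 34944))) (.node (.leaf (0, 34944)) (.leaf (0, 34944)))) (.node (.node (.leaf (0, 34944)) (.leaf (0, 34944))) (.node (.leaf (0, 34944)) (.leaf (0, 34944))))))))) (.node (.node (.node (.node (.node (.node (.node (.leaf (0, 34944)) (.leaf (4, 60614))) (.node (.leaf (0, 34944)) (.leaf (2, 21721)))) (.node (.node (.leaf (0, 34944)) (.leaf (0, 34944))) (.node (.leaf (0, 34944)) (.leaf (2, 21721))))) (.node (.node (.node (.leaf (0, 34944)) (.leaf (6, 50637))) (.node (.leaf (0, 34944)) (.leaf (2, 21721)))) (.node (.node (.leaf (0, 34944)) (.leaf (2, 21721))) (.node (.leaf (0, 34944)) (.leaf (2, 21721)))))) (.node (.node (.node (.node (.leaf (0, 34944)) (.leaf (5, 53460))) (.node (.leaf (0, 34944)) (.leaf (2, 21721)))) (.node (.node (.leaf (0, 34944)) (.leaf (6, 43492))) (.node (.leaf (0, 34944)) (.leaf (2, 21721))))) (.node (.node (.node (.leaf (0, 34944)) (.leaf (0, 34944))) (.node (.leaf (5, 21721)) (.leaf (2, 21721)))) (.node (.node (.leaf (2, 21721)) (.leaf (2, 21721))) (.node (.leaf (0, 34944)) (.leaf (2, 21721))))))) (.node (.node (.node (.node (.node (.leaf (0, 34944)) (.leaf (0, 34944))) (.node (.leaf (0, 34944)) (.leaf (0, 34944)))) (.node (.node (.leaf (0, 34944)) (.leaf (0, 34944))) (.node (.leaf (0, 34944)) (.leaf (0, 34944))))) (.node (.node (.node (.leaf (0, 34944)) (.leaf (0, 34944))) (.node (.leaf (0, 34944)) (.leaf (0, 34944)))) (.node (.node (.leaf (0, 34944)) (.leaf (0, 34944))) (.node (.leaf (0, 34944)) (.leaf (0, 34944)))))) (.node (.node (.node (.node (.leaf (0, 34944)) (.leaf (0, 34944))) (.node (.leaf (0, 34944)) (.leaf (0, 34944)))) (.node (.node (.leaf (0, 34944)) (.leaf (0, 34944))) (.node (.leaf (0, 34944)) (.leaf (0, 34944))))) (.node (.node (.node (.leaf (0, 34944)) (.leaf (0, 34944))) (.node (.leaf (0, 34944)) (.leaf (0, 34944)))) (.node (.node (.leaf (0, 34944)) (.leaf (0, 34944))) (.node (.leaf (0, 34944)) (.leaf (0, 34944)))))))) (.node (.node (.node (.node (.node (.node (.leaf (0, 34944)) (.leaf (6, 60551))) (.node (.leaf (0, 34944)) (.leaf (2, 54808)))) (.node (.node (.leaf (0, 34944)) (.leaf (5, 48115))) (.node (.leaf (0, 34944)) (.leaf (2, 54808))))) (.node (.node (.node (.leaf (0, 34944)) (.leaf (6, 50535))) (.node (.leaf (0, 34944)) (.leaf (2, 54808)))) (.node (.node (.leaf (5, 29390)) (.leaf (2, 54808))) (.node (.leaf (0, 34944)) (.leaf (2, 54808)))))) (.node (.node (.node (.node (.leaf (0, 34944)) (.leaf (0, 34944))) (.node (.leaf (0, 34944)) (.leaf (2, 54808)))) (.node (.node (.leaf (0, 34944)) (.leaf (4, 35266))) (.node (.leaf (0, 34944)) (.leaf (2, 54808))))) (.node (.node (.node (.leaf (0, 34944)) (.leaf (0, 34944))) (.node (.leaf (0, 34944)) (.leaf (2, 54808)))) (.node (.node (.leaf (2, 54808)) (.leaf (2, 54808))) (.node (.leaf (0, 34944)) (.leaf (2, 54808))))))) (.node (.node (.node (.node (.node (.leaf (0, 34944)) (.leaf (0, 34944))) (.node (.leaf (0, 34944)) (.leaf (0, 34944)))) (.node (.node (.leaf (0, 34944)) (.leaf (0, 34944))) (.node (.leaf (0, 34944)) (.leaf (0, 34944))))) (.node (.node (.node (.leaf (0, 34944)) (.leaf (0, 34944))) (.node (.leaf (0, 34944)) (.leaf (0, 34944)))) (.node (.node (.leaf (0, 34944)) (.leaf (0, 34944))) (.node (.leaf (0, 34944)) (.leaf (0, 34944)))))) (.node (.node (.node (.node (.leaf (0, 34944)) (.leaf (0, 34944))) (.node (.leaf (0, 34944)) (.leaf (0, 34944)))) (.node (.node (.leaf (0, 34944)) (.leaf (0, 34944))) (.node (.leaf (0, 34944)) (.leaf (0, 34944))))) (.node (.node (.node (.leaf (0, 34944)) (.leaf (0, 34944))) (.node (.leaf (0, 34944)) (.leaf (0, 34944)))) (.node (.node (.leaf (0, 34944)) (.leaf (0, 34944))) (.node (.leaf (0, 34944)) (.leaf (0, 34944))))))))))) (.node (.node (.node (.node (.node (.node (.node (.node (.node (.leaf (5, 60185)) (.leaf (5, 34944))) (.node (.leaf (0, 34944)) (.leaf (1, 36710)))) (.node (.node (.leaf (0, 34944)) (.leaf (0, 34944))) (.node (.leaf (0, 34944)) (.leaf (1, 36710))))) (.node (.node (.node (.leaf (0, 34944)) (.leaf (0, 34944))) (.node (.leaf (0, 34944)) (.leaf (1, 36710)))) (.node (.node (.leaf (0, 34944)) (.leaf (1, 36710))) (.node (.leaf (5, 16007)) (.leaf (1, 36710)))))) (.node (.node (.node (.node (.leaf (5, 40603)) (.leaf (5, 54427))) (.node (.leaf (5, 11923)) (.leaf (1, 36710)))) (.node (.node (.leaf (0, 34944)) (.leaf (0, 34944))) (.node (.leaf (3, 14617)) (.leaf (1, 36710))))) (.node (.node (.node (.leaf (0, 34944)) (.leaf (0, 34944))) (.node (.leaf (3, 31898)) (.leaf (1, 36710)))) (.node (.node (.leaf (1, 36710)) (.leaf (1, 36710))) (.node (.leaf (3, 29954)) (.leaf (1, 36710))))))) (.node (.node (.node (.node (.node (.leaf (0, 34944)) (.leaf (0, 34944))) (.node (.leaf (0, 34944)) (.leaf (2, 10951)))) (.node (.node (.leaf (0, 34944)) (.leaf (0, 34944))) (.node (.leaf (0, 34944)) (.leaf (2, 10951))))) (.node (.node (.node (.leaf (0, 34944)) (.leaf (0, 34944))) (.node (.leaf (0, 34944)) (.leaf (2, 10951)))) (.node (.node (.leaf (0, 34944)) (.leaf (2, 10951))) (.node (.leaf (5, 14333)) (.leaf (2, 10951)))))) (.node (.node (.node (.node (.leaf (0, 34944)) (.leaf (0, 34944))) (.node (.leaf (5, 10951)) (.leaf (2, 10951)))) (.node (.node (.leaf (0, 34944)) (.leaf (0, 34944))) (.node (.leaf (4, 15694)) (.leaf (2, 10951))))) (.node (.node (.node (.leaf (0, 34944)) (.leaf (0, 34944))) (.node (.leaf (6, 22662)) (.leaf (2, 10951)))) (.node (.node (.leaf (2, 10951)) (.leaf (2, 10951))) (.node (.leaf (6, 30050)) (.leaf (2, 10951)))))))) (.node (.node (.node (.node (.node (.node (.leaf (0, 34944)) (.leaf (0, 34944))) (.node (.leaf (0, 34944)) (.leaf (0, 34944)))) (.node (.node (.leaf (0, 34944)) (.leaf (0, 34944))) (.node (.leaf (0, 34944)) (.leaf (0, 34944))))) (.node (.node (.node (.leaf (0, 34944)) (.leaf (0, 34944))) (.node (.leaf (0, 34944)) (.leaf (0, 34944)))) (.node (.node (.leaf (0, 34944)) (.leaf (0, 34944))) (.node (.leaf (0, 34944)) (.leaf (0, 34944)))))) (.node (.node (.node (.node (.leaf (0, 34944)) (.leaf (0, 34944))) (.node (.leaf (0, 34944)) (.leaf (0, 34944)))) (.node (.node (.leaf (0, 34944)) (.leaf (0, 34944))) (.node (.leaf (0, 34944)) (.leaf (0, 34944))))) (.node (.node (.node (.leaf (0, 34944)) (.leaf (0, 34944))) (.node (.leaf (0, 34944)) (.leaf (0, 34944)))) (.node (.node (.leaf (0, 34944)) (.leaf (0, 34944))) (.node (.leaf (0, 34944)) (.leaf (0, 34944))))))) (.node (.node (.node (.node (.node (.leaf (0, 34944)) (.leaf (0, 34944))) (.node (.leaf (0, 34944)) (.leaf (0, 34944)))) (.node (.node (.leaf (0, 34944)) (.leaf (0, 34944))) (.node (.leaf (0, 34944)) (.leaf (0, 34944))))) (.node (.node (.node (.leaf (0, 34944)) (.leaf (0, 34944))) (.node (.leaf (0, 34944)) (.leaf (0, 34944)))) (.node (.node (.leaf (0, 34944)) (.leaf (0, 34944))) (.node (.leaf (0, 34944)) (.leaf (0, 34944)))))) (.node (.node (.node (.node (.leaf (0, 34944)) (.leaf (0, 34944))) (.node (.leaf (0, 34944)) (.leaf (0, 34944)))) (.node (.node (.leaf (0, 34944)) (.leaf (0, 34944))) (.node (.leaf (0, 34944)) (.leaf (0, 34944))))) (.node (.node (.node (.leaf (0, 34944)) (.leaf (0, 34944))) (.node (.leaf (0, 34944)) (.leaf (0, 34944)))) (.node (.node (.leaf (0, 34944)) (.leaf (0, 34944))) (.node (.leaf (0, 34944)) (.leaf (0, 34944))))))))) (.node (.node (.node (.node (.node (.node (.node (.leaf (0, 34944)) (.leaf (5, 35009))) (.node (.leaf (0, 34944)) (.leaf (2, 34944)))) (.node (.node (.leaf (0, 34944)) (.leaf (0, 34944))) (.node (.leaf (0, 34944)) (.leaf (2, 34944))))) (.node (.node (.node (.leaf (0, 34944)) (.leaf (0, 34944))) (.node (.leaf (0, 34944)) (.leaf (2, 34944)))) (.node (.node (.leaf (0, 34944)) (.leaf (2, 34944))) (.node (.leaf (0, 34944)) (.leaf (2, 34944)))))) (.node (.node (.node (.node (.leaf (0, 34944)) (.leaf (5, 40128))) (.node (.leaf (0, 34944)) (.leaf (2, 34944)))) (.node (.node (.leaf (0, 34944)) (.leaf (0, 34944))) (.node (.leaf (6, 14617)) (.leaf (2, 34944))))) (.node (.node (.node (.leaf (0, 34944)) (.leaf (0, 34944))) (.node (.leaf (4, 29915)) (.leaf (2, 34944)))) (.node (.node (.leaf (2, 34944)) (.leaf (2, 34944))) (.node (.leaf (6, 23033)) (.leaf (2, 34944))))))) (.node (.node (.node (.node (.node (.leaf (5, 35531)) (.leaf (0, 34944))) (.node (.leaf (0, 34944)) (.leaf (2, 40627)))) (.node (.node (.leaf (0, 34944)) (.leaf (0, 34944))) (.node (.leaf (0, 34944)) (.leaf (2, 40627))))) (.node (.node (.node (.leaf (0, 34944)) (.leaf (0, 34944))) (.node (.leaf (0, 34944)) (.leaf (2, 40627)))) (.node (.node (.leaf (0, 34944)) (.leaf (2, 40627))) (.node (.leaf (0, 34944)) (.leaf (2, 40627)))))) (.node (.node (.node (.node (.leaf (5, 55282)) (.leaf (0, 34944))) (.node (.leaf (0, 34944)) (.leaf (2, 40627)))) (.node (.node (.leaf (0, 34944)) (.leaf (0, 34944))) (.node (.leaf (6, 15694)) (.leaf (2, 40627))))) (.node (.node (.node (.leaf (0, 34944)) (.leaf (0, 34944))) (.node (.leaf (6, 31898)) (.leaf (2, 40627)))) (.node (.node (.leaf (2, 40627)) (.leaf (2, 40627))) (.node (.leaf (4, 30050)) (.leaf (2, 40627)))))))) (.node (.node (.node (.node (.node (.node (.leaf (0, 34944)) (.leaf (0, 34944))) (.node (.leaf (0, 34944)) (.leaf (0, 34944)))) (.node (.node (.leaf (0, 34944)) (.leaf (0, 34944))) (.node (.leaf (0, 34944)) (.leaf (0, 34944))))) (.node (.node (.node (.leaf (0, 34944)) (.leaf (0, 34944))) (.node (.leaf (0, 34944)) (.leaf (0, 34944)))) (.node (.node (.leaf (0, 34944)) (.leaf (0, 34944))) (.node (.leaf (0, 34944)) (.leaf (0, 34944)))))) (.node (.node (.node (.node (.leaf (0, 34944)) (.leaf (0, 34944))) (.node (.leaf (0, 34944)) (.leaf (0, 34944)))) (.node (.node (.leaf (0, 34944)) (.leaf (0, 34944))) (.node (.leaf (0, 34944)) (.leaf (0, 34944))))) (.node (.node (.node (.leaf (0, 34944)) (.leaf (0, 34944))) (.node (.leaf (0, 34944)) (.leaf (0, 34944)))) (.node (.node (.leaf (0, 34944)) (.leaf (0, 34944))) (.node (.leaf (0, 34944)) (.leaf (0, 34944))))))) (.node (.node (.node (.node (.node (.leaf (0, 34944)) (.leaf (0, 34944))) (.node (.leaf (0, 34944)) (.leaf (0, 34944)))) (.node (.node (.leaf (0, 34944)) (.leaf (0, 34944))) (.node (.leaf (0, 34944)) (.leaf (0, 34944))))) (.node (.node (.node (.leaf (0, 34944)) (.leaf (0, 34944))) (.node (.leaf (0, 34944)) (.leaf (0, 34944)))) (.node (.node (.leaf (0, 34944)) (.leaf (0, 34944))) (.node (.leaf (0, 34944)) (.leaf (0, 34944)))))) (.node (.node (.node (.node (.leaf (0, 34944)) (.leaf (0, 34944))) (.node (.leaf (0, 34944)) (.leaf (0, 34944)))) (.node (.node (.leaf (0, 34944)) (.leaf (0, 34944))) (.node (.leaf (0, 34944)) (.leaf (0, 34944))))) (.node (.node (.node (.leaf (0, 34944)) (.leaf (0, 34944))) (.node (.leaf (0, 34944)) (.leaf (0, 34944)))) (.node (.node (.leaf (0, 34944)) (.leaf (0, 34944))) (.node (.leaf (0, 34944)) (.leaf (0, 34944)))))))))) (.node (.node (.node (.node (.node (.node (.node (.node (.leaf (0, 34944)) (.leaf (5, 43138))) (.node (.leaf (0, 34944)) (.leaf (1, 14181)))) (.node (.node (.leaf (5, 51840)) (.leaf (0, 34944))) (.node (.leaf (5, 21381)) (.leaf (1, 14181))))) (.node (.node (.node (.leaf (3, 38164)) (.leaf (0, 34944))) (.node (.leaf (5, 27399)) (.leaf (1, 14181)))) (.node (.node (.leaf (0, 34944)) (.leaf (1, 14181))) (.node (.leaf (0, 34944)) (.leaf (1, 14181)))))) (.node (.node (.node (.node (.leaf (0, 34944)) (.leaf (3, 54427))) (.node (.leaf (0, 34944)) (.leaf (1, 14181)))) (.node (.node (.leaf (3, 62867)) (.leaf (0, 34944))) (.node (.leaf (0, 34944)) (.leaf (1, 14181))))) (.node (.node (.node (.leaf (5, 56861)) (.leaf (0, 34944))) (.node (.leaf (5, 30869)) (.leaf (1, 14181)))) (.node (.node (.leaf (1, 14181)) (.leaf (1, 14181))) (.node (.leaf (0, 34944)) (.leaf (1, 14181))))))) (.node (.node (.node (.node (.node (.leaf (0, 34944)) (.leaf (0, 34944))) (.node (.leaf (0, 34944)) (.leaf (0, 34944)))) (.node (.node (.leaf (0, 34944)) (.leaf (0, 34944))) (.node (.leaf (0, 34944)) (.leaf (0, 34944))))) (.node (.node (.node (.leaf (0, 34944)) (.leaf (0, 34944))) (.node (.leaf (0, 34944)) (.leaf (0, 34944)))) (.node (.node (.leaf (0, 34944)) (.leaf (0, 34944))) (.node (.leaf (0, 34944)) (.leaf (0, 34944)))))) (.node (.node (.node (.node (.leaf (0, 34944)) (.leaf (0, 34944))) (.node (.leaf (0, 34944)) (.leaf (0, 34944)))) (.node (.node (.leaf (0, 34944)) (.leaf (0, 34944))) (.node (.leaf (0, 34944)) (.leaf (0, 34944))))) (.node (.node (.node (.leaf (0, 34944)) (.leaf (0, 34944))) (.node (.leaf (0, 34944)) (.leaf (0, 34944)))) (.node (.node (.leaf (0, 34944)) (.leaf (0, 34944))) (.node (.leaf (0, 34944)) (.leaf (0, 34944)))))))) (.node (.node (.node (.node (.node (.node (.leaf (0, 34944)) (.leaf (0, 34944))) (.node (.leaf (0, 34944)) (.leaf (0, 34944)))) (.node (.node (.leaf (0, 34944)) (.leaf (0, 34944))) (.node (.leaf (0, 34944)) (.leaf (0, 34944))))) (.node (.node (.node (.leaf (0, 34944)) (.leaf (0, 34944))) (.node (.leaf (0, 34944)) (.leaf (0, 34944)))) (.node (.node (.leaf (0, 34944)) (.leaf (0, 34944))) (.node (.leaf (0, 34944)) (.leaf (0, 34944)))))) (.node (.node (.node (.node (.leaf (0, 34944)) (.leaf (0, 34944))) (.node (.leaf (0, 34944)) (.leaf (0, 34944)))) (.node (.node (.leaf (0, 34944)) (.leaf (0, 34944))) (.node (.leaf (0, 34944)) (.leaf (0, 34944))))) (.node (.node (.node (.leaf (0, 34944)) (.leaf (0, 34944))) (.node (.leaf (0, 34944)) (.leaf (0, 34944)))) (.node (.node (.leaf (0, 34944)) (.leaf (0, 34944))) (.node (.leaf (0, 34944)) (.leaf (0, 34944))))))) (.node (.node (.node (.node (.node (.leaf (0, 34944)) (.leaf (0, 34944))) (.node (.leaf (0, 34944)) (.leaf (2, 27191)))) (.node (.node (.leaf (0, 34944)) (.leaf (0, 34944))) (.node (.leaf (0, 34944)) (.leaf (2, 27191))))) (.node (.node (.node (.leaf (4, 56775)) (.leaf (0, 34944))) (.node (.leaf (5, 20330)) (.leaf (2, 27191)))) (.node (.node (.leaf (0, 34944)) (.leaf (2, 27191))) (.node (.leaf (0, 34944)) (.leaf (2, 27191)))))) (.node (.node (.node (.node (.leaf (0, 34944)) (.leaf (6, 39075))) (.node (.leaf (0, 34944)) (.leaf (2, 27191)))) (.node (.node (.leaf (6, 62867)) (.leaf (0, 34944))) (.node (.leaf (0, 34944)) (.leaf (2, 27191))))) (.node (.node (.node (.leaf (5, 64095)) (.leaf (0, 34944))) (.node (.leaf (0, 34944)) (.leaf (2, 27191)))) (.node (.node (.leaf (2, 27191)) (.leaf (2, 27191))) (.node (.leaf (0, 34944)) (.leaf (2, 27191))))))))) (.node (.node (.node (.node (.node (.node (.node (.leaf (0, 34944)) (.leaf (5, 52437))) (.node (.leaf (0, 34944)) (.leaf (2, 30869)))) (.node (.node (.leaf (0, 34944)) (.leaf (0, 34944))) (.node (.leaf (0, 34944)) (.leaf (2, 30869))))) (.node (.node (.node (.leaf (6, 38164)) (.leaf (0, 34944))) (.node (.leaf (0, 34944)) (.leaf (2, 30869)))) (.node (.node (.leaf (0, 34944)) (.leaf (2, 30869))) (.node (.leaf (0, 34944)) (.leaf (2, 30869)))))) (.node (.node (.node (.node (.leaf (0, 34944)) (.leaf (4, 39119))) (.node (.leaf (0, 34944)) (.leaf (2, 30869)))) (.node (.node (.leaf (6, 53704)) (.leaf (0, 34944))) (.node (.leaf (0, 34944)) (.leaf (2, 30869))))) (.node (.node (.node (.leaf (0, 34944)) (.leaf (0, 34944))) (.node (.leaf (5, 28927)) (.leaf (2, 30869)))) (.node (.node (.leaf (2, 30869)) (.leaf (2, 30869))) (.node (.leaf (0, 34944)) (.leaf (2, 30869))))))) (.node (.node (.node (.node (.node (.leaf (0, 34944)) (.leaf (0, 34944))) (.node (.leaf (0, 34944)) (.leaf (0, 34944)))) (.node (.node (.leaf (0, 34944)) (.leaf (0, 34944))) (.node (.leaf (0, 34944)) (.leaf (0, 34944))))) (.node (.node (.node (.leaf (0, 34944)) (.leaf (0, 34944))) (.node (.leaf (0, 34944)) (.leaf (0, 34944)))) (.node (.node (.leaf (0, 34944)) (.leaf (0, 34944))) (.node (.leaf (0, 34944)) (.leaf (0, 34944)))))) (.node (.node (.node (.node (.leaf (0, 34944)) (.leaf (0, 34944))) (.node (.leaf (0, 34944)) (.leaf (0, 34944)))) (.node (.node (.leaf (0, 34944)) (.leaf (0, 34944))) (.node (.leaf (0, 34944)) (.leaf (0, 34944))))) (.node (.node (.node (.leaf (0, 34944)) (.leaf (0, 34944))) (.node (.leaf (0, 34944)) (.leaf (0, 34944)))) (.node (.node (.leaf (0, 34944)) (.leaf (0, 34944))) (.node (.leaf (0, 34944)) (.leaf (0, 34944)))))))) (.node (.node (.node (.node (.node (.node (.leaf (0, 34944)) (.leaf (0, 34944))) (.node (.leaf (0, 34944)) (.leaf (0, 34944)))) (.node (.node (.leaf (0, 34944)) (.leaf (0, 34944))) (.node (.leaf (0, 34944)) (.leaf (0, 34944))))) (.node (.node (.node (.leaf (0, 34944)) (.leaf (0, 34944))) (.node (.leaf (0, 34944)) (.leaf (0, 34944)))) (.node (.node (.leaf (0, 34944)) (.leaf (0, 34944))) (.node (.leaf (0, 34944)) (.leaf (0, 34944)))))) (.node (.node (.node (.node (.leaf (0, 34944)) (.leaf (0, 34944))) (.node (.leaf (0, 34944)) (.leaf (0, 34944)))) (.node (.node (.leaf (0, 34944)) (.leaf (0, 34944))) (.node (.leaf (0, 34944)) (.leaf (0, 34944))))) (.node (.node (.node (.leaf (0, 34944)) (.leaf (0, 34944))) (.node (.leaf (0, 34944)) (.leaf (0, 34944)))) (.node (.node (.leaf (0, 34944)) (.leaf (0, 34944))) (.node (.leaf (0, 34944)) (.leaf (0, 34944))))))) (.node (.node (.node (.node (.node (.leaf (0, 34944)) (.leaf (0, 34944))) (.node (.leaf (0, 34944)) (.leaf (2, 51896)))) (.node (.node (.leaf (5, 61133)) (.leaf (0, 34944))) (.node (.leaf (5, 32448)) (.leaf (2, 51896))))) (.node (.node (.node (.leaf (6, 38278)) (.leaf (0, 34944))) (.node (.leaf (0, 34944)) (.leaf (2, 51896)))) (.node (.node (.leaf (0, 34944)) (.leaf (2, 51896))) (.node (.leaf (0, 34944)) (.leaf (2, 51896)))))) (.node (.node (.node (.node (.leaf (0, 34944)) (.leaf (6, 54427))) (.node (.leaf (0, 34944)) (.leaf (2, 51896)))) (.node (.node (.leaf (4, 61765)) (.leaf (0, 34944))) (.node (.leaf (0, 34944)) (.leaf (2, 51896))))) (.node (.node (.node (.leaf (0, 34944)) (.leaf (0, 34944))) (.node (.leaf (0, 34944)) (.leaf (2, 51896)))) (.node (.node (.leaf (2, 51896)) (.leaf (2, 51896))) (.node (.leaf (0, 34944)) (.leaf (2, 51896)))))))))))) (.node (.node (.node (.node (.node (.node (.node (.node (.node (.node (.leaf (0, 34944)) (.leaf (0, 34944))) (.node (.leaf (3, 26420)) (.leaf (1, 34944)))) (.node (.node (.leaf (0, 34944)) (.leaf (0, 34944))) (.node (.leaf (0, 34944)) (.leaf (1, 34944))))) (.node (.node (.node (.leaf (5, 38300)) (.leaf (5, 42266))) (.node (.leaf (3, 27399)) (.leaf (1, 34944)))) (.node (.node (.leaf (0, 34944)) (.leaf (1, 34944))) (.node (.leaf (5, 13056)) (.leaf (1, 34944)))))) (.node (.node (.node (.node (.leaf (0, 34944)) (.leaf (0, 34944))) (.node (.leaf (3, 11946)) (.leaf (1, 34944)))) (.node (.node (.leaf (0, 34944)) (.leaf (0, 34944))) (.node (.leaf (5, 14617)) (.leaf (1, 34944))))) (.node (.node (.node (.leaf (5, 64152)) (.leaf (5, 58911))) (.node (.leaf (0, 34944)) (.leaf (1, 34944)))) (.node (.node (.leaf (1, 34944)) (.leaf (1, 34944))) (.node (.leaf (0, 34944)) (.leaf (1, 34944))))))) (.node (.node (.node (.node (.node (.leaf (0, 34944)) (.leaf (0, 34944))) (.node (.leaf (6, 17925)) (.leaf (2, 13056)))) (.node (.node (.leaf (0, 34944)) (.leaf (0, 34944))) (.node (.leaf (0, 34944)) (.leaf (2, 13056))))) (.node (.node (.node (.leaf (0, 34944)) (.leaf (0, 34944))) (.node (.leaf (6, 27462)) (.leaf (2, 13056)))) (.node (.node (.leaf (0, 34944)) (.leaf (2, 13056))) (.node (.leaf (5, 13251)) (.leaf (2, 13056)))))) (.node (.node (.node (.node (.leaf (0, 34944)) (.leaf (0, 34944))) (.node (.leaf (4, 11087)) (.leaf (2, 13056)))) (.node (.node (.leaf (0, 34944)) (.leaf (0, 34944))) (.node (.leaf (5, 14845)) (.leaf (2, 13056))))) (.node (.node (.node (.leaf (0, 34944)) (.leaf (0, 34944))) (.node (.leaf (0, 34944)) (.leaf (2, 13056)))) (.node (.node (.leaf (2, 13056)) (.leaf (2, 13056))) (.node (.leaf (0, 34944)) (.leaf (2, 13056)))))))) (.node (.node (.node (.node (.node (.node (.leaf (0, 34944)) (.leaf (0, 34944))) (.node (.leaf (4, 17988)) (.leaf (2, 42441)))) (.node (.node (.leaf (0, 34944)) (.leaf (0, 34944))) (.node (.leaf (0, 34944)) (.leaf (2, 42441))))) (.node (.node (.node (.leaf (0, 34944)) (.leaf (5, 42441))) (.node (.leaf (6, 20330)) (.leaf (2, 42441)))) (.node (.node (.leaf (0, 34944)) (.leaf (2, 42441))) (.node (.leaf (0, 34944)) (.leaf (2, 42441)))))) (.node (.node (.node (.node (.leaf (0, 34944)) (.leaf (0, 34944))) (.node (.leaf (6, 12249)) (.leaf (2, 42441)))) (.node (.node (.leaf (0, 34944)) (.leaf (0, 34944))) (.node (.leaf (0, 34944)) (.leaf (2, 42441))))) (.node (.node (.node (.leaf (0, 34944)) (.leaf (5, 59118))) (.node (.leaf (0, 34944)) (.leaf (2, 42441)))) (.node (.node (.leaf (2, 42441)) (.leaf (2, 42441))) (.node (.leaf (0, 34944)) (.leaf (2, 42441))))))) (.node (.node (.node (.node (.node (.leaf (0, 34944)) (.leaf (0, 34944))) (.node (.leaf (6, 18174)) (.leaf (2, 45992)))) (.node (.node (.leaf (0, 34944)) (.leaf (0, 34944))) (.node (.leaf (0, 34944)) (.leaf (2, 45992))))) (.node (.node (.node (.leaf (5, 63979)) (.leaf (0, 34944))) (.node (.leaf (4, 20330)) (.leaf (2, 45992)))) (.node (.node (.leaf (0, 34944)) (.leaf (2, 45992))) (.node (.leaf (0, 34944)) (.leaf (2, 45992)))))) (.node (.node (.node (.node (.leaf (0, 34944)) (.leaf (0, 34944))) (.node (.leaf (6, 11087)) (.leaf (2, 45992)))) (.node (.node (.leaf (0, 34944)) (.leaf (0, 34944))) (.node (.leaf (0, 34944)) (.leaf (2, 45992))))) (.node (.node (.node (.leaf (5, 64123)) (.leaf (0, 34944))) (.node (.leaf (0, 34944)) (.leaf (2, 45992)))) (.node (.node (.leaf (2, 45992)) (.leaf (2, 45992))) (.node (.leaf (0, 34944)) (.leaf (2, 45992))))))))) (.node (.node (.node (.node (.node (.node (.node (.leaf (0, 34944)) (.leaf (0, 34944))) (.node (.leaf (0, 34944)) (.leaf (0, 34944)))) (.node (.node (.leaf (0, 34944)) (.leaf (0, 34944))) (.node (.leaf (0, 34944)) (.leaf (0, 34944))))) (.node (.node (.node (.leaf (0, 34944)) (.leaf (0, 34944))) (.node (.leaf (0, 34944)) (.leaf (0, 34944)))) (.node (.node (.leaf (0, 34944)) (.leaf (0, 34944))) (.node (.leaf (0, 34944)) (.leaf (0, 34944)))))) (.node (.node (.node (.node (.leaf (0, 34944)) (.leaf (0, 34944))) (.node (.leaf (0, 34944)) (.leaf (0, 34944)))) (.node (.node (.leaf (0, 34944)) (.leaf (0, 34944))) (.node (.leaf (0, 34944)) (.leaf (0, 34944))))) (.node (.node (.node (.leaf (0, 34944)) (.leaf (0, 34944))) (.node (.leaf (0, 34944)) (.leaf (0, 34944)))) (.node (.node (.leaf (0, 34944)) (.leaf (0, 34944))) (.node (.leaf (0, 34944)) (.leaf (0, 34944))))))) (.node (.node (.node (.node (.node (.leaf (0, 34944)) (.leaf (0, 34944))) (.node (.leaf (0, 34944)) (.leaf (0, 34944)))) (.node (.node (.leaf (0, 34944)) (.leaf (0, 34944))) (.node (.leaf (0, 34944)) (.leaf (0, 34944))))) (.node (.node (.node (.leaf (0, 34944)) (.leaf (0, 34944))) (.node (.leaf (0, 34944)) (.leaf (0, 34944)))) (.node (.node (.leaf (0, 34944)) (.leaf (0, 34944))) (.node (.leaf (0, 34944)) (.leaf (0, 34944)))))) (.node (.node (.node (.node (.leaf (0, 34944)) (.leaf (0, 34944))) (.node (.leaf (0, 34944)) (.leaf (0, 34944)))) (.node (.node (.leaf (0, 34944)) (.leaf (0, 34944))) (.node (.leaf (0, 34944)) (.leaf (0, 34944))))) (.node (.node (.node (.leaf (0, 34944)) (.leaf (0, 34944))) (.node (.leaf (0, 34944)) (.leaf (0, 34944)))) (.node (.node (.leaf (0, 34944)) (.leaf (0, 34944))) (.node (.leaf (0, 34944)) (.leaf (0, 34944)))))))) (.node (.node (.node (.node (.node (.node (.leaf (0, 34944)) (.leaf (0, 34944))) (.node (.leaf (0, 34944)) (.leaf (0, 34944)))) (.node (.node (.leaf (0, 34944)) (.leaf (0, 34944))) (.node (.leaf (0, 34944)) (.leaf (0, 34944))))) (.node (.node (.node (.leaf (0, 34944)) (.leaf (0, 34944))) (.node (.leaf (0, 34944)) (.leaf (0, 34944)))) (.node (.node (.leaf (0, 34944)) (.leaf (0, 34944))) (.node (.leaf (0, 34944)) (.leaf (0, 34944)))))) (.node (.node (.node (.node (.leaf (0, 34944)) (.leaf (0, 34944))) (.node (.leaf (0, 34944)) (.leaf (0, 34944)))) (.node (.node (.leaf (0, 34944)) (.leaf (0, 34944))) (.node (.leaf (0, 34944)) (.leaf (0, 34944))))) (.node (.node (.node (.leaf (0, 34944)) (.leaf (0, 34944))) (.node (.leaf (0, 34944)) (.leaf (0, 34944)))) (.node (.node (.leaf (0, 34944)) (.leaf (0, 34944))) (.node (.leaf (0, 34944)) (.leaf (0, 34944))))))) (.node (.node (.node (.node (.node (.leaf (0, 34944)) (.leaf (0, 34944))) (.node (.leaf (0, 34944)) (.leaf (0, 34944)))) (.node (.node (.leaf (0, 34944)) (.leaf (0, 34944))) (.node (.leaf (0, 34944)) (.leaf (0, 34944))))) (.node (.node (.node (.leaf (0, 34944)) (.leaf (0, 34944))) (.node (.leaf (0, 34944)) (.leaf (0, 34944)))) (.node (.node (.leaf (0, 34944)) (.leaf (0, 34944))) (.node (.leaf (0, 34944)) (.leaf (0, 34944)))))) (.node (.node (.node (.node (.leaf (0, 34944)) (.leaf (0, 34944))) (.node (.leaf (0, 34944)) (.leaf (0, 34944)))) (.node (.node (.leaf (0, 34944)) (.leaf (0, 34944))) (.node (.leaf (0, 34944)) (.leaf (0, 34944))))) (.node (.node (.node (.leaf (0, 34944)) (.leaf (0, 34944))) (.node (.leaf (0, 34944)) (.leaf (0, 34944)))) (.node (.node (.leaf (0, 34944)) (.leaf (0, 34944))) (.node (.leaf (0, 34944)) (.leaf (0, 34944)))))))))) (.node (.node (.node (.node (.node (.node (.node (.node (.leaf (3, 36541)) (.leaf (0, 34944))) (.node (.leaf (5, 18185)) (.leaf (1, 59854)))) (.node (.node (.leaf (3, 51896)) (.leaf (0, 34944))) (.node (.leaf (5, 29451)) (.leaf (1, 59854))))) (.node (.node (.node (.leaf (0, 34944)) (.leaf (5, 42270))) (.node (.leaf (0, 34944)) (.leaf (1, 59854)))) (.node (.node (.leaf (0, 34944)) (.leaf (1, 59854))) (.node (.leaf (0, 34944)) (.leaf (1, 59854)))))) (.node (.node (.node (.node (.leaf (5, 62222)) (.leaf (0, 34944))) (.node (.leaf (0, 34944)) (.leaf (1, 59854)))) (.node (.node (.leaf (5, 54544)) (.leaf (0, 34944))) (.node (.leaf (0, 34944)) (.leaf (1, 59854))))) (.node (.node (.node (.leaf (0, 34944)) (.leaf (3, 58911))) (.node (.leaf (0, 34944)) (.leaf (1, 59854)))) (.node (.node (.leaf (1, 59854)) (.leaf (1, 59854))) (.node (.leaf (5, 22940)) (.leaf (1, 59854))))))) (.node (.node (.node (.node (.node (.leaf (0, 34944)) (.leaf (0, 34944))) (.node (.leaf (0, 34944)) (.leaf (0, 34944)))) (.node (.node (.leaf (0, 34944)) (.leaf (0, 34944))) (.node (.leaf (0, 34944)) (.leaf (0, 34944))))) (.node (.node (.node (.leaf (0, 34944)) (.leaf (0, 34944))) (.node (.leaf (0, 34944)) (.leaf (0, 34944)))) (.node (.node (.leaf (0, 34944)) (.leaf (0, 34944))) (.node (.leaf (0, 34944)) (.leaf (0, 34944)))))) (.node (.node (.node (.node (.leaf (0, 34944)) (.leaf (0, 34944))) (.node (.leaf (0, 34944)) (.leaf (0, 34944)))) (.node (.node (.leaf (0, 34944)) (.leaf (0, 34944))) (.node (.leaf (0, 34944)) (.leaf (0, 34944))))) (.node (.node (.node (.leaf (0, 34944)) (.leaf (0, 34944))) (.node (.leaf (0, 34944)) (.leaf (0, 34944)))) (.node (.node (.leaf (0, 34944)) (.leaf (0, 34944))) (.node (.leaf (0, 34944)) (.leaf (0, 34944)))))))) (.node (.node (.node (.node (.node (.node (.leaf (6, 44658)) (.leaf (0, 34944))) (.node (.leaf (5, 18378)) (.leaf (2, 18378)))) (.node (.node (.leaf (6, 51896)) (.leaf (0, 34944))) (.node (.leaf (0, 34944)) (.leaf (2, 18378))))) (.node (.node (.node (.leaf (0, 34944)) (.leaf (5, 42366))) (.node (.leaf (0, 34944)) (.leaf (2, 18378)))) (.node (.node (.leaf (0, 34944)) (.leaf (2, 18378))) (.node (.leaf (0, 34944)) (.leaf (2, 18378)))))) (.node (.node (.node (.node (.leaf (0, 34944)) (.leaf (0, 34944))) (.node (.leaf (0, 34944)) (.leaf (2, 18378)))) (.node (.node (.leaf (0, 34944)) (.leaf (0, 34944))) (.node (.leaf (0, 34944)) (.leaf (2, 18378))))) (.node (.node (.node (.leaf (0, 34944)) (.leaf (4, 59118))) (.node (.leaf (0, 34944)) (.leaf (2, 18378)))) (.node (.node (.leaf (2, 18378)) (.leaf (2, 18378))) (.node (.leaf (0, 34944)) (.leaf (2, 18378))))))) (.node (.node (.node (.node (.node (.leaf (0, 34944)) (.leaf (0, 34944))) (.node (.leaf (0, 34944)) (.leaf (0, 34944)))) (.node (.node (.leaf (0, 34944)) (.leaf (0, 34944))) (.node (.leaf (0, 34944)) (.leaf (0, 34944))))) (.node (.node (.node (.leaf (0, 34944)) (.leaf (0, 34944))) (.node (.leaf (0, 34944)) (.leaf (0, 34944)))) (.node (.node (.leaf (0, 34944)) (.leaf (0, 34944))) (.node (.leaf (0, 34944)) (.leaf (0, 34944)))))) (.node (.node (.node (.node (.leaf (0, 34944)) (.leaf (0, 34944))) (.node (.leaf (0, 34944)) (.leaf (0, 34944)))) (.node (.node (.leaf (0, 34944)) (.leaf (0, 34944))) (.node (.leaf (0, 34944)) (.leaf (0, 34944))))) (.node (.node (.node (.leaf (0, 34944)) (.leaf (0, 34944))) (.node (.leaf (0, 34944)) (.leaf (0, 34944)))) (.node (.node (.leaf (0, 34944)) (.leaf (0, 34944))) (.node (.leaf (0, 34944)) (.leaf (0, 34944))))))))) (.node (.node (.node (.node (.node (.node (.node (.leaf (0, 34944)) (.leaf (0, 34944))) (.node (.leaf (0, 34944)) (.leaf (0, 34944)))) (.node (.node (.leaf (0, 34944)) (.leaf (0, 34944))) (.node (.leaf (0, 34944)) (.leaf (0, 34944))))) (.node (.node (.node (.leaf (0, 34944)) (.leaf (0, 34944))) (.node (.leaf (0, 34944)) (.leaf (0, 34944)))) (.node (.node (.leaf (0, 34944)) (.leaf (0, 34944))) (.node (.leaf (0, 34944)) (.leaf (0, 34944)))))) (.node (.node (.node (.node (.leaf (0, 34944)) (.leaf (0, 34944))) (.node (.leaf (0, 34944)) (.leaf (0, 34944)))) (.node (.node (.leaf (0, 34944)) (.leaf (0, 34944))) (.node (.leaf (0, 34944)) (.leaf (0, 34944))))) (.node (.node (.node (.leaf (0, 34944)) (.leaf (0, 34944))) (.node (.leaf (0, 34944)) (.leaf (0, 34944)))) (.node (.node (.leaf (0, 34944)) (.leaf (0, 34944))) (.node (.leaf (0, 34944)) (.leaf (0, 34944))))))) (.node (.node (.node (.node (.node (.leaf (4, 43612)) (.leaf (0, 34944))) (.node (.leaf (0, 34944)) (.leaf (2, 30050)))) (.node (.node (.leaf (6, 36654)) (.leaf (0, 34944))) (.node (.leaf (0, 34944)) (.leaf (2, 30050))))) (.node (.node (.node (.leaf (0, 34944)) (.leaf (0, 34944))) (.node (.leaf (0, 34944)) (.leaf (2, 30050)))) (.node (.node (.leaf (0, 34944)) (.leaf (2, 30050))) (.node (.leaf (0, 34944)) (.leaf (2, 30050)))))) (.node (.node (.node (.node (.leaf (5, 62293)) (.leaf (0, 34944))) (.node (.leaf (0, 34944)) (.leaf (2, 30050)))) (.node (.node (.leaf (0, 34944)) (.leaf (0, 34944))) (.node (.leaf (0, 34944)) (.leaf (2, 30050))))) (.node (.node (.node (.leaf (0, 34944)) (.leaf (6, 58997))) (.node (.leaf (0, 34944)) (.leaf (2, 30050)))) (.node (.node (.leaf (2, 30050)) (.leaf (2, 30050))) (.node (.leaf (5, 32114)) (.leaf (2, 30050)))))))) (.node (.node (.node (.node (.node (.node (.leaf (0, 34944)) (.leaf (0, 34944))) (.node (.leaf (0, 34944)) (.leaf (0, 34944)))) (.node (.node (.leaf (0, 34944)) (.leaf (0, 34944))) (.node (.leaf (0, 34944)) (.leaf (0, 34944))))) (.node (.node (.node (.leaf (0, 34944)) (.leaf (0, 34944))) (.node (.leaf (0, 34944)) (.leaf (0, 34944)))) (.node (.node (.leaf (0, 34944)) (.leaf (0, 34944))) (.node (.leaf (0, 34944)) (.leaf (0, 34944)))))) (.node (.node (.node (.node (.leaf (0, 34944)) (.leaf (0, 34944))) (.node (.leaf (0, 34944)) (.leaf (0, 34944)))) (.node (.node (.leaf (0, 34944)) (.leaf (0, 34944))) (.node (.leaf (0, 34944)) (.leaf (0, 34944))))) (.node (.node (.node (.leaf (0, 34944)) (.leaf (0, 34944))) (.node (.leaf (0, 34944)) (.leaf (0, 34944)))) (.node (.node (.leaf (0, 34944)) (.leaf (0, 34944))) (.node (.leaf (0, 34944)) (.leaf (0, 34944))))))) (.node (.node (.node (.node (.node (.leaf (6, 43612)) (.leaf (0, 34944))) (.node (.leaf (0, 34944)) (.leaf (2, 30672)))) (.node (.node (.leaf (4, 51961)) (.leaf (0, 34944))) (.node (.leaf (5, 30672)) (.leaf (2, 30672))))) (.node (.node (.node (.leaf (0, 34944)) (.leaf (0, 34944))) (.node (.leaf (0, 34944)) (.leaf (2, 30672)))) (.node (.node (.leaf (0, 34944)) (.leaf (2, 30672))) (.node (.leaf (0, 34944)) (.leaf (2, 30672)))))) (.node (.node (.node (.node (.leaf (0, 34944)) (.leaf (0, 34944))) (.node (.leaf (0, 34944)) (.leaf (2, 30672)))) (.node (.node (.leaf (5, 40297)) (.leaf (0, 34944))) (.node (.leaf (0, 34944)) (.leaf (2, 30672))))) (.node (.node (.node (.leaf (0, 34944)) (.leaf (6, 50854))) (.node (.leaf (0, 34944)) (.leaf (2, 30672)))) (.node (.node (.leaf (2, 30672)) (.leaf (2, 30672))) (.node (.leaf (0, 34944)) (.leaf (2, 30672))))))))))) (.node (.node (.node (.node (.node (.node (.node (.node (.node (.leaf (0, 34944)) (.leaf (0, 34944))) (.node (.leaf (0, 34944)) (.leaf (1, 50637)))) (.node (.node (.leaf (5, 43789)) (.leaf (5, 48912))) (.node (.leaf (3, 21381)) (.leaf (1, 50637))))) (.node (.node (.node (.leaf (0, 34944)) (.leaf (0, 34944))) (.node (.leaf (0, 34944)) (.leaf (1, 50637)))) (.node (.node (.leaf (3, 29341)) (.leaf (1, 50637))) (.node (.leaf (3, 15934)) (.leaf (1, 50637)))))) (.node (.node (.node (.node (.leaf (0, 34944)) (.leaf (0, 34944))) (.node (.leaf (5, 11158)) (.leaf (1, 50637)))) (.node (.node (.leaf (5, 62867)) (.leaf (5, 44294))) (.node (.leaf (5, 15639)) (.leaf (1, 50637))))) (.node (.node (.node (.leaf (0, 34944)) (.leaf (0, 34944))) (.node (.leaf (0, 34944)) (.leaf (1, 50637)))) (.node (.node (.leaf (1, 50637)) (.leaf (1, 50637))) (.node (.leaf (0, 34944)) (.leaf (1, 50637))))))) (.node (.node (.node (.node (.node (.leaf (0, 34944)) (.leaf (0, 34944))) (.node (.leaf (0, 34944)) (.leaf (2, 11223)))) (.node (.node (.leaf (0, 34944)) (.leaf (0, 34944))) (.node (.leaf (6, 21381)) (.leaf (2, 11223))))) (.node (.node (.node (.leaf (0, 34944)) (.leaf (0, 34944))) (.node (.leaf (0, 34944)) (.leaf (2, 11223)))) (.node (.node (.leaf (6, 32610)) (.leaf (2, 11223))) (.node (.leaf (4, 14333)) (.leaf (2, 11223)))))) (.node (.node (.node (.node (.leaf (0, 34944)) (.leaf (0, 34944))) (.node (.leaf (5, 11223)) (.leaf (2, 11223)))) (.node (.node (.leaf (0, 34944)) (.leaf (0, 34944))) (.node (.leaf (5, 13678)) (.leaf (2, 11223))))) (.node (.node (.node (.leaf (0, 34944)) (.leaf (0, 34944))) (.node (.leaf (0, 34944)) (.leaf (2, 11223)))) (.node (.node (.leaf (2, 11223)) (.leaf (2, 11223))) (.node (.leaf (0, 34944)) (.leaf (2, 11223)))))))) (.node (.node (.node (.node (.node (.node (.leaf (0, 34944)) (.leaf (0, 34944))) (.node (.leaf (0, 34944)) (.leaf (0, 34944)))) (.node (.node (.leaf (0, 34944)) (.leaf (0, 34944))) (.node (.leaf (0, 34944)) (.leaf (0, 34944))))) (.node (.node (.node (.leaf (0, 34944)) (.leaf (0, 34944))) (.node (.leaf (0, 34944)) (.leaf (0, 34944)))) (.node (.node (.leaf (0, 34944)) (.leaf (0, 34944))) (.node (.leaf (0, 34944)) (.leaf (0, 34944)))))) (.node (.node (.node (.node (.leaf (0, 34944)) (.leaf (0, 34944))) (.node (.leaf (0, 34944)) (.leaf (0, 34944)))) (.node (.node (.leaf (0, 34944)) (.leaf (0, 34944))) (.node (.leaf (0, 34944)) (.leaf (0, 34944))))) (.node (.node (.node (.leaf (0, 34944)) (.leaf (0, 34944))) (.node (.leaf (0, 34944)) (.leaf (0, 34944)))) (.node (.node (.leaf (0, 34944)) (.leaf (0, 34944))) (.node (.leaf (0, 34944)) (.leaf (0, 34944))))))) (.node (.node (.node (.node (.node (.leaf (0, 34944)) (.leaf (0, 34944))) (.node (.leaf (0, 34944)) (.leaf (0, 34944)))) (.node (.node (.leaf (0, 34944)) (.leaf (0, 34944))) (.node (.leaf (0, 34944)) (.leaf (0, 34944))))) (.node (.node (.node (.leaf (0, 34944)) (.leaf (0, 34944))) (.node (.leaf (0, 34944)) (.leaf (0, 34944)))) (.node (.node (.leaf (0, 34944)) (.leaf (0, 34944))) (.node (.leaf (0, 34944)) (.leaf (0, 34944)))))) (.node (.node (.node (.node (.leaf (0, 34944)) (.leaf (0, 34944))) (.node (.leaf (0, 34944)) (.leaf (0, 34944)))) (.node (.node (.leaf (0, 34944)) (.leaf (0, 34944))) (.node (.leaf (0, 34944)) (.leaf (0, 34944))))) (.node (.node (.node (.leaf (0, 34944)) (.leaf (0, 34944))) (.node (.leaf (0, 34944)) (.leaf (0, 34944)))) (.node (.node (.leaf (0, 34944)) (.leaf (0, 34944))) (.node (.leaf (0, 34944)) (.leaf (0, 34944))))))))) (.node (.node (.node (.node (.node (.node (.node (.leaf (0, 34944)) (.leaf (0, 34944))) (.node (.leaf (0, 34944)) (.leaf (0, 34944)))) (.node (.node (.leaf (0, 34944)) (.leaf (0, 34944))) (.node (.leaf (0, 34944)) (.leaf (0, 34944))))) (.node (.node (.node (.leaf (0, 34944)) (.leaf (0, 34944))) (.node (.leaf (0, 34944)) (.leaf (0, 34944)))) (.node (.node (.leaf (0, 34944)) (.leaf (0, 34944))) (.node (.leaf (0, 34944)) (.leaf (0, 34944)))))) (.node (.node (.node (.node (.leaf (0, 34944)) (.leaf (0, 34944))) (.node (.leaf (0, 34944)) (.leaf (0, 34944)))) (.node (.node (.leaf (0, 34944)) (.leaf (0, 34944))) (.node (.leaf (0, 34944)) (.leaf (0, 34944))))) (.node (.node (.node (.leaf (0, 34944)) (.leaf (0, 34944))) (.node (.leaf (0, 34944)) (.leaf (0, 34944)))) (.node (.node (.leaf (0, 34944)) (.leaf (0, 34944))) (.node (.leaf (0, 34944)) (.leaf (0, 34944))))))) (.node (.node (.node (.node (.node (.leaf (0, 34944)) (.leaf (0, 34944))) (.node (.leaf (0, 34944)) (.leaf (0, 34944)))) (.node (.node (.leaf (0, 34944)) (.leaf (0, 34944))) (.node (.leaf (0, 34944)) (.leaf (0, 34944))))) (.node (.node (.node (.leaf (0, 34944)) (.leaf (0, 34944))) (.node (.leaf (0, 34944)) (.leaf (0, 34944)))) (.node (.node (.leaf (0, 34944)) (.leaf (0, 34944))) (.node (.leaf (0, 34944)) (.leaf (0, 34944)))))) (.node (.node (.node (.node (.leaf (0, 34944)) (.leaf (0, 34944))) (.node (.leaf (0, 34944)) (.leaf (0, 34944)))) (.node (.node (.leaf (0, 34944)) (.leaf (0, 34944))) (.node (.leaf (0, 34944)) (.leaf (0, 34944))))) (.node (.node (.node (.leaf (0, 34944)) (.leaf (0, 34944))) (.node (.leaf (0, 34944)) (.leaf (0, 34944)))) (.node (.node (.leaf (0, 34944)) (.leaf (0, 34944))) (.node (.leaf (0, 34944)) (.leaf (0, 34944)))))))) (.node (.node (.node (.node (.node (.node (.leaf (0, 34944)) (.leaf (0, 34944))) (.node (.leaf (0, 34944)) (.leaf (2, 43472)))) (.node (.node (.leaf (0, 34944)) (.leaf (5, 63082))) (.node (.leaf (6, 32424)) (.leaf (2, 43472))))) (.node (.node (.node (.leaf (0, 34944)) (.leaf (0, 34944))) (.node (.leaf (0, 34944)) (.leaf (2, 43472)))) (.node (.node (.leaf (4, 22138)) (.leaf (2, 43472))) (.node (.leaf (6, 16063)) (.leaf (2, 43472)))))) (.node (.node (.node (.node (.leaf (0, 34944)) (.leaf (0, 34944))) (.node (.leaf (0, 34944)) (.leaf (2, 43472)))) (.node (.node (.leaf (0, 34944)) (.leaf (5, 43472))) (.node (.leaf (0, 34944)) (.leaf (2, 43472))))) (.node (.node (.node (.leaf (0, 34944)) (.leaf (0, 34944))) (.node (.leaf (0, 34944)) (.leaf (2, 43472)))) (.node (.node (.leaf (2, 43472)) (.leaf (2, 43472))) (.node (.leaf (0, 34944)) (.leaf (2, 43472))))))) (.node (.node (.node (.node (.node (.leaf (0, 34944)) (.leaf (0, 34944))) (.node (.leaf (0, 34944)) (.leaf (2, 43789)))) (.node (.node (.leaf (5, 51961)) (.leaf (0, 34944))) (.node (.leaf (4, 32489)) (.leaf (2, 43789))))) (.node (.node (.node (.leaf (0, 34944)) (.leaf (0, 34944))) (.node (.leaf (0, 34944)) (.leaf (2, 43789)))) (.node (.node (.leaf (6, 22138)) (.leaf (2, 43789))) (.node (.leaf (6, 14333)) (.leaf (2, 43789)))))) (.node (.node (.node (.node (.leaf (0, 34944)) (.leaf (0, 34944))) (.node (.leaf (0, 34944)) (.leaf (2, 43789)))) (.node (.node (.leaf (5, 61823)) (.leaf (0, 34944))) (.node (.leaf (0, 34944)) (.leaf (2, 43789))))) (.node (.node (.node (.leaf (0, 34944)) (.leaf (0, 34944))) (.node (.leaf (0, 34944)) (.leaf (2, 43789)))) (.node (.node (.leaf (2, 43789)) (.leaf (2, 43789))) (.node (.leaf (0, 34944)) (.leaf (2, 43789)))))))))) (.node (.node (.node (.node (.node (.node (.node (.node (.leaf (5, 52122)) (.leaf (0, 34944))) (.node (.leaf (0, 34944)) (.leaf (1, 59118)))) (.node (.node (.leaf (0, 34944)) (.leaf (3, 48042))) (.node (.leaf (0, 34944)) (.leaf (1, 59118))))) (.node (.node (.node (.leaf (5, 38164)) (.leaf (0, 34944))) (.node (.leaf (5, 27533)) (.leaf (1, 59118)))) (.node (.node (.leaf (5, 29341)) (.leaf (1, 59118))) (.node (.leaf (0, 34944)) (.leaf (1, 59118)))))) (.node (.node (.node (.node (.leaf (3, 40627)) (.leaf (0, 34944))) (.node (.leaf (0, 34944)) (.leaf (1, 59118)))) (.node (.node (.leaf (0, 34944)) (.leaf (5, 35203))) (.node (.leaf (0, 34944)) (.leaf (1, 59118))))) (.node (.node (.node (.leaf (3, 64152)) (.leaf (0, 34944))) (.node (.leaf (0, 34944)) (.leaf (1, 59118)))) (.node (.node (.leaf (1, 59118)) (.leaf (1, 59118))) (.node (.leaf (5, 29954)) (.leaf (1, 59118))))))) (.node (.node (.node (.node (.node (.leaf (0, 34944)) (.leaf (0, 34944))) (.node (.leaf (0, 34944)) (.leaf (0, 34944)))) (.node (.node (.leaf (0, 34944)) (.leaf (0, 34944))) (.node (.leaf (0, 34944)) (.leaf (0, 34944))))) (.node (.node (.node (.leaf (0, 34944)) (.leaf (0, 34944))) (.node (.leaf (0, 34944)) (.leaf (0, 34944)))) (.node (.node (.leaf (0, 34944)) (.leaf (0, 34944))) (.node (.leaf (0, 34944)) (.leaf (0, 34944)))))) (.node (.node (.node (.node (.leaf (0, 34944)) (.leaf (0, 34944))) (.node (.leaf (0, 34944)) (.leaf (0, 34944)))) (.node (.node (.leaf (0, 34944)) (.leaf (0, 34944))) (.node (.leaf (0, 34944)) (.leaf (0, 34944))))) (.node (.node (.node (.leaf (0, 34944)) (.leaf (0, 34944))) (.node (.leaf (0, 34944)) (.leaf (0, 34944)))) (.node (.node (.leaf (0, 34944)) (.leaf (0, 34944))) (.node (.leaf (0, 34944)) (.leaf (0, 34944)))))))) (.node (.node (.node (.node (.node (.node (.leaf (0, 34944)) (.leaf (0, 34944))) (.node (.leaf (0, 34944)) (.leaf (0, 34944)))) (.node (.node (.leaf (0, 34944)) (.leaf (0, 34944))) (.node (.leaf (0, 34944)) (.leaf (0, 34944))))) (.node (.node (.node (.leaf (0, 34944)) (.leaf (0, 34944))) (.node (.leaf (0, 34944)) (.leaf (0, 34944)))) (.node (.node (.leaf (0, 34944)) (.leaf (0, 34944))) (.node (.leaf (0, 34944)) (.leaf (0, 34944)))))) (.node (.node (.node (.node (.leaf (0, 34944)) (.leaf (0, 34944))) (.node (.leaf (0, 34944)) (.leaf (0, 34944)))) (.node (.node (.leaf (0, 34944)) (.leaf (0, 34944))) (.node (.leaf (0, 34944)) (.leaf (0, 34944))))) (.node (.node (.node (.leaf (0, 34944)) (.leaf (0, 34944))) (.node (.leaf (0, 34944)) (.leaf (0, 34944)))) (.node (.node (.leaf (0, 34944)) (.leaf (0, 34944))) (.node (.leaf (0, 34944)) (.leaf (0, 34944))))))) (.node (.node (.node (.node (.node (.leaf (0, 34944)) (.leaf (0, 34944))) (.node (.leaf (0, 34944)) (.leaf (2, 63979)))) (.node (.node (.leaf (0, 34944)) (.leaf (6, 48115))) (.node (.leaf (0, 34944)) (.leaf (2, 63979))))) (.node (.node (.node (.leaf (5, 45563)) (.leaf (0, 34944))) (.node (.leaf (5, 20090)) (.leaf (2, 63979)))) (.node (.node (.leaf (0, 34944)) (.leaf (2, 63979))) (.node (.leaf (0, 34944)) (.leaf (2, 63979)))))) (.node (.node (.node (.node (.leaf (6, 55282)) (.leaf (0, 34944))) (.node (.leaf (0, 34944)) (.leaf (2, 63979)))) (.node (.node (.leaf (0, 34944)) (.leaf (0, 34944))) (.node (.leaf (0, 34944)) (.leaf (2, 63979))))) (.node (.node (.node (.leaf (4, 38868)) (.leaf (0, 34944))) (.node (.leaf (0, 34944)) (.leaf (2, 63979)))) (.node (.node (.leaf (2, 63979)) (.leaf (2, 63979))) (.node (.leaf (0, 34944)) (.leaf (2, 63979))))))))) (.node (.node (.node (.node (.node (.node (.node (.leaf (0, 34944)) (.leaf (0, 34944))) (.node (.leaf (0, 34944)) (.leaf (0, 34944)))) (.node (.node (.leaf (0, 34944)) (.leaf (0, 34944))) (.node (.leaf (0, 34944)) (.leaf (0, 34944))))) (.node (.node (.node (.leaf (0, 34944)) (.leaf (0, 34944))) (.node (.leaf (0, 34944)) (.leaf (0, 34944)))) (.node (.node (.leaf (0, 34944)) (.leaf (0, 34944))) (.node (.leaf (0, 34944)) (.leaf (0, 34944)))))) (.node (.node (.node (.node (.leaf (0, 34944)) (.leaf (0, 34944))) (.node (.leaf (0, 34944)) (.leaf (0, 34944)))) (.node (.node (.leaf (0, 34944)) (.leaf (0, 34944))) (.node (.leaf (0, 34944)) (.leaf (0, 34944))))) (.node (.node (.node (.leaf (0, 34944)) (.leaf (0, 34944))) (.node (.leaf (0, 34944)) (.leaf (0, 34944)))) (.node (.node (.leaf (0, 34944)) (.leaf (0, 34944))) (.node (.leaf (0, 34944)) (.leaf (0, 34944))))))) (.node (.node (.node (.node (.node (.leaf (5, 52187)) (.leaf (0, 34944))) (.node (.leaf (0, 34944)) (.leaf (2, 52187)))) (.node (.node (.leaf (0, 34944)) (.leaf (6, 48042))) (.node (.leaf (0, 34944)) (.leaf (2, 52187))))) (.node (.node (.node (.leaf (0, 34944)) (.leaf (0, 34944))) (.node (.leaf (0, 34944)) (.leaf (2, 52187)))) (.node (.node (.leaf (0, 34944)) (.leaf (2, 52187))) (.node (.leaf (0, 34944)) (.leaf (2, 52187)))))) (.node (.node (.node (.node (.leaf (4, 55282)) (.leaf (0, 34944))) (.node (.leaf (0, 34944)) (.leaf (2, 52187)))) (.node (.node (.leaf (0, 34944)) (.leaf (0, 34944))) (.node (.leaf (0, 34944)) (.leaf (2, 52187))))) (.node (.node (.node (.leaf (6, 38868)) (.leaf (0, 34944))) (.node (.leaf (0, 34944)) (.leaf (2, 52187)))) (.node (.node (.leaf (2, 52187)) (.leaf (2, 52187))) (.node (.leaf (5, 30050)) (.leaf (2, 52187)))))))) (.node (.node (.node (.node (.node (.node (.leaf (0, 34944)) (.leaf (0, 34944))) (.node (.leaf (0, 34944)) (.leaf (2, 59854)))) (.node (.node (.leaf (0, 34944)) (.leaf (4, 48115))) (.node (.leaf (0, 34944)) (.leaf (2, 59854))))) (.node (.node (.node (.leaf (0, 34944)) (.leaf (0, 34944))) (.node (.leaf (0, 34944)) (.leaf (2, 59854)))) (.node (.node (.leaf (5, 22138)) (.leaf (2, 59854))) (.node (.leaf (0, 34944)) (.leaf (2, 59854)))))) (.node (.node (.node (.node (.leaf (6, 47622)) (.leaf (0, 34944))) (.node (.leaf (0, 34944)) (.leaf (2, 59854)))) (.node (.node (.leaf (0, 34944)) (.leaf (5, 59854))) (.node (.leaf (0, 34944)) (.leaf (2, 59854))))) (.node (.node (.node (.leaf (6, 45847)) (.leaf (0, 34944))) (.node (.leaf (0, 34944)) (.leaf (2, 59854)))) (.node (.node (.leaf (2, 59854)) (.leaf (2, 59854))) (.node (.leaf (0, 34944)) (.leaf (2, 59854))))))) (.node (.node (.node (.node (.node (.leaf (0, 34944)) (.leaf (0, 34944))) (.node (.leaf (0, 34944)) (.leaf (0, 34944)))) (.node (.node (.leaf (0, 34944)) (.leaf (0, 34944))) (.node (.leaf (0, 34944)) (.leaf (0, 34944))))) (.node (.node (.node (.leaf (0, 34944)) (.leaf (0, 34944))) (.node (.leaf (0, 34944)) (.leaf (0, 34944)))) (.node (.node (.leaf (0, 34944)) (.leaf (0, 34944))) (.node (.leaf (0, 34944)) (.leaf (0, 34944)))))) (.node (.node (.node (.node (.leaf (0, 34944)) (.leaf (0, 34944))) (.node (.leaf (0, 34944)) (.leaf (0, 34944)))) (.node (.node (.leaf (0, 34944)) (.leaf (0, 34944))) (.node (.leaf (0, 34944)) (.leaf (0, 34944))))) (.node (.node (.node (.leaf (0, 34944)) (.leaf (0, 34944))) (.node (.leaf (0, 34944)) (.leaf (0, 34944)))) (.node (.node (.leaf (0, 34944)) (.leaf (0, 34944))) (.node (.leaf (0, 34944)) (.leaf (0, 34944))))))))))))) (.node (.node (.node (.node (.node (.node (.node (.node (.node (.node (.node (.leaf (4, 52122)) (.leaf (4, 34944))) (.node (.leaf (4, 26131)) (.leaf (0, 34944)))) (.node (.node (.leaf (4, 44960)) (.leaf (4, 54808))) (.node (.leaf (4, 30640)) (.leaf (0, 34944))))) (.node (.node (.node (.leaf (4, 38300)) (.leaf (4, 42266))) (.node (.leaf (4, 27324)) (.leaf (0, 34944)))) (.node (.node (.leaf (4, 23462)) (.leaf (0, 34944))) (.node (.leaf (4, 14896)) (.leaf (0, 34944)))))) (.node (.node (.node (.node (.leaf (4, 62222)) (.leaf (4, 62617))) (.node (.leaf (4, 11825)) (.leaf (0, 34944)))) (.node (.node (.leaf (4, 54544)) (.leaf (4, 60726))) (.node (.leaf (4, 15639)) (.leaf (0, 34944))))) (.node (.node (.node (.leaf (4, 56861)) (.leaf (4, 34721))) (.node (.leaf (4, 28844)) (.leaf (0, 34944)))) (.node (.node (.leaf (0, 34944)) (.leaf (0, 34944))) (.node (.leaf (4, 31025)) (.leaf (0, 34944))))))) (.node (.node (.node (.node (.node (.leaf (0, 34944)) (.leaf (0, 34944))) (.node (.leaf (6, 18346)) (.leaf (0, 11087)))) (.node (.node (.leaf (0, 34944)) (.leaf (0, 34944))) (.node (.leaf (6, 21420)) (.leaf (0, 11087))))) (.node (.node (.node (.leaf (0, 34944)) (.leaf (0, 34944))) (.node (.leaf (6, 20108)) (.leaf (0, 11087)))) (.node (.node (.leaf (6, 30312)) (.leaf (0, 11087))) (.node (.leaf (4, 14181)) (.leaf (0, 11087)))))) (.node (.node (.node (.node (.leaf (0, 34944)) (.leaf (0, 34944))) (.node (.leaf (4, 11223)) (.leaf (0, 11087)))) (.node (.node (.leaf (0, 34944)) (.leaf (0, 34944))) (.node (.leaf (4, 13813)) (.leaf (0, 11087))))) (.node (.node (.node (.leaf (0, 34944)) (.leaf (0, 34944))) (.node (.leaf (6, 21693)) (.leaf (0, 11087)))) (.node (.node (.leaf (0, 11087)) (.leaf (0, 11087))) (.node (.leaf (6, 23998)) (.leaf (0, 11087)))))))) (.node (.node (.node (.node (.node (.node (.leaf (6, 61311)) (.leaf (6, 43140))) (.node (.leaf (4, 18378)) (.leaf (0, 59118)))) (.node (.node (.leaf (6, 36710)) (.leaf (0, 34944))) (.node (.leaf (0, 34944)) (.leaf (0, 59118))))) (.node (.node (.node (.leaf (0, 34944)) (.leaf (4, 42441))) (.node (.leaf (6, 27324)) (.leaf (0, 59118)))) (.node (.node (.leaf (0, 34944)) (.leaf (0, 59118))) (.node (.leaf (0, 34944)) (.leaf (0, 59118)))))) (.node (.node (.node (.node (.leaf (0, 34944)) (.leaf (0, 34944))) (.node (.leaf (6, 12005)) (.leaf (0, 59118)))) (.node (.node (.leaf (0, 34944)) (.leaf (6, 60743))) (.node (.leaf (0, 34944)) (.leaf (0, 59118))))) (.node (.node (.node (.leaf (0, 34944)) (.leaf (4, 34659))) (.node (.leaf (0, 34944)) (.leaf (0, 59118)))) (.node (.node (.leaf (0, 59118)) (.leaf (0, 59118))) (.node (.leaf (0, 34944)) (.leaf (0, 59118))))))) (.node (.node (.node (.node (.node (.leaf (0, 34944)) (.leaf (0, 34944))) (.node (.leaf (6, 18378)) (.leaf (0, 27399)))) (.node (.node (.leaf (0, 34944)) (.leaf (6, 54904))) (.node (.leaf (0, 34944)) (.leaf (0, 27399))))) (.node (.node (.node (.leaf (4, 56685)) (.leaf (0, 34944))) (.node (.leaf (4, 20033)) (.leaf (0, 27399)))) (.node (.node (.leaf (0, 34944)) (.leaf (0, 27399))) (.node (.leaf (0, 34944)) (.leaf (0, 27399)))))) (.node (.node (.node (.node (.leaf (6, 40699)) (.leaf (6, 62617))) (.node (.leaf (6, 11223)) (.leaf (0, 27399)))) (.node (.node (.leaf (6, 62871)) (.leaf (0, 34944))) (.node (.leaf (0, 34944)) (.leaf (0, 27399))))) (.node (.node (.node (.leaf (4, 56957)) (.leaf (0, 34944))) (.node (.leaf (0, 34944)) (.leaf (0, 27399)))) (.node (.node (.leaf (0, 27399)) (.leaf (0, 27399))) (.node (.leaf (0, 34944)) (.leaf (0, 27399))))))))) (.node (.node (.node (.node (.node (.node (.node (.leaf (0, 34944)) (.leaf (4, 35009))) (.node (.leaf (0, 34944)) (.leaf (0, 31898)))) (.node (.node (.leaf (0, 34944)) (.leaf (0, 34944))) (.node (.leaf (0, 34944)) (.leaf (0, 31898))))) (.node (.node (.node (.leaf (6, 38207)) (.leaf (6, 42266))) (.node (.leaf (0, 34944)) (.leaf (0, 31898)))) (.node (.node (.leaf (0, 34944)) (.leaf (0, 31898))) (.node (.leaf (0, 34944)) (.leaf (0, 31898)))))) (.node (.node (.node (.node (.leaf (0, 34944)) (.leaf (4, 40128))) (.node (.leaf (0, 34944)) (.leaf (0, 31898)))) (.node (.node (.leaf (6, 39414)) (.leaf (6, 60726))) (.node (.leaf (6, 15639)) (.leaf (0, 31898))))) (.node (.node (.node (.leaf (0, 34944)) (.leaf (0, 34944))) (.node (.leaf (4, 21721)) (.leaf (0, 31898)))) (.node (.node (.leaf (0, 31898)) (.leaf (0, 31898))) (.node (.leaf (6, 32027)) (.leaf (0, 31898))))))) (.node (.node (.node (.node (.node (.leaf (4, 52187)) (.leaf (0, 34944))) (.node (.leaf (0, 34944)) (.leaf (0, 43612)))) (.node (.node (.leaf (6, 36647)) (.leaf (6, 54808))) (.node (.leaf (0, 34944)) (.leaf (0, 43612))))) (.node (.node (.node (.leaf (0, 34944)) (.leaf (0, 34944))) (.node (.leaf (0, 34944)) (.leaf (0, 43612)))) (.node (.node (.leaf (0, 34944)) (.leaf (0, 43612))) (.node (.leaf (0, 34944)) (.leaf (0, 43612)))))) (.node (.node (.node (.node (.leaf (4, 63329)) (.leaf (0, 34944))) (.node (.leaf (0, 34944)) (.leaf (0, 43612)))) (.node (.node (.leaf (0, 34944)) (.leaf (0, 34944))) (.node (.leaf (6, 14674)) (.leaf (0, 43612))))) (.node (.node (.node (.leaf (6, 56861)) (.leaf (6, 34594))) (.node (.leaf (6, 21721)) (.leaf (0, 43612)))) (.node (.node (.leaf (0, 43612)) (.leaf (0, 43612))) (.node (.leaf (4, 22001)) (.leaf (0, 43612)))))))) (.node (.node (.node (.node (.node (.node (.leaf (0, 34944)) (.leaf (6, 60557))) (.node (.leaf (0, 34944)) (.leaf (0, 35266)))) (.node (.node (.leaf (0, 34944)) (.leaf (4, 54904))) (.node (.leaf (6, 29451)) (.leaf (0, 35266))))) (.node (.node (.node (.leaf (0, 34944)) (.leaf (6, 42331))) (.node (.leaf (0, 34944)) (.leaf (0, 35266)))) (.node (.node (.leaf (4, 30312)) (.leaf (0, 35266))) (.node (.leaf (6, 14181)) (.leaf (0, 35266)))))) (.node (.node (.node (.node (.leaf (6, 62261)) (.leaf (0, 34944))) (.node (.leaf (0, 34944)) (.leaf (0, 35266)))) (.node (.node (.leaf (0, 34944)) (.leaf (4, 59854))) (.node (.leaf (0, 34944)) (.leaf (0, 35266))))) (.node (.node (.node (.leaf (6, 56957)) (.leaf (0, 34944))) (.node (.leaf (0, 34944)) (.leaf (0, 35266)))) (.node (.node (.leaf (0, 35266)) (.leaf (0, 35266))) (.node (.leaf (0, 34944)) (.leaf (0, 35266))))))) (.node (.node (.node (.node (.node (.leaf (6, 61188)) (.leaf (0, 34944))) (.node (.leaf (0, 34944)) (.leaf (0, 51896)))) (.node (.node (.leaf (4, 36710)) (.leaf (0, 34944))) (.node (.leaf (4, 30672)) (.leaf (0, 51896))))) (.node (.node (.node (.leaf (6, 63810)) (.leaf (0, 34944))) (.node (.leaf (0, 34944)) (.leaf (0, 51896)))) (.node (.node (.leaf (6, 32553)) (.leaf (0, 51896))) (.node (.leaf (6, 15908)) (.leaf (0, 51896)))))) (.node (.node (.node (.node (.leaf (0, 34944)) (.leaf (6, 53460))) (.node (.leaf (0, 34944)) (.leaf (0, 51896)))) (.node (.node (.leaf (4, 39414)) (.leaf (0, 34944))) (.node (.leaf (0, 34944)) (.leaf (0, 51896))))) (.node (.node (.node (.leaf (0, 34944)) (.leaf (6, 34659))) (.node (.leaf (0, 34944)) (.leaf (0, 51896)))) (.node (.node (.leaf (0, 51896)) (.leaf (0, 51896))) (.node (.leaf (0, 34944)) (.leaf (0, 51896)))))))))) (.node (.node (.node (.node (.node (.node (.node (.node (.leaf (0, 34944)) (.leaf (4, 52363))) (.node (.leaf (5, 26420)) (.leaf (1, 43612)))) (.node (.node (.leaf (0, 34944)) (.leaf (5, 48042))) (.node (.leaf (0, 34944)) (.leaf (1, 43612))))) (.node (.node (.node (.leaf (0, 34944)) (.leaf (4, 50476))) (.node (.leaf (0, 34944)) (.leaf (1, 43612)))) (.node (.node (.leaf (5, 32563)) (.leaf (1, 43612))) (.node (.leaf (0, 34944)) (.leaf (1, 43612)))))) (.node (.node (.node (.node (.leaf (0, 34944)) (.leaf (5, 40107))) (.node (.leaf (0, 34944)) (.leaf (1, 43612)))) (.node (.node (.leaf (0, 34944)) (.leaf (4, 35203))) (.node (.leaf (0, 34944)) (.leaf (1, 43612))))) (.node (.node (.node (.leaf (0, 34944)) (.leaf (5, 42918))) (.node (.leaf (5, 28844)) (.leaf (1, 43612)))) (.node (.node (.leaf (1, 43612)) (.leaf (1, 43612))) (.node (.leaf (0, 34944)) (.leaf (1, 43612))))))) (.node (.node (.node (.node (.node (.leaf (0, 34944)) (.leaf (0, 34944))) (.node (.leaf (0, 34944)) (.leaf (0, 34944)))) (.node (.node (.leaf (0, 34944)) (.leaf (0, 34944))) (.node (.leaf (0, 34944)) (.leaf (0, 34944))))) (.node (.node (.node (.leaf (0, 34944)) (.leaf (0, 34944))) (.node (.leaf (0, 34944)) (.leaf (0, 34944)))) (.node (.node (.leaf (0, 34944)) (.leaf (0, 34944))) (.node (.leaf (0, 34944)) (.leaf (0, 34944)))))) (.node (.node (.node (.node (.leaf (0, 34944)) (.leaf (0, 34944))) (.node (.leaf (0, 34944)) (.leaf (0, 34944)))) (.node (.node (.leaf (0, 34944)) (.leaf (0, 34944))) (.node (.leaf (0, 34944)) (.leaf (0, 34944))))) (.node (.node (.node (.leaf (0, 34944)) (.leaf (0, 34944))) (.node (.leaf (0, 34944)) (.leaf (0, 34944)))) (.node (.node (.leaf (0, 34944)) (.leaf (0, 34944))) (.node (.leaf (0, 34944)) (.leaf (0, 34944)))))))) (.node (.node (.node (.node (.node (.node (.leaf (0, 34944)) (.leaf (6, 60614))) (.node (.leaf (5, 26227)) (.leaf (2, 58911)))) (.node (.node (.leaf (0, 34944)) (.leaf (0, 34944))) (.node (.leaf (0, 34944)) (.leaf (2, 58911))))) (.node (.node (.node (.leaf (0, 34944)) (.leaf (3, 50637))) (.node (.leaf (0, 34944)) (.leaf (2, 58911)))) (.node (.node (.leaf (0, 34944)) (.leaf (2, 58911))) (.node (.leaf (0, 34944)) (.leaf (2, 58911)))))) (.node (.node (.node (.node (.leaf (0, 34944)) (.leaf (0, 34944))) (.node (.leaf (0, 34944)) (.leaf (2, 58911)))) (.node (.node (.leaf (0, 34944)) (.leaf (6, 36204))) (.node (.leaf (0, 34944)) (.leaf (2, 58911))))) (.node (.node (.node (.leaf (0, 34944)) (.leaf (5, 50800))) (.node (.leaf (0, 34944)) (.leaf (2, 58911)))) (.node (.node (.leaf (2, 58911)) (.leaf (2, 58911))) (.node (.leaf (0, 34944)) (.leaf (2, 58911))))))) (.node (.node (.node (.node (.node (.leaf (0, 34944)) (.leaf (0, 34944))) (.node (.leaf (0, 34944)) (.leaf (0, 34944)))) (.node (.node (.leaf (0, 34944)) (.leaf (0, 34944))) (.node (.leaf (0, 34944)) (.leaf (0, 34944))))) (.node (.node (.node (.leaf (0, 34944)) (.leaf (0, 34944))) (.node (.leaf (0, 34944)) (.leaf (0, 34944)))) (.node (.node (.leaf (0, 34944)) (.leaf (0, 34944))) (.node (.leaf (0, 34944)) (.leaf (0, 34944)))))) (.node (.node (.node (.node (.leaf (0, 34944)) (.leaf (0, 34944))) (.node (.leaf (0, 34944)) (.leaf (0, 34944)))) (.node (.node (.leaf (0, 34944)) (.leaf (0, 34944))) (.node (.leaf (0, 34944)) (.leaf (0, 34944))))) (.node (.node (.node (.leaf (0, 34944)) (.leaf (0, 34944))) (.node (.leaf (0, 34944)) (.leaf (0, 34944)))) (.node (.node (.leaf (0, 34944)) (.leaf (0, 34944))) (.node (.leaf (0, 34944)) (.leaf (0, 34944))))))))) (.node (.node (.node (.node (.node (.node (.node (.leaf (0, 34944)) (.leaf (3, 60614))) (.node (.leaf (0, 34944)) (.leaf (2, 54427)))) (.node (.node (.leaf (0, 34944)) (.leaf (0, 34944))) (.node (.leaf (0, 34944)) (.leaf (2, 54427))))) (.node (.node (.node (.leaf (0, 34944)) (.leaf (6, 42270))) (.node (.leaf (0, 34944)) (.leaf (2, 54427)))) (.node (.node (.leaf (0, 34944)) (.leaf (2, 54427))) (.node (.leaf (0, 34944)) (.leaf (2, 54427)))))) (.node (.node (.node (.node (.leaf (0, 34944)) (.leaf (5, 39119))) (.node (.leaf (0, 34944)) (.leaf (2, 54427)))) (.node (.node (.leaf (0, 34944)) (.leaf (6, 35266))) (.node (.leaf (0, 34944)) (.leaf (2, 54427))))) (.node (.node (.node (.leaf (0, 34944)) (.leaf (0, 34944))) (.node (.leaf (5, 28916)) (.leaf (2, 54427)))) (.node (.node (.leaf (2, 54427)) (.leaf (2, 54427))) (.node (.leaf (0, 34944)) (.leaf (2, 54427))))))) (.node (.node (.node (.node (.node (.leaf (0, 34944)) (.leaf (0, 34944))) (.node (.leaf (0, 34944)) (.leaf (0, 34944)))) (.node (.node (.leaf (0, 34944)) (.leaf (0, 34944))) (.node (.leaf (0, 34944)) (.leaf (0, 34944))))) (.node (.node (.node (.leaf (0, 34944)) (.leaf (0, 34944))) (.node (.leaf (0, 34944)) (.leaf (0, 34944)))) (.node (.node (.leaf (0, 34944)) (.leaf (0, 34944))) (.node (.leaf (0, 34944)) (.leaf (0, 34944)))))) (.node (.node (.node (.node (.leaf (0, 34944)) (.leaf (0, 34944))) (.node (.leaf (0, 34944)) (.leaf (0, 34944)))) (.node (.node (.leaf (0, 34944)) (.leaf (0, 34944))) (.node (.leaf (0, 34944)) (.leaf (0, 34944))))) (.node (.node (.node (.leaf (0, 34944)) (.leaf (0, 34944))) (.node (.leaf (0, 34944)) (.leaf (0, 34944)))) (.node (.node (.leaf (0, 34944)) (.leaf (0, 34944))) (.node (.leaf (0, 34944)) (.leaf (0, 34944)))))))) (.node (.node (.node (.node (.node (.node (.leaf (0, 34944)) (.leaf (6, 52363))) (.node (.leaf (0, 34944)) (.leaf (2, 54904)))) (.node (.node (.leaf (0, 34944)) (.leaf (5, 54904))) (.node (.leaf (0, 34944)) (.leaf (2, 54904))))) (.node (.node (.node (.leaf (0, 34944)) (.leaf (6, 50596))) (.node (.leaf (0, 34944)) (.leaf (2, 54904)))) (.node (.node (.leaf (5, 30312)) (.leaf (2, 54904))) (.node (.leaf (0, 34944)) (.leaf (2, 54904)))))) (.node (.node (.node (.node (.leaf (0, 34944)) (.leaf (0, 34944))) (.node (.leaf (0, 34944)) (.leaf (2, 54904)))) (.node (.node (.leaf (0, 34944)) (.leaf (3, 35266))) (.node (.leaf (0, 34944)) (.leaf (2, 54904))))) (.node (.node (.node (.leaf (0, 34944)) (.leaf (0, 34944))) (.node (.leaf (0, 34944)) (.leaf (2, 54904)))) (.node (.node (.leaf (2, 54904)) (.leaf (2, 54904))) (.node (.leaf (0, 34944)) (.leaf (2, 54904))))))) (.node (.node (.node (.node (.node (.leaf (0, 34944)) (.leaf (0, 34944))) (.node (.leaf (0, 34944)) (.leaf (0, 34944)))) (.node (.node (.leaf (0, 34944)) (.leaf (0, 34944))) (.node (.leaf (0, 34944)) (.leaf (0, 34944))))) (.node (.node (.node (.leaf (0, 34944)) (.leaf (0, 34944))) (.node (.leaf (0, 34944)) (.leaf (0, 34944)))) (.node (.node (.leaf (0, 34944)) (.leaf (0, 34944))) (.node (.leaf (0, 34944)) (.leaf (0, 34944)))))) (.node (.node (.node (.node (.leaf (0, 34944)) (.leaf (0, 34944))) (.node (.leaf (0, 34944)) (.leaf (0, 34944)))) (.node (.node (.leaf (0, 34944)) (.leaf (0, 34944))) (.node (.leaf (0, 34944)) (.leaf (0, 34944))))) (.node (.node (.node (.leaf (0, 34944)) (.leaf (0, 34944))) (.node (.leaf (0, 34944)) (.leaf (0, 34944)))) (.node (.node (.leaf (0, 34944)) (.leaf (0, 34944))) (.node (.leaf (0, 34944)) (.leaf (0, 34944))))))))))) (.node (.node (.node (.node (.node (.node (.node (.node (.node (.leaf (5, 44580)) (.leaf (5, 59583))) (.node (.leaf (0, 34944)) (.leaf (1, 54904)))) (.node (.node (.leaf (0, 34944)) (.leaf (0, 34944))) (.node (.leaf (0, 34944)) (.leaf (1, 54904))))) (.node (.node (.node (.leaf (0, 34944)) (.leaf (0, 34944))) (.node (.leaf (0, 34944)) (.leaf (1, 54904)))) (.node (.node (.leaf (0, 34944)) (.leaf (1, 54904))) (.node (.leaf (5, 14896)) (.leaf (1, 54904)))))) (.node (.node (.node (.node (.leaf (5, 47668)) (.leaf (5, 47265))) (.node (.leaf (5, 11825)) (.leaf (1, 54904)))) (.node (.node (.leaf (0, 34944)) (.leaf (0, 34944))) (.node (.leaf (4, 14617)) (.leaf (1, 54904))))) (.node (.node (.node (.leaf (0, 34944)) (.leaf (0, 34944))) (.node (.leaf (4, 31898)) (.leaf (1, 54904)))) (.node (.node (.leaf (1, 54904)) (.leaf (1, 54904))) (.node (.leaf (4, 29954)) (.leaf (1, 54904))))))) (.node (.node (.node (.node (.node (.leaf (0, 34944)) (.leaf (0, 34944))) (.node (.leaf (0, 34944)) (.leaf (2, 14896)))) (.node (.node (.leaf (0, 34944)) (.leaf (0, 34944))) (.node (.leaf (0, 34944)) (.leaf (2, 14896))))) (.node (.node (.node (.leaf (0, 34944)) (.leaf (0, 34944))) (.node (.leaf (0, 34944)) (.leaf (2, 14896)))) (.node (.node (.leaf (0, 34944)) (.leaf (2, 14896))) (.node (.leaf (5, 15989)) (.leaf (2, 14896)))))) (.node (.node (.node (.node (.leaf (0, 34944)) (.leaf (0, 34944))) (.node (.leaf (5, 11087)) (.leaf (2, 14896)))) (.node (.node (.leaf (0, 34944)) (.leaf (0, 34944))) (.node (.leaf (3, 15694)) (.leaf (2, 14896))))) (.node (.node (.node (.leaf (0, 34944)) (.leaf (0, 34944))) (.node (.leaf (6, 29915)) (.leaf (2, 14896)))) (.node (.node (.leaf (2, 14896)) (.leaf (2, 14896))) (.node (.leaf (6, 22940)) (.leaf (2, 14896)))))))) (.node (.node (.node (.node (.node (.node (.leaf (0, 34944)) (.leaf (0, 34944))) (.node (.leaf (0, 34944)) (.leaf (0, 34944)))) (.node (.node (.leaf (0, 34944)) (.leaf (0, 34944))) (.node (.leaf (0, 34944)) (.leaf (0, 34944))))) (.node (.node (.node (.leaf (0, 34944)) (.leaf (0, 34944))) (.node (.leaf (0, 34944)) (.leaf (0, 34944)))) (.node (.node (.leaf (0, 34944)) (.leaf (0, 34944))) (.node (.leaf (0, 34944)) (.leaf (0, 34944)))))) (.node (.node (.node (.node (.leaf (0, 34944)) (.leaf (0, 34944))) (.node (.leaf (0, 34944)) (.leaf (0, 34944)))) (.node (.node (.leaf (0, 34944)) (.leaf (0, 34944))) (.node (.leaf (0, 34944)) (.leaf (0, 34944))))) (.node (.node (.node (.leaf (0, 34944)) (.leaf (0, 34944))) (.node (.leaf (0, 34944)) (.leaf (0, 34944)))) (.node (.node (.leaf (0, 34944)) (.leaf (0, 34944))) (.node (.leaf (0, 34944)) (.leaf (0, 34944))))))) (.node (.node (.node (.node (.node (.leaf (0, 34944)) (.leaf (0, 34944))) (.node (.leaf (0, 34944)) (.leaf (0, 34944)))) (.node (.node (.leaf (0, 34944)) (.leaf (0, 34944))) (.node (.leaf (0, 34944)) (.leaf (0, 34944))))) (.node (.node (.node (.leaf (0, 34944)) (.leaf (0, 34944))) (.node (.leaf (0, 34944)) (.leaf (0, 34944)))) (.node (.node (.leaf (0, 34944)) (.leaf (0, 34944))) (.node (.leaf (0, 34944)) (.leaf (0, 34944)))))) (.node (.node (.node (.node (.leaf (0, 34944)) (.leaf (0, 34944))) (.node (.leaf (0, 34944)) (.leaf (0, 34944)))) (.node (.node (.leaf (0, 34944)) (.leaf (0, 34944))) (.node (.leaf (0, 34944)) (.leaf (0, 34944))))) (.node (.node (.node (.leaf (0, 34944)) (.leaf (0, 34944))) (.node (.leaf (0, 34944)) (.leaf (0, 34944)))) (.node (.node (.leaf (0, 34944)) (.leaf (0, 34944))) (.node (.leaf (0, 34944)) (.leaf (0, 34944))))))))) (.node (.node (.node (.node (.node (.node (.node (.leaf (0, 34944)) (.leaf (5, 60614))) (.node (.leaf (0, 34944)) (.leaf (2, 35040)))) (.node (.node (.leaf (0, 34944)) (.leaf (0, 34944))) (.node (.leaf (0, 34944)) (.leaf (2, 35040))))) (.node (.node (.node (.leaf (0, 34944)) (.leaf (0, 34944))) (.node (.leaf (0, 34944)) (.leaf (2, 35040)))) (.node (.node (.leaf (0, 34944)) (.leaf (2, 35040))) (.node (.leaf (0, 34944)) (.leaf (2, 35040)))))) (.node (.node (.node (.node (.leaf (0, 34944)) (.leaf (5, 47340))) (.node (.leaf (0, 34944)) (.leaf (2, 35040)))) (.node (.node (.leaf (0, 34944)) (.leaf (0, 34944))) (.node (.leaf (6, 12778)) (.leaf (2, 35040))))) (.node (.node (.node (.leaf (0, 34944)) (.leaf (0, 34944))) (.node (.leaf (3, 29915)) (.leaf (2, 35040)))) (.node (.node (.leaf (2, 35040)) (.leaf (2, 35040))) (.node (.leaf (6, 29954)) (.leaf (2, 35040))))))) (.node (.node (.node (.node (.node (.leaf (5, 60232)) (.leaf (0, 34944))) (.node (.leaf (0, 34944)) (.leaf (2, 43612)))) (.node (.node (.leaf (0, 34944)) (.leaf (0, 34944))) (.node (.leaf (0, 34944)) (.leaf (2, 43612))))) (.node (.node (.node (.leaf (0, 34944)) (.leaf (0, 34944))) (.node (.leaf (0, 34944)) (.leaf (2, 43612)))) (.node (.node (.leaf (0, 34944)) (.leaf (2, 43612))) (.node (.leaf (0, 34944)) (.leaf (2, 43612)))))) (.node (.node (.node (.node (.leaf (5, 40699)) (.leaf (0, 34944))) (.node (.leaf (0, 34944)) (.leaf (2, 43612)))) (.node (.node (.leaf (0, 34944)) (.leaf (0, 34944))) (.node (.leaf (6, 14680)) (.leaf (2, 43612))))) (.node (.node (.node (.leaf (0, 34944)) (.leaf (0, 34944))) (.node (.leaf (6, 30886)) (.leaf (2, 43612)))) (.node (.node (.leaf (2, 43612)) (.leaf (2, 43612))) (.node (.leaf (3, 30050)) (.leaf (2, 43612)))))))) (.node (.node (.node (.node (.node (.node (.leaf (0, 34944)) (.leaf (0, 34944))) (.node (.leaf (0, 34944)) (.leaf (0, 34944)))) (.node (.node (.leaf (0, 34944)) (.leaf (0, 34944))) (.node (.leaf (0, 34944)) (.leaf (0, 34944))))) (.node (.node (.node (.leaf (0, 34944)) (.leaf (0, 34944))) (.node (.leaf (0, 34944)) (.leaf (0, 34944)))) (.node (.node (.leaf (0, 34944)) (.leaf (0, 34944))) (.node (.leaf (0, 34944)) (.leaf (0, 34944)))))) (.node (.node (.node (.node (.leaf (0, 34944)) (.leaf (0, 34944))) (.node (.leaf (0, 34944)) (.leaf (0, 34944)))) (.node (.node (.leaf (0, 34944)) (.leaf (0, 34944))) (.node (.leaf (0, 34944)) (.leaf (0, 34944))))) (.node (.node (.node (.leaf (0, 34944)) (.leaf (0, 34944))) (.node (.leaf (0, 34944)) (.leaf (0, 34944)))) (.node (.node (.leaf (0, 34944)) (.leaf (0, 34944))) (.node (.leaf (0, 34944)) (.leaf (0, 34944))))))) (.node (.node (.node (.node (.node (.leaf (0, 34944)) (.leaf (0, 34944))) (.node (.leaf (0, 34944)) (.leaf (0, 34944)))) (.node (.node (.leaf (0, 34944)) (.leaf (0, 34944))) (.node (.leaf (0, 34944)) (.leaf (0, 34944))))) (.node (.node (.node (.leaf (0, 34944)) (.leaf (0, 34944))) (.node (.leaf (0, 34944)) (.leaf (0, 34944)))) (.node (.node (.leaf (0, 34944)) (.leaf (0, 34944))) (.node (.leaf (0, 34944)) (.leaf (0, 34944)))))) (.node (.node (.node (.node (.leaf (0, 34944)) (.leaf (0, 34944))) (.node (.leaf (0, 34944)) (.leaf (0, 34944)))) (.node (.node (.leaf (0, 34944)) (.leaf (0, 34944))) (.node (.leaf (0, 34944)) (.leaf (0, 34944))))) (.node (.node (.node (.leaf (0, 34944)) (.leaf (0, 34944))) (.node (.leaf (0, 34944)) (.leaf (0, 34944)))) (.node (.node (.leaf (0, 34944)) (.leaf (0, 34944))) (.node (.leaf (0, 34944)) (.leaf (0, 34944)))))))))) (.node (.node (.node (.node (.node (.node (.node (.node (.leaf (0, 34944)) (.leaf (5, 51376))) (.node (.leaf (0, 34944)) (.leaf (1, 60726)))) (.node (.node (.leaf (5, 59963)) (.leaf (0, 34944))) (.node (.leaf (5, 24107)) (.leaf (1, 60726))))) (.node (.node (.node (.leaf (4, 38164)) (.leaf (0, 34944))) (.node (.leaf (5, 27324)) (.leaf (1, 60726)))) (.node (.node (.leaf (0, 34944)) (.leaf (1, 60726))) (.node (.leaf (0, 34944)) (.leaf (1, 60726)))))) (.node (.node (.node (.node (.leaf (0, 34944)) (.leaf (4, 54427))) (.node (.leaf (0, 34944)) (.leaf (1, 60726)))) (.node (.node (.leaf (4, 62867)) (.leaf (0, 34944))) (.node (.leaf (0, 34944)) (.leaf (1, 60726))))) (.node (.node (.node (.leaf (5, 45992)) (.leaf (0, 34944))) (.node (.leaf (5, 30884)) (.leaf (1, 60726)))) (.node (.node (.leaf (1, 60726)) (.leaf (1, 60726))) (.node (.leaf (0, 34944)) (.leaf (1, 60726))))))) (.node (.node (.node (.node (.node (.leaf (0, 34944)) (.leaf (0, 34944))) (.node (.leaf (0, 34944)) (.leaf (0, 34944)))) (.node (.node (.leaf (0, 34944)) (.leaf (0, 34944))) (.node (.leaf (0, 34944)) (.leaf (0, 34944))))) (.node (.node (.node (.leaf (0, 34944)) (.leaf (0, 34944))) (.node (.leaf (0, 34944)) (.leaf (0, 34944)))) (.node (.node (.leaf (0, 34944)) (.leaf (0, 34944))) (.node (.leaf (0, 34944)) (.leaf (0, 34944)))))) (.node (.node (.node (.node (.leaf (0, 34944)) (.leaf (0, 34944))) (.node (.leaf (0, 34944)) (.leaf (0, 34944)))) (.node (.node (.leaf (0, 34944)) (.leaf (0, 34944))) (.node (.leaf (0, 34944)) (.leaf (0, 34944))))) (.node (.node (.node (.leaf (0, 34944)) (.leaf (0, 34944))) (.node (.leaf (0, 34944)) (.leaf (0, 34944)))) (.node (.node (.leaf (0, 34944)) (.leaf (0, 34944))) (.node (.leaf (0, 34944)) (.leaf (0, 34944)))))))) (.node (.node (.node (.node (.node (.node (.leaf (0, 34944)) (.leaf (0, 34944))) (.node (.leaf (0, 34944)) (.leaf (0, 34944)))) (.node (.node (.leaf (0, 34944)) (.leaf (0, 34944))) (.node (.leaf (0, 34944)) (.leaf (0, 34944))))) (.node (.node (.node (.leaf (0, 34944)) (.leaf (0, 34944))) (.node (.leaf (0, 34944)) (.leaf (0, 34944)))) (.node (.node (.leaf (0, 34944)) (.leaf (0, 34944))) (.node (.leaf (0, 34944)) (.leaf (0, 34944)))))) (.node (.node (.node (.node (.leaf (0, 34944)) (.leaf (0, 34944))) (.node (.leaf (0, 34944)) (.leaf (0, 34944)))) (.node (.node (.leaf (0, 34944)) (.leaf (0, 34944))) (.node (.leaf (0, 34944)) (.leaf (0, 34944))))) (.node (.node (.node (.leaf (0, 34944)) (.leaf (0, 34944))) (.node (.leaf (0, 34944)) (.leaf (0, 34944)))) (.node (.node (.leaf (0, 34944)) (.leaf (0, 34944))) (.node (.leaf (0, 34944)) (.leaf (0, 34944))))))) (.node (.node (.node (.node (.node (.leaf (0, 34944)) (.leaf (0, 34944))) (.node (.leaf (0, 34944)) (.leaf (2, 64152)))) (.node (.node (.leaf (0, 34944)) (.leaf (0, 34944))) (.node (.leaf (0, 34944)) (.leaf (2, 64152))))) (.node (.node (.node (.leaf (3, 56775)) (.leaf (0, 34944))) (.node (.leaf (5, 27462)) (.leaf (2, 64152)))) (.node (.node (.leaf (0, 34944)) (.leaf (2, 64152))) (.node (.leaf (0, 34944)) (.leaf (2, 64152)))))) (.node (.node (.node (.node (.leaf (0, 34944)) (.leaf (6, 62615))) (.node (.leaf (0, 34944)) (.leaf (2, 64152)))) (.node (.node (.leaf (6, 61765)) (.leaf (0, 34944))) (.node (.leaf (0, 34944)) (.leaf (2, 64152))))) (.node (.node (.node (.leaf (5, 38868)) (.leaf (0, 34944))) (.node (.leaf (0, 34944)) (.leaf (2, 64152)))) (.node (.node (.leaf (2, 64152)) (.leaf (2, 64152))) (.node (.leaf (0, 34944)) (.leaf (2, 64152))))))))) (.node (.node (.node (.node (.node (.node (.node (.leaf (0, 34944)) (.leaf (5, 60669))) (.node (.leaf (0, 34944)) (.leaf (2, 31898)))) (.node (.node (.leaf (0, 34944)) (.leaf (0, 34944))) (.node (.leaf (0, 34944)) (.leaf (2, 31898))))) (.node (.node (.node (.leaf (6, 56775)) (.leaf (0, 34944))) (.node (.leaf (0, 34944)) (.leaf (2, 31898)))) (.node (.node (.leaf (0, 34944)) (.leaf (2, 31898))) (.node (.leaf (0, 34944)) (.leaf (2, 31898)))))) (.node (.node (.node (.node (.leaf (0, 34944)) (.leaf (3, 39119))) (.node (.leaf (0, 34944)) (.leaf (2, 31898)))) (.node (.node (.leaf (6, 62974)) (.leaf (0, 34944))) (.node (.leaf (0, 34944)) (.leaf (2, 31898))))) (.node (.node (.node (.leaf (0, 34944)) (.leaf (0, 34944))) (.node (.leaf (5, 29915)) (.leaf (2, 31898)))) (.node (.node (.leaf (2, 31898)) (.leaf (2, 31898))) (.node (.leaf (0, 34944)) (.leaf (2, 31898))))))) (.node (.node (.node (.node (.node (.leaf (0, 34944)) (.leaf (0, 34944))) (.node (.leaf (0, 34944)) (.leaf (0, 34944)))) (.node (.node (.leaf (0, 34944)) (.leaf (0, 34944))) (.node (.leaf (0, 34944)) (.leaf (0, 34944))))) (.node (.node (.node (.leaf (0, 34944)) (.leaf (0, 34944))) (.node (.leaf (0, 34944)) (.leaf (0, 34944)))) (.node (.node (.leaf (0, 34944)) (.leaf (0, 34944))) (.node (.leaf (0, 34944)) (.leaf (0, 34944)))))) (.node (.node (.node (.node (.leaf (0, 34944)) (.leaf (0, 34944))) (.node (.leaf (0, 34944)) (.leaf (0, 34944)))) (.node (.node (.leaf (0, 34944)) (.leaf (0, 34944))) (.node (.leaf (0, 34944)) (.leaf (0, 34944))))) (.node (.node (.node (.leaf (0, 34944)) (.leaf (0, 34944))) (.node (.leaf (0, 34944)) (.leaf (0, 34944)))) (.node (.node (.leaf (0, 34944)) (.leaf (0, 34944))) (.node (.leaf (0, 34944)) (.leaf (0, 34944)))))))) (.node (.node (.node (.node (.node (.node (.leaf (0, 34944)) (.leaf (0, 34944))) (.node (.leaf (0, 34944)) (.leaf (0, 34944)))) (.node (.node (.leaf (0, 34944)) (.leaf (0, 34944))) (.node (.leaf (0, 34944)) (.leaf (0, 34944))))) (.node (.node (.node (.leaf (0, 34944)) (.leaf (0, 34944))) (.node (.leaf (0, 34944)) (.leaf (0, 34944)))) (.node (.node (.leaf (0, 34944)) (.leaf (0, 34944))) (.node (.leaf (0, 34944)) (.leaf (0, 34944)))))) (.node (.node (.node (.node (.leaf (0, 34944)) (.leaf (0, 34944))) (.node (.leaf (0, 34944)) (.leaf (0, 34944)))) (.node (.node (.leaf (0, 34944)) (.leaf (0, 34944))) (.node (.leaf (0, 34944)) (.leaf (0, 34944))))) (.node (.node (.node (.leaf (0, 34944)) (.leaf (0, 34944))) (.node (.leaf (0, 34944)) (.leaf (0, 34944)))) (.node (.node (.leaf (0, 34944)) (.leaf (0, 34944))) (.node (.leaf (0, 34944)) (.leaf (0, 34944))))))) (.node (.node (.node (.node (.node (.leaf (0, 34944)) (.leaf (0, 34944))) (.node (.leaf (0, 34944)) (.leaf (2, 59963)))) (.node (.node (.leaf (5, 52854)) (.leaf (0, 34944))) (.node (.leaf (5, 22355)) (.leaf (2, 59963))))) (.node (.node (.node (.leaf (6, 56693)) (.leaf (0, 34944))) (.node (.leaf (0, 34944)) (.leaf (2, 59963)))) (.node (.node (.leaf (0, 34944)) (.leaf (2, 59963))) (.node (.leaf (0, 34944)) (.leaf (2, 59963)))))) (.node (.node (.node (.node (.leaf (0, 34944)) (.leaf (6, 39119))) (.node (.leaf (0, 34944)) (.leaf (2, 59963)))) (.node (.node (.leaf (3, 61765)) (.leaf (0, 34944))) (.node (.leaf (0, 34944)) (.leaf (2, 59963))))) (.node (.node (.node (.leaf (0, 34944)) (.leaf (0, 34944))) (.node (.leaf (0, 34944)) (.leaf (2, 59963)))) (.node (.node (.leaf (2, 59963)) (.leaf (2, 59963))) (.node (.leaf (0, 34944)) (.leaf (2, 59963)))))))))))) (.node (.node (.node (.node (.node (.node (.node (.node (.node (.node (.leaf (0, 34944)) (.leaf (0, 34944))) (.node (.leaf (4, 26420)) (.leaf (1, 52187)))) (.node (.node (.leaf (0, 34944)) (.leaf (0, 34944))) (.node (.leaf (0, 34944)) (.leaf (1, 52187))))) (.node (.node (.node (.leaf (5, 56629)) (.leaf (5, 50476))) (.node (.leaf (4, 27399)) (.leaf (1, 52187)))) (.node (.node (.leaf (0, 34944)) (.leaf (1, 52187))) (.node (.leaf (5, 15934)) (.leaf (1, 52187)))))) (.node (.node (.node (.node (.leaf (0, 34944)) (.leaf (0, 34944))) (.node (.leaf (4, 11946)) (.leaf (1, 52187)))) (.node (.node (.leaf (0, 34944)) (.leaf (0, 34944))) (.node (.leaf (5, 13748)) (.leaf (1, 52187))))) (.node (.node (.node (.leaf (5, 56871)) (.leaf (5, 34721))) (.node (.leaf (0, 34944)) (.leaf (1, 52187)))) (.node (.node (.leaf (1, 52187)) (.leaf (1, 52187))) (.node (.leaf (0, 34944)) (.leaf (1, 52187))))))) (.node (.node (.node (.node (.node (.leaf (0, 34944)) (.leaf (0, 34944))) (.node (.leaf (6, 26204)) (.leaf (2, 13813)))) (.node (.node (.leaf (0, 34944)) (.leaf (0, 34944))) (.node (.leaf (0, 34944)) (.leaf (2, 13813))))) (.node (.node (.node (.leaf (0, 34944)) (.leaf (0, 34944))) (.node (.leaf (6, 19978)) (.leaf (2, 13813)))) (.node (.node (.leaf (0, 34944)) (.leaf (2, 13813))) (.node (.leaf (5, 14181)) (.leaf (2, 13813)))))) (.node (.node (.node (.node (.leaf (0, 34944)) (.leaf (0, 34944))) (.node (.leaf (3, 11087)) (.leaf (2, 13813)))) (.node (.node (.leaf (0, 34944)) (.leaf (0, 34944))) (.node (.leaf (5, 13813)) (.leaf (2, 13813))))) (.node (.node (.node (.leaf (0, 34944)) (.leaf (0, 34944))) (.node (.leaf (0, 34944)) (.leaf (2, 13813)))) (.node (.node (.leaf (2, 13813)) (.leaf (2, 13813))) (.node (.leaf (0, 34944)) (.leaf (2, 13813)))))))) (.node (.node (.node (.node (.node (.node (.leaf (0, 34944)) (.leaf (0, 34944))) (.node (.leaf (3, 17988)) (.leaf (2, 34659)))) (.node (.node (.leaf (0, 34944)) (.leaf (0, 34944))) (.node (.leaf (0, 34944)) (.leaf (2, 34659))))) (.node (.node (.node (.leaf (0, 34944)) (.leaf (5, 50637))) (.node (.leaf (6, 27399)) (.leaf (2, 34659)))) (.node (.node (.leaf (0, 34944)) (.leaf (2, 34659))) (.node (.leaf (0, 34944)) (.leaf (2, 34659)))))) (.node (.node (.node (.node (.leaf (0, 34944)) (.leaf (0, 34944))) (.node (.leaf (6, 10798)) (.leaf (2, 34659)))) (.node (.node (.leaf (0, 34944)) (.leaf (0, 34944))) (.node (.leaf (0, 34944)) (.leaf (2, 34659))))) (.node (.node (.node (.leaf (0, 34944)) (.leaf (5, 34659))) (.node (.leaf (0, 34944)) (.leaf (2, 34659)))) (.node (.node (.leaf (2, 34659)) (.leaf (2, 34659))) (.node (.leaf (0, 34944)) (.leaf (2, 34659))))))) (.node (.node (.node (.node (.node (.leaf (0, 34944)) (.leaf (0, 34944))) (.node (.leaf (6, 17988)) (.leaf (2, 38868)))) (.node (.node (.leaf (0, 34944)) (.leaf (0, 34944))) (.node (.leaf (0, 34944)) (.leaf (2, 38868))))) (.node (.node (.node (.leaf (5, 56775)) (.leaf (0, 34944))) (.node (.leaf (3, 20330)) (.leaf (2, 38868)))) (.node (.node (.leaf (0, 34944)) (.leaf (2, 38868))) (.node (.leaf (0, 34944)) (.leaf (2, 38868)))))) (.node (.node (.node (.node (.leaf (0, 34944)) (.leaf (0, 34944))) (.node (.leaf (6, 11946)) (.leaf (2, 38868)))) (.node (.node (.leaf (0, 34944)) (.leaf (0, 34944))) (.node (.leaf (0, 34944)) (.leaf (2, 38868))))) (.node (.node (.node (.leaf (5, 57028)) (.leaf (0, 34944))) (.node (.leaf (0, 34944)) (.leaf (2, 38868)))) (.node (.node (.leaf (2, 38868)) (.leaf (2, 38868))) (.node (.leaf (0, 34944)) (.leaf (2, 38868))))))))) (.node (.node (.node (.node (.node (.node (.node (.leaf (0, 34944)) (.leaf (0, 34944))) (.node (.leaf (0, 34944)) (.leaf (0, 34944)))) (.node (.node (.leaf (0, 34944)) (.leaf (0, 34944))) (.node (.leaf (0, 34944)) (.leaf (0, 34944))))) (.node (.node (.node (.leaf (0, 34944)) (.leaf (0, 34944))) (.node (.leaf (0, 34944)) (.leaf (0, 34944)))) (.node (.node (.leaf (0, 34944)) (.leaf (0, 34944))) (.node (.leaf (0, 34944)) (.leaf (0, 34944)))))) (.node (.node (.node (.node (.leaf (0, 34944)) (.leaf (0, 34944))) (.node (.leaf (0, 34944)) (.leaf (0, 34944)))) (.node (.node (.leaf (0, 34944)) (.leaf (0, 34944))) (.node (.leaf (0, 34944)) (.leaf (0, 34944))))) (.node (.node (.node (.leaf (0, 34944)) (.leaf (0, 34944))) (.node (.leaf (0, 34944)) (.leaf (0, 34944)))) (.node (.node (.leaf (0, 34944)) (.leaf (0, 34944))) (.node (.leaf (0, 34944)) (.leaf (0, 34944))))))) (.node (.node (.node (.node (.node (.leaf (0, 34944)) (.leaf (0, 34944))) (.node (.leaf (0, 34944)) (.leaf (0, 34944)))) (.node (.node (.leaf (0, 34944)) (.leaf (0, 34944))) (.node (.leaf (0, 34944)) (.leaf (0, 34944))))) (.node (.node (.node (.leaf (0, 34944)) (.leaf (0, 34944))) (.node (.leaf (0, 34944)) (.leaf (0, 34944)))) (.node (.node (.leaf (0, 34944)) (.leaf (0, 34944))) (.node (.leaf (0, 34944)) (.leaf (0, 34944)))))) (.node (.node (.node (.node (.leaf (0, 34944)) (.leaf (0, 34944))) (.node (.leaf (0, 34944)) (.leaf (0, 34944)))) (.node (.node (.leaf (0, 34944)) (.leaf (0, 34944))) (.node (.leaf (0, 34944)) (.leaf (0, 34944))))) (.node (.node (.node (.leaf (0, 34944)) (.leaf (0, 34944))) (.node (.leaf (0, 34944)) (.leaf (0, 34944)))) (.node (.node (.leaf (0, 34944)) (.leaf (0, 34944))) (.node (.leaf (0, 34944)) (.leaf (0, 34944)))))))) (.node (.node (.node (.node (.node (.node (.leaf (0, 34944)) (.leaf (0, 34944))) (.node (.leaf (0, 34944)) (.leaf (0, 34944)))) (.node (.node (.leaf (0, 34944)) (.leaf (0, 34944))) (.node (.leaf (0, 34944)) (.leaf (0, 34944))))) (.node (.node (.node (.leaf (0, 34944)) (.leaf (0, 34944))) (.node (.leaf (0, 34944)) (.leaf (0, 34944)))) (.node (.node (.leaf (0, 34944)) (.leaf (0, 34944))) (.node (.leaf (0, 34944)) (.leaf (0, 34944)))))) (.node (.node (.node (.node (.leaf (0, 34944)) (.leaf (0, 34944))) (.node (.leaf (0, 34944)) (.leaf (0, 34944)))) (.node (.node (.leaf (0, 34944)) (.leaf (0, 34944))) (.node (.leaf (0, 34944)) (.leaf (0, 34944))))) (.node (.node (.node (.leaf (0, 34944)) (.leaf (0, 34944))) (.node (.leaf (0, 34944)) (.leaf (0, 34944)))) (.node (.node (.leaf (0, 34944)) (.leaf (0, 34944))) (.node (.leaf (0, 34944)) (.leaf (0, 34944))))))) (.node (.node (.node (.node (.node (.leaf (0, 34944)) (.leaf (0, 34944))) (.node (.leaf (0, 34944)) (.leaf (0, 34944)))) (.node (.node (.leaf (0, 34944)) (.leaf (0, 34944))) (.node (.leaf (0, 34944)) (.leaf (0, 34944))))) (.node (.node (.node (.leaf (0, 34944)) (.leaf (0, 34944))) (.node (.leaf (0, 34944)) (.leaf (0, 34944)))) (.node (.node (.leaf (0, 34944)) (.leaf (0, 34944))) (.node (.leaf (0, 34944)) (.leaf (0, 34944)))))) (.node (.node (.node (.node (.leaf (0, 34944)) (.leaf (0, 34944))) (.node (.leaf (0, 34944)) (.leaf (0, 34944)))) (.node (.node (.leaf (0, 34944)) (.leaf (0, 34944))) (.node (.leaf (0, 34944)) (.leaf (0, 34944))))) (.node (.node (.node (.leaf (0, 34944)) (.leaf (0, 34944))) (.node (.leaf (0, 34944)) (.leaf (0, 34944)))) (.node (.node (.leaf (0, 34944)) (.leaf (0, 34944))) (.node (.leaf (0, 34944)) (.leaf (0, 34944)))))))))) (.node (.node (.node (.node (.node (.node (.node (.node (.leaf (4, 36541)) (.leaf (0, 34944))) (.node (.leaf (5, 18346)) (.leaf (1, 11223)))) (.node (.node (.leaf (4, 51896)) (.leaf (0, 34944))) (.node (.leaf (5, 30640)) (.leaf (1, 11223))))) (.node (.node (.node (.leaf (0, 34944)) (.leaf (5, 58682))) (.node (.leaf (0, 34944)) (.leaf (1, 11223)))) (.node (.node (.leaf (0, 34944)) (.leaf (1, 11223))) (.node (.leaf (0, 34944)) (.leaf (1, 11223)))))) (.node (.node (.node (.node (.leaf (5, 40627)) (.leaf (0, 34944))) (.node (.leaf (0, 34944)) (.leaf (1, 11223)))) (.node (.node (.leaf (5, 61741)) (.leaf (0, 34944))) (.node (.leaf (0, 34944)) (.leaf (1, 11223))))) (.node (.node (.node (.leaf (0, 34944)) (.leaf (4, 58911))) (.node (.leaf (0, 34944)) (.leaf (1, 11223)))) (.node (.node (.leaf (1, 11223)) (.leaf (1, 11223))) (.node (.leaf (5, 22969)) (.leaf (1, 11223))))))) (.node (.node (.node (.node (.node (.leaf (0, 34944)) (.leaf (0, 34944))) (.node (.leaf (0, 34944)) (.leaf (0, 34944)))) (.node (.node (.leaf (0, 34944)) (.leaf (0, 34944))) (.node (.leaf (0, 34944)) (.leaf (0, 34944))))) (.node (.node (.node (.leaf (0, 34944)) (.leaf (0, 34944))) (.node (.leaf (0, 34944)) (.leaf (0, 34944)))) (.node (.node (.leaf (0, 34944)) (.leaf (0, 34944))) (.node (.leaf (0, 34944)) (.leaf (0, 34944)))))) (.node (.node (.node (.node (.leaf (0, 34944)) (.leaf (0, 34944))) (.node (.leaf (0, 34944)) (.leaf (0, 34944)))) (.node (.node (.leaf (0, 34944)) (.leaf (0, 34944))) (.node (.leaf (0, 34944)) (.leaf (0, 34944))))) (.node (.node (.node (.leaf (0, 34944)) (.leaf (0, 34944))) (.node (.leaf (0, 34944)) (.leaf (0, 34944)))) (.node (.node (.leaf (0, 34944)) (.leaf (0, 34944))) (.node (.leaf (0, 34944)) (.leaf (0, 34944)))))))) (.node (.node (.node (.node (.node (.node (.leaf (6, 36567)) (.leaf (0, 34944))) (.node (.leaf (5, 17988)) (.leaf (2, 50637)))) (.node (.node (.leaf (6, 59957)) (.leaf (0, 34944))) (.node (.leaf (0, 34944)) (.leaf (2, 50637))))) (.node (.node (.node (.leaf (0, 34944)) (.leaf (5, 34118))) (.node (.leaf (0, 34944)) (.leaf (2, 50637)))) (.node (.node (.leaf (0, 34944)) (.leaf (2, 50637))) (.node (.leaf (0, 34944)) (.leaf (2, 50637)))))) (.node (.node (.node (.node (.leaf (0, 34944)) (.leaf (0, 34944))) (.node (.leaf (0, 34944)) (.leaf (2, 50637)))) (.node (.node (.leaf (0, 34944)) (.leaf (0, 34944))) (.node (.leaf (0, 34944)) (.leaf (2, 50637))))) (.node (.node (.node (.leaf (0, 34944)) (.leaf (3, 59118))) (.node (.leaf (0, 34944)) (.leaf (2, 50637)))) (.node (.node (.leaf (2, 50637)) (.leaf (2, 50637))) (.node (.leaf (0, 34944)) (.leaf (2, 50637))))))) (.node (.node (.node (.node (.node (.leaf (0, 34944)) (.leaf (0, 34944))) (.node (.leaf (0, 34944)) (.leaf (0, 34944)))) (.node (.node (.leaf (0, 34944)) (.leaf (0, 34944))) (.node (.leaf (0, 34944)) (.leaf (0, 34944))))) (.node (.node (.node (.leaf (0, 34944)) (.leaf (0, 34944))) (.node (.leaf (0, 34944)) (.leaf (0, 34944)))) (.node (.node (.leaf (0, 34944)) (.leaf (0, 34944))) (.node (.leaf (0, 34944)) (.leaf (0, 34944)))))) (.node (.node (.node (.node (.leaf (0, 34944)) (.leaf (0, 34944))) (.node (.leaf (0, 34944)) (.leaf (0, 34944)))) (.node (.node (.leaf (0, 34944)) (.leaf (0, 34944))) (.node (.leaf (0, 34944)) (.leaf (0, 34944))))) (.node (.node (.node (.leaf (0, 34944)) (.leaf (0, 34944))) (.node (.leaf (0, 34944)) (.leaf (0, 34944)))) (.node (.node (.leaf (0, 34944)) (.leaf (0, 34944))) (.node (.leaf (0, 34944)) (.leaf (0, 34944))))))))) (.node (.node (.node (.node (.node (.node (.node (.leaf (0, 34944)) (.leaf (0, 34944))) (.node (.leaf (0, 34944)) (.leaf (0, 34944)))) (.node (.node (.leaf (0, 34944)) (.leaf (0, 34944))) (.node (.leaf (0, 34944)) (.leaf (0, 34944))))) (.node (.node (.node (.leaf (0, 34944)) (.leaf (0, 34944))) (.node (.leaf (0, 34944)) (.leaf (0, 34944)))) (.node (.node (.leaf (0, 34944)) (.leaf (0, 34944))) (.node (.leaf (0, 34944)) (.leaf (0, 34944)))))) (.node (.node (.node (.node (.leaf (0, 34944)) (.leaf (0, 34944))) (.node (.leaf (0, 34944)) (.leaf (0, 34944)))) (.node (.node (.leaf (0, 34944)) (.leaf (0, 34944))) (.node (.leaf (0, 34944)) (.leaf (0, 34944))))) (.node (.node (.node (.leaf (0, 34944)) (.leaf (0, 34944))) (.node (.leaf (0, 34944)) (.leaf (0, 34944)))) (.node (.node (.leaf (0, 34944)) (.leaf (0, 34944))) (.node (.leaf (0, 34944)) (.leaf (0, 34944))))))) (.node (.node (.node (.node (.node (.leaf (3, 43612)) (.leaf (0, 34944))) (.node (.leaf (0, 34944)) (.leaf (2, 29954)))) (.node (.node (.leaf (6, 51961)) (.leaf (0, 34944))) (.node (.leaf (0, 34944)) (.leaf (2, 29954))))) (.node (.node (.node (.leaf (0, 34944)) (.leaf (0, 34944))) (.node (.leaf (0, 34944)) (.leaf (2, 29954)))) (.node (.node (.leaf (0, 34944)) (.leaf (2, 29954))) (.node (.leaf (0, 34944)) (.leaf (2, 29954)))))) (.node (.node (.node (.node (.leaf (5, 63329)) (.leaf (0, 34944))) (.node (.leaf (0, 34944)) (.leaf (2, 29954)))) (.node (.node (.leaf (0, 34944)) (.leaf (0, 34944))) (.node (.leaf (0, 34944)) (.leaf (2, 29954))))) (.node (.node (.node (.leaf (0, 34944)) (.leaf (6, 59047))) (.node (.leaf (0, 34944)) (.leaf (2, 29954)))) (.node (.node (.leaf (2, 29954)) (.leaf (2, 29954))) (.node (.leaf (5, 22001)) (.leaf (2, 29954)))))))) (.node (.node (.node (.node (.node (.node (.leaf (0, 34944)) (.leaf (0, 34944))) (.node (.leaf (0, 34944)) (.leaf (0, 34944)))) (.node (.node (.leaf (0, 34944)) (.leaf (0, 34944))) (.node (.leaf (0, 34944)) (.leaf (0, 34944))))) (.node (.node (.node (.leaf (0, 34944)) (.leaf (0, 34944))) (.node (.leaf (0, 34944)) (.leaf (0, 34944)))) (.node (.node (.leaf (0, 34944)) (.leaf (0, 34944))) (.node (.leaf (0, 34944)) (.leaf (0, 34944)))))) (.node (.node (.node (.node (.leaf (0, 34944)) (.leaf (0, 34944))) (.node (.leaf (0, 34944)) (.leaf (0, 34944)))) (.node (.node (.leaf (0, 34944)) (.leaf (0, 34944))) (.node (.leaf (0, 34944)) (.leaf (0, 34944))))) (.node (.node (.node (.leaf (0, 34944)) (.leaf (0, 34944))) (.node (.leaf (0, 34944)) (.leaf (0, 34944)))) (.node (.node (.leaf (0, 34944)) (.leaf (0, 34944))) (.node (.leaf (0, 34944)) (.leaf (0, 34944))))))) (.node (.node (.node (.node (.node (.leaf (6, 60232)) (.leaf (0, 34944))) (.node (.leaf (0, 34944)) (.leaf (2, 61765)))) (.node (.node (.leaf (3, 51961)) (.leaf (0, 34944))) (.node (.leaf (5, 31321)) (.leaf (2, 61765))))) (.node (.node (.node (.leaf (0, 34944)) (.leaf (0, 34944))) (.node (.leaf (0, 34944)) (.leaf (2, 61765)))) (.node (.node (.leaf (0, 34944)) (.leaf (2, 61765))) (.node (.leaf (0, 34944)) (.leaf (2, 61765)))))) (.node (.node (.node (.node (.leaf (0, 34944)) (.leaf (0, 34944))) (.node (.leaf (0, 34944)) (.leaf (2, 61765)))) (.node (.node (.leaf (5, 47445)) (.leaf (0, 34944))) (.node (.leaf (0, 34944)) (.leaf (2, 61765))))) (.node (.node (.node (.leaf (0, 34944)) (.leaf (6, 59118))) (.node (.leaf (0, 34944)) (.leaf (2, 61765)))) (.node (.node (.leaf (2, 61765)) (.leaf (2, 61765))) (.node (.leaf (0, 34944)) (.leaf (2, 61765))))))))))) (.node (.node (.node (.node (.node (.node (.node (.node (.node (.leaf (0, 34944)) (.leaf (0, 34944))) (.node (.leaf (0, 34944)) (.leaf (1, 38868)))) (.node (.node (.leaf (5, 51896)) (.leaf (5, 39855))) (.node (.leaf (4, 21381)) (.leaf (1, 38868))))) (.node (.node (.node (.leaf (0, 34944)) (.leaf (0, 34944))) (.node (.leaf (0, 34944)) (.leaf (1, 38868)))) (.node (.node (.leaf (4, 29341)) (.leaf (1, 38868))) (.node (.leaf (4, 15934)) (.leaf (1, 38868)))))) (.node (.node (.node (.node (.leaf (0, 34944)) (.leaf (0, 34944))) (.node (.leaf (5, 12195)) (.leaf (1, 38868)))) (.node (.node (.leaf (5, 61733)) (.leaf (5, 36142))) (.node (.leaf (5, 14626)) (.leaf (1, 38868))))) (.node (.node (.node (.leaf (0, 34944)) (.leaf (0, 34944))) (.node (.leaf (0, 34944)) (.leaf (1, 38868)))) (.node (.node (.leaf (1, 38868)) (.leaf (1, 38868))) (.node (.leaf (0, 34944)) (.leaf (1, 38868))))))) (.node (.node (.node (.node (.node (.leaf (0, 34944)) (.leaf (0, 34944))) (.node (.leaf (0, 34944)) (.leaf (2, 11087)))) (.node (.node (.leaf (0, 34944)) (.leaf (0, 34944))) (.node (.leaf (6, 32489)) (.leaf (2, 11087))))) (.node (.node (.node (.leaf (0, 34944)) (.leaf (0, 34944))) (.node (.leaf (0, 34944)) (.leaf (2, 11087)))) (.node (.node (.leaf (6, 22044)) (.leaf (2, 11087))) (.node (.leaf (3, 14333)) (.leaf (2, 11087)))))) (.node (.node (.node (.node (.leaf (0, 34944)) (.leaf (0, 34944))) (.node (.leaf (5, 10846)) (.leaf (2, 11087)))) (.node (.node (.leaf (0, 34944)) (.leaf (0, 34944))) (.node (.leaf (5, 15845)) (.leaf (2, 11087))))) (.node (.node (.node (.leaf (0, 34944)) (.leaf (0, 34944))) (.node (.leaf (0, 34944)) (.leaf (2, 11087)))) (.node (.node (.leaf (2, 11087)) (.leaf (2, 11087))) (.node (.leaf (0, 34944)) (.leaf (2, 11087)))))))) (.node (.node (.node (.node (.node (.node (.leaf (0, 34944)) (.leaf (0, 34944))) (.node (.leaf (0, 34944)) (.leaf (0, 34944)))) (.node (.node (.leaf (0, 34944)) (.leaf (0, 34944))) (.node (.leaf (0, 34944)) (.leaf (0, 34944))))) (.node (.node (.node (.leaf (0, 34944)) (.leaf (0, 34944))) (.node (.leaf (0, 34944)) (.leaf (0, 34944)))) (.node (.node (.leaf (0, 34944)) (.leaf (0, 34944))) (.node (.leaf (0, 34944)) (.leaf (0, 34944)))))) (.node (.node (.node (.node (.leaf (0, 34944)) (.leaf (0, 34944))) (.node (.leaf (0, 34944)) (.leaf (0, 34944)))) (.node (.node (.leaf (0, 34944)) (.leaf (0, 34944))) (.node (.leaf (0, 34944)) (.leaf (0, 34944))))) (.node (.node (.node (.leaf (0, 34944)) (.leaf (0, 34944))) (.node (.leaf (0, 34944)) (.leaf (0, 34944)))) (.node (.node (.leaf (0, 34944)) (.leaf (0, 34944))) (.node (.leaf (0, 34944)) (.leaf (0, 34944))))))) (.node (.node (.node (.node (.node (.leaf (0, 34944)) (.leaf (0, 34944))) (.node (.leaf (0, 34944)) (.leaf (0, 34944)))) (.node (.node (.leaf (0, 34944)) (.leaf (0, 34944))) (.node (.leaf (0, 34944)) (.leaf (0, 34944))))) (.node (.node (.node (.leaf (0, 34944)) (.leaf (0, 34944))) (.node (.leaf (0, 34944)) (.leaf (0, 34944)))) (.node (.node (.leaf (0, 34944)) (.leaf (0, 34944))) (.node (.leaf (0, 34944)) (.leaf (0, 34944)))))) (.node (.node (.node (.node (.leaf (0, 34944)) (.leaf (0, 34944))) (.node (.leaf (0, 34944)) (.leaf (0, 34944)))) (.node (.node (.leaf (0, 34944)) (.leaf (0, 34944))) (.node (.leaf (0, 34944)) (.leaf (0, 34944))))) (.node (.node (.node (.leaf (0, 34944)) (.leaf (0, 34944))) (.node (.leaf (0, 34944)) (.leaf (0, 34944)))) (.node (.node (.leaf (0, 34944)) (.leaf (0, 34944))) (.node (.leaf (0, 34944)) (.leaf (0, 34944))))))))) (.node (.node (.node (.node (.node (.node (.node (.leaf (0, 34944)) (.leaf (0, 34944))) (.node (.leaf (0, 34944)) (.leaf (0, 34944)))) (.node (.node (.leaf (0, 34944)) (.leaf (0, 34944))) (.node (.leaf (0, 34944)) (.leaf (0, 34944))))) (.node (.node (.node (.leaf (0, 34944)) (.leaf (0, 34944))) (.node (.leaf (0, 34944)) (.leaf (0, 34944)))) (.node (.node (.leaf (0, 34944)) (.leaf (0, 34944))) (.node (.leaf (0, 34944)) (.leaf (0, 34944)))))) (.node (.node (.node (.node (.leaf (0, 34944)) (.leaf (0, 34944))) (.node (.leaf (0, 34944)) (.leaf (0, 34944)))) (.node (.node (.leaf (0, 34944)) (.leaf (0, 34944))) (.node (.leaf (0, 34944)) (.leaf (0, 34944))))) (.node (.node (.node (.leaf (0, 34944)) (.leaf (0, 34944))) (.node (.leaf (0, 34944)) (.leaf (0, 34944)))) (.node (.node (.leaf (0, 34944)) (.leaf (0, 34944))) (.node (.leaf (0, 34944)) (.leaf (0, 34944))))))) (.node (.node (.node (.node (.node (.leaf (0, 34944)) (.leaf (0, 34944))) (.node (.leaf (0, 34944)) (.leaf (0, 34944)))) (.node (.node (.leaf (0, 34944)) (.leaf (0, 34944))) (.node (.leaf (0, 34944)) (.leaf (0, 34944))))) (.node (.node (.node (.leaf (0, 34944)) (.leaf (0, 34944))) (.node (.leaf (0, 34944)) (.leaf (0, 34944)))) (.node (.node (.leaf (0, 34944)) (.leaf (0, 34944))) (.node (.leaf (0, 34944)) (.leaf (0, 34944)))))) (.node (.node (.node (.node (.leaf (0, 34944)) (.leaf (0, 34944))) (.node (.leaf (0, 34944)) (.leaf (0, 34944)))) (.node (.node (.leaf (0, 34944)) (.leaf (0, 34944))) (.node (.leaf (0, 34944)) (.leaf (0, 34944))))) (.node (.node (.node (.leaf (0, 34944)) (.leaf (0, 34944))) (.node (.leaf (0, 34944)) (.leaf (0, 34944)))) (.node (.node (.leaf (0, 34944)) (.leaf (0, 34944))) (.node (.leaf (0, 34944)) (.leaf (0, 34944)))))))) (.node (.node (.node (.node (.node (.node (.leaf (0, 34944)) (.leaf (0, 34944))) (.node (.leaf (0, 34944)) (.leaf (2, 35266)))) (.node (.node (.leaf (0, 34944)) (.leaf (5, 40808))) (.node (.leaf (6, 23268)) (.leaf (2, 35266))))) (.node (.node (.node (.leaf (0, 34944)) (.leaf (0, 34944))) (.node (.leaf (0, 34944)) (.leaf (2, 35266)))) (.node (.node (.leaf (3, 22138)) (.leaf (2, 35266))) (.node (.leaf (6, 14858)) (.leaf (2, 35266)))))) (.node (.node (.node (.node (.leaf (0, 34944)) (.leaf (0, 34944))) (.node (.leaf (0, 34944)) (.leaf (2, 35266)))) (.node (.node (.leaf (0, 34944)) (.leaf (5, 35320))) (.node (.leaf (0, 34944)) (.leaf (2, 35266))))) (.node (.node (.node (.leaf (0, 34944)) (.leaf (0, 34944))) (.node (.leaf (0, 34944)) (.leaf (2, 35266)))) (.node (.node (.leaf (2, 35266)) (.leaf (2, 35266))) (.node (.leaf (0, 34944)) (.leaf (2, 35266))))))) (.node (.node (.node (.node (.node (.leaf (0, 34944)) (.leaf (0, 34944))) (.node (.leaf (0, 34944)) (.leaf (2, 36710)))) (.node (.node (.leaf (5, 36710)) (.leaf (0, 34944))) (.node (.leaf (3, 32489)) (.leaf (2, 36710))))) (.node (.node (.node (.leaf (0, 34944)) (.leaf (0, 34944))) (.node (.leaf (0, 34944)) (.leaf (2, 36710)))) (.node (.node (.leaf (6, 29348)) (.leaf (2, 36710))) (.node (.leaf (6, 15934)) (.leaf (2, 36710)))))) (.node (.node (.node (.node (.leaf (0, 34944)) (.leaf (0, 34944))) (.node (.leaf (0, 34944)) (.leaf (2, 36710)))) (.node (.node (.leaf (5, 61765)) (.leaf (0, 34944))) (.node (.leaf (0, 34944)) (.leaf (2, 36710))))) (.node (.node (.node (.leaf (0, 34944)) (.leaf (0, 34944))) (.node (.leaf (0, 34944)) (.leaf (2, 36710)))) (.node (.node (.leaf (2, 36710)) (.leaf (2, 36710))) (.node (.leaf (0, 34944)) (.leaf (2, 36710)))))))))) (.node (.node (.node (.node (.node (.node (.node (.node (.leaf (5, 36541)) (.leaf (0, 34944))) (.node (.leaf (0, 34944)) (.leaf (1, 13813)))) (.node (.node (.leaf (0, 34944)) (.leaf (4, 48042))) (.node (.leaf (0, 34944)) (.leaf (1, 13813))))) (.node (.node (.node (.leaf (5, 45368)) (.leaf (0, 34944))) (.node (.leaf (5, 27191)) (.leaf (1, 13813)))) (.node (.node (.leaf (5, 23462)) (.leaf (1, 13813))) (.node (.leaf (0, 34944)) (.leaf (1, 13813)))))) (.node (.node (.node (.node (.leaf (4, 40627)) (.leaf (0, 34944))) (.node (.leaf (0, 34944)) (.leaf (1, 13813)))) (.node (.node (.leaf (0, 34944)) (.leaf (5, 60726))) (.node (.leaf (0, 34944)) (.leaf (1, 13813))))) (.node (.node (.node (.leaf (4, 64152)) (.leaf (0, 34944))) (.node (.leaf (0, 34944)) (.leaf (1, 13813)))) (.node (.node (.leaf (1, 13813)) (.leaf (1, 13813))) (.node (.leaf (5, 31025)) (.leaf (1, 13813))))))) (.node (.node (.node (.node (.node (.leaf (0, 34944)) (.leaf (0, 34944))) (.node (.leaf (0, 34944)) (.leaf (0, 34944)))) (.node (.node (.leaf (0, 34944)) (.leaf (0, 34944))) (.node (.leaf (0, 34944)) (.leaf (0, 34944))))) (.node (.node (.node (.leaf (0, 34944)) (.leaf (0, 34944))) (.node (.leaf (0, 34944)) (.leaf (0, 34944)))) (.node (.node (.leaf (0, 34944)) (.leaf (0, 34944))) (.node (.leaf (0, 34944)) (.leaf (0, 34944)))))) (.node (.node (.node (.node (.leaf (0, 34944)) (.leaf (0, 34944))) (.node (.leaf (0, 34944)) (.leaf (0, 34944)))) (.node (.node (.leaf (0, 34944)) (.leaf (0, 34944))) (.node (.leaf (0, 34944)) (.leaf (0, 34944))))) (.node (.node (.node (.leaf (0, 34944)) (.leaf (0, 34944))) (.node (.leaf (0, 34944)) (.leaf (0, 34944)))) (.node (.node (.leaf (0, 34944)) (.leaf (0, 34944))) (.node (.leaf (0, 34944)) (.leaf (0, 34944)))))))) (.node (.node (.node (.node (.node (.node (.leaf (0, 34944)) (.leaf (0, 34944))) (.node (.leaf (0, 34944)) (.leaf (0, 34944)))) (.node (.node (.leaf (0, 34944)) (.leaf (0, 34944))) (.node (.leaf (0, 34944)) (.leaf (0, 34944))))) (.node (.node (.node (.leaf (0, 34944)) (.leaf (0, 34944))) (.node (.leaf (0, 34944)) (.leaf (0, 34944)))) (.node (.node (.leaf (0, 34944)) (.leaf (0, 34944))) (.node (.leaf (0, 34944)) (.leaf (0, 34944)))))) (.node (.node (.node (.node (.leaf (0, 34944)) (.leaf (0, 34944))) (.node (.leaf (0, 34944)) (.leaf (0, 34944)))) (.node (.node (.leaf (0, 34944)) (.leaf (0, 34944))) (.node (.leaf (0, 34944)) (.leaf (0, 34944))))) (.node (.node (.node (.leaf (0, 34944)) (.leaf (0, 34944))) (.node (.leaf (0, 34944)) (.leaf (0, 34944)))) (.node (.node (.leaf (0, 34944)) (.leaf (0, 34944))) (.node (.leaf (0, 34944)) (.leaf (0, 34944))))))) (.node (.node (.node (.node (.node (.leaf (0, 34944)) (.leaf (0, 34944))) (.node (.leaf (0, 34944)) (.leaf (2, 27399)))) (.node (.node (.leaf (0, 34944)) (.leaf (6, 39828))) (.node (.leaf (0, 34944)) (.leaf (2, 27399))))) (.node (.node (.node (.leaf (5, 56685)) (.leaf (0, 34944))) (.node (.leaf (5, 20184)) (.leaf (2, 27399)))) (.node (.node (.leaf (0, 34944)) (.leaf (2, 27399))) (.node (.leaf (0, 34944)) (.leaf (2, 27399)))))) (.node (.node (.node (.node (.leaf (6, 39606)) (.leaf (0, 34944))) (.node (.leaf (0, 34944)) (.leaf (2, 27399)))) (.node (.node (.leaf (0, 34944)) (.leaf (0, 34944))) (.node (.leaf (0, 34944)) (.leaf (2, 27399))))) (.node (.node (.node (.leaf (3, 38868)) (.leaf (0, 34944))) (.node (.leaf (0, 34944)) (.leaf (2, 27399)))) (.node (.node (.leaf (2, 27399)) (.leaf (2, 27399))) (.node (.leaf (0, 34944)) (.leaf (2, 27399))))))))) (.node (.node (.node (.node (.node (.node (.node (.leaf (0, 34944)) (.leaf (0, 34944))) (.node (.leaf (0, 34944)) (.leaf (0, 34944)))) (.node (.node (.leaf (0, 34944)) (.leaf (0, 34944))) (.node (.leaf (0, 34944)) (.leaf (0, 34944))))) (.node (.node (.node (.leaf (0, 34944)) (.leaf (0, 34944))) (.node (.leaf (0, 34944)) (.leaf (0, 34944)))) (.node (.node (.leaf (0, 34944)) (.leaf (0, 34944))) (.node (.leaf (0, 34944)) (.leaf (0, 34944)))))) (.node (.node (.node (.node (.leaf (0, 34944)) (.leaf (0, 34944))) (.node (.leaf (0, 34944)) (.leaf (0, 34944)))) (.node (.node (.leaf (0, 34944)) (.leaf (0, 34944))) (.node (.leaf (0, 34944)) (.leaf (0, 34944))))) (.node (.node (.node (.leaf (0, 34944)) (.leaf (0, 34944))) (.node (.leaf (0, 34944)) (.leaf (0, 34944)))) (.node (.node (.leaf (0, 34944)) (.leaf (0, 34944))) (.node (.leaf (0, 34944)) (.leaf (0, 34944))))))) (.node (.node (.node (.node (.node (.leaf (5, 43612)) (.leaf (0, 34944))) (.node (.leaf (0, 34944)) (.leaf (2, 31025)))) (.node (.node (.leaf (0, 34944)) (.leaf (6, 40706))) (.node (.leaf (0, 34944)) (.leaf (2, 31025))))) (.node (.node (.node (.leaf (0, 34944)) (.leaf (0, 34944))) (.node (.leaf (0, 34944)) (.leaf (2, 31025)))) (.node (.node (.leaf (0, 34944)) (.leaf (2, 31025))) (.node (.leaf (0, 34944)) (.leaf (2, 31025)))))) (.node (.node (.node (.node (.leaf (3, 55282)) (.leaf (0, 34944))) (.node (.leaf (0, 34944)) (.leaf (2, 31025)))) (.node (.node (.leaf (0, 34944)) (.leaf (0, 34944))) (.node (.leaf (0, 34944)) (.leaf (2, 31025))))) (.node (.node (.node (.leaf (6, 64152)) (.leaf (0, 34944))) (.node (.leaf (0, 34944)) (.leaf (2, 31025)))) (.node (.node (.leaf (2, 31025)) (.leaf (2, 31025))) (.node (.leaf (5, 24063)) (.leaf (2, 31025)))))))) (.node (.node (.node (.node (.node (.node (.leaf (0, 34944)) (.leaf (0, 34944))) (.node (.leaf (0, 34944)) (.leaf (2, 60726)))) (.node (.node (.leaf (0, 34944)) (.leaf (3, 48115))) (.node (.leaf (0, 34944)) (.leaf (2, 60726))))) (.node (.node (.node (.leaf (0, 34944)) (.leaf (0, 34944))) (.node (.leaf (0, 34944)) (.leaf (2, 60726)))) (.node (.node (.leaf (5, 21202)) (.leaf (2, 60726))) (.node (.leaf (0, 34944)) (.leaf (2, 60726)))))) (.node (.node (.node (.node (.leaf (6, 40627)) (.leaf (0, 34944))) (.node (.leaf (0, 34944)) (.leaf (2, 60726)))) (.node (.node (.leaf (0, 34944)) (.leaf (5, 35266))) (.node (.leaf (0, 34944)) (.leaf (2, 60726))))) (.node (.node (.node (.leaf (6, 38805)) (.leaf (0, 34944))) (.node (.leaf (0, 34944)) (.leaf (2, 60726)))) (.node (.node (.leaf (2, 60726)) (.leaf (2, 60726))) (.node (.leaf (0, 34944)) (.leaf (2, 60726))))))) (.node (.node (.node (.node (.node (.leaf (0, 34944)) (.leaf (0, 34944))) (.node (.leaf (0, 34944)) (.leaf (0, 34944)))) (.node (.node (.leaf (0, 34944)) (.leaf (0, 34944))) (.node (.leaf (0, 34944)) (.leaf (0, 34944))))) (.node (.node (.node (.leaf (0, 34944)) (.leaf (0, 34944))) (.node (.leaf (0, 34944)) (.leaf (0, 34944)))) (.node (.node (.leaf (0, 34944)) (.leaf (0, 34944))) (.node (.leaf (0, 34944)) (.leaf (0, 34944)))))) (.node (.node (.node (.node (.leaf (0, 34944)) (.leaf (0, 34944))) (.node (.leaf (0, 34944)) (.leaf (0, 34944)))) (.node (.node (.leaf (0, 34944)) (.leaf (0, 34944))) (.node (.leaf (0, 34944)) (.leaf (0, 34944))))) (.node (.node (.node (.leaf (0, 34944)) (.leaf (0, 34944))) (.node (.leaf (0, 34944)) (.leaf (0, 34944)))) (.node (.node (.leaf (0, 34944)) (.leaf (0, 34944))) (.node (.leaf (0, 34944)) (.leaf (0, 34944))))))))))))))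

/-- roots of the central involution -/
def zRoots : List ℕ := [34982, 34983, 34990, 34991, 34994, 34995, 35002, 35003, 35016, 35017, 35020, 35021, 35032, 35033, 35036, 35037, 35046, 35047, 35050, 35051, 35058, 35059, 35070, 35071, 36040, 36041, 36044, 36045, 36056, 36057, 36060, 36061]

end CfsgLib.HeUnique
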