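import Cfsg.Agent.Lib.HeUnique.Cert

/-!
Derivations for one of the configurations.
-/

set_option autoImplicit false
set_option linter.style.longLine false
set_option maxRecDepth 100000

namespace CfsgLib.HeUnique

/-- loop words -/
def wordsMix : List (List ℕ) := [[34944, 65537, 59957, 65537, 13813, 65537, 34944],
  [34944, 65536, 54904, 65536, 27414, 65537, 20108, 65536, 13813, 65536, 34944]]

/-- witnesses for the centre -/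
def centreMix : List (List ℕ) := [[8, 924, 777], [8, 1030, 1037, 886, 777]]

/-- tracked elements -/
def actsMix : List (List (ℕ × ℕ × List ℕ)) := [[(34945, 34945, [8, 924, 777]), (34946, 34958, [777, 8, 495]), (34948, 34956, [1201, 193, 1030]), (34952, 34952, [1030, 918, 1130]), (35008, 35040, [278, 942, 945]), (39040, 20608, [470, 798, 1413]), (35456, 21376, [223, 462, 1401])],
  [(34945, 34945, [8, 1030, 1037, 886, 777]), (34948, 34948, [1145, 1413, 944, 807, 223]), (34960, 35024, [777, 8, 1221, 1535, 1257]), (35008, 34961, [1030, 1520, 1176, 1164, 193]), (35968, 40064, [45, 387, 1053, 470, 1270]), (39040, 35972, [331, 1310, 1474, 1243, 1277])]]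

/-- the orbits -/
def orbMix : List (List ℕ) := [[34960, 34961, 34976, 34977, 34992, 34993, 35008, 35009, 35024, 35025, 35040, 35041, 35056, 35057], [34946, 34947, 34948, 34949, 34950, 34951, 34952, 34953, 34954, 34955, 34956, 34957, 34958, 34959]]

/-- the facts -/
def factsMix0 : Tree (Fct × Why) :=
  (.node (.node (.node (.node (.node (.node (.node (.node (.node (.leaf (⟨0, 0, 34944, 0, 34944, 1, 34944⟩, .dfn)) (.leaf (⟨1, 6, 40109, 0, 21124, 6, 34944⟩, .mul 255 206))) (.node (.leaf (⟨1, 4, 52104, 0, 21700, 4, 34944⟩, .mul 127 122)) (.leaf (⟨0, 9, 29455, 1, 29920, 9, 47365⟩, .fill 5 2 2 [34944, 52352, 34944, 65537, 59957] 3 51360 [⟨108, 379, 1145⟩] [⟨103, 379, 1160⟩])))) (.node (.node (.leaf (⟨1, 2, 39055, 0, 39051, 2, 34944⟩, .mul 63 35)) (.leaf (⟨1, 10, 30208, 0, 40710, 10, 34944⟩, .mul 307 314))) (.node (.leaf (⟨1, 5, 52193, 0,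 51364, 5, 34944⟩, .mul 159 160)) (.leaf (⟨0, 0, 34944, 0, 34944, 1, 34944⟩, .dfn))))) (.node (.node (.node (.leaf (⟨1, 0, 35266, 0, 35266, 0, 34944⟩, .base)) (.leaf (⟨1, 8, 59545, 0, 59545, 8, 34944⟩, .mul 285 284))) (.node (.leaf (⟨1, 5, 34986, 0, 44184, 5, 34944⟩, .sync ⟨11, 157, 349⟩)) (.leaf (⟨0, 13, 48643, 0, 45358, 11, 22013⟩, .inv 415)))) (.node (.node (.leaf (⟨1, 3, 36053, 0, 43193, 3, 34944⟩, .mul 83 81)) (.leaf (⟨0, 11, 34946, 0, 51330, 11, 23711⟩, .fill 0 0 2 [20621, 34946, 65536, 34946] 10 34944 [⟨315, 338, 0⟩] [⟨336, 338, 740⟩]))) (.node (.leaf (⟨1, 6, 30856, 0, 22660, 6, 34944⟩, .mul 206 206)) (.leaf (⟨0, 0, 34944, 0, 34944, 1, 34944⟩, .dfn)))))) (.node (.node (.node (.node (.leaf (⟨1, 1, 54405, 0, 23696, 1, 34944⟩, .mul 15 5)) (.leaf (⟨1, 7, 47293, 0, 59541, 7, 34944⟩, .mul 235 230))) (.node (.leaf (⟨1, 4, 34944, 0, 34944,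 4, 34944⟩, .unit)) (.leaf (⟨0, 13, 34944, 0, 34944, 7, 34659⟩, .inv 399)))) (.node (.node (.leaf (⟨1, 1, 59561, 0, 40128, 1, 34944⟩, .mul 5 3)) (.leaf (⟨1, 10, 51330, 0, 51330, 10, 34944⟩, .mul 307 310))) (.node (.leaf (⟨1, 6, 29908, 0, 52110, 6, 34944⟩, .sync ⟨207, 204, 1273⟩)) (.leaf (⟨0, 0, 34944, 0, 34944, 1, 34944⟩, .dfn))))) (.node (.node (.node (.leaf (⟨1, 2, 39405, 0, 39401, 2, 34944⟩, .mul 38 35)) (.leaf (⟨1, 9, 52397, 0, 28841, 9, 34944⟩, .mul 299 298))) (.node (.leaf (⟨1, 5, 51944, 0, 52389, 5, 34944⟩, .mul 175 162)) (.leaf (⟨1, 0, 38868, 0, 38868, 0, 34944⟩, .base)))) (.node (.node (.leaf (⟨0, 3, 52435, 0, 44165, 3, 47243⟩, .fill 0 0 2 [20621, 34946, 65536, 34946] 1 34048 [⟨20, 77, 1068⟩] [⟨15, 77, 1258⟩])) (.leaf (⟨0, 9, 35245, 0, 21716, 12, 24190⟩, .fill 6 5 4 [27495, 65536, 13813, 65536, 34944, 44559, 34944] 1 34944 [⟨20,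 118, 0⟩, ⟨122, 294, 1157⟩] [⟨5, 77, 1130⟩, ⟨116, 354, 156⟩]))) (.node (.leaf (⟨1, 7, 47337, 0, 52381, 7, 34944⟩, .mul 239 232)) (.leaf (⟨0, 0, 34944, 0, 34944, 1, 34944⟩, .dfn))))))) (.node (.node (.node (.node (.node (.leaf (⟨1, 1, 51420, 0, 40108, 1, 34944⟩, .mul 5 7)) (.leaf (⟨1, 6, 43244, 0, 35214, 6, 34944⟩, .mul 263 206))) (.node (.leaf (⟨1, 4, 53376, 0, 53388, 4, 34944⟩, .mul 135 122)) (.leaf (⟨1, 8, 47249, 0, 21661, 8, 34944⟩, .mul 293 284)))) (.node (.node (.leaf (⟨1, 2, 39368, 0, 39661, 2, 34944⟩, .mul 37 33)) (.leaf (⟨1, 10, 54408, 0, 31876, 10, 34944⟩, .mul 327 314))) (.node (.leaf (⟨1, 2, 35265, 0, 35555, 2, 34944⟩, .mul 199 35)) (.leaf (⟨0, 0, 34944, 0, 34944, 1, 34944⟩, .dfn))))) (.node (.node (.node (.leaf (⟨1, 2, 23177, 0, 53442, 2, 34944⟩, .mul 39 37)) (.leaf (⟨1, 9, 51377, 0, 43176, 9, 34944⟩, .sync ⟨129, 294, 1401⟩)))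 (.node (.leaf (⟨0, 5, 20414, 0, 58884, 3, 56944⟩, .fill 6 3 4 [13813, 65536, 34944, 44559, 34944, 65536, 54904] 0 34944 [⟨17, 0, 0⟩, ⟨3, 157, 992⟩] [⟨22, 0, 0⟩, ⟨3, 77, 550⟩])) (.leaf (⟨0, 13, 18135, 0, 14099, 13, 14828⟩, .fill 6 5 8 [27495, 65536, 13813] 7 34944 [⟨242, 418, 1493⟩, ⟨348, 415, 344⟩, ⟨408, 409, 78⟩] [⟨238, 399, 602⟩])))) (.node (.node (.leaf (⟨1, 1, 47305, 0, 60597, 1, 34944⟩, .mul 95 5)) (.leaf (⟨1, 12, 34960, 0, 36037, 12, 34944⟩, .mul 357 359))) (.node (.leaf (⟨1, 7, 48301, 0, 60565, 7, 34944⟩, .sync ⟨203, 228, 1167⟩)) (.leaf (⟨0, 0, 34944, 0, 34944, 1, 34944⟩, .dfn)))))) (.node (.node (.node (.node (.leaf (⟨1, 0, 54904, 0, 54904, 0, 34944⟩, .base)) (.leaf (⟨1, 6, 22680, 0, 22658, 6, 34944⟩, .mul 271 206))) (.node (.leaf (⟨1, 4, 39300, 0, 60653, 4, 34944⟩, .mul 140 122)) (.leaf (⟨1, 13, 34944, 0, 34944, 13, 34944⟩, .unit))))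 (.node (.node (.leaf (⟨1, 1, 44161, 0, 34972, 1, 34944⟩, .mul 87 7)) (.leaf (⟨1, 11, 54412, 0, 53376, 11, 34944⟩, .mul 340 340))) (.node (.leaf (⟨1, 6, 52401, 0, 39562, 6, 34944⟩, .mul 211 206)) (.leaf (⟨0, 0, 34944, 0, 34944, 1, 34944⟩, .dfn))))) (.node (.node (.node (.leaf (⟨1, 2, 39597, 0, 39880, 2, 34944⟩, .mul 55 35)) (.leaf (⟨0, 10, 34960, 1, 39310, 10, 53904⟩, .fill 2 0 2 [39044, 34960, 65537, 34960] 6 34944 [⟨223, 305, 0⟩] [⟨210, 305, 117⟩]))) (.node (.leaf (⟨1, 5, 35818, 0, 52408, 5, 34944⟩, .mul 161 160)) (.leaf (⟨0, 0, 34944, 0, 34944, 1, 34944⟩, .dfn)))) (.node (.node (.leaf (⟨1, 4, 39302, 0, 60669, 4, 34944⟩, .sync ⟨84, 118, 1487⟩)) (.leaf (⟨1, 9, 35996, 0, 29837, 9, 34944⟩, .mul 298 297))) (.node (.leaf (⟨0, 7, 35576, 0, 63334, 6, 13813⟩, .inv 247)) (.leaf (⟨0, 0, 34944, 0, 34944, 1, 34944⟩, .dfn)))))))) (.node (.node (.node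 (.node (.node (.node (.leaf (⟨1, 0, 30869, 0, 30869, 0, 34944⟩, .base)) (.leaf (⟨1, 6, 48377, 0, 20878, 6, 34944⟩, .mul 259 208))) (.node (.leaf (⟨1, 4, 21386, 0, 47316, 4, 34944⟩, .mul 131 120)) (.leaf (⟨0, 8, 38250, 1, 62613, 7, 48900⟩, .fill 6 1 4 [34944, 44559, 34944, 65536, 54904, 65536, 62212] 3 34048 [⟨108, 354, 1068⟩, ⟨362, 386, 607⟩] [⟨108, 169, 212⟩, ⟨172, 228, 815⟩])))) (.node (.node (.leaf (⟨1, 2, 21230, 0, 51651, 2, 34944⟩, .mul 42 33)) (.leaf (⟨1, 10, 14596, 0, 45318, 10, 34944⟩, .mul 323 314))) (.node (.leaf (⟨1, 4, 39296, 0, 52461, 4, 34944⟩, .mul 195 120)) (.leaf (⟨0, 0, 34944, 0, 34944, 1, 34944⟩, .dfn))))) (.node (.node (.node (.leaf (⟨1, 0, 39855, 0, 39855, 0, 34944⟩, .base)) (.leaf (⟨1, 8, 34944, 0, 34944, 8, 34944⟩, .unit))) (.node (.leaf (⟨1, 1, 39060, 0, 59544, 1, 34944⟩, .mul 163 3)) (.leaf (⟨0, 11, 56848, 1, 43140,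 11, 24084⟩, .fill 2 0 2 [39044, 34960, 65537, 34960] 7 34944 [⟨242, 418, 1493⟩] [⟨245, 418, 615⟩])))) (.node (.node (.leaf (⟨1, 1, 40169, 0, 51429, 1, 34944⟩, .mul 7 5)) (.leaf (⟨1, 3, 43177, 0, 44284, 3, 34944⟩, .mul 81 83))) (.node (.leaf (⟨0, 5, 34944, 0, 34944, 7, 34944⟩, .dfn)) (.leaf (⟨0, 0, 34944, 0, 34944, 1, 34944⟩, .dfn)))))) (.node (.node (.node (.node (.leaf (⟨1, 1, 34944, 0, 34944, 1, 34944⟩, .unit)) (.leaf (⟨1, 7, 39041, 0, 35980, 7, 34944⟩, .mul 235 232))) (.node (.leaf (⟨1, 4, 53896, 0, 53424, 4, 34944⟩, .mul 147 122)) (.leaf (⟨0, 9, 15625, 0, 40136, 13, 27212⟩, .fill 7 6 2 [20108, 65536, 13813, 65536, 34944, 16013, 34944, 65536, 54904] 3 34944 [⟨108, 379, 331⟩] [⟨108, 169, 94⟩, ⟨172, 228, 613⟩, ⟨238, 399, 890⟩])))) (.node (.node (.leaf (⟨1, 1, 39140, 0, 60669, 1, 34944⟩, .mul 10 5)) (.leaf (⟨1, 11, 31880, 0, 22656, 11,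 34944⟩, .sync ⟨337, 338, 1⟩))) (.node (.leaf (⟨1, 6, 23740, 0, 23168, 6, 34944⟩, .mul 211 208)) (.leaf (⟨0, 0, 34944, 0, 34944, 1, 34944⟩, .dfn))))) (.node (.node (.node (.leaf (⟨1, 2, 34944, 0, 34944, 2, 34944⟩, .unit)) (.leaf (⟨1, 6, 54520, 0, 53632, 6, 34944⟩, .mul 214 208))) (.node (.leaf (⟨0, 5, 39861, 1, 44269, 5, 35570⟩, .fill 2 0 2 [39044, 34960, 65537, 34960] 1 34048 [⟨20, 157, 180⟩] [⟨9, 157, 268⟩])) (.leaf (⟨0, 0, 34944, 0, 34944, 1, 34944⟩, .dfn)))) (.node (.node (.leaf (⟨1, 3, 29932, 0, 39121, 3, 34944⟩, .mul 86 79)) (.leaf (⟨1, 12, 34944, 0, 34944, 12, 34944⟩, .unit))) (.node (.leaf (⟨1, 7, 43260, 0, 52369, 7, 34944⟩, .mul 232 230)) (.leaf (⟨0, 0, 34944, 0, 34944, 1, 34944⟩, .dfn))))))) (.node (.node (.node (.node (.node (.leaf (⟨1, 1, 39125, 0, 51376, 1, 34944⟩, .mul 3 5)) (.leaf (⟨1, 6, 20692, 0, 52102, 6, 34944⟩, .mul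 216 206))) (.node (.leaf (⟨1, 4, 21382, 0, 48340, 4, 34944⟩, .mul 123 122)) (.leaf (⟨1, 9, 51380, 0, 28884, 9, 34944⟩, .mul 299 296)))) (.node (.node (.leaf (⟨1, 2, 21188, 0, 51916, 2, 34944⟩, .mul 43 37)) (.leaf (⟨1, 10, 44546, 0, 36612, 10, 34944⟩, .mul 326 314))) (.node (.leaf (⟨0, 2, 34944, 0, 34944, 6, 34944⟩, .dfn)) (.leaf (⟨0, 0, 34944, 0, 34944, 1, 34944⟩, .dfn))))) (.node (.node (.node (.leaf (⟨1, 2, 22980, 0, 53993, 2, 34944⟩, .mul 41 33)) (.leaf (⟨1, 9, 44169, 0, 35068, 9, 34944⟩, .mul 296 298))) (.node (.leaf (⟨1, 5, 34944, 0, 34944, 5, 34944⟩, .unit)) (.leaf (⟨0, 13, 59096, 1, 34649, 12, 50837⟩, .inv 427)))) (.node (.node (.leaf (⟨1, 3, 34944, 0, 34944, 3, 34944⟩, .unit)) (.leaf (⟨1, 12, 28857, 0, 48316, 12, 34944⟩, .mul 358 359))) (.node (.leaf (⟨1, 7, 44216, 0, 60569, 7, 34944⟩, .mul 235 231)) (.leaf (⟨0, 0, 34944, 0, 34944,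 1, 34944⟩, .dfn)))))) (.node (.node (.node (.node (.leaf (⟨1, 0, 34659, 0, 34659, 0, 34944⟩, .base)) (.leaf (⟨1, 8, 28829, 0, 48273, 8, 34944⟩, .sync ⟨138, 282, 1382⟩))) (.node (.leaf (⟨1, 4, 22660, 0, 30856, 4, 34944⟩, .mul 128 120)) (.leaf (⟨0, 12, 13135, 1, 12597, 13, 48946⟩, .fill 6 3 2 [13813, 65536, 34944, 44559, 34944, 65536, 54904, 65536, 62212] 3 34048 [⟨108, 354, 1068⟩] [⟨86, 354, 428⟩, ⟨367, 407, 374⟩, ⟨408, 409, 1177⟩])))) (.node (.node (.leaf (⟨1, 1, 51401, 0, 48317, 1, 34944⟩, .mul 91 7)) (.leaf (⟨1, 11, 43148, 0, 35976, 11, 34944⟩, .mul 342 340))) (.node (.leaf (⟨1, 6, 59529, 0, 39046, 6, 34944⟩, .mul 219 208)) (.leaf (⟨0, 0, 34944, 0, 34944, 1, 34944⟩, .dfn))))) (.node (.node (.node (.leaf (⟨1, 2, 54244, 0, 22959, 2, 34944⟩, .mul 40 35)) (.leaf (⟨1, 10, 20868, 0, 39308, 10, 34944⟩, .mul 311 310))) (.node (.leaf (⟨1, 5,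 52138, 0, 36013, 5, 34944⟩, .mul 174 165)) (.leaf (⟨0, 0, 34944, 0, 34944, 1, 34944⟩, .dfn)))) (.node (.node (.leaf (⟨1, 4, 23434, 0, 22725, 4, 34944⟩, .mul 123 120)) (.leaf (⟨0, 9, 56849, 1, 52772, 3, 51328⟩, .inv 379))) (.node (.leaf (⟨1, 6, 21689, 0, 51842, 6, 34944⟩, .mul 251 206)) (.leaf (⟨0, 0, 34944, 0, 34944, 1, 34944⟩, .dfn))))))))) (.node (.node (.node (.node (.node (.node (.node (.leaf (⟨1, 0, 21721, 0, 21721, 0, 34944⟩, .base)) (.leaf (⟨1, 6, 31984, 0, 22924, 6, 34944⟩, .mul 257 208))) (.node (.leaf (⟨1, 4, 39812, 0, 52420, 4, 34944⟩, .mul 129 120)) (.leaf (⟨0, 12, 12701, 0, 61272, 8, 47683⟩, .inv 385)))) (.node (.node (.leaf (⟨1, 0, 50637, 0, 50637, 0, 34944⟩, .base)) (.leaf (⟨1, 10, 52486, 0, 60672, 10, 34944⟩, .mul 321 314))) (.node (.leaf (⟨1, 4, 23178, 0, 30892, 4, 34944⟩, .mul 139 120)) (.leaf (⟨0, 0, 34944, 0, 34944,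 1, 34944⟩, .dfn))))) (.node (.node (.node (.leaf (⟨1, 0, 53704, 0, 53704, 0, 34944⟩, .base)) (.leaf (⟨1, 8, 60569, 0, 52377, 8, 34944⟩, .mul 289 284))) (.node (.leaf (⟨1, 5, 35561, 0, 60585, 5, 34944⟩, .sync ⟨111, 157, 1027⟩)) (.leaf (⟨0, 7, 29364, 1, 53401, 11, 34120⟩, .fill 6 3 2 [13813, 65536, 34944, 44559, 34944, 65536, 54904, 65536, 62212] 6 34048 [⟨267, 247, 1417⟩] [⟨223, 247, 1381⟩, ⟨230, 399, 1294⟩, ⟨408, 416, 461⟩])))) (.node (.node (.leaf (⟨1, 1, 20673, 0, 28857, 1, 34944⟩, .mul 97 3)) (.leaf (⟨0, 3, 34659, 0, 34944, 12, 34944⟩, .dfn))) (.node (.leaf (⟨1, 6, 59588, 0, 39820, 6, 34944⟩, .mul 206 208)) (.leaf (⟨0, 0, 34944, 0, 34944, 1, 34944⟩, .dfn)))))) (.node (.node (.node (.node (.leaf (⟨1, 0, 31898, 0, 31898, 0, 34944⟩, .base)) (.leaf (⟨1, 7, 34960, 0, 43136, 7, 34944⟩, .mul 246 232))) (.node (.leaf (⟨1, 4, 23432, 0, 22741,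 4, 34944⟩, .mul 142 122)) (.leaf (⟨1, 13, 44284, 0, 43136, 13, 34944⟩, .sync ⟨274, 399, 370⟩)))) (.node (.node (.leaf (⟨1, 1, 59592, 0, 48297, 1, 34944⟩, .mul 14 5)) (.leaf (⟨0, 10, 34944, 0, 34944, 11, 34944⟩, .dfn))) (.node (.leaf (⟨1, 6, 51453, 0, 39310, 6, 34944⟩, .sync ⟨209, 204, 1405⟩)) (.leaf (⟨0, 0, 34944, 0, 34944, 1, 34944⟩, .dfn))))) (.node (.node (.node (.leaf (⟨1, 2, 23491, 0, 53934, 2, 34944⟩, .mul 49 35)) (.leaf (⟨0, 10, 34944, 1, 34944, 6, 34944⟩, .inv 305))) (.node (.leaf (⟨0, 5, 18298, 1, 44269, 4, 52352⟩, .inv 177)) (.leaf (⟨1, 0, 60726, 0, 60726, 0, 34944⟩, .base)))) (.node (.node (.leaf (⟨1, 3, 20625, 0, 40085, 3, 34944⟩, .mul 79 86)) (.leaf (⟨1, 9, 44165, 0, 20705, 9, 34944⟩, .mul 297 298))) (.node (.leaf (⟨1, 7, 43244, 0, 60561, 7, 34944⟩, .mul 241 232)) (.leaf (⟨0, 0, 34944, 0, 34944, 1, 34944⟩, .dfn))))))) (.node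 (.node (.node (.node (.node (.leaf (⟨1, 1, 29888, 0, 28837, 1, 34944⟩, .mul 9 3)) (.leaf (⟨1, 6, 39057, 0, 20608, 6, 34944⟩, .mul 265 206))) (.node (.leaf (⟨1, 4, 20616, 0, 48273, 4, 34944⟩, .mul 133 120)) (.leaf (⟨1, 8, 39057, 0, 29853, 8, 34944⟩, .mul 284 285)))) (.node (.node (.leaf (⟨1, 2, 23201, 0, 54220, 2, 34944⟩, .mul 73 35)) (.leaf (⟨1, 10, 26372, 0, 17930, 10, 34944⟩, .mul 320 310))) (.node (.leaf (⟨1, 5, 34985, 0, 35976, 5, 34944⟩, .mul 166 162)) (.leaf (⟨0, 0, 34944, 0, 34944, 1, 34944⟩, .dfn))))) (.node (.node (.node (.leaf (⟨1, 2, 20622, 0, 51329, 2, 34944⟩, .mul 37 35)) (.leaf (⟨1, 9, 52392, 0, 43221, 9, 34944⟩, .sync ⟨201, 294, 78⟩))) (.node (.leaf (⟨0, 2, 20108, 0, 26142, 5, 42305⟩, .fill 6 5 2 [27495, 65536, 13813, 65536, 34944, 44559, 34944, 65536, 54904] 0 34944 [⟨17, 30, 0⟩] [⟨23, 0, 1130⟩, ⟨7, 77, 149⟩, ⟨79, 169,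 250⟩])) (.leaf (⟨0, 13, 10963, 1, 35490, 13, 59805⟩, .fill 6 1 4 [34944, 44559, 34944, 65536, 54904, 65536, 62212] 8 34048 [⟨287, 385, 308⟩, ⟨357, 407, 1260⟩] [⟨393, 385, 1328⟩, ⟨357, 407, 181⟩])))) (.node (.node (.leaf (⟨1, 1, 54428, 0, 22657, 1, 34944⟩, .mul 8 3)) (.leaf (⟨1, 12, 28841, 0, 47336, 12, 34944⟩, .mul 358 357))) (.node (.leaf (⟨1, 7, 44200, 0, 52377, 7, 34944⟩, .mul 230 232)) (.leaf (⟨0, 0, 34944, 0, 34944, 1, 34944⟩, .dfn)))))) (.node (.node (.node (.node (.leaf (⟨1, 0, 56861, 0, 56861, 0, 34944⟩, .base)) (.leaf (⟨0, 4, 34944, 0, 34944, 8, 34944⟩, .dfn))) (.node (.leaf (⟨1, 4, 21380, 0, 48324, 4, 34944⟩, .mul 153 122)) (.leaf (⟨0, 13, 40195, 0, 22769, 8, 14977⟩, .fill 6 5 4 [27495, 65536, 13813, 65536, 34944, 44559, 34944] 3 51332 [⟨108, 379, 1130⟩, ⟨303, 404, 169⟩] [⟨115, 354, 643⟩, ⟨367, 386, 1164⟩])))) (.node (.node (.leaf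 (⟨1, 1, 52392, 0, 40156, 1, 34944⟩, .mul 89 3)) (.leaf (⟨1, 11, 35976, 0, 44164, 11, 34944⟩, .mul 340 342))) (.node (.leaf (⟨1, 6, 35068, 0, 35208, 6, 34944⟩, .mul 208 208)) (.leaf (⟨0, 0, 34944, 0, 34944, 1, 34944⟩, .dfn))))) (.node (.node (.node (.leaf (⟨1, 2, 20708, 0, 51598, 2, 34944⟩, .mul 57 37)) (.leaf (⟨1, 10, 31620, 0, 62084, 10, 34944⟩, .close 4 1 34944 [⟨313, 306, 0⟩, ⟨217, 250, 622⟩, ⟨223, 305, 1083⟩]))) (.node (.leaf (⟨1, 5, 51840, 0, 43188, 5, 34944⟩, .mul 185 160)) (.leaf (⟨0, 0, 34944, 0, 34944, 1, 34944⟩, .dfn)))) (.node (.node (.leaf (⟨1, 4, 53378, 0, 53404, 4, 34944⟩, .sync ⟨121, 118, 125⟩)) (.leaf (⟨0, 12, 47463, 0, 53389, 12, 19989⟩, .fill 6 1 6 [34944, 44559, 34944, 65536, 54904] 3 34946 [⟨108, 112, 494⟩, ⟨101, 354, 1464⟩, ⟨358, 373, 1505⟩] [⟨116, 354, 258⟩]))) (.node (.leaf (⟨0, 6, 52484, 1, 62984, 6, 42810⟩, .fill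 7 10 8 [54904, 65536, 27414] 2 34944 [⟨52, 204, 0⟩, ⟨249, 247, 334⟩, ⟨240, 248, 245⟩] [⟨37, 204, 1138⟩])) (.leaf (⟨0, 0, 34944, 0, 34944, 1, 34944⟩, .dfn)))))))) (.node (.node (.node (.node (.node (.node (.leaf (⟨1, 0, 21693, 0, 21693, 0, 34944⟩, .base)) (.leaf (⟨1, 6, 54432, 0, 53894, 6, 34944⟩, .mul 210 208))) (.node (.leaf (⟨1, 4, 22656, 0, 22664, 4, 34944⟩, .mul 122 122)) (.leaf (⟨0, 8, 18007, 1, 20625, 8, 19999⟩, .fill 7 2 4 [34944, 16013, 34944, 65536, 54904, 65536, 27414] 3 34048 [⟨108, 354, 1068⟩, ⟨362, 386, 607⟩] [⟨115, 354, 116⟩, ⟨372, 386, 592⟩])))) (.node (.node (.leaf (⟨1, 2, 35298, 0, 35298, 2, 34944⟩, .mul 69 35)) (.leaf (⟨1, 10, 53898, 0, 23434, 10, 34944⟩, .mul 307 311))) (.node (.leaf (⟨1, 5, 35458, 0, 43176, 5, 34944⟩, .mul 161 165)) (.leaf (⟨0, 0, 34944, 0, 34944, 1, 34944⟩, .dfn))))) (.node (.node (.node (.leaf (⟨1,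 2, 51586, 0, 20716, 2, 34944⟩, .mul 35 37)) (.leaf (⟨0, 4, 34659, 0, 34944, 9, 34944⟩, .dfn))) (.node (.leaf (⟨1, 5, 35523, 0, 51377, 5, 34944⟩, .mul 160 162)) (.leaf (⟨0, 11, 38784, 1, 52369, 8, 40112⟩, .fill 5 6 4 [59957, 65537, 13813] 7 34944 [⟨242, 418, 1493⟩] [⟨233, 389, 685⟩])))) (.node (.node (.leaf (⟨1, 3, 28884, 0, 43181, 3, 34944⟩, .mul 93 81)) (.leaf (⟨1, 12, 36052, 0, 39056, 12, 34944⟩, .sync ⟨113, 354, 741⟩))) (.node (.leaf (⟨1, 7, 40065, 0, 43148, 7, 34944⟩, .sync ⟨175, 228, 1225⟩)) (.leaf (⟨0, 0, 34944, 0, 34944, 1, 34944⟩, .dfn)))))) (.node (.node (.node (.node (.leaf (⟨1, 0, 13813, 0, 13813, 0, 34944⟩, .base)) (.leaf (⟨1, 6, 29865, 0, 51844, 6, 34944⟩, .mul 218 208))) (.node (.leaf (⟨1, 4, 39560, 0, 52385, 4, 34944⟩, .mul 149 122)) (.leaf (⟨0, 13, 40252, 0, 62127, 12, 11778⟩, .fill 6 5 4 [27495, 65536, 13813, 65536, 34944,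 44559, 34944] 3 34946 [⟨108, 379, 1506⟩, ⟨397, 404, 507⟩] [⟨108, 110, 110⟩, ⟨101, 354, 1466⟩])))) (.node (.node (.leaf (⟨1, 3, 21669, 0, 47273, 3, 34944⟩, .sync ⟨85, 77, 693⟩)) (.leaf (⟨1, 11, 62592, 0, 54408, 11, 34944⟩, .sync ⟨341, 338, 576⟩))) (.node (.leaf (⟨1, 6, 51412, 0, 39818, 6, 34944⟩, .mul 213 210)) (.leaf (⟨0, 0, 34944, 0, 34944, 1, 34944⟩, .dfn))))) (.node (.node (.node (.leaf (⟨0, 2, 59957, 1, 59118, 2, 31043⟩, .fill 4 1 2 [34944, 60544, 34944, 65537, 54904] 0 34944 [⟨17, 30, 0⟩] [⟨53, 30, 1196⟩])) (.leaf (⟨1, 10, 54150, 0, 23182, 10, 34944⟩, .sync ⟨309, 305, 241⟩))) (.node (.leaf (⟨1, 5, 52171, 0, 60604, 5, 34944⟩, .mul 181 162)) (.leaf (⟨0, 0, 34944, 0, 34944, 1, 34944⟩, .dfn)))) (.node (.node (.leaf (⟨0, 1, 34944, 1, 34944, 4, 34944⟩, .dfn)) (.leaf (⟨0, 3, 13135, 1, 52437, 9, 61788⟩, .fill 6 3 2 [13813, 65536, 34944, 44559,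 34944, 65536, 54904, 65536, 62212] 1 34048 [⟨20, 77, 1068⟩] [⟨98, 77, 735⟩, ⟨108, 354, 1477⟩, ⟨358, 369, 1238⟩]))) (.node (.leaf (⟨1, 7, 47353, 0, 60573, 7, 34944⟩, .mul 234 230)) (.leaf (⟨0, 0, 34944, 0, 34944, 1, 34944⟩, .dfn))))))) (.node (.node (.node (.node (.node (.leaf (⟨1, 1, 39077, 0, 52420, 1, 34944⟩, .mul 13 3)) (.leaf (⟨0, 7, 22005, 0, 23702, 7, 11949⟩, .fill 7 8 2 [27414, 65537, 20108, 65536, 13813, 65536, 34944, 16013, 34944] 5 34948 [⟨172, 228, 1145⟩] [⟨191, 183, 594⟩, ⟨172, 187, 1016⟩, ⟨184, 228, 1355⟩]))) (.node (.leaf (⟨1, 4, 53898, 0, 53408, 4, 34944⟩, .mul 141 122)) (.leaf (⟨1, 12, 36036, 0, 40149, 12, 34944⟩, .mul 360 358)))) (.node (.node (.leaf (⟨0, 3, 34944, 0, 34944, 1, 34659⟩, .inv 77)) (.leaf (⟨1, 10, 23182, 0, 54150, 10, 34944⟩, .mul 310 310))) (.node (.leaf (⟨1, 6, 62620, 0, 53386, 6, 34944⟩, .sync ⟨62, 204,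 179⟩)) (.leaf (⟨0, 0, 34944, 0, 34944, 1, 34944⟩, .dfn))))) (.node (.node (.node (.leaf (⟨1, 2, 21191, 0, 51919, 2, 34944⟩, .mul 45 37)) (.leaf (⟨0, 9, 52435, 0, 29865, 9, 21730⟩, .fill 0 0 2 [20621, 34946, 65536, 34946] 4 34048 [⟨144, 294, 1068⟩] [⟨123, 294, 502⟩]))) (.node (.leaf (⟨1, 5, 51947, 0, 60597, 5, 34944⟩, .mul 173 159)) (.leaf (⟨1, 0, 30672, 0, 30672, 0, 34944⟩, .base)))) (.node (.node (.leaf (⟨0, 3, 45334, 0, 36560, 3, 64072⟩, .fill 6 1 6 [34944, 44559, 34944, 65536, 54904] 1 34946 [⟨20, 19, 0⟩, ⟨106, 77, 119⟩, ⟨79, 107, 1085⟩] [⟨7, 77, 659⟩])) (.leaf (⟨1, 12, 21716, 0, 48300, 12, 34944⟩, .mul 357 358))) (.node (.leaf (⟨1, 7, 48377, 0, 51357, 7, 34944⟩, .mul 232 231)) (.leaf (⟨0, 0, 34944, 0, 34944, 1, 34944⟩, .dfn)))))) (.node (.node (.node (.node (.leaf (⟨0, 0, 34944, 1, 34944, 2, 34944⟩, .dfn)) (.leaf (⟨1, 8, 44160, 0,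 35968, 8, 34944⟩, .mul 284 284))) (.node (.leaf (⟨0, 5, 34944, 1, 34944, 1, 36710⟩, .inv 157)) (.leaf (⟨0, 13, 42314, 1, 59577, 13, 32101⟩, .fill 7 2 4 [34944, 16013, 34944, 65536, 54904, 65536, 27414] 3 34052 [⟨99, 354, 587⟩, ⟨372, 407, 1090⟩] [⟨115, 354, 558⟩, ⟨367, 407, 1124⟩])))) (.node (.node (.leaf (⟨1, 1, 48348, 0, 52396, 1, 34944⟩, .mul 13 7)) (.leaf (⟨1, 11, 44164, 0, 43148, 11, 34944⟩, .mul 347 340))) (.node (.leaf (⟨0, 6, 34946, 0, 51329, 6, 34963⟩, .fill 0 0 2 [20621, 34946, 65536, 34946] 2 34944 [⟨52, 204, 0⟩] [⟨42, 204, 8⟩])) (.leaf (⟨0, 0, 34944, 0, 34944, 1, 34944⟩, .dfn))))) (.node (.node (.node (.leaf (⟨1, 2, 22661, 0, 53386, 2, 34944⟩, .mul 35 33)) (.leaf (⟨1, 10, 44164, 0, 35976, 10, 34944⟩, .mul 317 314))) (.node (.leaf (⟨1, 5, 52107, 0, 44197, 5, 34944⟩, .mul 189 159)) (.leaf (⟨0, 0, 34944, 0, 34944, 1, 34944⟩, .dfn))))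 (.node (.node (.leaf (⟨1, 4, 20872, 0, 40169, 4, 34944⟩, .mul 122 120)) (.leaf (⟨0, 9, 28841, 1, 38705, 9, 27328⟩, .fill 5 4 2 [13813, 65537, 34944, 52352, 34944] 3 51328 [⟨108, 379, 0⟩] [⟨79, 379, 1313⟩]))) (.node (.leaf (⟨1, 7, 34944, 0, 34944, 7, 34944⟩, .unit)) (.leaf (⟨0, 0, 34944, 0, 34944, 1, 34944⟩, .dfn)))))))))) (.node (.node (.node (.node (.node (.node (.node (.node (.leaf (⟨0, 1, 34944, 0, 34944, 0, 34944⟩, .inv 0)) (.leaf (⟨1, 6, 40148, 0, 21378, 6, 34944⟩, .mul 215 208))) (.node (.leaf (⟨1, 4, 35458, 0, 43176, 4, 34944⟩, .mul 120 120)) (.leaf (⟨0, 8, 47683, 0, 57022, 12, 12701⟩, .fill 7 6 8 [20108, 65536, 13813] 3 53376 [⟨108, 379, 317⟩, ⟨303, 295, 876⟩, ⟨129, 282, 1360⟩] [⟨86, 354, 320⟩])))) (.node (.node (.leaf (⟨1, 2, 39307, 0, 39150, 2, 34944⟩, .mul 33 37)) (.leaf (⟨1, 10, 21388, 0, 39556, 10, 34944⟩, .mul 310 307)))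 (.node (.leaf (⟨1, 5, 35209, 0, 35969, 5, 34944⟩, .mul 173 160)) (.leaf (⟨0, 0, 34944, 0, 34944, 1, 34944⟩, .dfn))))) (.node (.node (.node (.leaf (⟨1, 2, 35552, 0, 35266, 2, 34944⟩, .sync ⟨32, 30, 944⟩)) (.leaf (⟨1, 8, 53388, 0, 31880, 8, 34944⟩, .mul 288 284))) (.node (.leaf (⟨1, 5, 35779, 0, 51376, 5, 34944⟩, .sync ⟨12, 157, 1466⟩)) (.leaf (⟨0, 13, 40767, 1, 27202, 13, 13100⟩, .fill 6 1 4 [34944, 44559, 34944, 65536, 54904, 65536, 62212] 6 34048 [⟨267, 247, 1417⟩, ⟨231, 399, 1426⟩] [⟨258, 247, 855⟩, ⟨232, 399, 1348⟩])))) (.node (.node (.leaf (⟨1, 1, 44273, 0, 44273, 1, 34944⟩, .mul 7 7)) (.leaf (⟨1, 11, 34944, 0, 34944, 11, 34944⟩, .unit))) (.node (.leaf (⟨1, 6, 34960, 0, 34946, 6, 34944⟩, .mul 224 206)) (.leaf (⟨0, 0, 34944, 0, 34944, 1, 34944⟩, .dfn)))))) (.node (.node (.node (.node (.leaf (⟨1, 0, 34944, 0, 34944, 0, 34944⟩, .base))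 (.leaf (⟨1, 7, 35013, 0, 44168, 7, 34944⟩, .mul 272 232))) (.node (.leaf (⟨0, 4, 59957, 1, 28837, 4, 31728⟩, .fill 4 1 2 [34944, 60544, 34944, 65537, 54904] 1 34944 [⟨20, 118, 0⟩] [⟨10, 118, 567⟩])) (.leaf (⟨1, 13, 20704, 0, 51353, 13, 34944⟩, .sync ⟨275, 399, 1272⟩)))) (.node (.node (.leaf (⟨1, 3, 29824, 0, 40128, 3, 34944⟩, .sync ⟨80, 77, 489⟩)) (.leaf (⟨1, 10, 53376, 0, 22656, 10, 34944⟩, .mul 335 307))) (.node (.leaf (⟨1, 2, 39144, 0, 39310, 2, 34944⟩, .mul 200 37)) (.leaf (⟨0, 0, 34944, 0, 34944, 1, 34944⟩, .dfn))))) (.node (.node (.node (.leaf (⟨1, 2, 35526, 0, 35525, 2, 34944⟩, .mul 37 37)) (.leaf (⟨0, 6, 34944, 1, 34944, 10, 34944⟩, .dfn))) (.node (.leaf (⟨0, 4, 52352, 1, 44269, 5, 18298⟩, .fill 4 5 4 [54904, 65537, 11223] 1 34944 [⟨20, 118, 0⟩] [⟨9, 157, 844⟩])) (.leaf (⟨1, 0, 59854, 0, 59854, 0, 34944⟩, .base)))) (.node (.node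 (.leaf (⟨1, 3, 35056, 0, 39056, 3, 34944⟩, .mul 79 93)) (.leaf (⟨0, 12, 24190, 0, 28841, 9, 35245⟩, .inv 368))) (.node (.leaf (⟨1, 7, 39124, 0, 34948, 7, 34944⟩, .mul 234 232)) (.leaf (⟨0, 0, 34944, 0, 34944, 1, 34944⟩, .dfn))))))) (.node (.node (.node (.node (.node (.leaf (⟨1, 1, 35056, 0, 44269, 1, 34944⟩, .mul 3 3)) (.leaf (⟨1, 6, 29837, 0, 51338, 6, 34944⟩, .mul 213 208))) (.node (.leaf (⟨1, 4, 22658, 0, 22680, 4, 34944⟩, .mul 136 122)) (.leaf (⟨1, 8, 23688, 0, 61580, 8, 34944⟩, .mul 392 284)))) (.node (.node (.leaf (⟨1, 2, 35045, 0, 35204, 2, 34944⟩, .mul 72 37)) (.leaf (⟨1, 10, 26120, 0, 18190, 10, 34944⟩, .mul 320 307))) (.node (.leaf (⟨1, 4, 35720, 0, 43221, 4, 34944⟩, .mul 194 122)) (.leaf (⟨0, 0, 34944, 0, 34944, 1, 34944⟩, .dfn))))) (.node (.node (.node (.leaf (⟨1, 2, 23460, 0, 54187, 2, 34944⟩, .mul 33 35)) (.leaf (⟨1, 9, 51389,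 0, 21689, 9, 34944⟩, .sync ⟨197, 294, 1216⟩))) (.node (.leaf (⟨0, 3, 56944, 0, 15622, 5, 20414⟩, .inv 168)) (.leaf (⟨0, 13, 57049, 0, 35000, 13, 45320⟩, .fill 6 7 6 [62212, 65537, 27495, 65536, 13813] 7 34946 [⟨254, 269, 0⟩, ⟨254, 399, 1014⟩] [⟨230, 389, 460⟩, ⟨286, 411, 190⟩])))) (.node (.node (.leaf (⟨1, 3, 29825, 0, 39045, 3, 34944⟩, .mul 79 83)) (.leaf (⟨1, 12, 21700, 0, 47352, 12, 34944⟩, .mul 359 358))) (.node (.leaf (⟨1, 7, 40148, 0, 44164, 7, 34944⟩, .mul 230 231)) (.leaf (⟨0, 0, 34944, 0, 34944, 1, 34944⟩, .dfn)))))) (.node (.node (.node (.node (.leaf (⟨1, 0, 11087, 0, 11087, 0, 34944⟩, .base)) (.leaf (⟨1, 6, 20705, 0, 51592, 6, 34944⟩, .mul 280 210))) (.node (.leaf (⟨1, 4, 51846, 0, 29881, 4, 34944⟩, .mul 152 122)) (.leaf (⟨0, 13, 61619, 0, 60561, 13, 23726⟩, .fill 6 5 4 [27495, 65536, 13813, 65536, 34944, 44559, 34944] 3 51328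 [⟨108, 379, 0⟩, ⟨397, 404, 143⟩] [⟨115, 354, 431⟩, ⟨372, 407, 408⟩])))) (.node (.node (.leaf (⟨1, 1, 53400, 0, 30857, 1, 34944⟩, .mul 88 5)) (.leaf (⟨1, 11, 22668, 0, 30860, 11, 34944⟩, .mul 344 342))) (.node (.leaf (⟨1, 6, 21673, 0, 51840, 6, 34944⟩, .mul 210 206)) (.leaf (⟨0, 0, 34944, 0, 34944, 1, 34944⟩, .dfn))))) (.node (.node (.node (.leaf (⟨1, 2, 53705, 0, 23271, 2, 34944⟩, .mul 45 33)) (.leaf (⟨1, 10, 34944, 0, 34944, 10, 34944⟩, .unit))) (.node (.leaf (⟨1, 5, 51880, 0, 36028, 5, 34944⟩, .mul 165 159)) (.leaf (⟨0, 0, 34944, 0, 34944, 1, 34944⟩, .dfn)))) (.node (.node (.leaf (⟨1, 1, 22665, 0, 53404, 1, 34944⟩, .mul 104 3)) (.leaf (⟨1, 9, 60600, 0, 43205, 9, 34944⟩, .mul 300 296))) (.node (.leaf (⟨1, 6, 48273, 0, 20616, 6, 34944⟩, .mul 212 208)) (.leaf (⟨0, 0, 34944, 0, 34944, 1, 34944⟩, .dfn)))))))) (.node (.node (.node (.node (.node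 (.node (.leaf (⟨1, 1, 62617, 0, 30869, 1, 34944⟩, .sync ⟨4, 0, 761⟩)) (.leaf (⟨1, 6, 23724, 0, 23170, 6, 34944⟩, .mul 260 208))) (.node (.leaf (⟨1, 4, 54144, 0, 61653, 4, 34944⟩, .mul 129 122)) (.leaf (⟨0, 7, 48900, 1, 30877, 8, 38250⟩, .inv 388)))) (.node (.node (.leaf (⟨1, 2, 53641, 0, 22759, 2, 34944⟩, .mul 68 37)) (.leaf (⟨1, 10, 13186, 0, 64138, 10, 34944⟩, .mul 314 311))) (.node (.leaf (⟨1, 4, 51842, 0, 21689, 4, 34944⟩, .mul 196 122)) (.leaf (⟨0, 0, 34944, 0, 34944, 1, 34944⟩, .dfn))))) (.node (.node (.node (.leaf (⟨1, 2, 39848, 0, 39855, 2, 34944⟩, .sync ⟨36, 30, 1355⟩)) (.leaf (⟨1, 8, 31880, 0, 53388, 8, 34944⟩, .mul 285 285))) (.node (.leaf (⟨1, 5, 35265, 0, 59544, 5, 34944⟩, .sync ⟨164, 157, 1208⟩)) (.leaf (⟨0, 11, 42941, 1, 47257, 11, 54000⟩, .fill 4 1 2 [34944, 60544, 34944, 65537, 54904] 7 34944 [⟨242, 418, 1493⟩] [⟨237,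 418, 223⟩])))) (.node (.node (.leaf (⟨1, 3, 36009, 0, 43260, 3, 34944⟩, .mul 81 86)) (.leaf (⟨1, 12, 29836, 0, 44284, 12, 34944⟩, .sync ⟨356, 354, 1078⟩))) (.node (.leaf (⟨0, 7, 34944, 0, 34944, 5, 34944⟩, .inv 228)) (.leaf (⟨0, 0, 34944, 0, 34944, 1, 34944⟩, .dfn)))))) (.node (.node (.node (.node (.leaf (⟨1, 0, 52187, 0, 52187, 0, 34944⟩, .base)) (.leaf (⟨1, 7, 47277, 0, 51349, 7, 34944⟩, .mul 246 231))) (.node (.leaf (⟨1, 4, 20874, 0, 40185, 4, 34944⟩, .mul 128 122)) (.leaf (⟨0, 13, 27212, 0, 40141, 9, 15625⟩, .inv 404)))) (.node (.node (.leaf (⟨1, 1, 59584, 0, 47273, 1, 34944⟩, .mul 16 7)) (.leaf (⟨1, 10, 31876, 0, 54408, 10, 34944⟩, .mul 333 314))) (.node (.leaf (⟨1, 6, 34984, 0, 35462, 6, 34944⟩, .mul 210 210)) (.leaf (⟨0, 0, 34944, 0, 34944, 1, 34944⟩, .dfn))))) (.node (.node (.node (.leaf (⟨1, 0, 59118, 0, 59118, 0, 34944⟩, .base))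 (.leaf (⟨1, 6, 22700, 0, 23182, 6, 34944⟩, .mul 308 206))) (.node (.leaf (⟨1, 5, 51618, 0, 34965, 5, 34944⟩, .mul 159 162)) (.leaf (⟨0, 0, 34944, 0, 34944, 1, 34944⟩, .dfn)))) (.node (.node (.leaf (⟨1, 3, 43176, 0, 43176, 3, 34944⟩, .mul 105 83)) (.leaf (⟨0, 12, 32554, 1, 23749, 12, 26385⟩, .fill 6 1 4 [34944, 44559, 34944, 65536, 54904, 65536, 62212] 1 34048 [⟨20, 77, 1068⟩, ⟨99, 354, 940⟩] [⟨109, 77, 385⟩, ⟨99, 354, 1295⟩]))) (.node (.leaf (⟨1, 7, 43176, 0, 59545, 7, 34944⟩, .mul 244 231)) (.leaf (⟨0, 0, 34944, 0, 34944, 1, 34944⟩, .dfn))))))) (.node (.node (.node (.node (.node (.leaf (⟨1, 1, 30869, 0, 62617, 1, 34944⟩, .mul 12 3)) (.leaf (⟨0, 7, 34946, 0, 44184, 7, 20651⟩, .fill 0 0 2 [20621, 34946, 65536, 34946] 5 34944 [⟨172, 228, 0⟩] [⟨160, 228, 878⟩]))) (.node (.leaf (⟨1, 4, 35208, 0, 35068, 4, 34944⟩, .mul 124 122)) (.leaf (⟨1,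 9, 34956, 0, 20637, 9, 34944⟩, .mul 297 296)))) (.node (.node (.leaf (⟨0, 1, 34659, 0, 34944, 3, 34944⟩, .dfn)) (.leaf (⟨1, 10, 34182, 0, 58754, 10, 34944⟩, .mul 332 314))) (.node (.leaf (⟨0, 6, 34944, 0, 34944, 2, 34944⟩, .inv 204)) (.leaf (⟨0, 0, 34944, 0, 34944, 1, 34944⟩, .dfn))))) (.node (.node (.node (.leaf (⟨1, 2, 54185, 0, 23461, 2, 34944⟩, .mul 35 35)) (.leaf (⟨1, 9, 43152, 0, 34960, 9, 34944⟩, .mul 298 298))) (.node (.leaf (⟨1, 5, 35235, 0, 43161, 5, 34944⟩, .mul 159 159)) (.leaf (⟨0, 13, 51923, 1, 35298, 13, 51613⟩, .fill 6 1 4 [34944, 44559, 34944, 65536, 54904, 65536, 62212] 8 34052 [⟨284, 411, 213⟩, ⟨401, 424, 1107⟩] [⟨293, 411, 1382⟩, ⟨401, 424, 1255⟩])))) (.node (.node (.leaf (⟨1, 1, 53389, 0, 22680, 1, 34944⟩, .mul 80 7)) (.leaf (⟨1, 12, 20720, 0, 44268, 12, 34944⟩, .mul 364 358))) (.node (.leaf (⟨1, 7, 39108, 0, 43140,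 7, 34944⟩, .mul 236 232)) (.leaf (⟨0, 0, 34944, 0, 34944, 1, 34944⟩, .dfn)))))) (.node (.node (.node (.node (.leaf (⟨1, 1, 30852, 0, 62600, 1, 34944⟩, .mul 5 5)) (.leaf (⟨1, 8, 54412, 0, 22664, 8, 34944⟩, .sync ⟨134, 282, 4⟩))) (.node (.leaf (⟨0, 1, 36710, 1, 34944, 5, 34944⟩, .dfn)) (.leaf (⟨0, 13, 48946, 1, 18009, 12, 13135⟩, .inv 412)))) (.node (.node (.leaf (⟨1, 3, 36004, 0, 48317, 3, 34944⟩, .sync ⟨92, 77, 795⟩)) (.leaf (⟨1, 11, 23684, 0, 23688, 11, 34944⟩, .mul 348 340))) (.node (.leaf (⟨1, 6, 39161, 0, 20870, 6, 34944⟩, .mul 208 206)) (.leaf (⟨0, 0, 34944, 0, 34944, 1, 34944⟩, .dfn))))) (.node (.node (.node (.leaf (⟨1, 0, 36710, 0, 36710, 0, 34944⟩, .base)) (.leaf (⟨1, 10, 53646, 0, 22918, 10, 34944⟩, .mul 316 307))) (.node (.leaf (⟨1, 5, 35042, 0, 51329, 5, 34944⟩, .mul 173 165)) (.leaf (⟨0, 0, 34944, 0, 34944, 1, 34944⟩, .dfn))))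 (.node (.node (.leaf (⟨1, 4, 51334, 0, 28813, 4, 34944⟩, .mul 124 120)) (.leaf (⟨0, 9, 32575, 1, 20733, 9, 60796⟩, .fill 5 2 2 [34944, 52352, 34944, 65537, 59957] 3 51328 [⟨108, 379, 0⟩] [⟨81, 379, 4⟩]))) (.node (.leaf (⟨0, 7, 18010, 1, 20625, 7, 18002⟩, .fill 6 1 4 [34944, 44559, 34944, 65536, 54904, 65536, 62212] 2 34960 [⟨52, 204, 777⟩, ⟨252, 247, 757⟩] [⟨33, 204, 160⟩, ⟨252, 247, 206⟩])) (.leaf (⟨0, 0, 34944, 0, 34944, 1, 34944⟩, .dfn))))))))) (.node (.node (.node (.node (.node (.node (.node (.leaf (⟨1, 1, 29872, 0, 21721, 1, 34944⟩, .sync ⟨2, 0, 1154⟩)) (.leaf (⟨1, 6, 23765, 0, 23428, 6, 34944⟩, .mul 217 210))) (.node (.leaf (⟨1, 4, 53888, 0, 62640, 4, 34944⟩, .mul 126 120)) (.leaf (⟨0, 12, 52435, 0, 44217, 12, 48374⟩, .fill 0 0 2 [20621, 34946, 65536, 34946] 3 34048 [⟨108, 354, 1068⟩] [⟨99, 354, 1486⟩])))) (.node (.node (.leaf (⟨1,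 0, 11223, 0, 11223, 0, 34944⟩, .base)) (.leaf (⟨1, 10, 27530, 0, 10882, 10, 34944⟩, .mul 314 307))) (.node (.leaf (⟨1, 4, 34950, 0, 43152, 4, 34944⟩, .mul 156 122)) (.leaf (⟨0, 0, 34944, 0, 34944, 1, 34944⟩, .dfn))))) (.node (.node (.node (.leaf (⟨1, 2, 23269, 0, 53704, 2, 34944⟩, .sync ⟨34, 30, 775⟩)) (.leaf (⟨0, 8, 34946, 0, 53404, 8, 52367⟩, .fill 0 0 2 [20621, 34946, 65536, 34946] 4 34944 [⟨144, 282, 0⟩] [⟨122, 282, 1055⟩]))) (.node (.leaf (⟨1, 1, 30932, 0, 53429, 1, 34944⟩, .mul 84 3)) (.leaf (⟨0, 11, 34120, 1, 22677, 7, 29364⟩, .inv 418)))) (.node (.node (.leaf (⟨1, 3, 43221, 0, 44217, 3, 34944⟩, .mul 86 81)) (.leaf (⟨0, 12, 34944, 0, 34944, 3, 34659⟩, .inv 354))) (.node (.leaf (⟨1, 6, 43152, 0, 34950, 6, 34944⟩, .mul 226 210)) (.leaf (⟨0, 0, 34944, 0, 34944, 1, 34944⟩, .dfn)))))) (.node (.node (.node (.node (.leaf (⟨0, 1, 34946,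 0, 31898, 1, 39050⟩, .fill 0 0 2 [20621, 34946, 65536, 34946] 0 34944 [⟨17, 0, 0⟩] [⟨18, 0, 512⟩])) (.leaf (⟨1, 7, 43192, 0, 51353, 7, 34944⟩, .mul 243 230))) (.node (.leaf (⟨1, 4, 35210, 0, 35052, 4, 34944⟩, .mul 146 122)) (.leaf (⟨1, 13, 29852, 0, 59545, 13, 34944⟩, .mul 401 402)))) (.node (.node (.leaf (⟨1, 3, 28837, 0, 48297, 3, 34944⟩, .sync ⟨82, 77, 808⟩)) (.leaf (⟨0, 11, 34944, 0, 34944, 10, 34944⟩, .inv 338))) (.node (.leaf (⟨1, 6, 48361, 0, 20876, 6, 34944⟩, .mul 206 210)) (.leaf (⟨0, 0, 34944, 0, 34944, 1, 34944⟩, .dfn))))) (.node (.node (.node (.leaf (⟨0, 2, 34960, 1, 52187, 2, 53720⟩, .fill 2 0 2 [39044, 34960, 65537, 34960] 0 34944 [⟨17, 30, 0⟩] [⟨21, 30, 332⟩])) (.leaf (⟨1, 10, 39556, 0, 21388, 10, 34944⟩, .sync ⟨279, 305, 1447⟩))) (.node (.leaf (⟨1, 5, 51906, 0, 59581, 5, 34944⟩, .mul 174 160)) (.leaf (⟨0, 0, 34944, 0, 34944,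 1, 34944⟩, .dfn)))) (.node (.node (.leaf (⟨1, 3, 21720, 0, 48312, 3, 34944⟩, .mul 81 79)) (.leaf (⟨1, 9, 59565, 0, 21673, 9, 34944⟩, .mul 370 298))) (.node (.leaf (⟨1, 7, 48361, 0, 59549, 7, 34944⟩, .mul 231 232)) (.leaf (⟨0, 0, 34944, 0, 34944, 1, 34944⟩, .dfn))))))) (.node (.node (.node (.node (.node (.leaf (⟨1, 1, 35981, 0, 44184, 1, 34944⟩, .mul 7 3)) (.leaf (⟨1, 6, 53480, 0, 53646, 6, 34944⟩, .mul 266 210))) (.node (.leaf (⟨1, 4, 51590, 0, 21745, 4, 34944⟩, .mul 130 122)) (.leaf (⟨1, 8, 52377, 0, 60569, 8, 34944⟩, .mul 394 285)))) (.node (.node (.leaf (⟨1, 0, 14181, 0, 14181, 0, 34944⟩, .base)) (.leaf (⟨1, 10, 27264, 0, 11144, 10, 34944⟩, .mul 314 310))) (.node (.leaf (⟨1, 5, 51400, 0, 60565, 5, 34944⟩, .mul 198 159)) (.leaf (⟨0, 0, 34944, 0, 34944, 1, 34944⟩, .dfn))))) (.node (.node (.node (.leaf (⟨1, 2, 54186, 0, 23462, 2, 34944⟩,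 .mul 42 37)) (.leaf (⟨1, 9, 34949, 0, 29921, 9, 34944⟩, .mul 296 297))) (.node (.leaf (⟨0, 5, 42305, 0, 14635, 2, 20108⟩, .inv 170)) (.leaf (⟨0, 12, 50837, 1, 38252, 13, 59096⟩, .fill 6 3 2 [13813, 65536, 34944, 44559, 34944, 65536, 54904, 65536, 62212] 8 34048 [⟨287, 385, 308⟩] [⟨292, 411, 743⟩, ⟨403, 424, 273⟩, ⟨408, 425, 1119⟩])))) (.node (.node (.leaf (⟨0, 3, 63318, 1, 11975, 3, 61220⟩, .fill 6 1 4 [34944, 44559, 34944, 65536, 54904, 65536, 62212] 0 34944 [⟨17, 0, 0⟩, ⟨97, 77, 243⟩] [⟨21, 0, 720⟩, ⟨106, 77, 858⟩])) (.leaf (⟨1, 12, 20704, 0, 43192, 12, 34944⟩, .mul 362 358))) (.node (.leaf (⟨1, 7, 44268, 0, 51345, 7, 34944⟩, .mul 233 232)) (.leaf (⟨0, 0, 34944, 0, 34944, 1, 34944⟩, .dfn)))))) (.node (.node (.node (.node (.leaf (⟨1, 0, 43612, 0, 43612, 0, 34944⟩, .base)) (.leaf (⟨0, 8, 34944, 0, 34944, 4, 34944⟩, .inv 282))) (.node (.leaf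 (⟨1, 4, 22920, 0, 23792, 4, 34944⟩, .mul 125 120)) (.leaf (⟨0, 8, 14977, 0, 53425, 13, 40195⟩, .inv 410)))) (.node (.node (.leaf (⟨1, 1, 62604, 0, 22660, 1, 34944⟩, .mul 90 7)) (.leaf (⟨1, 11, 61576, 0, 61580, 11, 34944⟩, .mul 346 342))) (.node (.leaf (⟨1, 6, 62624, 0, 53890, 6, 34944⟩, .mul 218 206)) (.leaf (⟨0, 0, 34944, 0, 34944, 1, 34944⟩, .dfn))))) (.node (.node (.node (.leaf (⟨1, 2, 51884, 0, 21446, 2, 34944⟩, .mul 58 35)) (.leaf (⟨1, 10, 34944, 0, 34944, 10, 34944⟩, .unit))) (.node (.leaf (⟨0, 5, 17980, 0, 59547, 5, 42397⟩, .fill 6 5 2 [27495, 65536, 13813, 65536, 34944, 44559, 34944, 65536, 54904] 1 34048 [⟨20, 157, 180⟩] [⟨7, 77, 719⟩, ⟨108, 110, 262⟩, ⟨79, 169, 912⟩])) (.leaf (⟨0, 0, 34944, 0, 34944, 1, 34944⟩, .dfn)))) (.node (.node (.leaf (⟨1, 4, 51844, 0, 29865, 4, 34944⟩, .mul 120 122)) (.leaf (⟨0, 3, 51328, 1, 14290, 9,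 56849⟩, .fill 4 5 0 [54904, 65537, 11223, 65537, 34944, 60544, 34944] 3 51328 [] [⟨108, 107, 149⟩, ⟨81, 374, 1355⟩]))) (.node (.leaf (⟨1, 6, 51437, 0, 39308, 6, 34944⟩, .mul 225 210)) (.leaf (⟨0, 0, 34944, 0, 34944, 1, 34944⟩, .dfn)))))))) (.node (.node (.node (.node (.node (.node (.leaf (⟨1, 1, 28877, 0, 21693, 1, 34944⟩, .sync ⟨6, 0, 172⟩)) (.leaf (⟨1, 6, 22725, 0, 23434, 6, 34944⟩, .mul 262 206))) (.node (.leaf (⟨1, 4, 34946, 0, 34960, 4, 34944⟩, .mul 134 122)) (.leaf (⟨1, 9, 59553, 0, 43192, 9, 34944⟩, .mul 300 298)))) (.node (.node (.leaf (⟨1, 2, 20972, 0, 51683, 2, 34944⟩, .mul 65 35)) (.leaf (⟨1, 10, 22918, 0, 53646, 10, 34944⟩, .mul 311 307))) (.node (.leaf (⟨1, 2, 53706, 0, 23268, 2, 34944⟩, .mul 43 33)) (.leaf (⟨0, 0, 34944, 0, 34944, 1, 34944⟩, .dfn))))) (.node (.node (.node (.leaf (⟨1, 2, 52194, 0, 20910, 2, 34944⟩, .mul 38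 33)) (.leaf (⟨0, 9, 34944, 0, 34944, 4, 34659⟩, .inv 294))) (.node (.leaf (⟨1, 5, 51368, 0, 44164, 5, 34944⟩, .mul 166 159)) (.leaf (⟨0, 8, 40112, 1, 60561, 11, 38784⟩, .inv 422)))) (.node (.node (.leaf (⟨1, 3, 44285, 0, 36036, 3, 34944⟩, .mul 86 86)) (.leaf (⟨1, 12, 29852, 0, 43176, 12, 34944⟩, .sync ⟨117, 354, 1510⟩))) (.node (.leaf (⟨1, 7, 35029, 0, 35976, 7, 34944⟩, .sync ⟨202, 228, 1238⟩)) (.leaf (⟨0, 0, 34944, 0, 34944, 1, 34944⟩, .dfn)))))) (.node (.node (.node (.node (.leaf (⟨1, 0, 27399, 0, 27399, 0, 34944⟩, .base)) (.leaf (⟨1, 6, 39108, 0, 21388, 6, 34944⟩, .mul 278 206))) (.node (.leaf (⟨1, 4, 52106, 0, 21716, 4, 34944⟩, .mul 150 122)) (.leaf (⟨0, 12, 11778, 0, 21977, 13, 40252⟩, .inv 406)))) (.node (.node (.leaf (⟨1, 1, 28845, 0, 28864, 1, 34944⟩, .mul 9 7)) (.leaf (⟨1, 11, 30848, 0, 31876, 11, 34944⟩, .mul 342 342))) (.node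 (.leaf (⟨1, 6, 31880, 0, 22664, 6, 34944⟩, .mul 208 210)) (.leaf (⟨0, 0, 34944, 0, 34944, 1, 34944⟩, .dfn))))) (.node (.node (.node (.leaf (⟨1, 2, 51425, 0, 20876, 2, 34944⟩, .mul 44 37)) (.leaf (⟨1, 10, 51592, 0, 51592, 10, 34944⟩, .sync ⟨281, 305, 1070⟩))) (.node (.leaf (⟨0, 5, 13219, 1, 40128, 5, 61579⟩, .fill 4 3 2 [11223, 65537, 34944, 60544, 34944] 1 34048 [⟨20, 157, 180⟩] [⟨80, 157, 1268⟩])) (.leaf (⟨0, 0, 34944, 0, 34944, 1, 34944⟩, .dfn)))) (.node (.node (.leaf (⟨0, 4, 34944, 1, 34944, 1, 34944⟩, .inv 118)) (.leaf (⟨0, 9, 61788, 1, 60652, 3, 13135⟩, .inv 374))) (.node (.leaf (⟨0, 6, 13813, 0, 64151, 7, 35576⟩, .fill 7 8 2 [27414, 65537, 20108, 65536, 13813, 65536, 34944, 16013, 34944] 2 34944 [⟨52, 204, 0⟩] [⟨52, 54, 844⟩, ⟨37, 170, 246⟩, ⟨172, 228, 600⟩])) (.leaf (⟨0, 0, 34944, 0, 34944, 1, 34944⟩, .dfn))))))) (.node (.node (.node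 (.node (.node (.leaf (⟨1, 1, 43164, 0, 44165, 1, 34944⟩, .mul 3 7)) (.leaf (⟨1, 6, 54412, 0, 53388, 6, 34944⟩, .mul 227 206))) (.node (.leaf (⟨0, 4, 34960, 1, 44269, 4, 39828⟩, .fill 2 0 2 [39044, 34960, 65537, 34960] 1 34944 [⟨20, 118, 0⟩] [⟨9, 118, 871⟩])) (.leaf (⟨0, 7, 34659, 0, 34944, 13, 34944⟩, .dfn)))) (.node (.node (.leaf (⟨1, 3, 36052, 0, 44269, 3, 34944⟩, .sync ⟨9, 77, 741⟩)) (.leaf (⟨1, 10, 21128, 0, 39816, 10, 34944⟩, .mul 334 311))) (.node (.leaf (⟨1, 2, 20644, 0, 52110, 2, 34944⟩, .mul 76 33)) (.leaf (⟨0, 0, 34944, 0, 34944, 1, 34944⟩, .dfn))))) (.node (.node (.node (.leaf (⟨1, 2, 52174, 0, 21156, 2, 34944⟩, .mul 46 35)) (.leaf (⟨1, 9, 34944, 0, 34944, 9, 34944⟩, .unit))) (.node (.leaf (⟨1, 5, 51329, 0, 43148, 5, 34944⟩, .mul 174 162)) (.leaf (⟨1, 0, 51896, 0, 51896, 0, 34944⟩, .base)))) (.node (.node (.leaf (⟨1, 1, 40136,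 0, 60585, 1, 34944⟩, .mul 87 5)) (.leaf (⟨1, 12, 43177, 0, 40133, 12, 34944⟩, .mul 366 357))) (.node (.leaf (⟨1, 7, 36053, 0, 43144, 7, 34944⟩, .mul 232 232)) (.leaf (⟨0, 0, 34944, 0, 34944, 1, 34944⟩, .dfn)))))) (.node (.node (.node (.node (.leaf (⟨0, 2, 34944, 1, 34944, 0, 34944⟩, .inv 30)) (.leaf (⟨1, 8, 21661, 0, 47249, 8, 34944⟩, .mul 286 284))) (.node (.leaf (⟨1, 5, 52168, 0, 52396, 5, 34944⟩, .sync ⟨94, 157, 624⟩)) (.leaf (⟨0, 11, 22013, 0, 18205, 13, 48643⟩, .fill 6 5 4 [27495, 65536, 13813, 65536, 34944, 44559, 34944] 6 34944 [⟨223, 305, 0⟩, ⟨331, 338, 851⟩] [⟨214, 247, 1393⟩, ⟨230, 399, 823⟩])))) (.node (.node (.leaf (⟨1, 1, 21676, 0, 28892, 1, 34944⟩, .mul 15 3)) (.leaf (⟨1, 11, 53380, 0, 62596, 11, 34944⟩, .mul 343 340))) (.node (.leaf (⟨1, 6, 34944, 0, 34944, 6, 34944⟩, .unit)) (.leaf (⟨0, 0, 34944, 0, 34944, 1, 34944⟩, .dfn)))))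 (.node (.node (.node (.leaf (⟨1, 2, 52129, 0, 21421, 2, 34944⟩, .mul 62 37)) (.leaf (⟨1, 10, 13578, 0, 56588, 10, 34944⟩, .mul 314 314))) (.node (.leaf (⟨1, 5, 51914, 0, 52413, 5, 34944⟩, .mul 190 165)) (.leaf (⟨0, 0, 34944, 0, 34944, 1, 34944⟩, .dfn)))) (.node (.node (.leaf (⟨1, 4, 39562, 0, 52401, 4, 34944⟩, .mul 126 122)) (.leaf (⟨1, 9, 35993, 0, 35052, 9, 34944⟩, .mul 298 296))) (.node (.leaf (⟨1, 6, 28913, 0, 51598, 6, 34944⟩, .mul 224 210)) (.leaf (⟨0, 0, 34944, 0, 34944, 1, 34944⟩, .dfn)))))))))))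

/-- definitions -/
def defsMix0 : List (ℕ × ℕ × ℕ) := [(0, 34944, 0), (0, 34944, 1), (1, 34659, 0), (1, 34944, 1), (1, 36710, 1), (2, 34944, 0), (5, 34944, 0), (4, 34944, 0), (4, 34659, 0), (6, 34944, 1), (10, 34944, 0), (3, 34659, 0), (7, 34659, 0)]

/-- number of facts -/
def nMix0 : ℕ := 435

/-- values of the loops -/
def valsMix0 : List ℕ := [60544, 44559]

/-- witnesses of completeness -/
def coverMix0 : List (List (List (ℕ × ℕ))) := [[[(17, 0), (18, 0), (28, 0), (53, 0), (24, 0), (32, 0), (22, 0), (25, 0), (21, 0), (27, 0), (26, 0), (23, 0), (430, 0), (431, 0)],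
  [(20, 1), (20, 19), (20, 77), (15, 77), (97, 77), (11, 77), (98, 77), (95, 77), (3, 77), (7, 77), (109, 77), (5, 77), (106, 77), (100, 77)],
  [(52, 204), (42, 204), (37, 170), (48, 170), (37, 204), (41, 204), (38, 170), (43, 170), (33, 204), (45, 204), (52, 170), (49, 170), (65, 204), (35, 204)],
  [(108, 78), (108, 112), (108, 354), (99, 354), (101, 354), (79, 354), (86, 354), (115, 354), (81, 354), (116, 354), (108, 169), (108, 110), (79, 110), (79, 169)],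
  [(144, 282), (122, 282), (144, 294), (123, 294), (131, 282), (130, 282), (134, 294), (126, 294), (133, 282), (129, 282), (122, 294), (120, 294), (120, 282), (123, 282)],
  [(172, 228), (160, 228), (172, 171), (172, 187), (165, 228), (173, 228), (179, 168), (176, 168), (192, 228), (159, 228), (172, 168), (160, 168), (184, 228), (161, 228)],
  [(223, 205), (223, 222), (267, 247), (268, 247), (252, 247), (206, 247), (223, 247), (256, 247), (249, 247), (264, 247), (258, 247), (214, 247), (261, 247), (220, 247)],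
  [(254, 229), (254, 269), (254, 399), (231, 399), (234, 399), (239, 399), (240, 248), (240, 270), (254, 270), (254, 248), (232, 399), (238, 399), (230, 399), (233, 399)],
  [(292, 283), (292, 291), (287, 385), (284, 411), (284, 385), (287, 411), (292, 411), (286, 385), (286, 411), (292, 385), (393, 385), (293, 411), (290, 385), (288, 411)],
  [(303, 295), (303, 302), (376, 368), (377, 368), (371, 368), (303, 368), (397, 404), (303, 404), (300, 404), (370, 404), (396, 404), (296, 404), (298, 404), (304, 404)],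
  [(315, 338), (336, 338), (329, 338), (330, 338), (311, 338), (314, 338), (325, 338), (319, 338), (307, 338), (310, 338), (331, 338), (323, 338), (321, 338), (334, 338)],
  [(353, 339), (353, 352), (344, 415), (342, 415), (351, 415), (347, 415), (348, 415), (350, 415), (346, 415), (353, 415), (349, 415), (343, 415), (340, 415), (345, 415)],
  [(372, 355), (372, 387), (362, 407), (362, 386), (357, 386), (357, 407), (372, 407), (372, 386), (367, 386), (367, 407), (358, 369), (358, 378), (372, 378), (372, 369)],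
  [(408, 400), (408, 409), (403, 416), (408, 424), (402, 424), (401, 416), (402, 416), (401, 424), (403, 424), (408, 416), (408, 405), (408, 425), (408, 406), (408, 410)]],
[[(17, 30), (21, 30), (61, 30), (24, 30), (66, 30), (432, 30), (23, 30), (27, 30), (433, 30), (67, 30), (75, 30), (434, 30), (53, 30), (22, 30)],
  [(20, 118), (9, 118), (20, 157), (9, 157), (11, 118), (106, 118), (5, 157), (3, 157), (7, 118), (15, 118), (29, 157), (80, 157), (10, 118), (3, 118)],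
  [(52, 31), (52, 51), (71, 54), (42, 54), (50, 54), (74, 54), (70, 54), (52, 54), (47, 54), (59, 54), (48, 54), (64, 54), (60, 54), (56, 54)],
  [(108, 379), (114, 379), (81, 374), (102, 374), (86, 379), (79, 379), (108, 374), (96, 374), (83, 379), (99, 379), (79, 107), (108, 107), (81, 379), (103, 379)],
  [(144, 119), (144, 143), (130, 177), (137, 145), (144, 177), (154, 145), (132, 177), (144, 145), (122, 177), (151, 145), (155, 177), (120, 145), (123, 177), (148, 145)],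
  [(172, 158), (172, 180), (160, 178), (172, 178), (184, 178), (193, 178), (188, 183), (191, 183), (172, 183), (165, 183), (167, 178), (186, 178), (192, 178), (182, 178)],
  [(223, 305), (210, 305), (223, 250), (221, 250), (217, 305), (216, 305), (206, 250), (217, 250), (224, 305), (255, 305), (224, 250), (210, 250), (211, 305), (206, 305)],
  [(242, 418), (245, 418), (240, 253), (254, 253), (240, 418), (277, 418), (230, 389), (233, 389), (273, 418), (254, 418), (254, 389), (231, 389), (237, 418), (276, 418)],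
  [(284, 423), (293, 423), (292, 388), (292, 390), (288, 423), (292, 423), (284, 388), (284, 390), (395, 423), (286, 423), (288, 388), (288, 390), (287, 423), (285, 423)],
  [(391, 382), (301, 382), (296, 381), (303, 380), (300, 382), (377, 382), (303, 384), (303, 375), (303, 382), (296, 382), (296, 380), (303, 381), (298, 382), (383, 382)],
  [(315, 306), (315, 312), (322, 306), (322, 312), (328, 306), (328, 312), (324, 306), (324, 312), (314, 306), (314, 312), (320, 306), (320, 312), (318, 306), (318, 312)],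
  [(340, 422), (344, 421), (353, 419), (353, 420), (353, 422), (340, 421), (342, 419), (342, 420), (349, 422), (342, 421), (340, 419), (340, 420), (344, 422), (353, 421)],
  [(358, 427), (398, 427), (357, 412), (366, 412), (359, 427), (372, 427), (372, 412), (358, 412), (363, 427), (365, 427), (372, 373), (358, 373), (366, 427), (361, 427)],
  [(402, 428), (408, 429), (402, 417), (408, 417), (401, 426), (402, 426), (401, 417), (403, 417), (403, 426), (408, 426), (408, 414), (408, 413), (402, 429), (408, 428)]]]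

/-- the involutions in the model -/
def invMix0 : List ℕ := [690847125949467287994953632630359275, 85231263715043887126078356541038288]

/-- words for generators of the model group -/
def genMix0 : List (List ℕ) := [[64007, 65536, 52187, 65536, 65537, 65536, 52187, 65536, 65537, 13813, 52187],
  [51964, 65536, 13813, 65537, 13813, 52187, 52187, 65536, 52187, 13813],
  [16048, 65536, 65537, 65536, 52187, 65536, 52187, 65536]]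

/-- the facts -/
def factsMix1 : Tree (Fct × Why) :=
  (.node (.node (.node (.node (.node (.node (.node (.node (.node (.leaf (⟨0, 0, 34944, 0, 34944, 1, 34944⟩, .dfn)) (.leaf (⟨1, 6, 40109, 0, 21124, 6, 34944⟩, .mul 255 206))) (.node (.leaf (⟨1, 4, 52104, 0, 21700, 4, 34944⟩, .mul 127 122)) (.leaf (⟨1, 8, 62604, 0, 30856, 8, 34944⟩, .mul 383 286)))) (.node (.node (.leaf (⟨1, 2, 39055, 0, 39051, 2, 34944⟩, .mul 63 35)) (.leaf (⟨1, 10, 26378, 0, 17932, 10, 34944⟩, .mul 313 308))) (.node (.leaf (⟨1, 5, 52193, 0, 51364, 5, 34944⟩, .mul 159 160)) (.leaf (⟨0, 0, 34944, 0, 34944, 1, 34944⟩, .dfn))))) (.node (.node (.node (.leaf (⟨1, 0, 35266, 0, 35266, 0, 34944⟩, .base)) (.leaf (⟨1, 8, 44160, 0, 35968, 8, 34944⟩, .mul 286 286))) (.node (.leaf (⟨1, 5, 34986, 0, 44184, 5, 34944⟩, .sync ⟨11, 157, 349⟩)) (.leaf (⟨0, 12, 51856, 1, 60677, 13, 14227⟩,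 .fill 6 3 2 [13813, 65536, 34944, 47642, 34944, 65536, 54904, 65536, 62212] 8 34048 [⟨293, 375, 1209⟩] [⟨286, 401, 491⟩, ⟨392, 406, 146⟩, ⟨341, 405, 1159⟩])))) (.node (.node (.leaf (⟨1, 3, 36053, 0, 43193, 3, 34944⟩, .mul 83 81)) (.leaf (⟨1, 12, 29852, 0, 43176, 12, 34944⟩, .sync ⟨117, 347, 1510⟩))) (.node (.leaf (⟨1, 6, 30856, 0, 22660, 6, 34944⟩, .mul 206 206)) (.leaf (⟨0, 0, 34944, 0, 34944, 1, 34944⟩, .dfn)))))) (.node (.node (.node (.node (.leaf (⟨1, 1, 54405, 0, 23696, 1, 34944⟩, .mul 15 5)) (.leaf (⟨1, 6, 54520, 0, 53632, 6, 34944⟩, .mul 214 208))) (.node (.leaf (⟨1, 4, 34944, 0, 34944, 4, 34944⟩, .unit)) (.leaf (⟨0, 13, 47378, 0, 35001, 8, 21188⟩, .fill 6 5 4 [27495, 65536, 13813, 65536, 34944, 47642, 34944] 3 51332 [⟨108, 369, 1130⟩, ⟨304, 394, 169⟩] [⟨115, 347, 643⟩, ⟨357, 376, 1164⟩])))) (.node (.node (.leaf (⟨1, 1, 59561, 0,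 40128, 1, 34944⟩, .mul 5 3)) (.leaf (⟨1, 11, 22656, 0, 31880, 11, 34944⟩, .mul 335 333))) (.node (.leaf (⟨1, 6, 29908, 0, 52110, 6, 34944⟩, .sync ⟨207, 204, 1273⟩)) (.leaf (⟨0, 0, 34944, 0, 34944, 1, 34944⟩, .dfn))))) (.node (.node (.node (.leaf (⟨1, 2, 39405, 0, 39401, 2, 34944⟩, .mul 38 35)) (.leaf (⟨1, 9, 34944, 0, 34944, 9, 34944⟩, .unit))) (.node (.leaf (⟨1, 5, 51944, 0, 52389, 5, 34944⟩, .mul 175 162)) (.leaf (⟨0, 0, 34944, 0, 34944, 1, 34944⟩, .dfn)))) (.node (.node (.leaf (⟨0, 3, 52435, 0, 44165, 3, 47243⟩, .fill 0 0 2 [20621, 34946, 65536, 34946] 1 34048 [⟨20, 77, 1068⟩] [⟨15, 77, 1258⟩])) (.leaf (⟨0, 12, 47467, 0, 53389, 12, 27141⟩, .fill 6 1 6 [34944, 47642, 34944, 65536, 54904] 3 34946 [⟨108, 112, 494⟩, ⟨101, 347, 1464⟩, ⟨351, 363, 1505⟩] [⟨116, 347, 830⟩]))) (.node (.leaf (⟨1, 7, 47337, 0, 52381, 7, 34944⟩, .mul 239 232))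 (.leaf (⟨0, 0, 34944, 0, 34944, 1, 34944⟩, .dfn))))))) (.node (.node (.node (.node (.node (.leaf (⟨1, 1, 51420, 0, 40108, 1, 34944⟩, .mul 5 7)) (.leaf (⟨1, 6, 43244, 0, 35214, 6, 34944⟩, .mul 263 206))) (.node (.leaf (⟨1, 4, 53376, 0, 53388, 4, 34944⟩, .mul 135 122)) (.leaf (⟨1, 13, 44284, 0, 43136, 13, 34944⟩, .sync ⟨277, 389, 370⟩)))) (.node (.node (.leaf (⟨1, 2, 39368, 0, 39661, 2, 34944⟩, .mul 37 33)) (.leaf (⟨1, 10, 53376, 0, 22656, 10, 34944⟩, .mul 323 308))) (.node (.leaf (⟨1, 2, 35265, 0, 35555, 2, 34944⟩, .mul 199 35)) (.leaf (⟨0, 0, 34944, 0, 34944, 1, 34944⟩, .dfn))))) (.node (.node (.node (.leaf (⟨1, 2, 23177, 0, 53442, 2, 34944⟩, .mul 39 37)) (.leaf (⟨0, 9, 34944, 0, 34944, 4, 34659⟩, .inv 295))) (.node (.leaf (⟨0, 5, 20414, 0, 58884, 3, 64112⟩, .fill 6 3 4 [13813, 65536, 34944, 47642, 34944, 65536, 54904] 0 34944 [⟨17, 0,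 0⟩, ⟨3, 157, 992⟩] [⟨22, 0, 0⟩, ⟨3, 77, 815⟩])) (.leaf (⟨1, 0, 60726, 0, 60726, 0, 34944⟩, .base)))) (.node (.node (.leaf (⟨1, 1, 47305, 0, 60597, 1, 34944⟩, .mul 95 5)) (.leaf (⟨1, 9, 44165, 0, 20705, 9, 34944⟩, .mul 298 299))) (.node (.leaf (⟨1, 7, 48301, 0, 60565, 7, 34944⟩, .sync ⟨203, 228, 1167⟩)) (.leaf (⟨0, 0, 34944, 0, 34944, 1, 34944⟩, .dfn)))))) (.node (.node (.node (.node (.leaf (⟨1, 0, 54904, 0, 54904, 0, 34944⟩, .base)) (.leaf (⟨1, 7, 39041, 0, 35980, 7, 34944⟩, .mul 235 232))) (.node (.leaf (⟨1, 4, 39300, 0, 60653, 4, 34944⟩, .mul 140 122)) (.leaf (⟨0, 7, 32464, 1, 47244, 11, 40264⟩, .fill 6 3 2 [13813, 65536, 34944, 47642, 34944, 65536, 54904, 65536, 62212] 6 34048 [⟨267, 247, 1417⟩] [⟨223, 247, 1381⟩, ⟨239, 389, 740⟩, ⟨398, 406, 90⟩])))) (.node (.node (.leaf (⟨1, 1, 44161, 0, 34972, 1, 34944⟩, .mul 87 7)) (.leaf (⟨1, 10,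 11784, 0, 20238, 10, 34944⟩, .mul 320 310))) (.node (.leaf (⟨1, 6, 52401, 0, 39562, 6, 34944⟩, .mul 211 206)) (.leaf (⟨0, 0, 34944, 0, 34944, 1, 34944⟩, .dfn))))) (.node (.node (.node (.leaf (⟨1, 2, 39597, 0, 39880, 2, 34944⟩, .mul 55 35)) (.leaf (⟨1, 10, 34944, 0, 34944, 10, 34944⟩, .unit))) (.node (.leaf (⟨1, 5, 35818, 0, 52408, 5, 34944⟩, .mul 161 160)) (.leaf (⟨0, 0, 34944, 0, 34944, 1, 34944⟩, .dfn)))) (.node (.node (.leaf (⟨1, 4, 39302, 0, 60669, 4, 34944⟩, .sync ⟨84, 118, 1487⟩)) (.leaf (⟨0, 12, 12701, 0, 30061, 8, 26122⟩, .inv 375))) (.node (.leaf (⟨0, 7, 39657, 0, 14086, 6, 13813⟩, .inv 247)) (.leaf (⟨0, 0, 34944, 0, 34944, 1, 34944⟩, .dfn)))))))) (.node (.node (.node (.node (.node (.node (.leaf (⟨1, 0, 30869, 0, 30869, 0, 34944⟩, .base)) (.leaf (⟨1, 6, 48377, 0, 20878, 6, 34944⟩, .mul 259 208))) (.node (.leaf (⟨1, 4, 21386, 0,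 47316, 4, 34944⟩, .mul 131 120)) (.leaf (⟨1, 8, 47249, 0, 21661, 8, 34944⟩, .mul 294 286)))) (.node (.node (.leaf (⟨1, 2, 21230, 0, 51651, 2, 34944⟩, .mul 42 33)) (.leaf (⟨1, 10, 30852, 0, 61572, 10, 34944⟩, .mul 308 313))) (.node (.leaf (⟨1, 4, 39296, 0, 52461, 4, 34944⟩, .mul 195 120)) (.leaf (⟨0, 0, 34944, 0, 34944, 1, 34944⟩, .dfn))))) (.node (.node (.node (.leaf (⟨1, 0, 39855, 0, 39855, 0, 34944⟩, .base)) (.leaf (⟨0, 8, 34946, 0, 53404, 8, 52367⟩, .fill 0 0 2 [20621, 34946, 65536, 34946] 4 34944 [⟨144, 284, 0⟩] [⟨122, 284, 1055⟩]))) (.node (.leaf (⟨1, 1, 39060, 0, 59544, 1, 34944⟩, .mul 163 3)) (.leaf (⟨1, 0, 30672, 0, 30672, 0, 34944⟩, .base)))) (.node (.node (.leaf (⟨1, 1, 40169, 0, 51429, 1, 34944⟩, .mul 7 5)) (.leaf (⟨1, 12, 21716, 0, 48300, 12, 34944⟩, .mul 350 351))) (.node (.leaf (⟨0, 5, 34944, 0, 34944, 7, 34944⟩, .dfn)) (.leaf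 (⟨0, 0, 34944, 0, 34944, 1, 34944⟩, .dfn)))))) (.node (.node (.node (.node (.leaf (⟨1, 1, 34944, 0, 34944, 1, 34944⟩, .unit)) (.leaf (⟨1, 7, 47277, 0, 51349, 7, 34944⟩, .mul 246 231))) (.node (.leaf (⟨1, 4, 53896, 0, 53424, 4, 34944⟩, .mul 147 122)) (.leaf (⟨0, 13, 60714, 1, 59577, 13, 13573⟩, .fill 7 2 4 [34944, 11996, 34944, 65536, 54904, 65536, 27414] 3 34052 [⟨99, 347, 587⟩, ⟨362, 397, 1474⟩] [⟨115, 347, 1359⟩, ⟨357, 397, 245⟩])))) (.node (.node (.leaf (⟨1, 1, 39140, 0, 60669, 1, 34944⟩, .mul 10 5)) (.leaf (⟨1, 11, 44168, 0, 44168, 11, 34944⟩, .mul 339 333))) (.node (.leaf (⟨1, 6, 23740, 0, 23168, 6, 34944⟩, .mul 211 208)) (.leaf (⟨0, 0, 34944, 0, 34944, 1, 34944⟩, .dfn))))) (.node (.node (.node (.leaf (⟨1, 2, 34944, 0, 34944, 2, 34944⟩, .unit)) (.leaf (⟨1, 10, 39556, 0, 21388, 10, 34944⟩, .sync ⟨281, 306, 1447⟩))) (.node (.leaf (⟨0,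 5, 39861, 1, 44269, 5, 35570⟩, .fill 2 0 2 [39044, 34960, 65537, 34960] 1 34048 [⟨20, 157, 180⟩] [⟨9, 157, 268⟩])) (.leaf (⟨0, 0, 34944, 0, 34944, 1, 34944⟩, .dfn)))) (.node (.node (.leaf (⟨1, 3, 29932, 0, 39121, 3, 34944⟩, .mul 86 79)) (.leaf (⟨0, 9, 20653, 1, 38705, 9, 51908⟩, .fill 5 4 2 [13813, 65537, 34944, 52352, 34944] 3 51328 [⟨108, 369, 0⟩] [⟨79, 369, 1313⟩]))) (.node (.leaf (⟨1, 7, 43260, 0, 52369, 7, 34944⟩, .mul 232 230)) (.leaf (⟨0, 0, 34944, 0, 34944, 1, 34944⟩, .dfn))))))) (.node (.node (.node (.node (.node (.leaf (⟨1, 1, 39125, 0, 51376, 1, 34944⟩, .mul 3 5)) (.leaf (⟨1, 6, 20692, 0, 52102, 6, 34944⟩, .mul 216 206))) (.node (.leaf (⟨1, 4, 21382, 0, 48340, 4, 34944⟩, .mul 123 122)) (.leaf (⟨0, 13, 47392, 0, 62206, 12, 14871⟩, .fill 6 5 4 [27495, 65536, 13813, 65536, 34944, 47642, 34944] 3 34946 [⟨108, 369, 1506⟩, ⟨386, 394,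 507⟩] [⟨108, 110, 162⟩, ⟨101, 347, 1466⟩])))) (.node (.node (.leaf (⟨1, 2, 21188, 0, 51916, 2, 34944⟩, .mul 43 37)) (.leaf (⟨0, 11, 34944, 0, 34944, 10, 34944⟩, .inv 331))) (.node (.leaf (⟨0, 2, 34944, 0, 34944, 6, 34944⟩, .dfn)) (.leaf (⟨0, 0, 34944, 0, 34944, 1, 34944⟩, .dfn))))) (.node (.node (.node (.leaf (⟨1, 2, 22980, 0, 53993, 2, 34944⟩, .mul 41 33)) (.leaf (⟨1, 9, 34949, 0, 29921, 9, 34944⟩, .mul 297 298))) (.node (.leaf (⟨1, 5, 34944, 0, 34944, 5, 34944⟩, .unit)) (.leaf (⟨0, 0, 34944, 0, 34944, 1, 34944⟩, .dfn)))) (.node (.node (.leaf (⟨1, 3, 34944, 0, 34944, 3, 34944⟩, .unit)) (.leaf (⟨0, 3, 13135, 1, 52437, 9, 45396⟩, .fill 6 3 2 [13813, 65536, 34944, 47642, 34944, 65536, 54904, 65536, 62212] 1 34048 [⟨20, 77, 1068⟩] [⟨98, 77, 735⟩, ⟨108, 347, 715⟩, ⟨351, 359, 657⟩]))) (.node (.leaf (⟨1, 7, 44216, 0, 60569, 7, 34944⟩, .mul 235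 231)) (.leaf (⟨0, 0, 34944, 0, 34944, 1, 34944⟩, .dfn)))))) (.node (.node (.node (.node (.leaf (⟨1, 0, 34659, 0, 34659, 0, 34944⟩, .base)) (.leaf (⟨0, 4, 34944, 0, 34944, 8, 34944⟩, .dfn))) (.node (.leaf (⟨1, 4, 22660, 0, 30856, 4, 34944⟩, .mul 128 120)) (.leaf (⟨0, 11, 34696, 1, 61568, 8, 29861⟩, .fill 5 6 4 [59957, 65537, 13813] 7 34944 [⟨276, 408, 1302⟩] [⟨230, 380, 1514⟩])))) (.node (.node (.leaf (⟨1, 1, 51401, 0, 48317, 1, 34944⟩, .mul 91 7)) (.leaf (⟨0, 12, 34944, 0, 34944, 3, 34659⟩, .inv 347))) (.node (.leaf (⟨1, 6, 59529, 0, 39046, 6, 34944⟩, .mul 219 208)) (.leaf (⟨0, 0, 34944, 0, 34944, 1, 34944⟩, .dfn))))) (.node (.node (.node (.leaf (⟨1, 2, 54244, 0, 22959, 2, 34944⟩, .mul 40 35)) (.leaf (⟨1, 10, 53898, 0, 23434, 10, 34944⟩, .mul 308 310))) (.node (.leaf (⟨1, 5, 52138, 0, 36013, 5, 34944⟩, .mul 174 165)) (.leaf (⟨0, 0, 34944,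 0, 34944, 1, 34944⟩, .dfn)))) (.node (.node (.leaf (⟨1, 4, 23434, 0, 22725, 4, 34944⟩, .mul 123 120)) (.leaf (⟨0, 7, 48957, 1, 35997, 8, 14663⟩, .inv 379))) (.node (.leaf (⟨1, 6, 21689, 0, 51842, 6, 34944⟩, .mul 251 206)) (.leaf (⟨0, 0, 34944, 0, 34944, 1, 34944⟩, .dfn))))))))) (.node (.node (.node (.node (.node (.node (.node (.leaf (⟨1, 0, 21721, 0, 21721, 0, 34944⟩, .base)) (.leaf (⟨1, 6, 31984, 0, 22924, 6, 34944⟩, .mul 257 208))) (.node (.leaf (⟨1, 4, 39812, 0, 52420, 4, 34944⟩, .mul 129 120)) (.leaf (⟨1, 9, 34956, 0, 20637, 9, 34944⟩, .mul 298 297)))) (.node (.node (.leaf (⟨1, 0, 50637, 0, 50637, 0, 34944⟩, .base)) (.leaf (⟨1, 10, 23182, 0, 54150, 10, 34944⟩, .mul 309 309))) (.node (.leaf (⟨1, 4, 23178, 0, 30892, 4, 34944⟩, .mul 139 120)) (.leaf (⟨0, 0, 34944, 0, 34944, 1, 34944⟩, .dfn))))) (.node (.node (.node (.leaf (⟨1, 0, 53704,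 0, 53704, 0, 34944⟩, .base)) (.leaf (⟨1, 8, 59545, 0, 59545, 8, 34944⟩, .mul 287 286))) (.node (.leaf (⟨1, 5, 35561, 0, 60585, 5, 34944⟩, .sync ⟨111, 157, 1027⟩)) (.leaf (⟨0, 13, 10957, 1, 59963, 13, 11251⟩, .fill 6 3 2 [13813, 65536, 34944, 47642, 34944, 65536, 54904, 65536, 62212] 8 34052 [⟨288, 401, 1328⟩] [⟨286, 401, 97⟩, ⟨391, 406, 976⟩, ⟨342, 405, 1212⟩])))) (.node (.node (.leaf (⟨1, 1, 20673, 0, 28857, 1, 34944⟩, .mul 97 3)) (.leaf (⟨1, 12, 28841, 0, 47336, 12, 34944⟩, .mul 351 350))) (.node (.leaf (⟨1, 6, 59588, 0, 39820, 6, 34944⟩, .mul 206 208)) (.leaf (⟨0, 0, 34944, 0, 34944, 1, 34944⟩, .dfn)))))) (.node (.node (.node (.node (.leaf (⟨1, 0, 31898, 0, 31898, 0, 34944⟩, .base)) (.leaf (⟨1, 6, 29865, 0, 51844, 6, 34944⟩, .mul 218 208))) (.node (.leaf (⟨1, 4, 23432, 0, 22741, 4, 34944⟩, .mul 142 122)) (.leaf (⟨0, 12, 13135, 1, 12581,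 13, 26495⟩, .fill 6 3 2 [13813, 65536, 34944, 47642, 34944, 65536, 54904, 65536, 62212] 3 34048 [⟨108, 347, 1068⟩] [⟨86, 347, 428⟩, ⟨357, 397, 112⟩, ⟨398, 399, 1070⟩])))) (.node (.node (.leaf (⟨1, 1, 59592, 0, 48297, 1, 34944⟩, .mul 14 5)) (.leaf (⟨1, 11, 43140, 0, 43140, 11, 34944⟩, .mul 333 334))) (.node (.leaf (⟨1, 6, 51453, 0, 39310, 6, 34944⟩, .sync ⟨209, 204, 1405⟩)) (.leaf (⟨0, 0, 34944, 0, 34944, 1, 34944⟩, .dfn))))) (.node (.node (.node (.leaf (⟨1, 2, 23491, 0, 53934, 2, 34944⟩, .mul 49 35)) (.leaf (⟨0, 6, 34944, 1, 34944, 10, 34944⟩, .dfn))) (.node (.leaf (⟨0, 5, 18298, 1, 44269, 4, 52352⟩, .inv 177)) (.leaf (⟨0, 0, 34944, 0, 34944, 1, 34944⟩, .dfn)))) (.node (.node (.leaf (⟨1, 3, 20625, 0, 40085, 3, 34944⟩, .mul 79 86)) (.leaf (⟨0, 9, 24085, 1, 52772, 3, 51328⟩, .inv 369))) (.node (.leaf (⟨1, 7, 43244, 0, 60561, 7, 34944⟩, .mul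 241 232)) (.leaf (⟨0, 0, 34944, 0, 34944, 1, 34944⟩, .dfn))))))) (.node (.node (.node (.node (.node (.leaf (⟨1, 1, 29888, 0, 28837, 1, 34944⟩, .mul 9 3)) (.leaf (⟨1, 6, 39057, 0, 20608, 6, 34944⟩, .mul 265 206))) (.node (.leaf (⟨1, 4, 20616, 0, 48273, 4, 34944⟩, .mul 133 120)) (.leaf (⟨0, 9, 32013, 0, 40152, 13, 56848⟩, .fill 7 6 2 [20108, 65536, 13813, 65536, 34944, 11996, 34944, 65536, 54904] 3 34944 [⟨108, 369, 331⟩] [⟨108, 169, 582⟩, ⟨160, 228, 149⟩, ⟨232, 389, 737⟩])))) (.node (.node (.leaf (⟨1, 2, 23201, 0, 54220, 2, 34944⟩, .mul 73 35)) (.leaf (⟨1, 10, 13572, 0, 56586, 10, 34944⟩, .mul 313 310))) (.node (.leaf (⟨1, 5, 34985, 0, 35976, 5, 34944⟩, .mul 166 162)) (.leaf (⟨0, 0, 34944, 0, 34944, 1, 34944⟩, .dfn))))) (.node (.node (.node (.leaf (⟨1, 2, 20622, 0, 51329, 2, 34944⟩, .mul 37 35)) (.leaf (⟨1, 9, 51389, 0, 21689, 9, 34944⟩,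 .sync ⟨197, 295, 1216⟩))) (.node (.leaf (⟨0, 2, 20108, 0, 26142, 5, 42450⟩, .fill 6 5 2 [27495, 65536, 13813, 65536, 34944, 47642, 34944, 65536, 54904] 0 34944 [⟨17, 30, 0⟩] [⟨23, 0, 1130⟩, ⟨7, 77, 149⟩, ⟨79, 169, 97⟩])) (.leaf (⟨0, 0, 34944, 0, 34944, 1, 34944⟩, .dfn)))) (.node (.node (.leaf (⟨1, 1, 54428, 0, 22657, 1, 34944⟩, .mul 8 3)) (.leaf (⟨1, 12, 34944, 0, 34944, 12, 34944⟩, .unit))) (.node (.leaf (⟨1, 7, 44200, 0, 52377, 7, 34944⟩, .mul 230 232)) (.leaf (⟨0, 0, 34944, 0, 34944, 1, 34944⟩, .dfn)))))) (.node (.node (.node (.node (.leaf (⟨1, 0, 56861, 0, 56861, 0, 34944⟩, .base)) (.leaf (⟨1, 6, 22680, 0, 22658, 6, 34944⟩, .mul 271 206))) (.node (.leaf (⟨1, 4, 21380, 0, 48324, 4, 34944⟩, .mul 153 122)) (.leaf (⟨0, 11, 50712, 1, 43148, 11, 22044⟩, .fill 2 0 2 [39044, 34960, 65537, 34960] 7 34944 [⟨276, 408, 1302⟩] [⟨240, 408, 156⟩]))))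 (.node (.node (.leaf (⟨1, 1, 52392, 0, 40156, 1, 34944⟩, .mul 89 3)) (.leaf (⟨1, 11, 34944, 0, 34944, 11, 34944⟩, .unit))) (.node (.leaf (⟨1, 6, 35068, 0, 35208, 6, 34944⟩, .mul 208 208)) (.leaf (⟨0, 0, 34944, 0, 34944, 1, 34944⟩, .dfn))))) (.node (.node (.node (.leaf (⟨1, 2, 20708, 0, 51598, 2, 34944⟩, .mul 57 37)) (.leaf (⟨1, 10, 34944, 0, 34944, 10, 34944⟩, .unit))) (.node (.leaf (⟨1, 5, 51840, 0, 43188, 5, 34944⟩, .mul 185 160)) (.leaf (⟨0, 0, 34944, 0, 34944, 1, 34944⟩, .dfn)))) (.node (.node (.leaf (⟨1, 4, 53378, 0, 53404, 4, 34944⟩, .sync ⟨121, 118, 125⟩)) (.leaf (⟨0, 12, 52435, 0, 44217, 12, 48374⟩, .fill 0 0 2 [20621, 34946, 65536, 34946] 3 34048 [⟨108, 347, 1068⟩] [⟨99, 347, 1486⟩]))) (.node (.leaf (⟨0, 6, 50465, 1, 62984, 6, 42810⟩, .fill 7 10 8 [54904, 65536, 27414] 2 34944 [⟨52, 204, 0⟩, ⟨249, 247, 794⟩, ⟨240, 248, 540⟩] [⟨37,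 204, 1138⟩])) (.leaf (⟨0, 0, 34944, 0, 34944, 1, 34944⟩, .dfn)))))))) (.node (.node (.node (.node (.node (.node (.leaf (⟨1, 0, 21693, 0, 21693, 0, 34944⟩, .base)) (.leaf (⟨1, 6, 54432, 0, 53894, 6, 34944⟩, .mul 210 208))) (.node (.leaf (⟨1, 4, 22656, 0, 22664, 4, 34944⟩, .mul 122 122)) (.leaf (⟨0, 13, 34944, 0, 34944, 7, 34659⟩, .inv 389)))) (.node (.node (.leaf (⟨1, 2, 35298, 0, 35298, 2, 34944⟩, .mul 69 35)) (.leaf (⟨1, 10, 55176, 0, 32388, 10, 34944⟩, .mul 310 313))) (.node (.leaf (⟨1, 5, 35458, 0, 43176, 5, 34944⟩, .mul 161 165)) (.leaf (⟨0, 0, 34944, 0, 34944, 1, 34944⟩, .dfn))))) (.node (.node (.node (.leaf (⟨1, 2, 51586, 0, 20716, 2, 34944⟩, .mul 35 37)) (.leaf (⟨1, 8, 31880, 0, 53388, 8, 34944⟩, .mul 287 287))) (.node (.leaf (⟨1, 5, 35523, 0, 51377, 5, 34944⟩, .mul 160 162)) (.leaf (⟨1, 0, 38868, 0, 38868, 0, 34944⟩, .base))))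 (.node (.node (.leaf (⟨1, 3, 28884, 0, 43181, 3, 34944⟩, .mul 93 81)) (.leaf (⟨0, 9, 35245, 0, 21716, 12, 59954⟩, .fill 6 5 4 [27495, 65536, 13813, 65536, 34944, 47642, 34944] 1 34944 [⟨20, 118, 0⟩, ⟨122, 295, 1157⟩] [⟨5, 77, 1130⟩, ⟨116, 347, 156⟩]))) (.node (.leaf (⟨1, 7, 40065, 0, 43148, 7, 34944⟩, .sync ⟨175, 228, 1225⟩)) (.leaf (⟨0, 0, 34944, 0, 34944, 1, 34944⟩, .dfn)))))) (.node (.node (.node (.node (.leaf (⟨1, 0, 13813, 0, 13813, 0, 34944⟩, .base)) (.leaf (⟨1, 7, 47293, 0, 59541, 7, 34944⟩, .mul 235 230))) (.node (.leaf (⟨1, 4, 39560, 0, 52385, 4, 34944⟩, .mul 149 122)) (.leaf (⟨0, 13, 43542, 0, 47366, 11, 24008⟩, .inv 405)))) (.node (.node (.leaf (⟨1, 3, 21669, 0, 47273, 3, 34944⟩, .sync ⟨85, 77, 693⟩)) (.leaf (⟨1, 11, 61572, 0, 62600, 11, 34944⟩, .mul 337 333))) (.node (.leaf (⟨1, 6, 51412, 0, 39818, 6, 34944⟩, .mul 213 210))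 (.leaf (⟨0, 0, 34944, 0, 34944, 1, 34944⟩, .dfn))))) (.node (.node (.node (.leaf (⟨0, 2, 59957, 1, 59118, 2, 31043⟩, .fill 4 1 2 [34944, 60544, 34944, 65537, 54904] 0 34944 [⟨17, 30, 0⟩] [⟨53, 30, 1196⟩])) (.leaf (⟨1, 10, 51592, 0, 51592, 10, 34944⟩, .sync ⟨283, 306, 1070⟩))) (.node (.leaf (⟨1, 5, 52171, 0, 60604, 5, 34944⟩, .mul 181 162)) (.leaf (⟨0, 0, 34944, 0, 34944, 1, 34944⟩, .dfn)))) (.node (.node (.leaf (⟨0, 1, 34944, 1, 34944, 4, 34944⟩, .dfn)) (.leaf (⟨0, 9, 45827, 1, 29920, 9, 63745⟩, .fill 5 2 2 [34944, 52352, 34944, 65537, 59957] 3 51360 [⟨108, 369, 1145⟩] [⟨103, 369, 1160⟩]))) (.node (.leaf (⟨1, 7, 47353, 0, 60573, 7, 34944⟩, .mul 234 230)) (.leaf (⟨0, 0, 34944, 0, 34944, 1, 34944⟩, .dfn))))))) (.node (.node (.node (.node (.node (.leaf (⟨1, 1, 39077, 0, 52420, 1, 34944⟩, .mul 13 3)) (.leaf (⟨0, 7, 22005, 0, 31899, 7, 15081⟩,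 .fill 7 8 2 [27414, 65537, 20108, 65536, 13813, 65536, 34944, 11996, 34944] 5 34948 [⟨172, 228, 1145⟩] [⟨191, 183, 594⟩, ⟨172, 187, 1016⟩, ⟨192, 228, 795⟩]))) (.node (.leaf (⟨1, 4, 53898, 0, 53408, 4, 34944⟩, .mul 141 122)) (.leaf (⟨1, 13, 34944, 0, 34944, 13, 34944⟩, .unit)))) (.node (.node (.leaf (⟨0, 3, 34944, 0, 34944, 1, 34659⟩, .inv 77)) (.leaf (⟨1, 11, 31880, 0, 22656, 11, 34944⟩, .sync ⟨328, 331, 1⟩))) (.node (.leaf (⟨1, 6, 62620, 0, 53386, 6, 34944⟩, .sync ⟨62, 204, 179⟩)) (.leaf (⟨0, 0, 34944, 0, 34944, 1, 34944⟩, .dfn))))) (.node (.node (.node (.leaf (⟨1, 2, 21191, 0, 51919, 2, 34944⟩, .mul 45 37)) (.leaf (⟨1, 9, 43152, 0, 34960, 9, 34944⟩, .mul 299 299))) (.node (.leaf (⟨1, 5, 51947, 0, 60597, 5, 34944⟩, .mul 173 159)) (.leaf (⟨0, 0, 34944, 0, 34944, 1, 34944⟩, .dfn)))) (.node (.node (.leaf (⟨0, 3, 45339, 0, 36560, 3, 56920⟩,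 .fill 6 1 6 [34944, 47642, 34944, 65536, 54904] 1 34946 [⟨20, 19, 0⟩, ⟨106, 77, 119⟩, ⟨79, 107, 1085⟩] [⟨7, 77, 1281⟩])) (.leaf (⟨1, 9, 35996, 0, 29837, 9, 34944⟩, .mul 299 298))) (.node (.leaf (⟨1, 7, 48377, 0, 51357, 7, 34944⟩, .mul 232 231)) (.leaf (⟨0, 0, 34944, 0, 34944, 1, 34944⟩, .dfn)))))) (.node (.node (.node (.node (.leaf (⟨0, 0, 34944, 1, 34944, 2, 34944⟩, .dfn)) (.leaf (⟨1, 8, 28829, 0, 48273, 8, 34944⟩, .sync ⟨138, 284, 1382⟩))) (.node (.leaf (⟨0, 5, 34944, 1, 34944, 1, 36710⟩, .inv 157)) (.leaf (⟨0, 13, 18135, 0, 54266, 13, 14828⟩, .fill 6 5 8 [27495, 65536, 13813] 7 34944 [⟨276, 408, 1302⟩, ⟨338, 405, 691⟩, ⟨398, 399, 710⟩] [⟨238, 389, 602⟩])))) (.node (.node (.leaf (⟨1, 1, 48348, 0, 52396, 1, 34944⟩, .mul 13 7)) (.leaf (⟨1, 12, 29836, 0, 44284, 12, 34944⟩, .sync ⟨349, 347, 1078⟩))) (.node (.leaf (⟨0, 6, 34946, 0, 51329,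 6, 34963⟩, .fill 0 0 2 [20621, 34946, 65536, 34946] 2 34944 [⟨52, 204, 0⟩] [⟨42, 204, 8⟩])) (.leaf (⟨0, 0, 34944, 0, 34944, 1, 34944⟩, .dfn))))) (.node (.node (.node (.leaf (⟨1, 2, 22661, 0, 53386, 2, 34944⟩, .mul 35 33)) (.leaf (⟨1, 10, 21388, 0, 39556, 10, 34944⟩, .mul 309 308))) (.node (.leaf (⟨1, 5, 52107, 0, 44197, 5, 34944⟩, .mul 189 159)) (.leaf (⟨0, 0, 34944, 0, 34944, 1, 34944⟩, .dfn)))) (.node (.node (.leaf (⟨1, 4, 20872, 0, 40169, 4, 34944⟩, .mul 122 120)) (.leaf (⟨1, 9, 59553, 0, 43192, 9, 34944⟩, .mul 301 299))) (.node (.leaf (⟨1, 7, 34944, 0, 34944, 7, 34944⟩, .unit)) (.leaf (⟨0, 0, 34944, 0, 34944, 1, 34944⟩, .dfn)))))))))) (.node (.node (.node (.node (.node (.node (.node (.node (.leaf (⟨0, 1, 34944, 0, 34944, 0, 34944⟩, .inv 0)) (.leaf (⟨1, 6, 40148, 0, 21378, 6, 34944⟩, .mul 215 208))) (.node (.leaf (⟨1, 4, 35458, 0, 43176,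 4, 34944⟩, .mul 120 120)) (.leaf (⟨1, 9, 51380, 0, 28884, 9, 34944⟩, .mul 300 297)))) (.node (.node (.leaf (⟨1, 2, 39307, 0, 39150, 2, 34944⟩, .mul 33 37)) (.leaf (⟨1, 10, 60170, 0, 59904, 10, 34944⟩, .mul 320 313))) (.node (.leaf (⟨1, 5, 35209, 0, 35969, 5, 34944⟩, .mul 173 160)) (.leaf (⟨0, 0, 34944, 0, 34944, 1, 34944⟩, .dfn))))) (.node (.node (.node (.leaf (⟨1, 2, 35552, 0, 35266, 2, 34944⟩, .sync ⟨32, 30, 944⟩)) (.leaf (⟨1, 8, 21661, 0, 47249, 8, 34944⟩, .mul 288 286))) (.node (.leaf (⟨1, 5, 35779, 0, 51376, 5, 34944⟩, .sync ⟨12, 157, 1466⟩)) (.leaf (⟨0, 13, 14227, 1, 50571, 12, 51856⟩, .inv 416)))) (.node (.node (.leaf (⟨1, 1, 44273, 0, 44273, 1, 34944⟩, .mul 7 7)) (.leaf (⟨1, 12, 34960, 0, 36037, 12, 34944⟩, .mul 350 352))) (.node (.leaf (⟨1, 6, 34960, 0, 34946, 6, 34944⟩, .mul 224 206)) (.leaf (⟨0, 0, 34944, 0, 34944, 1, 34944⟩,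 .dfn)))))) (.node (.node (.node (.node (.leaf (⟨1, 0, 34944, 0, 34944, 0, 34944⟩, .base)) (.leaf (⟨1, 6, 22700, 0, 23182, 6, 34944⟩, .mul 272 206))) (.node (.leaf (⟨0, 4, 59957, 1, 28837, 4, 31728⟩, .fill 4 1 2 [34944, 60544, 34944, 65537, 54904] 1 34944 [⟨20, 118, 0⟩] [⟨10, 118, 567⟩])) (.leaf (⟨0, 8, 21188, 0, 35001, 13, 47378⟩, .inv 400)))) (.node (.node (.leaf (⟨1, 3, 29824, 0, 40128, 3, 34944⟩, .sync ⟨80, 77, 489⟩)) (.leaf (⟨1, 11, 35980, 0, 35980, 11, 34944⟩, .mul 334 333))) (.node (.leaf (⟨1, 2, 39144, 0, 39310, 2, 34944⟩, .mul 200 37)) (.leaf (⟨0, 0, 34944, 0, 34944, 1, 34944⟩, .dfn))))) (.node (.node (.node (.leaf (⟨1, 2, 35526, 0, 35525, 2, 34944⟩, .mul 37 37)) (.leaf (⟨1, 9, 52397, 0, 28841, 9, 34944⟩, .mul 300 299))) (.node (.leaf (⟨0, 4, 52352, 1, 44269, 5, 18298⟩, .fill 4 5 4 [54904, 65537, 11223] 1 34944 [⟨20, 118, 0⟩] [⟨9,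 157, 844⟩])) (.leaf (⟨0, 0, 34944, 0, 34944, 1, 34944⟩, .dfn)))) (.node (.node (.leaf (⟨1, 3, 35056, 0, 39056, 3, 34944⟩, .mul 79 93)) (.leaf (⟨0, 3, 51328, 1, 14290, 9, 24085⟩, .fill 4 5 0 [54904, 65537, 11223, 65537, 34944, 60544, 34944] 3 51328 [] [⟨108, 107, 149⟩, ⟨81, 364, 1165⟩]))) (.node (.leaf (⟨1, 7, 39124, 0, 34948, 7, 34944⟩, .mul 234 232)) (.leaf (⟨0, 0, 34944, 0, 34944, 1, 34944⟩, .dfn))))))) (.node (.node (.node (.node (.node (.leaf (⟨1, 1, 35056, 0, 44269, 1, 34944⟩, .mul 3 3)) (.leaf (⟨1, 6, 29837, 0, 51338, 6, 34944⟩, .mul 213 208))) (.node (.leaf (⟨1, 4, 22658, 0, 22680, 4, 34944⟩, .mul 136 122)) (.leaf (⟨1, 13, 29852, 0, 59545, 13, 34944⟩, .mul 391 392)))) (.node (.node (.leaf (⟨1, 2, 35045, 0, 35204, 2, 34944⟩, .mul 72 37)) (.leaf (⟨1, 10, 27522, 0, 10890, 10, 34944⟩, .mul 324 309))) (.node (.leaf (⟨1, 4, 35720, 0,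 43221, 4, 34944⟩, .mul 194 122)) (.leaf (⟨0, 0, 34944, 0, 34944, 1, 34944⟩, .dfn))))) (.node (.node (.node (.leaf (⟨1, 2, 23460, 0, 54187, 2, 34944⟩, .mul 33 35)) (.leaf (⟨1, 9, 51377, 0, 43176, 9, 34944⟩, .sync ⟨129, 295, 1401⟩))) (.node (.leaf (⟨0, 3, 64112, 0, 15622, 5, 20414⟩, .inv 168)) (.leaf (⟨0, 0, 34944, 0, 34944, 1, 34944⟩, .dfn)))) (.node (.node (.leaf (⟨1, 3, 29825, 0, 39045, 3, 34944⟩, .mul 79 83)) (.leaf (⟨1, 9, 59565, 0, 21673, 9, 34944⟩, .mul 360 299))) (.node (.leaf (⟨1, 7, 40148, 0, 44164, 7, 34944⟩, .mul 230 231)) (.leaf (⟨0, 0, 34944, 0, 34944, 1, 34944⟩, .dfn)))))) (.node (.node (.node (.node (.leaf (⟨1, 0, 11087, 0, 11087, 0, 34944⟩, .base)) (.leaf (⟨1, 6, 39108, 0, 21388, 6, 34944⟩, .mul 274 206))) (.node (.leaf (⟨1, 4, 51846, 0, 29881, 4, 34944⟩, .mul 152 122)) (.leaf (⟨0, 11, 40264, 1, 48264, 7, 32464⟩, .inv 408))))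 (.node (.node (.leaf (⟨1, 1, 53400, 0, 30857, 1, 34944⟩, .mul 88 5)) (.leaf (⟨0, 11, 34946, 0, 51330, 11, 23711⟩, .fill 0 0 2 [20621, 34946, 65536, 34946] 10 34944 [⟨314, 331, 0⟩] [⟨319, 331, 740⟩]))) (.node (.leaf (⟨1, 6, 21673, 0, 51840, 6, 34944⟩, .mul 210 206)) (.leaf (⟨0, 0, 34944, 0, 34944, 1, 34944⟩, .dfn))))) (.node (.node (.node (.leaf (⟨1, 2, 53705, 0, 23271, 2, 34944⟩, .mul 45 33)) (.leaf (⟨1, 10, 29952, 0, 40198, 10, 34944⟩, .close 4 1 34944 [⟨312, 307, 0⟩, ⟨217, 250, 1325⟩, ⟨211, 306, 243⟩]))) (.node (.leaf (⟨1, 5, 51880, 0, 36028, 5, 34944⟩, .mul 165 159)) (.leaf (⟨0, 0, 34944, 0, 34944, 1, 34944⟩, .dfn)))) (.node (.node (.leaf (⟨1, 1, 22665, 0, 53404, 1, 34944⟩, .mul 104 3)) (.leaf (⟨1, 8, 39057, 0, 29853, 8, 34944⟩, .mul 286 287))) (.node (.leaf (⟨1, 6, 48273, 0, 20616, 6, 34944⟩, .mul 212 208)) (.leaf (⟨0, 0, 34944, 0,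 34944, 1, 34944⟩, .dfn)))))))) (.node (.node (.node (.node (.node (.node (.leaf (⟨1, 1, 62617, 0, 30869, 1, 34944⟩, .sync ⟨4, 0, 761⟩)) (.leaf (⟨1, 6, 23724, 0, 23170, 6, 34944⟩, .mul 260 208))) (.node (.leaf (⟨1, 4, 54144, 0, 61653, 4, 34944⟩, .mul 129 122)) (.leaf (⟨0, 7, 34659, 0, 34944, 13, 34944⟩, .dfn)))) (.node (.node (.leaf (⟨1, 2, 53641, 0, 22759, 2, 34944⟩, .mul 68 37)) (.leaf (⟨1, 10, 26118, 0, 18184, 10, 34944⟩, .mul 313 309))) (.node (.leaf (⟨1, 4, 51842, 0, 21689, 4, 34944⟩, .mul 196 122)) (.leaf (⟨0, 0, 34944, 0, 34944, 1, 34944⟩, .dfn))))) (.node (.node (.node (.leaf (⟨1, 2, 39848, 0, 39855, 2, 34944⟩, .sync ⟨36, 30, 1355⟩)) (.leaf (⟨1, 8, 34944, 0, 34944, 8, 34944⟩, .unit))) (.node (.leaf (⟨1, 5, 35265, 0, 59544, 5, 34944⟩, .sync ⟨164, 157, 1208⟩)) (.leaf (⟨1, 0, 51896, 0, 51896, 0, 34944⟩, .base)))) (.node (.node (.leaf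 (⟨1, 3, 36009, 0, 43260, 3, 34944⟩, .mul 81 86)) (.leaf (⟨1, 12, 43177, 0, 40133, 12, 34944⟩, .mul 356 350))) (.node (.leaf (⟨0, 7, 34944, 0, 34944, 5, 34944⟩, .inv 228)) (.leaf (⟨0, 0, 34944, 0, 34944, 1, 34944⟩, .dfn)))))) (.node (.node (.node (.node (.leaf (⟨1, 0, 52187, 0, 52187, 0, 34944⟩, .base)) (.leaf (⟨1, 7, 34960, 0, 43136, 7, 34944⟩, .mul 246 232))) (.node (.leaf (⟨1, 4, 20874, 0, 40185, 4, 34944⟩, .mul 128 122)) (.leaf (⟨0, 11, 24008, 0, 26500, 13, 43542⟩, .fill 6 5 4 [27495, 65536, 13813, 65536, 34944, 47642, 34944] 6 34944 [⟨223, 306, 0⟩, ⟨329, 331, 1259⟩] [⟨214, 247, 1393⟩, ⟨239, 389, 823⟩])))) (.node (.node (.leaf (⟨1, 1, 59584, 0, 47273, 1, 34944⟩, .mul 16 7)) (.leaf (⟨1, 11, 30852, 0, 23692, 11, 34944⟩, .mul 333 333))) (.node (.leaf (⟨1, 6, 34984, 0, 35462, 6, 34944⟩, .mul 210 210)) (.leaf (⟨0, 0, 34944, 0, 34944, 1,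 34944⟩, .dfn))))) (.node (.node (.node (.leaf (⟨1, 0, 59118, 0, 59118, 0, 34944⟩, .base)) (.leaf (⟨1, 10, 54150, 0, 23182, 10, 34944⟩, .sync ⟨273, 306, 241⟩))) (.node (.leaf (⟨1, 5, 51618, 0, 34965, 5, 34944⟩, .mul 159 162)) (.leaf (⟨0, 0, 34944, 0, 34944, 1, 34944⟩, .dfn)))) (.node (.node (.leaf (⟨1, 3, 43176, 0, 43176, 3, 34944⟩, .mul 105 83)) (.leaf (⟨1, 9, 35993, 0, 35052, 9, 34944⟩, .mul 299 297))) (.node (.leaf (⟨1, 7, 43176, 0, 59545, 7, 34944⟩, .mul 244 231)) (.leaf (⟨0, 0, 34944, 0, 34944, 1, 34944⟩, .dfn))))))) (.node (.node (.node (.node (.node (.leaf (⟨1, 1, 30869, 0, 62617, 1, 34944⟩, .mul 12 3)) (.leaf (⟨0, 7, 34946, 0, 44184, 7, 20651⟩, .fill 0 0 2 [20621, 34946, 65536, 34946] 5 34944 [⟨172, 228, 0⟩] [⟨160, 228, 878⟩]))) (.node (.leaf (⟨1, 4, 35208, 0, 35068, 4, 34944⟩, .mul 124 122)) (.leaf (⟨0, 12, 14871, 0, 21961, 13,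 47392⟩, .inv 396)))) (.node (.node (.leaf (⟨0, 1, 34659, 0, 34944, 3, 34944⟩, .dfn)) (.leaf (⟨1, 11, 62600, 0, 61572, 11, 34944⟩, .sync ⟨324, 331, 1224⟩))) (.node (.leaf (⟨0, 6, 34944, 0, 34944, 2, 34944⟩, .inv 204)) (.leaf (⟨0, 0, 34944, 0, 34944, 1, 34944⟩, .dfn))))) (.node (.node (.node (.leaf (⟨1, 2, 54185, 0, 23461, 2, 34944⟩, .mul 35 35)) (.leaf (⟨1, 9, 44169, 0, 35068, 9, 34944⟩, .mul 297 299))) (.node (.leaf (⟨1, 5, 35235, 0, 43161, 5, 34944⟩, .mul 159 159)) (.leaf (⟨0, 0, 34944, 0, 34944, 1, 34944⟩, .dfn)))) (.node (.node (.leaf (⟨1, 1, 53389, 0, 22680, 1, 34944⟩, .mul 80 7)) (.leaf (⟨0, 9, 45396, 1, 60652, 3, 13135⟩, .inv 364))) (.node (.leaf (⟨1, 7, 39108, 0, 43140, 7, 34944⟩, .mul 236 232)) (.leaf (⟨0, 0, 34944, 0, 34944, 1, 34944⟩, .dfn)))))) (.node (.node (.node (.node (.leaf (⟨1, 1, 30852, 0, 62600, 1, 34944⟩, .mul 5 5))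 (.leaf (⟨0, 8, 34944, 0, 34944, 4, 34944⟩, .inv 284))) (.node (.leaf (⟨0, 1, 36710, 1, 34944, 5, 34944⟩, .dfn)) (.leaf (⟨0, 8, 29861, 1, 23680, 11, 34696⟩, .inv 412)))) (.node (.node (.leaf (⟨1, 3, 36004, 0, 48317, 3, 34944⟩, .sync ⟨92, 77, 795⟩)) (.leaf (⟨1, 3, 43177, 0, 44284, 3, 34944⟩, .mul 81 83))) (.node (.leaf (⟨1, 6, 39161, 0, 20870, 6, 34944⟩, .mul 208 206)) (.leaf (⟨0, 0, 34944, 0, 34944, 1, 34944⟩, .dfn))))) (.node (.node (.node (.leaf (⟨1, 0, 36710, 0, 36710, 0, 34944⟩, .base)) (.leaf (⟨1, 10, 52742, 0, 61184, 10, 34944⟩, .mul 309 313))) (.node (.leaf (⟨1, 5, 35042, 0, 51329, 5, 34944⟩, .mul 173 165)) (.leaf (⟨0, 0, 34944, 0, 34944, 1, 34944⟩, .dfn)))) (.node (.node (.leaf (⟨1, 4, 51334, 0, 28813, 4, 34944⟩, .mul 124 120)) (.leaf (⟨0, 8, 31250, 1, 51345, 8, 14934⟩, .fill 7 2 4 [34944, 11996, 34944, 65536, 54904, 65536, 27414]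 3 34048 [⟨108, 347, 1068⟩, ⟨354, 376, 607⟩] [⟨115, 347, 611⟩, ⟨362, 376, 1104⟩]))) (.node (.leaf (⟨0, 7, 20026, 1, 29853, 7, 20019⟩, .fill 6 1 4 [34944, 47642, 34944, 65536, 54904, 65536, 62212] 2 34960 [⟨52, 204, 777⟩, ⟨252, 247, 757⟩] [⟨33, 204, 667⟩, ⟨252, 247, 254⟩])) (.leaf (⟨0, 0, 34944, 0, 34944, 1, 34944⟩, .dfn))))))))) (.node (.node (.node (.node (.node (.node (.node (.leaf (⟨1, 1, 29872, 0, 21721, 1, 34944⟩, .sync ⟨2, 0, 1154⟩)) (.leaf (⟨1, 6, 23765, 0, 23428, 6, 34944⟩, .mul 217 210))) (.node (.leaf (⟨1, 4, 53888, 0, 62640, 4, 34944⟩, .mul 126 120)) (.leaf (⟨1, 12, 36036, 0, 40149, 12, 34944⟩, .mul 353 351)))) (.node (.node (.leaf (⟨1, 0, 11223, 0, 11223, 0, 34944⟩, .base)) (.leaf (⟨1, 10, 21128, 0, 39816, 10, 34944⟩, .mul 322 310))) (.node (.leaf (⟨1, 4, 34950, 0, 43152, 4, 34944⟩, .mul 156 122)) (.leaf (⟨0, 0, 34944, 0, 34944,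 1, 34944⟩, .dfn))))) (.node (.node (.node (.leaf (⟨1, 2, 23269, 0, 53704, 2, 34944⟩, .sync ⟨34, 30, 775⟩)) (.leaf (⟨1, 8, 53388, 0, 31880, 8, 34944⟩, .mul 290 286))) (.node (.leaf (⟨1, 1, 30932, 0, 53429, 1, 34944⟩, .mul 84 3)) (.leaf (⟨0, 13, 51923, 1, 51675, 13, 51615⟩, .fill 6 1 4 [34944, 47642, 34944, 65536, 54904, 65536, 62212] 8 34084 [⟨288, 401, 1436⟩, ⟨398, 414, 1107⟩] [⟨388, 401, 433⟩, ⟨398, 414, 1500⟩])))) (.node (.node (.leaf (⟨1, 3, 43221, 0, 44217, 3, 34944⟩, .mul 86 81)) (.leaf (⟨1, 12, 28857, 0, 48316, 12, 34944⟩, .mul 351 352))) (.node (.leaf (⟨1, 6, 43152, 0, 34950, 6, 34944⟩, .mul 226 210)) (.leaf (⟨0, 0, 34944, 0, 34944, 1, 34944⟩, .dfn)))))) (.node (.node (.node (.node (.leaf (⟨0, 1, 34946, 0, 31898, 1, 39050⟩, .fill 0 0 2 [20621, 34946, 65536, 34946] 0 34944 [⟨17, 0, 0⟩] [⟨18, 0, 512⟩])) (.leaf (⟨1, 7, 43192, 0, 51353,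 7, 34944⟩, .mul 243 230))) (.node (.leaf (⟨1, 4, 35210, 0, 35052, 4, 34944⟩, .mul 146 122)) (.leaf (⟨0, 13, 26495, 1, 17945, 12, 13135⟩, .inv 402)))) (.node (.node (.leaf (⟨1, 3, 28837, 0, 48297, 3, 34944⟩, .sync ⟨82, 77, 808⟩)) (.leaf (⟨1, 11, 23692, 0, 30852, 11, 34944⟩, .mul 338 334))) (.node (.leaf (⟨1, 6, 48361, 0, 20876, 6, 34944⟩, .mul 206 210)) (.leaf (⟨0, 0, 34944, 0, 34944, 1, 34944⟩, .dfn))))) (.node (.node (.node (.leaf (⟨0, 2, 34960, 1, 52187, 2, 53720⟩, .fill 2 0 2 [39044, 34960, 65537, 34960] 0 34944 [⟨17, 30, 0⟩] [⟨21, 30, 332⟩])) (.leaf (⟨0, 10, 34944, 1, 34944, 6, 34944⟩, .inv 306))) (.node (.leaf (⟨1, 5, 51906, 0, 59581, 5, 34944⟩, .mul 174 160)) (.leaf (⟨0, 0, 34944, 0, 34944, 1, 34944⟩, .dfn)))) (.node (.node (.leaf (⟨1, 3, 21720, 0, 48312, 3, 34944⟩, .mul 81 79)) (.leaf (⟨0, 9, 48947, 1, 20733, 9, 44408⟩, .fill 5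 2 2 [34944, 52352, 34944, 65537, 59957] 3 51328 [⟨108, 369, 0⟩] [⟨81, 369, 4⟩]))) (.node (.leaf (⟨1, 7, 48361, 0, 59549, 7, 34944⟩, .mul 231 232)) (.leaf (⟨0, 0, 34944, 0, 34944, 1, 34944⟩, .dfn))))))) (.node (.node (.node (.node (.node (.leaf (⟨1, 1, 35981, 0, 44184, 1, 34944⟩, .mul 7 3)) (.leaf (⟨1, 6, 53480, 0, 53646, 6, 34944⟩, .mul 266 210))) (.node (.leaf (⟨1, 4, 51590, 0, 21745, 4, 34944⟩, .mul 130 122)) (.leaf (⟨0, 13, 56848, 0, 40157, 9, 32013⟩, .inv 394)))) (.node (.node (.leaf (⟨1, 0, 14181, 0, 14181, 0, 34944⟩, .base)) (.leaf (⟨0, 10, 34944, 0, 34944, 11, 34944⟩, .dfn))) (.node (.leaf (⟨1, 5, 51400, 0, 60565, 5, 34944⟩, .mul 198 159)) (.leaf (⟨0, 0, 34944, 0, 34944, 1, 34944⟩, .dfn))))) (.node (.node (.node (.leaf (⟨1, 2, 54186, 0, 23462, 2, 34944⟩, .mul 42 37)) (.leaf (⟨1, 9, 52392, 0, 43221, 9, 34944⟩, .sync ⟨201, 295, 78⟩)))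 (.node (.leaf (⟨0, 5, 42450, 0, 14635, 2, 20108⟩, .inv 170)) (.leaf (⟨0, 0, 34944, 0, 34944, 1, 34944⟩, .dfn)))) (.node (.node (.leaf (⟨0, 3, 63318, 1, 11975, 3, 61225⟩, .fill 6 1 4 [34944, 47642, 34944, 65536, 54904, 65536, 62212] 0 34944 [⟨17, 0, 0⟩, ⟨97, 77, 243⟩] [⟨21, 0, 552⟩, ⟨106, 77, 1264⟩])) (.leaf (⟨0, 12, 32554, 1, 23749, 12, 26397⟩, .fill 6 1 4 [34944, 47642, 34944, 65536, 54904, 65536, 62212] 1 34048 [⟨20, 77, 1068⟩, ⟨99, 347, 940⟩] [⟨109, 77, 641⟩, ⟨99, 347, 1021⟩]))) (.node (.leaf (⟨1, 7, 44268, 0, 51345, 7, 34944⟩, .mul 233 232)) (.leaf (⟨0, 0, 34944, 0, 34944, 1, 34944⟩, .dfn)))))) (.node (.node (.node (.node (.leaf (⟨1, 0, 43612, 0, 43612, 0, 34944⟩, .base)) (.leaf (⟨1, 6, 20705, 0, 51592, 6, 34944⟩, .mul 282 210))) (.node (.leaf (⟨1, 4, 22920, 0, 23792, 4, 34944⟩, .mul 125 120)) (.leaf (⟨0, 11, 46001, 1, 21657, 11, 51960⟩,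 .fill 4 1 2 [34944, 60544, 34944, 65537, 54904] 7 34944 [⟨276, 408, 1302⟩] [⟨279, 408, 1469⟩])))) (.node (.node (.leaf (⟨1, 1, 62604, 0, 22660, 1, 34944⟩, .mul 90 7)) (.leaf (⟨0, 3, 34659, 0, 34944, 12, 34944⟩, .dfn))) (.node (.leaf (⟨1, 6, 62624, 0, 53890, 6, 34944⟩, .mul 218 206)) (.leaf (⟨0, 0, 34944, 0, 34944, 1, 34944⟩, .dfn))))) (.node (.node (.node (.leaf (⟨1, 2, 51884, 0, 21446, 2, 34944⟩, .mul 58 35)) (.leaf (⟨1, 10, 59008, 0, 34692, 10, 34944⟩, .mul 313 313))) (.node (.leaf (⟨0, 5, 17980, 0, 59547, 5, 42254⟩, .fill 6 5 2 [27495, 65536, 13813, 65536, 34944, 47642, 34944, 65536, 54904] 1 34048 [⟨20, 157, 180⟩] [⟨7, 77, 719⟩, ⟨108, 110, 1482⟩, ⟨79, 169, 627⟩])) (.leaf (⟨0, 0, 34944, 0, 34944, 1, 34944⟩, .dfn)))) (.node (.node (.leaf (⟨1, 4, 51844, 0, 29865, 4, 34944⟩, .mul 120 122)) (.leaf (⟨0, 8, 14663, 1, 35997, 7, 48957⟩, .fill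 6 1 4 [34944, 47642, 34944, 65536, 54904, 65536, 62212] 3 34048 [⟨108, 347, 1068⟩, ⟨354, 376, 607⟩] [⟨108, 169, 1453⟩, ⟨160, 228, 60⟩]))) (.node (.leaf (⟨1, 6, 51437, 0, 39308, 6, 34944⟩, .mul 225 210)) (.leaf (⟨0, 0, 34944, 0, 34944, 1, 34944⟩, .dfn)))))))) (.node (.node (.node (.node (.node (.node (.leaf (⟨1, 1, 28877, 0, 21693, 1, 34944⟩, .sync ⟨6, 0, 172⟩)) (.leaf (⟨1, 6, 22725, 0, 23434, 6, 34944⟩, .mul 262 206))) (.node (.leaf (⟨1, 4, 34946, 0, 34960, 4, 34944⟩, .mul 134 122)) (.leaf (⟨1, 13, 20704, 0, 51353, 13, 34944⟩, .sync ⟨275, 389, 1272⟩)))) (.node (.node (.leaf (⟨1, 2, 20972, 0, 51683, 2, 34944⟩, .mul 65 35)) (.leaf (⟨1, 10, 27272, 0, 11136, 10, 34944⟩, .mul 324 308))) (.node (.leaf (⟨1, 2, 53706, 0, 23268, 2, 34944⟩, .mul 43 33)) (.leaf (⟨0, 0, 34944, 0, 34944, 1, 34944⟩, .dfn))))) (.node (.node (.node (.leaf (⟨1, 2, 52194,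 0, 20910, 2, 34944⟩, .mul 38 33)) (.leaf (⟨0, 4, 34659, 0, 34944, 9, 34944⟩, .dfn))) (.node (.leaf (⟨1, 5, 51368, 0, 44164, 5, 34944⟩, .mul 166 159)) (.leaf (⟨1, 0, 59854, 0, 59854, 0, 34944⟩, .base)))) (.node (.node (.leaf (⟨1, 3, 44285, 0, 36036, 3, 34944⟩, .mul 86 86)) (.leaf (⟨0, 12, 59954, 0, 28841, 9, 35245⟩, .inv 358))) (.node (.leaf (⟨1, 7, 35029, 0, 35976, 7, 34944⟩, .sync ⟨202, 228, 1238⟩)) (.leaf (⟨0, 0, 34944, 0, 34944, 1, 34944⟩, .dfn)))))) (.node (.node (.node (.node (.leaf (⟨1, 0, 27399, 0, 27399, 0, 34944⟩, .base)) (.leaf (⟨1, 7, 35013, 0, 44168, 7, 34944⟩, .mul 278 232))) (.node (.leaf (⟨1, 4, 52106, 0, 21716, 4, 34944⟩, .mul 150 122)) (.leaf (⟨0, 13, 11102, 1, 11113, 13, 24389⟩, .fill 6 1 4 [34944, 47642, 34944, 65536, 54904, 65536, 62212] 6 34048 [⟨267, 247, 1417⟩, ⟨232, 389, 1520⟩] [⟨258, 247, 1468⟩, ⟨231, 389, 603⟩]))))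 (.node (.node (.leaf (⟨1, 1, 28845, 0, 28864, 1, 34944⟩, .mul 9 7)) (.leaf (⟨1, 11, 53376, 0, 54412, 11, 34944⟩, .mul 341 334))) (.node (.leaf (⟨1, 6, 31880, 0, 22664, 6, 34944⟩, .mul 208 210)) (.leaf (⟨0, 0, 34944, 0, 34944, 1, 34944⟩, .dfn))))) (.node (.node (.node (.leaf (⟨1, 2, 51425, 0, 20876, 2, 34944⟩, .mul 44 37)) (.leaf (⟨0, 10, 34960, 1, 39310, 10, 53904⟩, .fill 2 0 2 [39044, 34960, 65537, 34960] 6 34944 [⟨223, 306, 0⟩] [⟨210, 306, 117⟩]))) (.node (.leaf (⟨0, 5, 13219, 1, 40128, 5, 61579⟩, .fill 4 3 2 [11223, 65537, 34944, 60544, 34944] 1 34048 [⟨20, 157, 180⟩] [⟨80, 157, 1268⟩])) (.leaf (⟨0, 0, 34944, 0, 34944, 1, 34944⟩, .dfn)))) (.node (.node (.leaf (⟨0, 4, 34944, 1, 34944, 1, 34944⟩, .inv 118)) (.leaf (⟨0, 8, 26122, 0, 59107, 12, 12701⟩, .fill 7 6 8 [20108, 65536, 13813] 3 53376 [⟨108, 369, 317⟩, ⟨304, 296, 464⟩, ⟨133, 284,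 847⟩] [⟨86, 347, 320⟩]))) (.node (.leaf (⟨0, 6, 13813, 0, 56840, 7, 39657⟩, .fill 7 8 2 [27414, 65537, 20108, 65536, 13813, 65536, 34944, 11996, 34944] 2 34944 [⟨52, 204, 0⟩] [⟨52, 54, 844⟩, ⟨37, 170, 246⟩, ⟨173, 228, 600⟩])) (.leaf (⟨0, 0, 34944, 0, 34944, 1, 34944⟩, .dfn))))))) (.node (.node (.node (.node (.node (.leaf (⟨1, 1, 43164, 0, 44165, 1, 34944⟩, .mul 3 7)) (.leaf (⟨1, 6, 54412, 0, 53388, 6, 34944⟩, .mul 227 206))) (.node (.leaf (⟨0, 4, 34960, 1, 44269, 4, 39828⟩, .fill 2 0 2 [39044, 34960, 65537, 34960] 1 34944 [⟨20, 118, 0⟩] [⟨9, 118, 871⟩])) (.leaf (⟨0, 13, 47250, 0, 60561, 13, 52387⟩, .fill 6 5 4 [27495, 65536, 13813, 65536, 34944, 47642, 34944] 3 51328 [⟨108, 369, 0⟩, ⟨386, 394, 143⟩] [⟨115, 347, 431⟩, ⟨362, 397, 1319⟩])))) (.node (.node (.leaf (⟨1, 3, 36052, 0, 44269, 3, 34944⟩, .sync ⟨9, 77, 741⟩)) (.leaf (⟨1, 11, 54412,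 0, 53376, 11, 34944⟩, .mul 334 334))) (.node (.leaf (⟨1, 2, 20644, 0, 52110, 2, 34944⟩, .mul 76 33)) (.leaf (⟨0, 0, 34944, 0, 34944, 1, 34944⟩, .dfn))))) (.node (.node (.node (.leaf (⟨1, 2, 52174, 0, 21156, 2, 34944⟩, .mul 46 35)) (.leaf (⟨0, 9, 52435, 0, 29865, 9, 21730⟩, .fill 0 0 2 [20621, 34946, 65536, 34946] 4 34048 [⟨144, 295, 1068⟩] [⟨123, 295, 502⟩]))) (.node (.leaf (⟨1, 5, 51329, 0, 43148, 5, 34944⟩, .mul 174 162)) (.leaf (⟨0, 0, 34944, 0, 34944, 1, 34944⟩, .dfn)))) (.node (.node (.leaf (⟨1, 1, 40136, 0, 60585, 1, 34944⟩, .mul 87 5)) (.leaf (⟨1, 9, 60600, 0, 43205, 9, 34944⟩, .mul 301 297))) (.node (.leaf (⟨1, 7, 36053, 0, 43144, 7, 34944⟩, .mul 232 232)) (.leaf (⟨0, 0, 34944, 0, 34944, 1, 34944⟩, .dfn)))))) (.node (.node (.node (.node (.leaf (⟨0, 2, 34944, 1, 34944, 0, 34944⟩, .inv 30)) (.leaf (⟨1, 8, 54412, 0, 22664, 8, 34944⟩,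 .sync ⟨134, 284, 4⟩))) (.node (.leaf (⟨1, 5, 52168, 0, 52396, 5, 34944⟩, .sync ⟨94, 157, 624⟩)) (.leaf (⟨0, 13, 20104, 0, 35000, 13, 56632⟩, .fill 6 7 6 [62212, 65537, 27495, 65536, 13813] 7 34946 [⟨254, 269, 0⟩, ⟨254, 389, 1014⟩] [⟨233, 380, 1417⟩, ⟨288, 401, 364⟩])))) (.node (.node (.leaf (⟨1, 1, 21676, 0, 28892, 1, 34944⟩, .mul 15 3)) (.leaf (⟨1, 12, 36052, 0, 39056, 12, 34944⟩, .sync ⟨113, 347, 741⟩))) (.node (.leaf (⟨1, 6, 34944, 0, 34944, 6, 34944⟩, .unit)) (.leaf (⟨0, 0, 34944, 0, 34944, 1, 34944⟩, .dfn))))) (.node (.node (.node (.leaf (⟨1, 2, 52129, 0, 21421, 2, 34944⟩, .mul 62 37)) (.leaf (⟨1, 10, 51330, 0, 51330, 10, 34944⟩, .mul 308 309))) (.node (.leaf (⟨1, 5, 51914, 0, 52413, 5, 34944⟩, .mul 190 165)) (.leaf (⟨0, 0, 34944, 0, 34944, 1, 34944⟩, .dfn)))) (.node (.node (.leaf (⟨1, 4, 39562, 0, 52401, 4, 34944⟩, .mul 126 122))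 (.leaf (⟨1, 8, 52377, 0, 60569, 8, 34944⟩, .mul 377 287))) (.node (.leaf (⟨1, 6, 28913, 0, 51598, 6, 34944⟩, .mul 224 210)) (.leaf (⟨0, 0, 34944, 0, 34944, 1, 34944⟩, .dfn)))))))))))

/-- definitions -/
def defsMix1 : List (ℕ × ℕ × ℕ) := [(0, 34944, 0), (0, 34944, 1), (1, 34659, 0), (1, 34944, 1), (1, 36710, 1), (2, 34944, 0), (5, 34944, 0), (4, 34944, 0), (4, 34659, 0), (6, 34944, 1), (10, 34944, 0), (3, 34659, 0), (7, 34659, 0)]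

/-- number of facts -/
def nMix1 : ℕ := 425

/-- values of the loops -/
def valsMix1 : List ℕ := [60544, 47642]

/-- witnesses of completeness -/
def coverMix1 : List (List (List (ℕ × ℕ))) := [[[(17, 0), (18, 0), (28, 0), (53, 0), (24, 0), (32, 0), (22, 0), (25, 0), (21, 0), (27, 0), (26, 0), (23, 0), (420, 0), (421, 0)],
  [(20, 1), (20, 19), (20, 77), (15, 77), (97, 77), (11, 77), (98, 77), (95, 77), (3, 77), (7, 77), (109, 77), (5, 77), (106, 77), (100, 77)],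
  [(52, 204), (42, 204), (37, 170), (48, 170), (37, 204), (41, 204), (38, 170), (43, 170), (33, 204), (45, 204), (52, 170), (49, 170), (65, 204), (35, 204)],
  [(108, 78), (108, 112), (108, 347), (99, 347), (101, 347), (79, 347), (86, 347), (115, 347), (81, 347), (116, 347), (108, 169), (108, 110), (79, 110), (79, 169)],
  [(144, 284), (122, 284), (144, 295), (123, 295), (131, 284), (130, 284), (134, 295), (126, 295), (133, 284), (129, 284), (122, 295), (120, 295), (120, 284), (123, 284)],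
  [(172, 228), (160, 228), (172, 171), (172, 187), (165, 228), (173, 228), (179, 168), (176, 168), (192, 228), (159, 228), (172, 168), (160, 168), (184, 228), (161, 228)],
  [(223, 205), (223, 222), (267, 247), (268, 247), (252, 247), (206, 247), (223, 247), (256, 247), (249, 247), (264, 247), (258, 247), (214, 247), (261, 247), (220, 247)],
  [(254, 229), (254, 269), (254, 389), (231, 389), (234, 389), (239, 389), (240, 248), (240, 270), (254, 270), (254, 248), (232, 389), (238, 389), (230, 389), (233, 389)],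
  [(293, 285), (293, 292), (293, 375), (288, 401), (288, 375), (293, 401), (286, 401), (289, 375), (289, 401), (286, 375), (377, 375), (388, 401), (287, 375), (291, 401)],
  [(304, 296), (304, 303), (366, 358), (367, 358), (361, 358), (304, 358), (301, 394), (360, 394), (386, 394), (304, 394), (299, 394), (305, 394), (385, 394), (297, 394)],
  [(314, 331), (319, 331), (320, 331), (325, 331), (310, 331), (316, 331), (330, 331), (344, 331), (308, 331), (309, 331), (329, 331), (327, 331), (318, 331), (322, 331)],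
  [(346, 332), (346, 345), (335, 405), (333, 405), (342, 405), (343, 405), (340, 405), (338, 405), (337, 405), (346, 405), (341, 405), (339, 405), (334, 405), (336, 405)],
  [(362, 348), (362, 378), (354, 397), (354, 376), (350, 376), (350, 397), (362, 397), (362, 376), (357, 376), (357, 397), (351, 359), (351, 368), (362, 368), (362, 359)],
  [(398, 390), (398, 399), (393, 406), (398, 414), (392, 414), (391, 406), (392, 406), (391, 414), (393, 414), (398, 406), (398, 395), (398, 415), (398, 396), (398, 400)]],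
[[(17, 30), (21, 30), (61, 30), (24, 30), (66, 30), (422, 30), (23, 30), (27, 30), (423, 30), (67, 30), (75, 30), (424, 30), (53, 30), (22, 30)],
  [(20, 118), (9, 118), (20, 157), (9, 157), (11, 118), (106, 118), (5, 157), (3, 157), (7, 118), (15, 118), (29, 157), (80, 157), (10, 118), (3, 118)],
  [(52, 31), (52, 51), (71, 54), (42, 54), (50, 54), (74, 54), (70, 54), (52, 54), (47, 54), (59, 54), (48, 54), (64, 54), (60, 54), (56, 54)],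
  [(108, 369), (114, 369), (81, 364), (102, 364), (86, 369), (79, 369), (108, 364), (96, 364), (83, 369), (99, 369), (79, 107), (108, 107), (81, 369), (103, 369)],
  [(144, 119), (144, 143), (130, 177), (137, 145), (144, 177), (154, 145), (132, 177), (144, 145), (122, 177), (151, 145), (155, 177), (120, 145), (123, 177), (148, 145)],
  [(172, 158), (172, 180), (160, 178), (172, 178), (184, 178), (193, 178), (188, 183), (191, 183), (172, 183), (165, 183), (167, 178), (186, 178), (192, 178), (182, 178)],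
  [(223, 306), (210, 306), (223, 250), (221, 250), (217, 306), (216, 306), (206, 250), (217, 250), (224, 306), (255, 306), (224, 250), (210, 250), (211, 306), (206, 306)],
  [(276, 408), (240, 408), (240, 253), (254, 253), (245, 408), (242, 408), (233, 380), (230, 380), (237, 408), (280, 408), (231, 380), (254, 380), (279, 408), (254, 408)],
  [(288, 413), (388, 413), (289, 379), (289, 381), (291, 413), (286, 413), (293, 379), (293, 381), (384, 413), (289, 413), (287, 379), (287, 381), (293, 413), (290, 413)],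
  [(304, 372), (297, 372), (297, 371), (304, 370), (299, 372), (373, 372), (304, 374), (304, 365), (382, 372), (302, 372), (297, 370), (304, 371), (301, 372), (367, 372)],
  [(314, 307), (314, 311), (317, 307), (317, 311), (326, 307), (326, 311), (321, 307), (321, 311), (324, 307), (324, 311), (313, 307), (313, 311), (315, 307), (315, 311)],
  [(337, 412), (333, 411), (346, 409), (346, 410), (346, 412), (342, 411), (333, 409), (333, 410), (339, 412), (346, 411), (334, 409), (334, 410), (335, 412), (341, 411)],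
  [(353, 416), (362, 416), (350, 402), (356, 402), (356, 416), (387, 416), (362, 402), (351, 402), (355, 416), (354, 416), (362, 363), (351, 363), (352, 416), (350, 416)],
  [(392, 417), (398, 419), (391, 407), (393, 407), (392, 418), (391, 418), (392, 407), (398, 407), (398, 418), (393, 418), (398, 404), (398, 403), (392, 419), (398, 417)]]]

/-- the involutions in the model -/
def invMix1 : List ℕ := [690847125949467287994953632630359275, 85090543516531542952537285397176013]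

/-- words for generators of the model group -/
def genMix1 : List (List ℕ) := [[59940, 65536, 52187, 65537, 65536, 65537, 52187, 13813, 52187, 65536, 13813],
  [52817, 65536, 52187, 65537, 65536, 13813, 52187, 52187, 52187],
  [61684, 65536, 13813, 65537, 52187, 65536, 52187, 52187, 65537]]

/-- the facts -/
def factsMixBad0 : Tree (Fct × Why) :=
  (.node (.node (.node (.node (.node (.leaf (⟨1, 0, 34944, 0, 34944, 0, 34944⟩, .base)) (.leaf (⟨1, 0, 49006, 0, 49005, 0, 34944⟩, .close 4 3 34944 [⟨0, 1, 0⟩, ⟨15, 13, 946⟩, ⟨11, 2, 883⟩]))) (.node (.leaf (⟨1, 2, 39848, 0, 39855, 2, 34944⟩, .sync ⟨7, 1, 1355⟩)) (.leaf (⟨1, 0, 34944, 0, 34944, 0, 34944⟩, .base)))) (.node (.node (.leaf (⟨1, 2, 35552, 0, 35266, 2, 34944⟩, .sync ⟨3, 1, 944⟩)) (.leaf (⟨1, 0, 34944, 0, 34944, 0, 34944⟩, .base))) (.node (.leaf (⟨1, 0, 59118, 0, 59118, 0, 34944⟩, .base))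 (.leaf (⟨1, 0, 34944, 0, 34944, 0, 34944⟩, .base))))) (.node (.node (.node (.leaf (⟨0, 2, 34944, 1, 34944, 0, 34944⟩, .inv 1)) (.leaf (⟨1, 0, 34944, 0, 34944, 0, 34944⟩, .base))) (.node (.leaf (⟨1, 2, 22980, 0, 53993, 2, 34944⟩, .mul 9 4)) (.leaf (⟨1, 0, 34944, 0, 34944, 0, 34944⟩, .base)))) (.node (.node (.leaf (⟨1, 2, 23269, 0, 53704, 2, 34944⟩, .sync ⟨5, 1, 775⟩)) (.leaf (⟨1, 0, 34944, 0, 34944, 0, 34944⟩, .base))) (.node (.leaf (⟨1, 2, 51425, 0, 20876, 2, 34944⟩, .mul 10 8)) (.leaf (⟨1, 0, 34944, 0, 34944, 0, 34944⟩, .base)))))) (.node (.node (.node (.node (.leaf (⟨0, 0, 34944, 1, 34944, 2, 34944⟩, .dfn)) (.leaf (⟨1, 0, 34944, 0, 34944, 0, 34944⟩, .base))) (.node (.leaf (⟨1, 2, 23460, 0, 54187, 2, 34944⟩, .mul 4 6)) (.leaf (⟨1, 0, 34944, 0, 34944, 0, 34944⟩, .base)))) (.node (.node (.leaf (⟨1, 0, 53704, 0, 53704, 0, 34944⟩, .base))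 (.leaf (⟨1, 0, 34944, 0, 34944, 0, 34944⟩, .base))) (.node (.leaf (⟨0, 2, 59957, 1, 59118, 2, 31041⟩, .fill 4 1 2 [34944, 60545, 34944, 65537, 54904] 0 34944 [⟨0, 1, 0⟩] [⟨12, 1, 426⟩])) (.leaf (⟨1, 0, 34944, 0, 34944, 0, 34944⟩, .base))))) (.node (.node (.node (.leaf (⟨1, 0, 35266, 0, 35266, 0, 34944⟩, .base)) (.leaf (⟨1, 0, 34944, 0, 34944, 0, 34944⟩, .base))) (.node (.leaf (⟨1, 2, 34944, 0, 34944, 2, 34944⟩, .unit)) (.leaf (⟨1, 0, 34944, 0, 34944, 0, 34944⟩, .base)))) (.node (.node (.leaf (⟨1, 0, 39855, 0, 39855, 0, 34944⟩, .base)) (.leaf (⟨1, 0, 34944, 0, 34944, 0, 34944⟩, .base))) (.node (.leaf (⟨1, 2, 39597, 0, 39880, 2, 34944⟩, .mul 14 6)) (.leaf (⟨1, 0, 34944, 0, 34944, 0, 34944⟩, .base)))))))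

/-- definitions -/
def defsMixBad0 : List (ℕ × ℕ × ℕ) := [(0, 34944, 0), (0, 34944, 1)]

/-- the facts -/
def factsMixBad1 : Tree (Fct × Why) :=
  (.node (.node (.node (.node (.node (.leaf (⟨1, 0, 34944, 0, 34944, 0, 34944⟩, .base)) (.leaf (⟨1, 0, 48992, 0, 49005, 0, 34944⟩, .close 4 3 34944 [⟨0, 1, 0⟩, ⟨15, 13, 946⟩, ⟨11, 2, 383⟩]))) (.node (.leaf (⟨1, 2, 39848, 0, 39855, 2, 34944⟩, .sync ⟨7, 1, 1355⟩)) (.leaf (⟨1, 0, 34944, 0, 34944, 0, 34944⟩, .base)))) (.node (.node (.leaf (⟨1, 2, 35552, 0, 35266, 2, 34944⟩, .sync ⟨3, 1, 944⟩)) (.leaf (⟨1, 0, 34944, 0, 34944, 0, 34944⟩, .base))) (.node (.leaf (⟨1, 0, 59118, 0, 59118, 0, 34944⟩, .base)) (.leaf (⟨1, 0, 34944, 0, 34944, 0, 34944⟩, .base))))) (.node (.node (.node (.leaf (⟨0, 2, 34944, 1, 34944, 0, 34944⟩, .inv 1)) (.leaf (⟨1, 0, 34944, 0, 34944, 0, 34944⟩, .base))) (.node (.leaf (⟨1,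 2, 22980, 0, 53993, 2, 34944⟩, .mul 9 4)) (.leaf (⟨1, 0, 34944, 0, 34944, 0, 34944⟩, .base)))) (.node (.node (.leaf (⟨1, 2, 23269, 0, 53704, 2, 34944⟩, .sync ⟨5, 1, 775⟩)) (.leaf (⟨1, 0, 34944, 0, 34944, 0, 34944⟩, .base))) (.node (.leaf (⟨1, 2, 51425, 0, 20876, 2, 34944⟩, .mul 10 8)) (.leaf (⟨1, 0, 34944, 0, 34944, 0, 34944⟩, .base)))))) (.node (.node (.node (.node (.leaf (⟨0, 0, 34944, 1, 34944, 2, 34944⟩, .dfn)) (.leaf (⟨1, 0, 34944, 0, 34944, 0, 34944⟩, .base))) (.node (.leaf (⟨1, 2, 23460, 0, 54187, 2, 34944⟩, .mul 4 6)) (.leaf (⟨1, 0, 34944, 0, 34944, 0, 34944⟩, .base)))) (.node (.node (.leaf (⟨1, 0, 53704, 0, 53704, 0, 34944⟩, .base)) (.leaf (⟨1, 0, 34944, 0, 34944, 0, 34944⟩, .base))) (.node (.leaf (⟨0, 2, 59957, 1, 59118, 2, 31051⟩, .fill 4 1 2 [34944, 60546, 34944, 65537, 54904] 0 34944 [⟨0, 1, 0⟩] [⟨12, 1, 793⟩])) (.leaf (⟨1,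 0, 34944, 0, 34944, 0, 34944⟩, .base))))) (.node (.node (.node (.leaf (⟨1, 0, 35266, 0, 35266, 0, 34944⟩, .base)) (.leaf (⟨1, 0, 34944, 0, 34944, 0, 34944⟩, .base))) (.node (.leaf (⟨1, 2, 34944, 0, 34944, 2, 34944⟩, .unit)) (.leaf (⟨1, 0, 34944, 0, 34944, 0, 34944⟩, .base)))) (.node (.node (.leaf (⟨1, 0, 39855, 0, 39855, 0, 34944⟩, .base)) (.leaf (⟨1, 0, 34944, 0, 34944, 0, 34944⟩, .base))) (.node (.leaf (⟨1, 2, 39597, 0, 39880, 2, 34944⟩, .mul 14 6)) (.leaf (⟨1, 0, 34944, 0, 34944, 0, 34944⟩, .base)))))))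

/-- definitions -/
def defsMixBad1 : List (ℕ × ℕ × ℕ) := [(0, 34944, 0), (0, 34944, 1)]

/-- the facts -/
def factsMixBad2 : Tree (Fct × Why) :=
  (.node (.node (.node (.node (.node (.leaf (⟨1, 0, 34944, 0, 34944, 0, 34944⟩, .base)) (.leaf (⟨1, 0, 48995, 0, 49005, 0, 34944⟩, .close 4 3 34944 [⟨0, 1, 0⟩, ⟨15, 13, 946⟩, ⟨11, 2, 420⟩]))) (.node (.leaf (⟨1, 2, 39848, 0, 39855, 2, 34944⟩, .sync ⟨7, 1, 1355⟩)) (.leaf (⟨1, 0, 34944, 0, 34944, 0, 34944⟩, .base)))) (.node (.node (.leaf (⟨1, 2, 35552, 0, 35266, 2, 34944⟩, .sync ⟨3, 1, 944⟩)) (.leaf (⟨1, 0, 34944, 0, 34944, 0, 34944⟩, .base))) (.node (.leaf (⟨1, 0, 59118, 0, 59118, 0, 34944⟩, .base)) (.leaf (⟨1, 0, 34944, 0, 34944, 0, 34944⟩, .base))))) (.node (.node (.node (.leaf (⟨0, 2, 34944, 1, 34944, 0, 34944⟩, .inv 1)) (.leaf (⟨1, 0, 34944, 0, 34944, 0, 34944⟩, .base))) (.node (.leaf (⟨1,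 2, 22980, 0, 53993, 2, 34944⟩, .mul 9 4)) (.leaf (⟨1, 0, 34944, 0, 34944, 0, 34944⟩, .base)))) (.node (.node (.leaf (⟨1, 2, 23269, 0, 53704, 2, 34944⟩, .sync ⟨5, 1, 775⟩)) (.leaf (⟨1, 0, 34944, 0, 34944, 0, 34944⟩, .base))) (.node (.leaf (⟨1, 2, 51425, 0, 20876, 2, 34944⟩, .mul 10 8)) (.leaf (⟨1, 0, 34944, 0, 34944, 0, 34944⟩, .base)))))) (.node (.node (.node (.node (.leaf (⟨0, 0, 34944, 1, 34944, 2, 34944⟩, .dfn)) (.leaf (⟨1, 0, 34944, 0, 34944, 0, 34944⟩, .base))) (.node (.leaf (⟨1, 2, 23460, 0, 54187, 2, 34944⟩, .mul 4 6)) (.leaf (⟨1, 0, 34944, 0, 34944, 0, 34944⟩, .base)))) (.node (.node (.leaf (⟨1, 0, 53704, 0, 53704, 0, 34944⟩, .base)) (.leaf (⟨1, 0, 34944, 0, 34944, 0, 34944⟩, .base))) (.node (.leaf (⟨0, 2, 59957, 1, 59118, 2, 31049⟩, .fill 4 1 2 [34944, 60547, 34944, 65537, 54904] 0 34944 [⟨0, 1, 0⟩] [⟨12, 1, 1315⟩])) (.leaf (⟨1,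 0, 34944, 0, 34944, 0, 34944⟩, .base))))) (.node (.node (.node (.leaf (⟨1, 0, 35266, 0, 35266, 0, 34944⟩, .base)) (.leaf (⟨1, 0, 34944, 0, 34944, 0, 34944⟩, .base))) (.node (.leaf (⟨1, 2, 34944, 0, 34944, 2, 34944⟩, .unit)) (.leaf (⟨1, 0, 34944, 0, 34944, 0, 34944⟩, .base)))) (.node (.node (.leaf (⟨1, 0, 39855, 0, 39855, 0, 34944⟩, .base)) (.leaf (⟨1, 0, 34944, 0, 34944, 0, 34944⟩, .base))) (.node (.leaf (⟨1, 2, 39597, 0, 39880, 2, 34944⟩, .mul 14 6)) (.leaf (⟨1, 0, 34944, 0, 34944, 0, 34944⟩, .base)))))))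

/-- definitions -/
def defsMixBad2 : List (ℕ × ℕ × ℕ) := [(0, 34944, 0), (0, 34944, 1)]

/-- the facts -/
def factsMixBad3 : Tree (Fct × Why) :=
  (.node (.node (.node (.node (.node (.leaf (⟨1, 0, 34944, 0, 34944, 0, 34944⟩, .base)) (.leaf (⟨1, 0, 49006, 0, 49005, 0, 34944⟩, .close 4 3 34944 [⟨0, 1, 0⟩, ⟨15, 13, 946⟩, ⟨11, 2, 883⟩]))) (.node (.leaf (⟨1, 2, 39848, 0, 39855, 2, 34944⟩, .sync ⟨7, 1, 1355⟩)) (.leaf (⟨1, 0, 34944, 0, 34944, 0, 34944⟩, .base)))) (.node (.node (.leaf (⟨1, 2, 35552, 0, 35266, 2, 34944⟩, .sync ⟨3, 1, 944⟩)) (.leaf (⟨1, 0, 34944, 0, 34944, 0, 34944⟩, .base))) (.node (.leaf (⟨1, 0, 59118, 0, 59118, 0, 34944⟩, .base)) (.leaf (⟨1, 0, 34944, 0, 34944, 0, 34944⟩, .base))))) (.node (.node (.node (.leaf (⟨0, 2, 34944, 1, 34944, 0, 34944⟩, .inv 1)) (.leaf (⟨1, 0, 34944, 0, 34944, 0, 34944⟩, .base))) (.node (.leaf (⟨1,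 2, 22980, 0, 53993, 2, 34944⟩, .mul 9 4)) (.leaf (⟨1, 0, 34944, 0, 34944, 0, 34944⟩, .base)))) (.node (.node (.leaf (⟨1, 2, 23269, 0, 53704, 2, 34944⟩, .sync ⟨5, 1, 775⟩)) (.leaf (⟨1, 0, 34944, 0, 34944, 0, 34944⟩, .base))) (.node (.leaf (⟨1, 2, 51425, 0, 20876, 2, 34944⟩, .mul 10 8)) (.leaf (⟨1, 0, 34944, 0, 34944, 0, 34944⟩, .base)))))) (.node (.node (.node (.node (.leaf (⟨0, 0, 34944, 1, 34944, 2, 34944⟩, .dfn)) (.leaf (⟨1, 0, 34944, 0, 34944, 0, 34944⟩, .base))) (.node (.leaf (⟨1, 2, 23460, 0, 54187, 2, 34944⟩, .mul 4 6)) (.leaf (⟨1, 0, 34944, 0, 34944, 0, 34944⟩, .base)))) (.node (.node (.leaf (⟨1, 0, 53704, 0, 53704, 0, 34944⟩, .base)) (.leaf (⟨1, 0, 34944, 0, 34944, 0, 34944⟩, .base))) (.node (.leaf (⟨0, 2, 59957, 1, 59118, 2, 31050⟩, .fill 4 1 2 [34944, 60556, 34944, 65537, 54904] 0 34944 [⟨0, 1, 0⟩] [⟨12, 1, 517⟩])) (.leaf (⟨1,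 0, 34944, 0, 34944, 0, 34944⟩, .base))))) (.node (.node (.node (.leaf (⟨1, 0, 35266, 0, 35266, 0, 34944⟩, .base)) (.leaf (⟨1, 0, 34944, 0, 34944, 0, 34944⟩, .base))) (.node (.leaf (⟨1, 2, 34944, 0, 34944, 2, 34944⟩, .unit)) (.leaf (⟨1, 0, 34944, 0, 34944, 0, 34944⟩, .base)))) (.node (.node (.leaf (⟨1, 0, 39855, 0, 39855, 0, 34944⟩, .base)) (.leaf (⟨1, 0, 34944, 0, 34944, 0, 34944⟩, .base))) (.node (.leaf (⟨1, 2, 39597, 0, 39880, 2, 34944⟩, .mul 14 6)) (.leaf (⟨1, 0, 34944, 0, 34944, 0, 34944⟩, .base)))))))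

/-- definitions -/
def defsMixBad3 : List (ℕ × ℕ × ℕ) := [(0, 34944, 0), (0, 34944, 1)]

/-- the facts -/
def factsMixBad4 : Tree (Fct × Why) :=
  (.node (.node (.node (.node (.node (.leaf (⟨1, 0, 34944, 0, 34944, 0, 34944⟩, .base)) (.leaf (⟨1, 0, 59118, 0, 59118, 0, 34944⟩, .base))) (.node (.leaf (⟨1, 2, 51586, 0, 20716, 2, 34944⟩, .mul 5 7)) (.leaf (⟨1, 2, 23237, 0, 53962, 2, 34944⟩, .mul 23 3)))) (.node (.node (.leaf (⟨1, 0, 53704, 0, 53704, 0, 34944⟩, .base)) (.leaf (⟨1, 2, 53482, 0, 22919, 2, 34944⟩, .mul 19 7))) (.node (.leaf (⟨1, 2, 39405, 0, 39401, 2, 34944⟩, .mul 8 5)) (.leaf (⟨1, 0, 34944, 0, 34944, 0, 34944⟩, .base))))) (.node (.node (.node (.leaf (⟨1, 0, 35266, 0, 35266, 0, 34944⟩, .base)) (.leaf (⟨1, 2, 39368, 0, 39661, 2, 34944⟩, .mul 7 3))) (.node (.leaf (⟨1, 2, 21191, 0, 51919, 2, 34944⟩, .mul 9 7)) (.leaf (⟨1, 0, 34944,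 0, 34944, 0, 34944⟩, .base)))) (.node (.node (.leaf (⟨1, 0, 39855, 0, 39855, 0, 34944⟩, .base)) (.leaf (⟨1, 2, 35811, 0, 35232, 2, 34944⟩, .mul 21 5))) (.node (.leaf (⟨0, 2, 34960, 1, 52187, 2, 53720⟩, .fill 2 0 2 [39044, 34960, 65537, 34960] 0 34944 [⟨0, 1, 0⟩] [⟨13, 1, 332⟩])) (.leaf (⟨1, 0, 34944, 0, 34944, 0, 34944⟩, .base)))))) (.node (.node (.node (.node (.leaf (⟨0, 0, 34944, 1, 34944, 2, 34944⟩, .dfn)) (.leaf (⟨0, 2, 59957, 1, 59118, 2, 31048⟩, .fill 4 1 2 [34944, 60557, 34944, 65537, 54904] 0 34944 [⟨0, 1, 0⟩] [⟨16, 1, 739⟩]))) (.node (.leaf (⟨1, 2, 54185, 0, 23461, 2, 34944⟩, .mul 5 5)) (.leaf (⟨1, 2, 23237, 0, 53958, 2, 34944⟩, .close 4 1 34960 [⟨15, 14, 0⟩, ⟨12, 17, 491⟩, ⟨11, 17, 1049⟩])))) (.node (.node (.leaf (⟨1, 2, 23269, 0, 53704, 2, 34944⟩, .sync ⟨4, 1, 775⟩)) (.leaf (⟨1, 2, 53898, 0, 22725, 2, 34944⟩, .mul 20 3))) (.node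 (.leaf (⟨1, 0, 52187, 0, 52187, 0, 34944⟩, .base)) (.leaf (⟨1, 0, 34944, 0, 34944, 0, 34944⟩, .base))))) (.node (.node (.node (.leaf (⟨1, 2, 35552, 0, 35266, 2, 34944⟩, .sync ⟨2, 1, 944⟩)) (.leaf (⟨1, 2, 20943, 0, 51938, 2, 34944⟩, .mul 18 5))) (.node (.leaf (⟨1, 2, 52174, 0, 21156, 2, 34944⟩, .mul 10 5)) (.leaf (⟨1, 0, 34944, 0, 34944, 0, 34944⟩, .base)))) (.node (.node (.leaf (⟨1, 2, 39848, 0, 39855, 2, 34944⟩, .sync ⟨6, 1, 1355⟩)) (.leaf (⟨1, 2, 22693, 0, 54152, 2, 34944⟩, .mul 22 5))) (.node (.leaf (⟨1, 2, 34944, 0, 34944, 2, 34944⟩, .unit)) (.leaf (⟨1, 0, 34944, 0, 34944, 0, 34944⟩, .base)))))))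

/-- definitions -/
def defsMixBad4 : List (ℕ × ℕ × ℕ) := [(0, 34944, 0), (0, 34944, 1)]

/-- the facts -/
def factsMixBad5 : Tree (Fct × Why) :=
  (.node (.node (.node (.node (.node (.leaf (⟨1, 0, 34944, 0, 34944, 0, 34944⟩, .base)) (.leaf (⟨1, 0, 48995, 0, 49005, 0, 34944⟩, .close 4 3 34944 [⟨0, 1, 0⟩, ⟨15, 13, 946⟩, ⟨11, 2, 420⟩]))) (.node (.leaf (⟨1, 2, 39848, 0, 39855, 2, 34944⟩, .sync ⟨7, 1, 1355⟩)) (.leaf (⟨1, 0, 34944, 0, 34944, 0, 34944⟩, .base)))) (.node (.node (.leaf (⟨1, 2, 35552, 0, 35266, 2, 34944⟩, .sync ⟨3, 1, 944⟩)) (.leaf (⟨1, 0, 34944, 0, 34944, 0, 34944⟩, .base))) (.node (.leaf (⟨1, 0, 59118, 0, 59118, 0, 34944⟩, .base)) (.leaf (⟨1, 0, 34944, 0, 34944, 0, 34944⟩, .base))))) (.node (.node (.node (.leaf (⟨0, 2, 34944, 1, 34944, 0, 34944⟩, .inv 1)) (.leaf (⟨1, 0, 34944, 0, 34944, 0, 34944⟩, .base))) (.node (.leaf (⟨1,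 2, 22980, 0, 53993, 2, 34944⟩, .mul 9 4)) (.leaf (⟨1, 0, 34944, 0, 34944, 0, 34944⟩, .base)))) (.node (.node (.leaf (⟨1, 2, 23269, 0, 53704, 2, 34944⟩, .sync ⟨5, 1, 775⟩)) (.leaf (⟨1, 0, 34944, 0, 34944, 0, 34944⟩, .base))) (.node (.leaf (⟨1, 2, 51425, 0, 20876, 2, 34944⟩, .mul 10 8)) (.leaf (⟨1, 0, 34944, 0, 34944, 0, 34944⟩, .base)))))) (.node (.node (.node (.node (.leaf (⟨0, 0, 34944, 1, 34944, 2, 34944⟩, .dfn)) (.leaf (⟨1, 0, 34944, 0, 34944, 0, 34944⟩, .base))) (.node (.leaf (⟨1, 2, 23460, 0, 54187, 2, 34944⟩, .mul 4 6)) (.leaf (⟨1, 0, 34944, 0, 34944, 0, 34944⟩, .base)))) (.node (.node (.leaf (⟨1, 0, 53704, 0, 53704, 0, 34944⟩, .base)) (.leaf (⟨1, 0, 34944, 0, 34944, 0, 34944⟩, .base))) (.node (.leaf (⟨0, 2, 59957, 1, 59118, 2, 31042⟩, .fill 4 1 2 [34944, 60558, 34944, 65537, 54904] 0 34944 [⟨0, 1, 0⟩] [⟨12, 1, 913⟩])) (.leaf (⟨1,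 0, 34944, 0, 34944, 0, 34944⟩, .base))))) (.node (.node (.node (.leaf (⟨1, 0, 35266, 0, 35266, 0, 34944⟩, .base)) (.leaf (⟨1, 0, 34944, 0, 34944, 0, 34944⟩, .base))) (.node (.leaf (⟨1, 2, 34944, 0, 34944, 2, 34944⟩, .unit)) (.leaf (⟨1, 0, 34944, 0, 34944, 0, 34944⟩, .base)))) (.node (.node (.leaf (⟨1, 0, 39855, 0, 39855, 0, 34944⟩, .base)) (.leaf (⟨1, 0, 34944, 0, 34944, 0, 34944⟩, .base))) (.node (.leaf (⟨1, 2, 39597, 0, 39880, 2, 34944⟩, .mul 14 6)) (.leaf (⟨1, 0, 34944, 0, 34944, 0, 34944⟩, .base)))))))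

/-- definitions -/
def defsMixBad5 : List (ℕ × ℕ × ℕ) := [(0, 34944, 0), (0, 34944, 1)]

/-- the facts -/
def factsMixBad6 : Tree (Fct × Why) :=
  (.node (.node (.node (.node (.node (.leaf (⟨1, 0, 34944, 0, 34944, 0, 34944⟩, .base)) (.leaf (⟨1, 0, 48992, 0, 49005, 0, 34944⟩, .close 4 3 34944 [⟨0, 1, 0⟩, ⟨15, 13, 946⟩, ⟨11, 2, 383⟩]))) (.node (.leaf (⟨1, 2, 39848, 0, 39855, 2, 34944⟩, .sync ⟨7, 1, 1355⟩)) (.leaf (⟨1, 0, 34944, 0, 34944, 0, 34944⟩, .base)))) (.node (.node (.leaf (⟨1, 2, 35552, 0, 35266, 2, 34944⟩, .sync ⟨3, 1, 944⟩)) (.leaf (⟨1, 0, 34944, 0, 34944, 0, 34944⟩, .base))) (.node (.leaf (⟨1, 0, 59118, 0, 59118, 0, 34944⟩, .base)) (.leaf (⟨1, 0, 34944, 0, 34944, 0, 34944⟩, .base))))) (.node (.node (.node (.leaf (⟨0, 2, 34944, 1, 34944, 0, 34944⟩, .inv 1)) (.leaf (⟨1, 0, 34944, 0, 34944, 0, 34944⟩, .base))) (.node (.leaf (⟨1,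 2, 22980, 0, 53993, 2, 34944⟩, .mul 9 4)) (.leaf (⟨1, 0, 34944, 0, 34944, 0, 34944⟩, .base)))) (.node (.node (.leaf (⟨1, 2, 23269, 0, 53704, 2, 34944⟩, .sync ⟨5, 1, 775⟩)) (.leaf (⟨1, 0, 34944, 0, 34944, 0, 34944⟩, .base))) (.node (.leaf (⟨1, 2, 51425, 0, 20876, 2, 34944⟩, .mul 10 8)) (.leaf (⟨1, 0, 34944, 0, 34944, 0, 34944⟩, .base)))))) (.node (.node (.node (.node (.leaf (⟨0, 0, 34944, 1, 34944, 2, 34944⟩, .dfn)) (.leaf (⟨1, 0, 34944, 0, 34944, 0, 34944⟩, .base))) (.node (.leaf (⟨1, 2, 23460, 0, 54187, 2, 34944⟩, .mul 4 6)) (.leaf (⟨1, 0, 34944, 0, 34944, 0, 34944⟩, .base)))) (.node (.node (.leaf (⟨1, 0, 53704, 0, 53704, 0, 34944⟩, .base)) (.leaf (⟨1, 0, 34944, 0, 34944, 0, 34944⟩, .base))) (.node (.leaf (⟨0, 2, 59957, 1, 59118, 2, 31040⟩, .fill 4 1 2 [34944, 60559, 34944, 65537, 54904] 0 34944 [⟨0, 1, 0⟩] [⟨12, 1, 393⟩])) (.leaf (⟨1,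 0, 34944, 0, 34944, 0, 34944⟩, .base))))) (.node (.node (.node (.leaf (⟨1, 0, 35266, 0, 35266, 0, 34944⟩, .base)) (.leaf (⟨1, 0, 34944, 0, 34944, 0, 34944⟩, .base))) (.node (.leaf (⟨1, 2, 34944, 0, 34944, 2, 34944⟩, .unit)) (.leaf (⟨1, 0, 34944, 0, 34944, 0, 34944⟩, .base)))) (.node (.node (.leaf (⟨1, 0, 39855, 0, 39855, 0, 34944⟩, .base)) (.leaf (⟨1, 0, 34944, 0, 34944, 0, 34944⟩, .base))) (.node (.leaf (⟨1, 2, 39597, 0, 39880, 2, 34944⟩, .mul 14 6)) (.leaf (⟨1, 0, 34944, 0, 34944, 0, 34944⟩, .base)))))))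

/-- definitions -/
def defsMixBad6 : List (ℕ × ℕ × ℕ) := [(0, 34944, 0), (0, 34944, 1)]

/-- the facts -/
def factsMixBad7 : Tree (Fct × Why) :=
  (.node (.node (.node (.node (.node (.leaf (⟨0, 0, 34944, 0, 34944, 1, 34944⟩, .dfn)) (.leaf (⟨1, 1, 44273, 0, 44273, 1, 34944⟩, .mul 7 7))) (.node (.leaf (⟨1, 1, 51420, 0, 40108, 1, 34944⟩, .mul 5 7)) (.leaf (⟨0, 0, 34944, 0, 34944, 1, 34944⟩, .dfn)))) (.node (.node (.leaf (⟨1, 0, 30869, 0, 30869, 0, 34944⟩, .base)) (.leaf (⟨1, 0, 44547, 0, 47687, 0, 34944⟩, .close 7 2 34944 [⟨10, 0, 0⟩, ⟨16, 13, 243⟩, ⟨15, 18, 440⟩, ⟨19, 14, 381⟩, ⟨11, 1, 373⟩]))) (.node (.leaf (⟨1, 0, 52187, 0, 52187, 0, 34944⟩, .base)) (.leaf (⟨0, 0, 34944, 0, 34944, 1, 34944⟩, .dfn))))) (.node (.node (.node (.leaf (⟨1, 0, 21721, 0, 21721, 0, 34944⟩, .base)) (.leaf (⟨0, 3, 63318, 1, 11975, 3, 42789⟩, .fill 6 1 4 [34944,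 43530, 34944, 65536, 54904, 65536, 62212] 0 34944 [⟨10, 0, 0⟩, ⟨16, 13, 243⟩] [⟨12, 0, 289⟩, ⟨17, 13, 709⟩]))) (.node (.leaf (⟨1, 0, 34944, 0, 34944, 0, 34944⟩, .base)) (.leaf (⟨0, 0, 34944, 0, 34944, 1, 34944⟩, .dfn)))) (.node (.node (.leaf (⟨1, 0, 21693, 0, 21693, 0, 34944⟩, .base)) (.leaf (⟨0, 0, 34944, 0, 34944, 1, 34944⟩, .dfn))) (.node (.leaf (⟨0, 3, 34944, 0, 34944, 1, 34659⟩, .inv 13)) (.leaf (⟨0, 0, 34944, 0, 34944, 1, 34944⟩, .dfn)))))) (.node (.node (.node (.node (.leaf (⟨0, 1, 34944, 0, 34944, 0, 34944⟩, .inv 0)) (.leaf (⟨1, 1, 54428, 0, 22657, 1, 34944⟩, .mul 8 3))) (.node (.leaf (⟨1, 1, 35056, 0, 44269, 1, 34944⟩, .mul 3 3)) (.leaf (⟨0, 0, 34944, 0, 34944, 1, 34944⟩, .dfn)))) (.node (.node (.leaf (⟨1, 1, 62617, 0, 30869, 1, 34944⟩, .sync ⟨4, 0, 761⟩)) (.leaf (⟨0, 0, 34944, 0, 34944, 1, 34944⟩, .dfn))) (.node (.leaf (⟨0, 1,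 34659, 0, 34944, 3, 34944⟩, .dfn)) (.leaf (⟨0, 0, 34944, 0, 34944, 1, 34944⟩, .dfn))))) (.node (.node (.node (.leaf (⟨1, 1, 29872, 0, 21721, 1, 34944⟩, .sync ⟨2, 0, 1154⟩)) (.leaf (⟨1, 3, 34944, 0, 34944, 3, 34944⟩, .unit))) (.node (.leaf (⟨1, 1, 34944, 0, 34944, 1, 34944⟩, .unit)) (.leaf (⟨0, 0, 34944, 0, 34944, 1, 34944⟩, .dfn)))) (.node (.node (.leaf (⟨1, 1, 28877, 0, 21693, 1, 34944⟩, .sync ⟨6, 0, 172⟩)) (.leaf (⟨0, 0, 34944, 0, 34944, 1, 34944⟩, .dfn))) (.node (.leaf (⟨1, 3, 36052, 0, 44269, 3, 34944⟩, .sync ⟨9, 13, 741⟩)) (.leaf (⟨0, 0, 34944, 0, 34944, 1, 34944⟩, .dfn)))))))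

/-- definitions -/
def defsMixBad7 : List (ℕ × ℕ × ℕ) := [(0, 34944, 0), (0, 34944, 1), (1, 34659, 0)]

/-- the facts -/
def factsMixBad8 : Tree (Fct × Why) :=
  (.node (.node (.node (.node (.node (.leaf (⟨0, 0, 34944, 0, 34944, 1, 34944⟩, .dfn)) (.leaf (⟨1, 1, 44273, 0, 44273, 1, 34944⟩, .mul 7 7))) (.node (.leaf (⟨1, 1, 51420, 0, 40108, 1, 34944⟩, .mul 5 7)) (.leaf (⟨0, 0, 34944, 0, 34944, 1, 34944⟩, .dfn)))) (.node (.node (.leaf (⟨1, 0, 30869, 0, 30869, 0, 34944⟩, .base)) (.leaf (⟨1, 0, 44547, 0, 47687, 0, 34944⟩, .close 7 2 34944 [⟨10, 0, 0⟩, ⟨16, 13, 243⟩, ⟨15, 18, 440⟩, ⟨19, 14, 1013⟩, ⟨11, 1, 606⟩]))) (.node (.leaf (⟨1, 0, 52187, 0, 52187, 0, 34944⟩, .base)) (.leaf (⟨0, 0, 34944, 0, 34944, 1, 34944⟩, .dfn))))) (.node (.node (.node (.leaf (⟨1, 0, 21721, 0, 21721, 0, 34944⟩, .base)) (.leaf (⟨0, 3, 63318, 1, 11975, 3, 32520⟩, .fill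 6 1 4 [34944, 43531, 34944, 65536, 54904, 65536, 62212] 0 34944 [⟨10, 0, 0⟩, ⟨16, 13, 243⟩] [⟨12, 0, 980⟩, ⟨17, 13, 566⟩]))) (.node (.leaf (⟨1, 0, 34944, 0, 34944, 0, 34944⟩, .base)) (.leaf (⟨0, 0, 34944, 0, 34944, 1, 34944⟩, .dfn)))) (.node (.node (.leaf (⟨1, 0, 21693, 0, 21693, 0, 34944⟩, .base)) (.leaf (⟨0, 0, 34944, 0, 34944, 1, 34944⟩, .dfn))) (.node (.leaf (⟨0, 3, 34944, 0, 34944, 1, 34659⟩, .inv 13)) (.leaf (⟨0, 0, 34944, 0, 34944, 1, 34944⟩, .dfn)))))) (.node (.node (.node (.node (.leaf (⟨0, 1, 34944, 0, 34944, 0, 34944⟩, .inv 0)) (.leaf (⟨1, 1, 54428, 0, 22657, 1, 34944⟩, .mul 8 3))) (.node (.leaf (⟨1, 1, 35056, 0, 44269, 1, 34944⟩, .mul 3 3)) (.leaf (⟨0, 0, 34944, 0, 34944, 1, 34944⟩, .dfn)))) (.node (.node (.leaf (⟨1, 1, 62617, 0, 30869, 1, 34944⟩, .sync ⟨4, 0, 761⟩)) (.leaf (⟨0, 0, 34944, 0, 34944, 1, 34944⟩, .dfn))) (.node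 (.leaf (⟨0, 1, 34659, 0, 34944, 3, 34944⟩, .dfn)) (.leaf (⟨0, 0, 34944, 0, 34944, 1, 34944⟩, .dfn))))) (.node (.node (.node (.leaf (⟨1, 1, 29872, 0, 21721, 1, 34944⟩, .sync ⟨2, 0, 1154⟩)) (.leaf (⟨1, 3, 34944, 0, 34944, 3, 34944⟩, .unit))) (.node (.leaf (⟨1, 1, 34944, 0, 34944, 1, 34944⟩, .unit)) (.leaf (⟨0, 0, 34944, 0, 34944, 1, 34944⟩, .dfn)))) (.node (.node (.leaf (⟨1, 1, 28877, 0, 21693, 1, 34944⟩, .sync ⟨6, 0, 172⟩)) (.leaf (⟨0, 0, 34944, 0, 34944, 1, 34944⟩, .dfn))) (.node (.leaf (⟨1, 3, 36052, 0, 44269, 3, 34944⟩, .sync ⟨9, 13, 741⟩)) (.leaf (⟨0, 0, 34944, 0, 34944, 1, 34944⟩, .dfn)))))))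

/-- definitions -/
def defsMixBad8 : List (ℕ × ℕ × ℕ) := [(0, 34944, 0), (0, 34944, 1), (1, 34659, 0)]

/-- the facts -/
def factsMixBad9 : Tree (Fct × Why) :=
  (.node (.node (.node (.node (.node (.leaf (⟨0, 0, 34944, 0, 34944, 1, 34944⟩, .dfn)) (.leaf (⟨1, 1, 44273, 0, 44273, 1, 34944⟩, .mul 7 7))) (.node (.leaf (⟨1, 1, 51420, 0, 40108, 1, 34944⟩, .mul 5 7)) (.leaf (⟨0, 0, 34944, 0, 34944, 1, 34944⟩, .dfn)))) (.node (.node (.leaf (⟨1, 0, 30869, 0, 30869, 0, 34944⟩, .base)) (.leaf (⟨1, 0, 44546, 0, 47687, 0, 34944⟩, .close 7 2 34944 [⟨10, 0, 0⟩, ⟨16, 13, 243⟩, ⟨15, 18, 440⟩, ⟨19, 14, 482⟩, ⟨11, 1, 550⟩]))) (.node (.leaf (⟨1, 0, 52187, 0, 52187, 0, 34944⟩, .base)) (.leaf (⟨0, 0, 34944, 0, 34944, 1, 34944⟩, .dfn))))) (.node (.node (.node (.leaf (⟨1, 0, 21721, 0, 21721, 0, 34944⟩, .base)) (.leaf (⟨0, 3, 63318, 1, 11975, 3, 61289⟩, .fill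 6 1 4 [34944, 43534, 34944, 65536, 54904, 65536, 62212] 0 34944 [⟨10, 0, 0⟩, ⟨16, 13, 243⟩] [⟨12, 0, 75⟩, ⟨17, 13, 1118⟩]))) (.node (.leaf (⟨1, 0, 34944, 0, 34944, 0, 34944⟩, .base)) (.leaf (⟨0, 0, 34944, 0, 34944, 1, 34944⟩, .dfn)))) (.node (.node (.leaf (⟨1, 0, 21693, 0, 21693, 0, 34944⟩, .base)) (.leaf (⟨0, 0, 34944, 0, 34944, 1, 34944⟩, .dfn))) (.node (.leaf (⟨0, 3, 34944, 0, 34944, 1, 34659⟩, .inv 13)) (.leaf (⟨0, 0, 34944, 0, 34944, 1, 34944⟩, .dfn)))))) (.node (.node (.node (.node (.leaf (⟨0, 1, 34944, 0, 34944, 0, 34944⟩, .inv 0)) (.leaf (⟨1, 1, 54428, 0, 22657, 1, 34944⟩, .mul 8 3))) (.node (.leaf (⟨1, 1, 35056, 0, 44269, 1, 34944⟩, .mul 3 3)) (.leaf (⟨0, 0, 34944, 0, 34944, 1, 34944⟩, .dfn)))) (.node (.node (.leaf (⟨1, 1, 62617, 0, 30869, 1, 34944⟩, .sync ⟨4, 0, 761⟩)) (.leaf (⟨0, 0, 34944, 0, 34944, 1, 34944⟩, .dfn))) (.node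 (.leaf (⟨0, 1, 34659, 0, 34944, 3, 34944⟩, .dfn)) (.leaf (⟨0, 0, 34944, 0, 34944, 1, 34944⟩, .dfn))))) (.node (.node (.node (.leaf (⟨1, 1, 29872, 0, 21721, 1, 34944⟩, .sync ⟨2, 0, 1154⟩)) (.leaf (⟨1, 3, 34944, 0, 34944, 3, 34944⟩, .unit))) (.node (.leaf (⟨1, 1, 34944, 0, 34944, 1, 34944⟩, .unit)) (.leaf (⟨0, 0, 34944, 0, 34944, 1, 34944⟩, .dfn)))) (.node (.node (.leaf (⟨1, 1, 28877, 0, 21693, 1, 34944⟩, .sync ⟨6, 0, 172⟩)) (.leaf (⟨0, 0, 34944, 0, 34944, 1, 34944⟩, .dfn))) (.node (.leaf (⟨1, 3, 36052, 0, 44269, 3, 34944⟩, .sync ⟨9, 13, 741⟩)) (.leaf (⟨0, 0, 34944, 0, 34944, 1, 34944⟩, .dfn)))))))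

/-- definitions -/
def defsMixBad9 : List (ℕ × ℕ × ℕ) := [(0, 34944, 0), (0, 34944, 1), (1, 34659, 0)]

/-- the facts -/
def factsMixBad10 : Tree (Fct × Why) :=
  (.node (.node (.node (.node (.node (.leaf (⟨0, 0, 34944, 0, 34944, 1, 34944⟩, .dfn)) (.leaf (⟨1, 1, 44273, 0, 44273, 1, 34944⟩, .mul 7 7))) (.node (.leaf (⟨1, 1, 51420, 0, 40108, 1, 34944⟩, .mul 5 7)) (.leaf (⟨0, 0, 34944, 0, 34944, 1, 34944⟩, .dfn)))) (.node (.node (.leaf (⟨1, 0, 30869, 0, 30869, 0, 34944⟩, .base)) (.leaf (⟨1, 0, 44546, 0, 47687, 0, 34944⟩, .close 7 2 34944 [⟨10, 0, 0⟩, ⟨16, 13, 243⟩, ⟨15, 18, 440⟩, ⟨19, 14, 929⟩, ⟨11, 1, 93⟩]))) (.node (.leaf (⟨1, 0, 52187, 0, 52187, 0, 34944⟩, .base)) (.leaf (⟨0, 0, 34944, 0, 34944, 1, 34944⟩, .dfn))))) (.node (.node (.node (.leaf (⟨1, 0, 21721, 0, 21721, 0, 34944⟩, .base)) (.leaf (⟨0, 3, 63318, 1, 11975, 3, 14148⟩, .fill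 6 1 4 [34944, 43535, 34944, 65536, 54904, 65536, 62212] 0 34944 [⟨10, 0, 0⟩, ⟨16, 13, 243⟩] [⟨12, 0, 363⟩, ⟨17, 13, 704⟩]))) (.node (.leaf (⟨1, 0, 34944, 0, 34944, 0, 34944⟩, .base)) (.leaf (⟨0, 0, 34944, 0, 34944, 1, 34944⟩, .dfn)))) (.node (.node (.leaf (⟨1, 0, 21693, 0, 21693, 0, 34944⟩, .base)) (.leaf (⟨0, 0, 34944, 0, 34944, 1, 34944⟩, .dfn))) (.node (.leaf (⟨0, 3, 34944, 0, 34944, 1, 34659⟩, .inv 13)) (.leaf (⟨0, 0, 34944, 0, 34944, 1, 34944⟩, .dfn)))))) (.node (.node (.node (.node (.leaf (⟨0, 1, 34944, 0, 34944, 0, 34944⟩, .inv 0)) (.leaf (⟨1, 1, 54428, 0, 22657, 1, 34944⟩, .mul 8 3))) (.node (.leaf (⟨1, 1, 35056, 0, 44269, 1, 34944⟩, .mul 3 3)) (.leaf (⟨0, 0, 34944, 0, 34944, 1, 34944⟩, .dfn)))) (.node (.node (.leaf (⟨1, 1, 62617, 0, 30869, 1, 34944⟩, .sync ⟨4, 0, 761⟩)) (.leaf (⟨0, 0, 34944, 0, 34944, 1, 34944⟩, .dfn))) (.node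 (.leaf (⟨0, 1, 34659, 0, 34944, 3, 34944⟩, .dfn)) (.leaf (⟨0, 0, 34944, 0, 34944, 1, 34944⟩, .dfn))))) (.node (.node (.node (.leaf (⟨1, 1, 29872, 0, 21721, 1, 34944⟩, .sync ⟨2, 0, 1154⟩)) (.leaf (⟨1, 3, 34944, 0, 34944, 3, 34944⟩, .unit))) (.node (.leaf (⟨1, 1, 34944, 0, 34944, 1, 34944⟩, .unit)) (.leaf (⟨0, 0, 34944, 0, 34944, 1, 34944⟩, .dfn)))) (.node (.node (.leaf (⟨1, 1, 28877, 0, 21693, 1, 34944⟩, .sync ⟨6, 0, 172⟩)) (.leaf (⟨0, 0, 34944, 0, 34944, 1, 34944⟩, .dfn))) (.node (.leaf (⟨1, 3, 36052, 0, 44269, 3, 34944⟩, .sync ⟨9, 13, 741⟩)) (.leaf (⟨0, 0, 34944, 0, 34944, 1, 34944⟩, .dfn)))))))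

/-- definitions -/
def defsMixBad10 : List (ℕ × ℕ × ℕ) := [(0, 34944, 0), (0, 34944, 1), (1, 34659, 0)]

/-- the facts -/
def factsMixBad11 : Tree (Fct × Why) :=
  (.node (.node (.node (.node (.node (.leaf (⟨0, 0, 34944, 0, 34944, 1, 34944⟩, .dfn)) (.leaf (⟨1, 1, 44273, 0, 44273, 1, 34944⟩, .mul 7 7))) (.node (.leaf (⟨1, 1, 51420, 0, 40108, 1, 34944⟩, .mul 5 7)) (.leaf (⟨0, 0, 34944, 0, 34944, 1, 34944⟩, .dfn)))) (.node (.node (.leaf (⟨1, 0, 30869, 0, 30869, 0, 34944⟩, .base)) (.leaf (⟨1, 0, 44626, 0, 47687, 0, 34944⟩, .close 7 2 34944 [⟨10, 0, 0⟩, ⟨16, 13, 243⟩, ⟨15, 18, 440⟩, ⟨19, 14, 932⟩, ⟨11, 1, 80⟩]))) (.node (.leaf (⟨1, 0, 52187, 0, 52187, 0, 34944⟩, .base)) (.leaf (⟨0, 0, 34944, 0, 34944, 1, 34944⟩, .dfn))))) (.node (.node (.node (.leaf (⟨1, 0, 21721, 0, 21721, 0, 34944⟩, .base)) (.leaf (⟨0, 3, 63318, 1, 11975, 3, 42821⟩, .fill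 6 1 4 [34944, 43546, 34944, 65536, 54904, 65536, 62212] 0 34944 [⟨10, 0, 0⟩, ⟨16, 13, 243⟩] [⟨12, 0, 614⟩, ⟨17, 13, 903⟩]))) (.node (.leaf (⟨1, 0, 34944, 0, 34944, 0, 34944⟩, .base)) (.leaf (⟨0, 0, 34944, 0, 34944, 1, 34944⟩, .dfn)))) (.node (.node (.leaf (⟨1, 0, 21693, 0, 21693, 0, 34944⟩, .base)) (.leaf (⟨0, 0, 34944, 0, 34944, 1, 34944⟩, .dfn))) (.node (.leaf (⟨0, 3, 34944, 0, 34944, 1, 34659⟩, .inv 13)) (.leaf (⟨0, 0, 34944, 0, 34944, 1, 34944⟩, .dfn)))))) (.node (.node (.node (.node (.leaf (⟨0, 1, 34944, 0, 34944, 0, 34944⟩, .inv 0)) (.leaf (⟨1, 1, 54428, 0, 22657, 1, 34944⟩, .mul 8 3))) (.node (.leaf (⟨1, 1, 35056, 0, 44269, 1, 34944⟩, .mul 3 3)) (.leaf (⟨0, 0, 34944, 0, 34944, 1, 34944⟩, .dfn)))) (.node (.node (.leaf (⟨1, 1, 62617, 0, 30869, 1, 34944⟩, .sync ⟨4, 0, 761⟩)) (.leaf (⟨0, 0, 34944, 0, 34944, 1, 34944⟩, .dfn))) (.node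 (.leaf (⟨0, 1, 34659, 0, 34944, 3, 34944⟩, .dfn)) (.leaf (⟨0, 0, 34944, 0, 34944, 1, 34944⟩, .dfn))))) (.node (.node (.node (.leaf (⟨1, 1, 29872, 0, 21721, 1, 34944⟩, .sync ⟨2, 0, 1154⟩)) (.leaf (⟨1, 3, 34944, 0, 34944, 3, 34944⟩, .unit))) (.node (.leaf (⟨1, 1, 34944, 0, 34944, 1, 34944⟩, .unit)) (.leaf (⟨0, 0, 34944, 0, 34944, 1, 34944⟩, .dfn)))) (.node (.node (.leaf (⟨1, 1, 28877, 0, 21693, 1, 34944⟩, .sync ⟨6, 0, 172⟩)) (.leaf (⟨0, 0, 34944, 0, 34944, 1, 34944⟩, .dfn))) (.node (.leaf (⟨1, 3, 36052, 0, 44269, 3, 34944⟩, .sync ⟨9, 13, 741⟩)) (.leaf (⟨0, 0, 34944, 0, 34944, 1, 34944⟩, .dfn)))))))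

/-- definitions -/
def defsMixBad11 : List (ℕ × ℕ × ℕ) := [(0, 34944, 0), (0, 34944, 1), (1, 34659, 0)]

/-- the facts -/
def factsMixBad12 : Tree (Fct × Why) :=
  (.node (.node (.node (.node (.node (.leaf (⟨0, 0, 34944, 0, 34944, 1, 34944⟩, .dfn)) (.leaf (⟨1, 1, 44273, 0, 44273, 1, 34944⟩, .mul 7 7))) (.node (.leaf (⟨1, 1, 51420, 0, 40108, 1, 34944⟩, .mul 5 7)) (.leaf (⟨0, 0, 34944, 0, 34944, 1, 34944⟩, .dfn)))) (.node (.node (.leaf (⟨1, 0, 30869, 0, 30869, 0, 34944⟩, .base)) (.leaf (⟨1, 0, 44626, 0, 47687, 0, 34944⟩, .close 7 2 34944 [⟨10, 0, 0⟩, ⟨16, 13, 243⟩, ⟨15, 18, 440⟩, ⟨19, 14, 1230⟩, ⟨11, 1, 1357⟩]))) (.node (.leaf (⟨1, 0, 52187, 0, 52187, 0, 34944⟩, .base)) (.leaf (⟨0, 0, 34944, 0, 34944, 1, 34944⟩, .dfn))))) (.node (.node (.node (.leaf (⟨1, 0, 21721, 0, 21721, 0, 34944⟩, .base)) (.leaf (⟨0, 3, 63318, 1, 11975, 3, 32616⟩, .fill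 6 1 4 [34944, 43547, 34944, 65536, 54904, 65536, 62212] 0 34944 [⟨10, 0, 0⟩, ⟨16, 13, 243⟩] [⟨12, 0, 595⟩, ⟨17, 13, 141⟩]))) (.node (.leaf (⟨1, 0, 34944, 0, 34944, 0, 34944⟩, .base)) (.leaf (⟨0, 0, 34944, 0, 34944, 1, 34944⟩, .dfn)))) (.node (.node (.leaf (⟨1, 0, 21693, 0, 21693, 0, 34944⟩, .base)) (.leaf (⟨0, 0, 34944, 0, 34944, 1, 34944⟩, .dfn))) (.node (.leaf (⟨0, 3, 34944, 0, 34944, 1, 34659⟩, .inv 13)) (.leaf (⟨0, 0, 34944, 0, 34944, 1, 34944⟩, .dfn)))))) (.node (.node (.node (.node (.leaf (⟨0, 1, 34944, 0, 34944, 0, 34944⟩, .inv 0)) (.leaf (⟨1, 1, 54428, 0, 22657, 1, 34944⟩, .mul 8 3))) (.node (.leaf (⟨1, 1, 35056, 0, 44269, 1, 34944⟩, .mul 3 3)) (.leaf (⟨0, 0, 34944, 0, 34944, 1, 34944⟩, .dfn)))) (.node (.node (.leaf (⟨1, 1, 62617, 0, 30869, 1, 34944⟩, .sync ⟨4, 0, 761⟩)) (.leaf (⟨0, 0, 34944, 0, 34944, 1, 34944⟩, .dfn))) (.node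 (.leaf (⟨0, 1, 34659, 0, 34944, 3, 34944⟩, .dfn)) (.leaf (⟨0, 0, 34944, 0, 34944, 1, 34944⟩, .dfn))))) (.node (.node (.node (.leaf (⟨1, 1, 29872, 0, 21721, 1, 34944⟩, .sync ⟨2, 0, 1154⟩)) (.leaf (⟨1, 3, 34944, 0, 34944, 3, 34944⟩, .unit))) (.node (.leaf (⟨1, 1, 34944, 0, 34944, 1, 34944⟩, .unit)) (.leaf (⟨0, 0, 34944, 0, 34944, 1, 34944⟩, .dfn)))) (.node (.node (.leaf (⟨1, 1, 28877, 0, 21693, 1, 34944⟩, .sync ⟨6, 0, 172⟩)) (.leaf (⟨0, 0, 34944, 0, 34944, 1, 34944⟩, .dfn))) (.node (.leaf (⟨1, 3, 36052, 0, 44269, 3, 34944⟩, .sync ⟨9, 13, 741⟩)) (.leaf (⟨0, 0, 34944, 0, 34944, 1, 34944⟩, .dfn)))))))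

/-- definitions -/
def defsMixBad12 : List (ℕ × ℕ × ℕ) := [(0, 34944, 0), (0, 34944, 1), (1, 34659, 0)]

/-- the facts -/
def factsMixBad13 : Tree (Fct × Why) :=
  (.node (.node (.node (.node (.node (.leaf (⟨0, 0, 34944, 0, 34944, 1, 34944⟩, .dfn)) (.leaf (⟨1, 1, 44273, 0, 44273, 1, 34944⟩, .mul 7 7))) (.node (.leaf (⟨1, 1, 51420, 0, 40108, 1, 34944⟩, .mul 5 7)) (.leaf (⟨0, 0, 34944, 0, 34944, 1, 34944⟩, .dfn)))) (.node (.node (.leaf (⟨1, 0, 30869, 0, 30869, 0, 34944⟩, .base)) (.leaf (⟨1, 0, 44627, 0, 47687, 0, 34944⟩, .close 7 2 34944 [⟨10, 0, 0⟩, ⟨16, 13, 243⟩, ⟨15, 18, 440⟩, ⟨19, 14, 58⟩, ⟨11, 1, 1276⟩]))) (.node (.leaf (⟨1, 0, 52187, 0, 52187, 0, 34944⟩, .base)) (.leaf (⟨0, 0, 34944, 0, 34944, 1, 34944⟩, .dfn))))) (.node (.node (.node (.leaf (⟨1, 0, 21721, 0, 21721, 0, 34944⟩, .base)) (.leaf (⟨0, 3, 63318, 1, 11975, 3, 61193⟩, .fill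 6 1 4 [34944, 43550, 34944, 65536, 54904, 65536, 62212] 0 34944 [⟨10, 0, 0⟩, ⟨16, 13, 243⟩] [⟨12, 0, 252⟩, ⟨17, 13, 479⟩]))) (.node (.leaf (⟨1, 0, 34944, 0, 34944, 0, 34944⟩, .base)) (.leaf (⟨0, 0, 34944, 0, 34944, 1, 34944⟩, .dfn)))) (.node (.node (.leaf (⟨1, 0, 21693, 0, 21693, 0, 34944⟩, .base)) (.leaf (⟨0, 0, 34944, 0, 34944, 1, 34944⟩, .dfn))) (.node (.leaf (⟨0, 3, 34944, 0, 34944, 1, 34659⟩, .inv 13)) (.leaf (⟨0, 0, 34944, 0, 34944, 1, 34944⟩, .dfn)))))) (.node (.node (.node (.node (.leaf (⟨0, 1, 34944, 0, 34944, 0, 34944⟩, .inv 0)) (.leaf (⟨1, 1, 54428, 0, 22657, 1, 34944⟩, .mul 8 3))) (.node (.leaf (⟨1, 1, 35056, 0, 44269, 1, 34944⟩, .mul 3 3)) (.leaf (⟨0, 0, 34944, 0, 34944, 1, 34944⟩, .dfn)))) (.node (.node (.leaf (⟨1, 1, 62617, 0, 30869, 1, 34944⟩, .sync ⟨4, 0, 761⟩)) (.leaf (⟨0, 0, 34944, 0, 34944, 1, 34944⟩, .dfn))) (.node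 (.leaf (⟨0, 1, 34659, 0, 34944, 3, 34944⟩, .dfn)) (.leaf (⟨0, 0, 34944, 0, 34944, 1, 34944⟩, .dfn))))) (.node (.node (.node (.leaf (⟨1, 1, 29872, 0, 21721, 1, 34944⟩, .sync ⟨2, 0, 1154⟩)) (.leaf (⟨1, 3, 34944, 0, 34944, 3, 34944⟩, .unit))) (.node (.leaf (⟨1, 1, 34944, 0, 34944, 1, 34944⟩, .unit)) (.leaf (⟨0, 0, 34944, 0, 34944, 1, 34944⟩, .dfn)))) (.node (.node (.leaf (⟨1, 1, 28877, 0, 21693, 1, 34944⟩, .sync ⟨6, 0, 172⟩)) (.leaf (⟨0, 0, 34944, 0, 34944, 1, 34944⟩, .dfn))) (.node (.leaf (⟨1, 3, 36052, 0, 44269, 3, 34944⟩, .sync ⟨9, 13, 741⟩)) (.leaf (⟨0, 0, 34944, 0, 34944, 1, 34944⟩, .dfn)))))))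

/-- definitions -/
def defsMixBad13 : List (ℕ × ℕ × ℕ) := [(0, 34944, 0), (0, 34944, 1), (1, 34659, 0)]

/-- the facts -/
def factsMixBad14 : Tree (Fct × Why) :=
  (.node (.node (.node (.node (.node (.leaf (⟨0, 0, 34944, 0, 34944, 1, 34944⟩, .dfn)) (.leaf (⟨1, 1, 44273, 0, 44273, 1, 34944⟩, .mul 7 7))) (.node (.leaf (⟨1, 1, 51420, 0, 40108, 1, 34944⟩, .mul 5 7)) (.leaf (⟨0, 0, 34944, 0, 34944, 1, 34944⟩, .dfn)))) (.node (.node (.leaf (⟨1, 0, 30869, 0, 30869, 0, 34944⟩, .base)) (.leaf (⟨1, 0, 44627, 0, 47687, 0, 34944⟩, .close 7 2 34944 [⟨10, 0, 0⟩, ⟨16, 13, 243⟩, ⟨15, 18, 440⟩, ⟨19, 14, 376⟩, ⟨11, 1, 17⟩]))) (.node (.leaf (⟨1, 0, 52187, 0, 52187, 0, 34944⟩, .base)) (.leaf (⟨0, 0, 34944, 0, 34944, 1, 34944⟩, .dfn))))) (.node (.node (.node (.leaf (⟨1, 0, 21721, 0, 21721, 0, 34944⟩, .base)) (.leaf (⟨0, 3, 63318, 1, 11975, 3, 14116⟩, .fill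 6 1 4 [34944, 43551, 34944, 65536, 54904, 65536, 62212] 0 34944 [⟨10, 0, 0⟩, ⟨16, 13, 243⟩] [⟨12, 0, 189⟩, ⟨17, 13, 899⟩]))) (.node (.leaf (⟨1, 0, 34944, 0, 34944, 0, 34944⟩, .base)) (.leaf (⟨0, 0, 34944, 0, 34944, 1, 34944⟩, .dfn)))) (.node (.node (.leaf (⟨1, 0, 21693, 0, 21693, 0, 34944⟩, .base)) (.leaf (⟨0, 0, 34944, 0, 34944, 1, 34944⟩, .dfn))) (.node (.leaf (⟨0, 3, 34944, 0, 34944, 1, 34659⟩, .inv 13)) (.leaf (⟨0, 0, 34944, 0, 34944, 1, 34944⟩, .dfn)))))) (.node (.node (.node (.node (.leaf (⟨0, 1, 34944, 0, 34944, 0, 34944⟩, .inv 0)) (.leaf (⟨1, 1, 54428, 0, 22657, 1, 34944⟩, .mul 8 3))) (.node (.leaf (⟨1, 1, 35056, 0, 44269, 1, 34944⟩, .mul 3 3)) (.leaf (⟨0, 0, 34944, 0, 34944, 1, 34944⟩, .dfn)))) (.node (.node (.leaf (⟨1, 1, 62617, 0, 30869, 1, 34944⟩, .sync ⟨4, 0, 761⟩)) (.leaf (⟨0, 0, 34944, 0, 34944, 1, 34944⟩, .dfn))) (.node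 (.leaf (⟨0, 1, 34659, 0, 34944, 3, 34944⟩, .dfn)) (.leaf (⟨0, 0, 34944, 0, 34944, 1, 34944⟩, .dfn))))) (.node (.node (.node (.leaf (⟨1, 1, 29872, 0, 21721, 1, 34944⟩, .sync ⟨2, 0, 1154⟩)) (.leaf (⟨1, 3, 34944, 0, 34944, 3, 34944⟩, .unit))) (.node (.leaf (⟨1, 1, 34944, 0, 34944, 1, 34944⟩, .unit)) (.leaf (⟨0, 0, 34944, 0, 34944, 1, 34944⟩, .dfn)))) (.node (.node (.leaf (⟨1, 1, 28877, 0, 21693, 1, 34944⟩, .sync ⟨6, 0, 172⟩)) (.leaf (⟨0, 0, 34944, 0, 34944, 1, 34944⟩, .dfn))) (.node (.leaf (⟨1, 3, 36052, 0, 44269, 3, 34944⟩, .sync ⟨9, 13, 741⟩)) (.leaf (⟨0, 0, 34944, 0, 34944, 1, 34944⟩, .dfn)))))))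

/-- definitions -/
def defsMixBad14 : List (ℕ × ℕ × ℕ) := [(0, 34944, 0), (0, 34944, 1), (1, 34659, 0)]

/-- the facts -/
def factsMixBad15 : Tree (Fct × Why) :=
  (.node (.node (.node (.node (.node (.leaf (⟨0, 0, 34944, 0, 34944, 1, 34944⟩, .dfn)) (.leaf (⟨1, 1, 44273, 0, 44273, 1, 34944⟩, .mul 7 7))) (.node (.leaf (⟨1, 1, 51420, 0, 40108, 1, 34944⟩, .mul 5 7)) (.leaf (⟨0, 0, 34944, 0, 34944, 1, 34944⟩, .dfn)))) (.node (.node (.leaf (⟨1, 0, 30869, 0, 30869, 0, 34944⟩, .base)) (.leaf (⟨1, 0, 44626, 0, 47687, 0, 34944⟩, .close 7 2 34944 [⟨10, 0, 0⟩, ⟨16, 13, 243⟩, ⟨15, 18, 440⟩, ⟨19, 14, 784⟩, ⟨11, 1, 263⟩]))) (.node (.leaf (⟨1, 0, 52187, 0, 52187, 0, 34944⟩, .base)) (.leaf (⟨0, 0, 34944, 0, 34944, 1, 34944⟩, .dfn))))) (.node (.node (.node (.leaf (⟨1, 0, 21721, 0, 21721, 0, 34944⟩, .base)) (.leaf (⟨0, 3, 63318, 1, 11975, 3, 14088⟩, .fill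 6 1 4 [34944, 43594, 34944, 65536, 54904, 65536, 62212] 0 34944 [⟨10, 0, 0⟩, ⟨16, 13, 243⟩] [⟨12, 0, 807⟩, ⟨17, 13, 539⟩]))) (.node (.leaf (⟨1, 0, 34944, 0, 34944, 0, 34944⟩, .base)) (.leaf (⟨0, 0, 34944, 0, 34944, 1, 34944⟩, .dfn)))) (.node (.node (.leaf (⟨1, 0, 21693, 0, 21693, 0, 34944⟩, .base)) (.leaf (⟨0, 0, 34944, 0, 34944, 1, 34944⟩, .dfn))) (.node (.leaf (⟨0, 3, 34944, 0, 34944, 1, 34659⟩, .inv 13)) (.leaf (⟨0, 0, 34944, 0, 34944, 1, 34944⟩, .dfn)))))) (.node (.node (.node (.node (.leaf (⟨0, 1, 34944, 0, 34944, 0, 34944⟩, .inv 0)) (.leaf (⟨1, 1, 54428, 0, 22657, 1, 34944⟩, .mul 8 3))) (.node (.leaf (⟨1, 1, 35056, 0, 44269, 1, 34944⟩, .mul 3 3)) (.leaf (⟨0, 0, 34944, 0, 34944, 1, 34944⟩, .dfn)))) (.node (.node (.leaf (⟨1, 1, 62617, 0, 30869, 1, 34944⟩, .sync ⟨4, 0, 761⟩)) (.leaf (⟨0, 0, 34944, 0, 34944, 1, 34944⟩, .dfn))) (.node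 (.leaf (⟨0, 1, 34659, 0, 34944, 3, 34944⟩, .dfn)) (.leaf (⟨0, 0, 34944, 0, 34944, 1, 34944⟩, .dfn))))) (.node (.node (.node (.leaf (⟨1, 1, 29872, 0, 21721, 1, 34944⟩, .sync ⟨2, 0, 1154⟩)) (.leaf (⟨1, 3, 34944, 0, 34944, 3, 34944⟩, .unit))) (.node (.leaf (⟨1, 1, 34944, 0, 34944, 1, 34944⟩, .unit)) (.leaf (⟨0, 0, 34944, 0, 34944, 1, 34944⟩, .dfn)))) (.node (.node (.leaf (⟨1, 1, 28877, 0, 21693, 1, 34944⟩, .sync ⟨6, 0, 172⟩)) (.leaf (⟨0, 0, 34944, 0, 34944, 1, 34944⟩, .dfn))) (.node (.leaf (⟨1, 3, 36052, 0, 44269, 3, 34944⟩, .sync ⟨9, 13, 741⟩)) (.leaf (⟨0, 0, 34944, 0, 34944, 1, 34944⟩, .dfn)))))))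

/-- definitions -/
def defsMixBad15 : List (ℕ × ℕ × ℕ) := [(0, 34944, 0), (0, 34944, 1), (1, 34659, 0)]

/-- the facts -/
def factsMixBad16 : Tree (Fct × Why) :=
  (.node (.node (.node (.node (.node (.leaf (⟨0, 0, 34944, 0, 34944, 1, 34944⟩, .dfn)) (.leaf (⟨1, 1, 44273, 0, 44273, 1, 34944⟩, .mul 7 7))) (.node (.leaf (⟨1, 1, 51420, 0, 40108, 1, 34944⟩, .mul 5 7)) (.leaf (⟨0, 0, 34944, 0, 34944, 1, 34944⟩, .dfn)))) (.node (.node (.leaf (⟨1, 0, 30869, 0, 30869, 0, 34944⟩, .base)) (.leaf (⟨1, 0, 44626, 0, 47687, 0, 34944⟩, .close 7 2 34944 [⟨10, 0, 0⟩, ⟨16, 13, 243⟩, ⟨15, 18, 440⟩, ⟨19, 14, 65⟩, ⟨11, 1, 701⟩]))) (.node (.leaf (⟨1, 0, 52187, 0, 52187, 0, 34944⟩, .base)) (.leaf (⟨0, 0, 34944, 0, 34944, 1, 34944⟩, .dfn))))) (.node (.node (.node (.leaf (⟨1, 0, 21721, 0, 21721, 0, 34944⟩, .base)) (.leaf (⟨0, 3, 63318, 1, 11975, 3, 61221⟩, .fill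 6 1 4 [34944, 43595, 34944, 65536, 54904, 65536, 62212] 0 34944 [⟨10, 0, 0⟩, ⟨16, 13, 243⟩] [⟨12, 0, 1456⟩, ⟨17, 13, 209⟩]))) (.node (.leaf (⟨1, 0, 34944, 0, 34944, 0, 34944⟩, .base)) (.leaf (⟨0, 0, 34944, 0, 34944, 1, 34944⟩, .dfn)))) (.node (.node (.leaf (⟨1, 0, 21693, 0, 21693, 0, 34944⟩, .base)) (.leaf (⟨0, 0, 34944, 0, 34944, 1, 34944⟩, .dfn))) (.node (.leaf (⟨0, 3, 34944, 0, 34944, 1, 34659⟩, .inv 13)) (.leaf (⟨0, 0, 34944, 0, 34944, 1, 34944⟩, .dfn)))))) (.node (.node (.node (.node (.leaf (⟨0, 1, 34944, 0, 34944, 0, 34944⟩, .inv 0)) (.leaf (⟨1, 1, 54428, 0, 22657, 1, 34944⟩, .mul 8 3))) (.node (.leaf (⟨1, 1, 35056, 0, 44269, 1, 34944⟩, .mul 3 3)) (.leaf (⟨0, 0, 34944, 0, 34944, 1, 34944⟩, .dfn)))) (.node (.node (.leaf (⟨1, 1, 62617, 0, 30869, 1, 34944⟩, .sync ⟨4, 0, 761⟩)) (.leaf (⟨0, 0, 34944, 0, 34944, 1, 34944⟩, .dfn))) (.node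 (.leaf (⟨0, 1, 34659, 0, 34944, 3, 34944⟩, .dfn)) (.leaf (⟨0, 0, 34944, 0, 34944, 1, 34944⟩, .dfn))))) (.node (.node (.node (.leaf (⟨1, 1, 29872, 0, 21721, 1, 34944⟩, .sync ⟨2, 0, 1154⟩)) (.leaf (⟨1, 3, 34944, 0, 34944, 3, 34944⟩, .unit))) (.node (.leaf (⟨1, 1, 34944, 0, 34944, 1, 34944⟩, .unit)) (.leaf (⟨0, 0, 34944, 0, 34944, 1, 34944⟩, .dfn)))) (.node (.node (.leaf (⟨1, 1, 28877, 0, 21693, 1, 34944⟩, .sync ⟨6, 0, 172⟩)) (.leaf (⟨0, 0, 34944, 0, 34944, 1, 34944⟩, .dfn))) (.node (.leaf (⟨1, 3, 36052, 0, 44269, 3, 34944⟩, .sync ⟨9, 13, 741⟩)) (.leaf (⟨0, 0, 34944, 0, 34944, 1, 34944⟩, .dfn)))))))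

/-- definitions -/
def defsMixBad16 : List (ℕ × ℕ × ℕ) := [(0, 34944, 0), (0, 34944, 1), (1, 34659, 0)]

/-- the facts -/
def factsMixBad17 : Tree (Fct × Why) :=
  (.node (.node (.node (.node (.node (.leaf (⟨0, 0, 34944, 0, 34944, 1, 34944⟩, .dfn)) (.leaf (⟨1, 1, 44273, 0, 44273, 1, 34944⟩, .mul 7 7))) (.node (.leaf (⟨1, 1, 51420, 0, 40108, 1, 34944⟩, .mul 5 7)) (.leaf (⟨0, 0, 34944, 0, 34944, 1, 34944⟩, .dfn)))) (.node (.node (.leaf (⟨1, 0, 30869, 0, 30869, 0, 34944⟩, .base)) (.leaf (⟨1, 0, 44627, 0, 47687, 0, 34944⟩, .close 7 2 34944 [⟨10, 0, 0⟩, ⟨16, 13, 243⟩, ⟨15, 18, 440⟩, ⟨19, 14, 1350⟩, ⟨11, 1, 931⟩]))) (.node (.leaf (⟨1, 0, 52187, 0, 52187, 0, 34944⟩, .base)) (.leaf (⟨0, 0, 34944, 0, 34944, 1, 34944⟩, .dfn))))) (.node (.node (.node (.leaf (⟨1, 0, 21721, 0, 21721, 0, 34944⟩, .base)) (.leaf (⟨0, 3, 63318, 1, 11975, 3, 32580⟩, .fill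 6 1 4 [34944, 43598, 34944, 65536, 54904, 65536, 62212] 0 34944 [⟨10, 0, 0⟩, ⟨16, 13, 243⟩] [⟨12, 0, 322⟩, ⟨17, 13, 583⟩]))) (.node (.leaf (⟨1, 0, 34944, 0, 34944, 0, 34944⟩, .base)) (.leaf (⟨0, 0, 34944, 0, 34944, 1, 34944⟩, .dfn)))) (.node (.node (.leaf (⟨1, 0, 21693, 0, 21693, 0, 34944⟩, .base)) (.leaf (⟨0, 0, 34944, 0, 34944, 1, 34944⟩, .dfn))) (.node (.leaf (⟨0, 3, 34944, 0, 34944, 1, 34659⟩, .inv 13)) (.leaf (⟨0, 0, 34944, 0, 34944, 1, 34944⟩, .dfn)))))) (.node (.node (.node (.node (.leaf (⟨0, 1, 34944, 0, 34944, 0, 34944⟩, .inv 0)) (.leaf (⟨1, 1, 54428, 0, 22657, 1, 34944⟩, .mul 8 3))) (.node (.leaf (⟨1, 1, 35056, 0, 44269, 1, 34944⟩, .mul 3 3)) (.leaf (⟨0, 0, 34944, 0, 34944, 1, 34944⟩, .dfn)))) (.node (.node (.leaf (⟨1, 1, 62617, 0, 30869, 1, 34944⟩, .sync ⟨4, 0, 761⟩)) (.leaf (⟨0, 0, 34944, 0, 34944, 1, 34944⟩, .dfn))) (.node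 (.leaf (⟨0, 1, 34659, 0, 34944, 3, 34944⟩, .dfn)) (.leaf (⟨0, 0, 34944, 0, 34944, 1, 34944⟩, .dfn))))) (.node (.node (.node (.leaf (⟨1, 1, 29872, 0, 21721, 1, 34944⟩, .sync ⟨2, 0, 1154⟩)) (.leaf (⟨1, 3, 34944, 0, 34944, 3, 34944⟩, .unit))) (.node (.leaf (⟨1, 1, 34944, 0, 34944, 1, 34944⟩, .unit)) (.leaf (⟨0, 0, 34944, 0, 34944, 1, 34944⟩, .dfn)))) (.node (.node (.leaf (⟨1, 1, 28877, 0, 21693, 1, 34944⟩, .sync ⟨6, 0, 172⟩)) (.leaf (⟨0, 0, 34944, 0, 34944, 1, 34944⟩, .dfn))) (.node (.leaf (⟨1, 3, 36052, 0, 44269, 3, 34944⟩, .sync ⟨9, 13, 741⟩)) (.leaf (⟨0, 0, 34944, 0, 34944, 1, 34944⟩, .dfn)))))))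

/-- definitions -/
def defsMixBad17 : List (ℕ × ℕ × ℕ) := [(0, 34944, 0), (0, 34944, 1), (1, 34659, 0)]

/-- the facts -/
def factsMixBad18 : Tree (Fct × Why) :=
  (.node (.node (.node (.node (.node (.leaf (⟨0, 0, 34944, 0, 34944, 1, 34944⟩, .dfn)) (.leaf (⟨1, 1, 44273, 0, 44273, 1, 34944⟩, .mul 7 7))) (.node (.leaf (⟨1, 1, 51420, 0, 40108, 1, 34944⟩, .mul 5 7)) (.leaf (⟨0, 0, 34944, 0, 34944, 1, 34944⟩, .dfn)))) (.node (.node (.leaf (⟨1, 0, 30869, 0, 30869, 0, 34944⟩, .base)) (.leaf (⟨1, 0, 44627, 0, 47687, 0, 34944⟩, .close 7 2 34944 [⟨10, 0, 0⟩, ⟨16, 13, 243⟩, ⟨15, 18, 440⟩, ⟨19, 14, 759⟩, ⟨11, 1, 380⟩]))) (.node (.leaf (⟨1, 0, 52187, 0, 52187, 0, 34944⟩, .base)) (.leaf (⟨0, 0, 34944, 0, 34944, 1, 34944⟩, .dfn))))) (.node (.node (.node (.leaf (⟨1, 0, 21721, 0, 21721, 0, 34944⟩, .base)) (.leaf (⟨0, 3, 63318, 1, 11975, 3, 42857⟩, .fill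 6 1 4 [34944, 43599, 34944, 65536, 54904, 65536, 62212] 0 34944 [⟨10, 0, 0⟩, ⟨16, 13, 243⟩] [⟨12, 0, 780⟩, ⟨17, 13, 714⟩]))) (.node (.leaf (⟨1, 0, 34944, 0, 34944, 0, 34944⟩, .base)) (.leaf (⟨0, 0, 34944, 0, 34944, 1, 34944⟩, .dfn)))) (.node (.node (.leaf (⟨1, 0, 21693, 0, 21693, 0, 34944⟩, .base)) (.leaf (⟨0, 0, 34944, 0, 34944, 1, 34944⟩, .dfn))) (.node (.leaf (⟨0, 3, 34944, 0, 34944, 1, 34659⟩, .inv 13)) (.leaf (⟨0, 0, 34944, 0, 34944, 1, 34944⟩, .dfn)))))) (.node (.node (.node (.node (.leaf (⟨0, 1, 34944, 0, 34944, 0, 34944⟩, .inv 0)) (.leaf (⟨1, 1, 54428, 0, 22657, 1, 34944⟩, .mul 8 3))) (.node (.leaf (⟨1, 1, 35056, 0, 44269, 1, 34944⟩, .mul 3 3)) (.leaf (⟨0, 0, 34944, 0, 34944, 1, 34944⟩, .dfn)))) (.node (.node (.leaf (⟨1, 1, 62617, 0, 30869, 1, 34944⟩, .sync ⟨4, 0, 761⟩)) (.leaf (⟨0, 0, 34944, 0, 34944, 1, 34944⟩, .dfn))) (.node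 (.leaf (⟨0, 1, 34659, 0, 34944, 3, 34944⟩, .dfn)) (.leaf (⟨0, 0, 34944, 0, 34944, 1, 34944⟩, .dfn))))) (.node (.node (.node (.leaf (⟨1, 1, 29872, 0, 21721, 1, 34944⟩, .sync ⟨2, 0, 1154⟩)) (.leaf (⟨1, 3, 34944, 0, 34944, 3, 34944⟩, .unit))) (.node (.leaf (⟨1, 1, 34944, 0, 34944, 1, 34944⟩, .unit)) (.leaf (⟨0, 0, 34944, 0, 34944, 1, 34944⟩, .dfn)))) (.node (.node (.leaf (⟨1, 1, 28877, 0, 21693, 1, 34944⟩, .sync ⟨6, 0, 172⟩)) (.leaf (⟨0, 0, 34944, 0, 34944, 1, 34944⟩, .dfn))) (.node (.leaf (⟨1, 3, 36052, 0, 44269, 3, 34944⟩, .sync ⟨9, 13, 741⟩)) (.leaf (⟨0, 0, 34944, 0, 34944, 1, 34944⟩, .dfn)))))))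

/-- definitions -/
def defsMixBad18 : List (ℕ × ℕ × ℕ) := [(0, 34944, 0), (0, 34944, 1), (1, 34659, 0)]

/-- the facts -/
def factsMixBad19 : Tree (Fct × Why) :=
  (.node (.node (.node (.node (.node (.leaf (⟨0, 0, 34944, 0, 34944, 1, 34944⟩, .dfn)) (.leaf (⟨1, 1, 44273, 0, 44273, 1, 34944⟩, .mul 7 7))) (.node (.leaf (⟨1, 1, 51420, 0, 40108, 1, 34944⟩, .mul 5 7)) (.leaf (⟨0, 0, 34944, 0, 34944, 1, 34944⟩, .dfn)))) (.node (.node (.leaf (⟨1, 0, 30869, 0, 30869, 0, 34944⟩, .base)) (.leaf (⟨1, 0, 44547, 0, 47687, 0, 34944⟩, .close 7 2 34944 [⟨10, 0, 0⟩, ⟨16, 13, 243⟩, ⟨15, 18, 440⟩, ⟨19, 14, 505⟩, ⟨11, 1, 940⟩]))) (.node (.leaf (⟨1, 0, 52187, 0, 52187, 0, 34944⟩, .base)) (.leaf (⟨0, 0, 34944, 0, 34944, 1, 34944⟩, .dfn))))) (.node (.node (.node (.leaf (⟨1, 0, 21721, 0, 21721, 0, 34944⟩, .base)) (.leaf (⟨0, 3, 63318, 1, 11975, 3, 14184⟩, .fill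 6 1 4 [34944, 43610, 34944, 65536, 54904, 65536, 62212] 0 34944 [⟨10, 0, 0⟩, ⟨16, 13, 243⟩] [⟨12, 0, 1158⟩, ⟨17, 13, 1320⟩]))) (.node (.leaf (⟨1, 0, 34944, 0, 34944, 0, 34944⟩, .base)) (.leaf (⟨0, 0, 34944, 0, 34944, 1, 34944⟩, .dfn)))) (.node (.node (.leaf (⟨1, 0, 21693, 0, 21693, 0, 34944⟩, .base)) (.leaf (⟨0, 0, 34944, 0, 34944, 1, 34944⟩, .dfn))) (.node (.leaf (⟨0, 3, 34944, 0, 34944, 1, 34659⟩, .inv 13)) (.leaf (⟨0, 0, 34944, 0, 34944, 1, 34944⟩, .dfn)))))) (.node (.node (.node (.node (.leaf (⟨0, 1, 34944, 0, 34944, 0, 34944⟩, .inv 0)) (.leaf (⟨1, 1, 54428, 0, 22657, 1, 34944⟩, .mul 8 3))) (.node (.leaf (⟨1, 1, 35056, 0, 44269, 1, 34944⟩, .mul 3 3)) (.leaf (⟨0, 0, 34944, 0, 34944, 1, 34944⟩, .dfn)))) (.node (.node (.leaf (⟨1, 1, 62617, 0, 30869, 1, 34944⟩, .sync ⟨4, 0, 761⟩)) (.leaf (⟨0, 0, 34944, 0, 34944, 1, 34944⟩, .dfn))) (.node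 (.leaf (⟨0, 1, 34659, 0, 34944, 3, 34944⟩, .dfn)) (.leaf (⟨0, 0, 34944, 0, 34944, 1, 34944⟩, .dfn))))) (.node (.node (.node (.leaf (⟨1, 1, 29872, 0, 21721, 1, 34944⟩, .sync ⟨2, 0, 1154⟩)) (.leaf (⟨1, 3, 34944, 0, 34944, 3, 34944⟩, .unit))) (.node (.leaf (⟨1, 1, 34944, 0, 34944, 1, 34944⟩, .unit)) (.leaf (⟨0, 0, 34944, 0, 34944, 1, 34944⟩, .dfn)))) (.node (.node (.leaf (⟨1, 1, 28877, 0, 21693, 1, 34944⟩, .sync ⟨6, 0, 172⟩)) (.leaf (⟨0, 0, 34944, 0, 34944, 1, 34944⟩, .dfn))) (.node (.leaf (⟨1, 3, 36052, 0, 44269, 3, 34944⟩, .sync ⟨9, 13, 741⟩)) (.leaf (⟨0, 0, 34944, 0, 34944, 1, 34944⟩, .dfn)))))))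

/-- definitions -/
def defsMixBad19 : List (ℕ × ℕ × ℕ) := [(0, 34944, 0), (0, 34944, 1), (1, 34659, 0)]

/-- the facts -/
def factsMixBad20 : Tree (Fct × Why) :=
  (.node (.node (.node (.node (.node (.leaf (⟨0, 0, 34944, 0, 34944, 1, 34944⟩, .dfn)) (.leaf (⟨1, 1, 44273, 0, 44273, 1, 34944⟩, .mul 7 7))) (.node (.leaf (⟨1, 1, 51420, 0, 40108, 1, 34944⟩, .mul 5 7)) (.leaf (⟨0, 0, 34944, 0, 34944, 1, 34944⟩, .dfn)))) (.node (.node (.leaf (⟨1, 0, 30869, 0, 30869, 0, 34944⟩, .base)) (.leaf (⟨1, 0, 44547, 0, 47687, 0, 34944⟩, .close 7 2 34944 [⟨10, 0, 0⟩, ⟨16, 13, 243⟩, ⟨15, 18, 440⟩, ⟨19, 14, 580⟩, ⟨11, 1, 853⟩]))) (.node (.leaf (⟨1, 0, 52187, 0, 52187, 0, 34944⟩, .base)) (.leaf (⟨0, 0, 34944, 0, 34944, 1, 34944⟩, .dfn))))) (.node (.node (.node (.leaf (⟨1, 0, 21721, 0, 21721, 0, 34944⟩, .base)) (.leaf (⟨0, 3, 63318, 1, 11975, 3, 61253⟩, .fill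 6 1 4 [34944, 43611, 34944, 65536, 54904, 65536, 62212] 0 34944 [⟨10, 0, 0⟩, ⟨16, 13, 243⟩] [⟨12, 0, 1303⟩, ⟨17, 13, 46⟩]))) (.node (.leaf (⟨1, 0, 34944, 0, 34944, 0, 34944⟩, .base)) (.leaf (⟨0, 0, 34944, 0, 34944, 1, 34944⟩, .dfn)))) (.node (.node (.leaf (⟨1, 0, 21693, 0, 21693, 0, 34944⟩, .base)) (.leaf (⟨0, 0, 34944, 0, 34944, 1, 34944⟩, .dfn))) (.node (.leaf (⟨0, 3, 34944, 0, 34944, 1, 34659⟩, .inv 13)) (.leaf (⟨0, 0, 34944, 0, 34944, 1, 34944⟩, .dfn)))))) (.node (.node (.node (.node (.leaf (⟨0, 1, 34944, 0, 34944, 0, 34944⟩, .inv 0)) (.leaf (⟨1, 1, 54428, 0, 22657, 1, 34944⟩, .mul 8 3))) (.node (.leaf (⟨1, 1, 35056, 0, 44269, 1, 34944⟩, .mul 3 3)) (.leaf (⟨0, 0, 34944, 0, 34944, 1, 34944⟩, .dfn)))) (.node (.node (.leaf (⟨1, 1, 62617, 0, 30869, 1, 34944⟩, .sync ⟨4, 0, 761⟩)) (.leaf (⟨0, 0, 34944, 0, 34944, 1, 34944⟩, .dfn))) (.node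 (.leaf (⟨0, 1, 34659, 0, 34944, 3, 34944⟩, .dfn)) (.leaf (⟨0, 0, 34944, 0, 34944, 1, 34944⟩, .dfn))))) (.node (.node (.node (.leaf (⟨1, 1, 29872, 0, 21721, 1, 34944⟩, .sync ⟨2, 0, 1154⟩)) (.leaf (⟨1, 3, 34944, 0, 34944, 3, 34944⟩, .unit))) (.node (.leaf (⟨1, 1, 34944, 0, 34944, 1, 34944⟩, .unit)) (.leaf (⟨0, 0, 34944, 0, 34944, 1, 34944⟩, .dfn)))) (.node (.node (.leaf (⟨1, 1, 28877, 0, 21693, 1, 34944⟩, .sync ⟨6, 0, 172⟩)) (.leaf (⟨0, 0, 34944, 0, 34944, 1, 34944⟩, .dfn))) (.node (.leaf (⟨1, 3, 36052, 0, 44269, 3, 34944⟩, .sync ⟨9, 13, 741⟩)) (.leaf (⟨0, 0, 34944, 0, 34944, 1, 34944⟩, .dfn)))))))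

/-- definitions -/
def defsMixBad20 : List (ℕ × ℕ × ℕ) := [(0, 34944, 0), (0, 34944, 1), (1, 34659, 0)]

/-- the facts -/
def factsMixBad21 : Tree (Fct × Why) :=
  (.node (.node (.node (.node (.node (.leaf (⟨0, 0, 34944, 0, 34944, 1, 34944⟩, .dfn)) (.leaf (⟨1, 1, 44273, 0, 44273, 1, 34944⟩, .mul 7 7))) (.node (.leaf (⟨1, 1, 51420, 0, 40108, 1, 34944⟩, .mul 5 7)) (.leaf (⟨0, 0, 34944, 0, 34944, 1, 34944⟩, .dfn)))) (.node (.node (.leaf (⟨1, 0, 30869, 0, 30869, 0, 34944⟩, .base)) (.leaf (⟨1, 0, 44546, 0, 47687, 0, 34944⟩, .close 7 2 34944 [⟨10, 0, 0⟩, ⟨16, 13, 243⟩, ⟨15, 18, 440⟩, ⟨19, 14, 852⟩, ⟨11, 1, 737⟩]))) (.node (.leaf (⟨1, 0, 52187, 0, 52187, 0, 34944⟩, .base)) (.leaf (⟨0, 0, 34944, 0, 34944, 1, 34944⟩, .dfn))))) (.node (.node (.node (.leaf (⟨1, 0, 21721, 0, 21721, 0, 34944⟩, .base)) (.leaf (⟨0, 3, 63318, 1, 11975, 3, 32548⟩, .fill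 6 1 4 [34944, 43614, 34944, 65536, 54904, 65536, 62212] 0 34944 [⟨10, 0, 0⟩, ⟨16, 13, 243⟩] [⟨12, 0, 11⟩, ⟨17, 13, 159⟩]))) (.node (.leaf (⟨1, 0, 34944, 0, 34944, 0, 34944⟩, .base)) (.leaf (⟨0, 0, 34944, 0, 34944, 1, 34944⟩, .dfn)))) (.node (.node (.leaf (⟨1, 0, 21693, 0, 21693, 0, 34944⟩, .base)) (.leaf (⟨0, 0, 34944, 0, 34944, 1, 34944⟩, .dfn))) (.node (.leaf (⟨0, 3, 34944, 0, 34944, 1, 34659⟩, .inv 13)) (.leaf (⟨0, 0, 34944, 0, 34944, 1, 34944⟩, .dfn)))))) (.node (.node (.node (.node (.leaf (⟨0, 1, 34944, 0, 34944, 0, 34944⟩, .inv 0)) (.leaf (⟨1, 1, 54428, 0, 22657, 1, 34944⟩, .mul 8 3))) (.node (.leaf (⟨1, 1, 35056, 0, 44269, 1, 34944⟩, .mul 3 3)) (.leaf (⟨0, 0, 34944, 0, 34944, 1, 34944⟩, .dfn)))) (.node (.node (.leaf (⟨1, 1, 62617, 0, 30869, 1, 34944⟩, .sync ⟨4, 0, 761⟩)) (.leaf (⟨0, 0, 34944, 0, 34944, 1, 34944⟩, .dfn))) (.node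 (.leaf (⟨0, 1, 34659, 0, 34944, 3, 34944⟩, .dfn)) (.leaf (⟨0, 0, 34944, 0, 34944, 1, 34944⟩, .dfn))))) (.node (.node (.node (.leaf (⟨1, 1, 29872, 0, 21721, 1, 34944⟩, .sync ⟨2, 0, 1154⟩)) (.leaf (⟨1, 3, 34944, 0, 34944, 3, 34944⟩, .unit))) (.node (.leaf (⟨1, 1, 34944, 0, 34944, 1, 34944⟩, .unit)) (.leaf (⟨0, 0, 34944, 0, 34944, 1, 34944⟩, .dfn)))) (.node (.node (.leaf (⟨1, 1, 28877, 0, 21693, 1, 34944⟩, .sync ⟨6, 0, 172⟩)) (.leaf (⟨0, 0, 34944, 0, 34944, 1, 34944⟩, .dfn))) (.node (.leaf (⟨1, 3, 36052, 0, 44269, 3, 34944⟩, .sync ⟨9, 13, 741⟩)) (.leaf (⟨0, 0, 34944, 0, 34944, 1, 34944⟩, .dfn)))))))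

/-- definitions -/
def defsMixBad21 : List (ℕ × ℕ × ℕ) := [(0, 34944, 0), (0, 34944, 1), (1, 34659, 0)]

/-- the facts -/
def factsMixBad22 : Tree (Fct × Why) :=
  (.node (.node (.node (.node (.node (.leaf (⟨0, 0, 34944, 0, 34944, 1, 34944⟩, .dfn)) (.leaf (⟨1, 1, 44273, 0, 44273, 1, 34944⟩, .mul 7 7))) (.node (.leaf (⟨1, 1, 51420, 0, 40108, 1, 34944⟩, .mul 5 7)) (.leaf (⟨0, 0, 34944, 0, 34944, 1, 34944⟩, .dfn)))) (.node (.node (.leaf (⟨1, 0, 30869, 0, 30869, 0, 34944⟩, .base)) (.leaf (⟨1, 0, 44546, 0, 47687, 0, 34944⟩, .close 7 2 34944 [⟨10, 0, 0⟩, ⟨16, 13, 243⟩, ⟨15, 18, 440⟩, ⟨19, 14, 803⟩, ⟨11, 1, 1139⟩]))) (.node (.leaf (⟨1, 0, 52187, 0, 52187, 0, 34944⟩, .base)) (.leaf (⟨0, 0, 34944, 0, 34944, 1, 34944⟩, .dfn))))) (.node (.node (.node (.leaf (⟨1, 0, 21721, 0, 21721, 0, 34944⟩, .base)) (.leaf (⟨0, 3, 63318, 1, 11975, 3, 42761⟩, .fill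 6 1 4 [34944, 43615, 34944, 65536, 54904, 65536, 62212] 0 34944 [⟨10, 0, 0⟩, ⟨16, 13, 243⟩] [⟨12, 0, 57⟩, ⟨17, 13, 1415⟩]))) (.node (.leaf (⟨1, 0, 34944, 0, 34944, 0, 34944⟩, .base)) (.leaf (⟨0, 0, 34944, 0, 34944, 1, 34944⟩, .dfn)))) (.node (.node (.leaf (⟨1, 0, 21693, 0, 21693, 0, 34944⟩, .base)) (.leaf (⟨0, 0, 34944, 0, 34944, 1, 34944⟩, .dfn))) (.node (.leaf (⟨0, 3, 34944, 0, 34944, 1, 34659⟩, .inv 13)) (.leaf (⟨0, 0, 34944, 0, 34944, 1, 34944⟩, .dfn)))))) (.node (.node (.node (.node (.leaf (⟨0, 1, 34944, 0, 34944, 0, 34944⟩, .inv 0)) (.leaf (⟨1, 1, 54428, 0, 22657, 1, 34944⟩, .mul 8 3))) (.node (.leaf (⟨1, 1, 35056, 0, 44269, 1, 34944⟩, .mul 3 3)) (.leaf (⟨0, 0, 34944, 0, 34944, 1, 34944⟩, .dfn)))) (.node (.node (.leaf (⟨1, 1, 62617, 0, 30869, 1, 34944⟩, .sync ⟨4, 0, 761⟩)) (.leaf (⟨0, 0, 34944, 0, 34944, 1, 34944⟩, .dfn))) (.node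 (.leaf (⟨0, 1, 34659, 0, 34944, 3, 34944⟩, .dfn)) (.leaf (⟨0, 0, 34944, 0, 34944, 1, 34944⟩, .dfn))))) (.node (.node (.node (.leaf (⟨1, 1, 29872, 0, 21721, 1, 34944⟩, .sync ⟨2, 0, 1154⟩)) (.leaf (⟨1, 3, 34944, 0, 34944, 3, 34944⟩, .unit))) (.node (.leaf (⟨1, 1, 34944, 0, 34944, 1, 34944⟩, .unit)) (.leaf (⟨0, 0, 34944, 0, 34944, 1, 34944⟩, .dfn)))) (.node (.node (.leaf (⟨1, 1, 28877, 0, 21693, 1, 34944⟩, .sync ⟨6, 0, 172⟩)) (.leaf (⟨0, 0, 34944, 0, 34944, 1, 34944⟩, .dfn))) (.node (.leaf (⟨1, 3, 36052, 0, 44269, 3, 34944⟩, .sync ⟨9, 13, 741⟩)) (.leaf (⟨0, 0, 34944, 0, 34944, 1, 34944⟩, .dfn)))))))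

/-- definitions -/
def defsMixBad22 : List (ℕ × ℕ × ℕ) := [(0, 34944, 0), (0, 34944, 1), (1, 34659, 0)]

/-- the facts -/
def factsMixBad23 : Tree (Fct × Why) :=
  (.node (.node (.node (.node (.node (.leaf (⟨0, 0, 34944, 0, 34944, 1, 34944⟩, .dfn)) (.leaf (⟨1, 1, 44273, 0, 44273, 1, 34944⟩, .mul 7 7))) (.node (.leaf (⟨1, 1, 51420, 0, 40108, 1, 34944⟩, .mul 5 7)) (.leaf (⟨0, 0, 34944, 0, 34944, 1, 34944⟩, .dfn)))) (.node (.node (.leaf (⟨1, 0, 30869, 0, 30869, 0, 34944⟩, .base)) (.leaf (⟨1, 0, 47686, 0, 47687, 0, 34944⟩, .close 7 2 34944 [⟨10, 0, 0⟩, ⟨16, 13, 243⟩, ⟨15, 18, 440⟩, ⟨19, 14, 592⟩, ⟨11, 1, 1360⟩]))) (.node (.leaf (⟨1, 0, 52187, 0, 52187, 0, 34944⟩, .base)) (.leaf (⟨0, 0, 34944, 0, 34944, 1, 34944⟩, .dfn))))) (.node (.node (.node (.leaf (⟨1, 0, 21721, 0, 21721, 0, 34944⟩, .base)) (.leaf (⟨0, 3, 63318, 1, 11975, 3, 32581⟩, .fill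 6 1 4 [34944, 44554, 34944, 65536, 54904, 65536, 62212] 0 34944 [⟨10, 0, 0⟩, ⟨16, 13, 243⟩] [⟨12, 0, 513⟩, ⟨17, 13, 1361⟩]))) (.node (.leaf (⟨1, 0, 34944, 0, 34944, 0, 34944⟩, .base)) (.leaf (⟨0, 0, 34944, 0, 34944, 1, 34944⟩, .dfn)))) (.node (.node (.leaf (⟨1, 0, 21693, 0, 21693, 0, 34944⟩, .base)) (.leaf (⟨0, 0, 34944, 0, 34944, 1, 34944⟩, .dfn))) (.node (.leaf (⟨0, 3, 34944, 0, 34944, 1, 34659⟩, .inv 13)) (.leaf (⟨0, 0, 34944, 0, 34944, 1, 34944⟩, .dfn)))))) (.node (.node (.node (.node (.leaf (⟨0, 1, 34944, 0, 34944, 0, 34944⟩, .inv 0)) (.leaf (⟨1, 1, 54428, 0, 22657, 1, 34944⟩, .mul 8 3))) (.node (.leaf (⟨1, 1, 35056, 0, 44269, 1, 34944⟩, .mul 3 3)) (.leaf (⟨0, 0, 34944, 0, 34944, 1, 34944⟩, .dfn)))) (.node (.node (.leaf (⟨1, 1, 62617, 0, 30869, 1, 34944⟩, .sync ⟨4, 0, 761⟩)) (.leaf (⟨0, 0, 34944, 0, 34944, 1, 34944⟩, .dfn))) (.node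 (.leaf (⟨0, 1, 34659, 0, 34944, 3, 34944⟩, .dfn)) (.leaf (⟨0, 0, 34944, 0, 34944, 1, 34944⟩, .dfn))))) (.node (.node (.node (.leaf (⟨1, 1, 29872, 0, 21721, 1, 34944⟩, .sync ⟨2, 0, 1154⟩)) (.leaf (⟨1, 3, 34944, 0, 34944, 3, 34944⟩, .unit))) (.node (.leaf (⟨1, 1, 34944, 0, 34944, 1, 34944⟩, .unit)) (.leaf (⟨0, 0, 34944, 0, 34944, 1, 34944⟩, .dfn)))) (.node (.node (.leaf (⟨1, 1, 28877, 0, 21693, 1, 34944⟩, .sync ⟨6, 0, 172⟩)) (.leaf (⟨0, 0, 34944, 0, 34944, 1, 34944⟩, .dfn))) (.node (.leaf (⟨1, 3, 36052, 0, 44269, 3, 34944⟩, .sync ⟨9, 13, 741⟩)) (.leaf (⟨0, 0, 34944, 0, 34944, 1, 34944⟩, .dfn)))))))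

/-- definitions -/
def defsMixBad23 : List (ℕ × ℕ × ℕ) := [(0, 34944, 0), (0, 34944, 1), (1, 34659, 0)]

/-- the facts -/
def factsMixBad24 : Tree (Fct × Why) :=
  (.node (.node (.node (.node (.node (.leaf (⟨0, 0, 34944, 0, 34944, 1, 34944⟩, .dfn)) (.leaf (⟨1, 1, 44273, 0, 44273, 1, 34944⟩, .mul 7 7))) (.node (.leaf (⟨1, 1, 51420, 0, 40108, 1, 34944⟩, .mul 5 7)) (.leaf (⟨0, 0, 34944, 0, 34944, 1, 34944⟩, .dfn)))) (.node (.node (.leaf (⟨1, 0, 30869, 0, 30869, 0, 34944⟩, .base)) (.leaf (⟨1, 0, 47686, 0, 47687, 0, 34944⟩, .close 7 2 34944 [⟨10, 0, 0⟩, ⟨16, 13, 243⟩, ⟨15, 18, 440⟩, ⟨19, 14, 1302⟩, ⟨11, 1, 1297⟩]))) (.node (.leaf (⟨1, 0, 52187, 0, 52187, 0, 34944⟩, .base)) (.leaf (⟨0, 0, 34944, 0, 34944, 1, 34944⟩, .dfn))))) (.node (.node (.node (.leaf (⟨1, 0, 21721, 0, 21721, 0, 34944⟩, .base)) (.leaf (⟨0, 3, 63318, 1, 11975, 3, 42856⟩, .fill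 6 1 4 [34944, 44555, 34944, 65536, 54904, 65536, 62212] 0 34944 [⟨10, 0, 0⟩, ⟨16, 13, 243⟩] [⟨12, 0, 1035⟩, ⟨17, 13, 151⟩]))) (.node (.leaf (⟨1, 0, 34944, 0, 34944, 0, 34944⟩, .base)) (.leaf (⟨0, 0, 34944, 0, 34944, 1, 34944⟩, .dfn)))) (.node (.node (.leaf (⟨1, 0, 21693, 0, 21693, 0, 34944⟩, .base)) (.leaf (⟨0, 0, 34944, 0, 34944, 1, 34944⟩, .dfn))) (.node (.leaf (⟨0, 3, 34944, 0, 34944, 1, 34659⟩, .inv 13)) (.leaf (⟨0, 0, 34944, 0, 34944, 1, 34944⟩, .dfn)))))) (.node (.node (.node (.node (.leaf (⟨0, 1, 34944, 0, 34944, 0, 34944⟩, .inv 0)) (.leaf (⟨1, 1, 54428, 0, 22657, 1, 34944⟩, .mul 8 3))) (.node (.leaf (⟨1, 1, 35056, 0, 44269, 1, 34944⟩, .mul 3 3)) (.leaf (⟨0, 0, 34944, 0, 34944, 1, 34944⟩, .dfn)))) (.node (.node (.leaf (⟨1, 1, 62617, 0, 30869, 1, 34944⟩, .sync ⟨4, 0, 761⟩)) (.leaf (⟨0, 0, 34944, 0, 34944, 1, 34944⟩, .dfn))) (.node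 (.leaf (⟨0, 1, 34659, 0, 34944, 3, 34944⟩, .dfn)) (.leaf (⟨0, 0, 34944, 0, 34944, 1, 34944⟩, .dfn))))) (.node (.node (.node (.leaf (⟨1, 1, 29872, 0, 21721, 1, 34944⟩, .sync ⟨2, 0, 1154⟩)) (.leaf (⟨1, 3, 34944, 0, 34944, 3, 34944⟩, .unit))) (.node (.leaf (⟨1, 1, 34944, 0, 34944, 1, 34944⟩, .unit)) (.leaf (⟨0, 0, 34944, 0, 34944, 1, 34944⟩, .dfn)))) (.node (.node (.leaf (⟨1, 1, 28877, 0, 21693, 1, 34944⟩, .sync ⟨6, 0, 172⟩)) (.leaf (⟨0, 0, 34944, 0, 34944, 1, 34944⟩, .dfn))) (.node (.leaf (⟨1, 3, 36052, 0, 44269, 3, 34944⟩, .sync ⟨9, 13, 741⟩)) (.leaf (⟨0, 0, 34944, 0, 34944, 1, 34944⟩, .dfn)))))))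

/-- definitions -/
def defsMixBad24 : List (ℕ × ℕ × ℕ) := [(0, 34944, 0), (0, 34944, 1), (1, 34659, 0)]

/-- the facts -/
def factsMixBad25 : Tree (Fct × Why) :=
  (.node (.node (.node (.node (.node (.leaf (⟨0, 0, 34944, 0, 34944, 1, 34944⟩, .dfn)) (.leaf (⟨1, 3, 36052, 0, 44269, 3, 34944⟩, .sync ⟨8, 14, 741⟩))) (.node (.leaf (⟨1, 1, 35056, 0, 44269, 1, 34944⟩, .mul 2 2)) (.leaf (⟨0, 3, 63782, 0, 36560, 3, 64008⟩, .fill 6 1 6 [34944, 44558, 34944, 65536, 54904] 1 34946 [⟨12, 11, 0⟩, ⟨20, 14, 119⟩, ⟨16, 21, 1085⟩] [⟨6, 14, 1292⟩])))) (.node (.node (.leaf (⟨1, 1, 62617, 0, 30869, 1, 34944⟩, .sync ⟨3, 0, 761⟩)) (.leaf (⟨1, 1, 54428, 0, 22657, 1, 34944⟩, .mul 7 2))) (.node (.leaf (⟨1, 1, 34944, 0, 34944, 1, 34944⟩, .unit)) (.leaf (⟨1, 1, 52429, 0, 40181, 1, 34944⟩, .close 6 9 34946 [⟨12, 11, 0⟩, ⟨19, 14, 1198⟩, ⟨16, 24, 404⟩, ⟨16, 21, 166⟩,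 ⟨22, 15, 1315⟩]))))) (.node (.node (.node (.leaf (⟨1, 1, 29872, 0, 21721, 1, 34944⟩, .sync ⟨1, 0, 1154⟩)) (.leaf (⟨1, 1, 44273, 0, 44273, 1, 34944⟩, .mul 6 6))) (.node (.leaf (⟨1, 0, 31898, 0, 31898, 0, 34944⟩, .base)) (.leaf (⟨1, 1, 53501, 0, 30961, 1, 34944⟩, .mul 25 2)))) (.node (.node (.leaf (⟨1, 1, 28877, 0, 21693, 1, 34944⟩, .sync ⟨5, 0, 172⟩)) (.leaf (⟨1, 3, 34944, 0, 34944, 3, 34944⟩, .unit))) (.node (.leaf (⟨0, 1, 34659, 0, 34944, 3, 34944⟩, .dfn)) (.leaf (⟨0, 0, 34944, 0, 34944, 1, 34944⟩, .dfn)))))) (.node (.node (.node (.node (.leaf (⟨1, 0, 21721, 0, 21721, 0, 34944⟩, .base)) (.leaf (⟨1, 1, 59561, 0, 40128, 1, 34944⟩, .mul 4 2))) (.node (.leaf (⟨1, 0, 34944, 0, 34944, 0, 34944⟩, .base)) (.leaf (⟨1, 1, 52413, 0, 48333, 1, 34944⟩, .mul 23 2)))) (.node (.node (.leaf (⟨1, 0, 21693, 0, 21693, 0, 34944⟩, .base)) (.leaf (⟨0, 3, 63318,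 1, 11975, 3, 14089⟩, .fill 6 1 4 [34944, 44558, 34944, 65536, 54904, 65536, 62212] 0 34944 [⟨9, 0, 0⟩, ⟨18, 14, 243⟩] [⟨13, 0, 175⟩, ⟨20, 14, 1123⟩]))) (.node (.leaf (⟨1, 0, 52187, 0, 52187, 0, 34944⟩, .base)) (.leaf (⟨0, 0, 34944, 0, 34944, 1, 34944⟩, .dfn))))) (.node (.node (.node (.leaf (⟨1, 0, 30869, 0, 30869, 0, 34944⟩, .base)) (.leaf (⟨1, 1, 20673, 0, 28857, 1, 34944⟩, .mul 18 2))) (.node (.leaf (⟨0, 1, 34946, 0, 31898, 1, 39050⟩, .fill 0 0 2 [20621, 34946, 65536, 34946] 0 34944 [⟨9, 0, 0⟩] [⟨10, 0, 512⟩])) (.leaf (⟨1, 1, 52429, 0, 40117, 1, 34944⟩, .mul 26 2)))) (.node (.node (.leaf (⟨1, 1, 51420, 0, 40108, 1, 34944⟩, .mul 4 6)) (.leaf (⟨1, 1, 53389, 0, 22680, 1, 34944⟩, .mul 17 6))) (.node (.leaf (⟨0, 3, 34944, 0, 34944, 1, 34659⟩, .inv 14)) (.leaf (⟨0, 0, 34944, 0, 34944, 1, 34944⟩, .dfn)))))))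

/-- definitions -/
def defsMixBad25 : List (ℕ × ℕ × ℕ) := [(0, 34944, 0), (0, 34944, 1), (1, 34659, 0)]

/-- the facts -/
def factsMixBad26 : Tree (Fct × Why) :=
  (.node (.node (.node (.node (.node (.leaf (⟨0, 0, 34944, 0, 34944, 1, 34944⟩, .dfn)) (.leaf (⟨1, 1, 44273, 0, 44273, 1, 34944⟩, .mul 7 7))) (.node (.leaf (⟨1, 1, 51420, 0, 40108, 1, 34944⟩, .mul 5 7)) (.leaf (⟨0, 0, 34944, 0, 34944, 1, 34944⟩, .dfn)))) (.node (.node (.leaf (⟨1, 0, 30869, 0, 30869, 0, 34944⟩, .base)) (.leaf (⟨1, 0, 47639, 0, 47687, 0, 34944⟩, .close 7 2 34944 [⟨10, 0, 0⟩, ⟨16, 13, 243⟩, ⟨15, 18, 440⟩, ⟨19, 14, 976⟩, ⟨11, 1, 620⟩]))) (.node (.leaf (⟨1, 0, 52187, 0, 52187, 0, 34944⟩, .base)) (.leaf (⟨0, 0, 34944, 0, 34944, 1, 34944⟩, .dfn))))) (.node (.node (.node (.leaf (⟨1, 0, 21721, 0, 21721, 0, 34944⟩, .base)) (.leaf (⟨0, 3, 63318, 1, 11975, 3, 32549⟩, .fill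 6 1 4 [34944, 44570, 34944, 65536, 54904, 65536, 62212] 0 34944 [⟨10, 0, 0⟩, ⟨16, 13, 243⟩] [⟨12, 0, 790⟩, ⟨17, 13, 629⟩]))) (.node (.leaf (⟨1, 0, 34944, 0, 34944, 0, 34944⟩, .base)) (.leaf (⟨0, 0, 34944, 0, 34944, 1, 34944⟩, .dfn)))) (.node (.node (.leaf (⟨1, 0, 21693, 0, 21693, 0, 34944⟩, .base)) (.leaf (⟨0, 0, 34944, 0, 34944, 1, 34944⟩, .dfn))) (.node (.leaf (⟨0, 3, 34944, 0, 34944, 1, 34659⟩, .inv 13)) (.leaf (⟨0, 0, 34944, 0, 34944, 1, 34944⟩, .dfn)))))) (.node (.node (.node (.node (.leaf (⟨0, 1, 34944, 0, 34944, 0, 34944⟩, .inv 0)) (.leaf (⟨1, 1, 54428, 0, 22657, 1, 34944⟩, .mul 8 3))) (.node (.leaf (⟨1, 1, 35056, 0, 44269, 1, 34944⟩, .mul 3 3)) (.leaf (⟨0, 0, 34944, 0, 34944, 1, 34944⟩, .dfn)))) (.node (.node (.leaf (⟨1, 1, 62617, 0, 30869, 1, 34944⟩, .sync ⟨4, 0, 761⟩)) (.leaf (⟨0, 0, 34944, 0, 34944, 1, 34944⟩, .dfn))) (.node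 (.leaf (⟨0, 1, 34659, 0, 34944, 3, 34944⟩, .dfn)) (.leaf (⟨0, 0, 34944, 0, 34944, 1, 34944⟩, .dfn))))) (.node (.node (.node (.leaf (⟨1, 1, 29872, 0, 21721, 1, 34944⟩, .sync ⟨2, 0, 1154⟩)) (.leaf (⟨1, 3, 34944, 0, 34944, 3, 34944⟩, .unit))) (.node (.leaf (⟨1, 1, 34944, 0, 34944, 1, 34944⟩, .unit)) (.leaf (⟨0, 0, 34944, 0, 34944, 1, 34944⟩, .dfn)))) (.node (.node (.leaf (⟨1, 1, 28877, 0, 21693, 1, 34944⟩, .sync ⟨6, 0, 172⟩)) (.leaf (⟨0, 0, 34944, 0, 34944, 1, 34944⟩, .dfn))) (.node (.leaf (⟨1, 3, 36052, 0, 44269, 3, 34944⟩, .sync ⟨9, 13, 741⟩)) (.leaf (⟨0, 0, 34944, 0, 34944, 1, 34944⟩, .dfn)))))))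

/-- definitions -/
def defsMixBad26 : List (ℕ × ℕ × ℕ) := [(0, 34944, 0), (0, 34944, 1), (1, 34659, 0)]

/-- the facts -/
def factsMixBad27 : Tree (Fct × Why) :=
  (.node (.node (.node (.node (.node (.leaf (⟨0, 0, 34944, 0, 34944, 1, 34944⟩, .dfn)) (.leaf (⟨1, 1, 44273, 0, 44273, 1, 34944⟩, .mul 7 7))) (.node (.leaf (⟨1, 1, 51420, 0, 40108, 1, 34944⟩, .mul 5 7)) (.leaf (⟨0, 0, 34944, 0, 34944, 1, 34944⟩, .dfn)))) (.node (.node (.leaf (⟨1, 0, 30869, 0, 30869, 0, 34944⟩, .base)) (.leaf (⟨1, 0, 47639, 0, 47687, 0, 34944⟩, .close 7 2 34944 [⟨10, 0, 0⟩, ⟨16, 13, 243⟩, ⟨15, 18, 440⟩, ⟨19, 14, 1460⟩, ⟨11, 1, 512⟩]))) (.node (.leaf (⟨1, 0, 52187, 0, 52187, 0, 34944⟩, .base)) (.leaf (⟨0, 0, 34944, 0, 34944, 1, 34944⟩, .dfn))))) (.node (.node (.node (.leaf (⟨1, 0, 21721, 0, 21721, 0, 34944⟩, .base)) (.leaf (⟨0, 3, 63318, 1, 11975, 3, 42760⟩, .fill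 6 1 4 [34944, 44571, 34944, 65536, 54904, 65536, 62212] 0 34944 [⟨10, 0, 0⟩, ⟨16, 13, 243⟩] [⟨12, 0, 921⟩, ⟨17, 13, 576⟩]))) (.node (.leaf (⟨1, 0, 34944, 0, 34944, 0, 34944⟩, .base)) (.leaf (⟨0, 0, 34944, 0, 34944, 1, 34944⟩, .dfn)))) (.node (.node (.leaf (⟨1, 0, 21693, 0, 21693, 0, 34944⟩, .base)) (.leaf (⟨0, 0, 34944, 0, 34944, 1, 34944⟩, .dfn))) (.node (.leaf (⟨0, 3, 34944, 0, 34944, 1, 34659⟩, .inv 13)) (.leaf (⟨0, 0, 34944, 0, 34944, 1, 34944⟩, .dfn)))))) (.node (.node (.node (.node (.leaf (⟨0, 1, 34944, 0, 34944, 0, 34944⟩, .inv 0)) (.leaf (⟨1, 1, 54428, 0, 22657, 1, 34944⟩, .mul 8 3))) (.node (.leaf (⟨1, 1, 35056, 0, 44269, 1, 34944⟩, .mul 3 3)) (.leaf (⟨0, 0, 34944, 0, 34944, 1, 34944⟩, .dfn)))) (.node (.node (.leaf (⟨1, 1, 62617, 0, 30869, 1, 34944⟩, .sync ⟨4, 0, 761⟩)) (.leaf (⟨0, 0, 34944, 0, 34944, 1, 34944⟩, .dfn))) (.node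 (.leaf (⟨0, 1, 34659, 0, 34944, 3, 34944⟩, .dfn)) (.leaf (⟨0, 0, 34944, 0, 34944, 1, 34944⟩, .dfn))))) (.node (.node (.node (.leaf (⟨1, 1, 29872, 0, 21721, 1, 34944⟩, .sync ⟨2, 0, 1154⟩)) (.leaf (⟨1, 3, 34944, 0, 34944, 3, 34944⟩, .unit))) (.node (.leaf (⟨1, 1, 34944, 0, 34944, 1, 34944⟩, .unit)) (.leaf (⟨0, 0, 34944, 0, 34944, 1, 34944⟩, .dfn)))) (.node (.node (.leaf (⟨1, 1, 28877, 0, 21693, 1, 34944⟩, .sync ⟨6, 0, 172⟩)) (.leaf (⟨0, 0, 34944, 0, 34944, 1, 34944⟩, .dfn))) (.node (.leaf (⟨1, 3, 36052, 0, 44269, 3, 34944⟩, .sync ⟨9, 13, 741⟩)) (.leaf (⟨0, 0, 34944, 0, 34944, 1, 34944⟩, .dfn)))))))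

/-- definitions -/
def defsMixBad27 : List (ℕ × ℕ × ℕ) := [(0, 34944, 0), (0, 34944, 1), (1, 34659, 0)]

/-- the facts -/
def factsMixBad28 : Tree (Fct × Why) :=
  (.node (.node (.node (.node (.node (.leaf (⟨0, 0, 34944, 0, 34944, 1, 34944⟩, .dfn)) (.leaf (⟨1, 1, 44273, 0, 44273, 1, 34944⟩, .mul 7 7))) (.node (.leaf (⟨1, 1, 51420, 0, 40108, 1, 34944⟩, .mul 5 7)) (.leaf (⟨0, 0, 34944, 0, 34944, 1, 34944⟩, .dfn)))) (.node (.node (.leaf (⟨1, 0, 30869, 0, 30869, 0, 34944⟩, .base)) (.leaf (⟨1, 0, 47638, 0, 47687, 0, 34944⟩, .close 7 2 34944 [⟨10, 0, 0⟩, ⟨16, 13, 243⟩, ⟨15, 18, 440⟩, ⟨19, 14, 112⟩, ⟨11, 1, 122⟩]))) (.node (.leaf (⟨1, 0, 52187, 0, 52187, 0, 34944⟩, .base)) (.leaf (⟨0, 0, 34944, 0, 34944, 1, 34944⟩, .dfn))))) (.node (.node (.node (.leaf (⟨1, 0, 21721, 0, 21721, 0, 34944⟩, .base)) (.leaf (⟨0, 3, 63318, 1, 11975, 3, 14185⟩, .fill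 6 1 4 [34944, 44574, 34944, 65536, 54904, 65536, 62212] 0 34944 [⟨10, 0, 0⟩, ⟨16, 13, 243⟩] [⟨12, 0, 336⟩, ⟨17, 13, 1259⟩]))) (.node (.leaf (⟨1, 0, 34944, 0, 34944, 0, 34944⟩, .base)) (.leaf (⟨0, 0, 34944, 0, 34944, 1, 34944⟩, .dfn)))) (.node (.node (.leaf (⟨1, 0, 21693, 0, 21693, 0, 34944⟩, .base)) (.leaf (⟨0, 0, 34944, 0, 34944, 1, 34944⟩, .dfn))) (.node (.leaf (⟨0, 3, 34944, 0, 34944, 1, 34659⟩, .inv 13)) (.leaf (⟨0, 0, 34944, 0, 34944, 1, 34944⟩, .dfn)))))) (.node (.node (.node (.node (.leaf (⟨0, 1, 34944, 0, 34944, 0, 34944⟩, .inv 0)) (.leaf (⟨1, 1, 54428, 0, 22657, 1, 34944⟩, .mul 8 3))) (.node (.leaf (⟨1, 1, 35056, 0, 44269, 1, 34944⟩, .mul 3 3)) (.leaf (⟨0, 0, 34944, 0, 34944, 1, 34944⟩, .dfn)))) (.node (.node (.leaf (⟨1, 1, 62617, 0, 30869, 1, 34944⟩, .sync ⟨4, 0, 761⟩)) (.leaf (⟨0, 0, 34944, 0, 34944, 1, 34944⟩, .dfn))) (.node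 (.leaf (⟨0, 1, 34659, 0, 34944, 3, 34944⟩, .dfn)) (.leaf (⟨0, 0, 34944, 0, 34944, 1, 34944⟩, .dfn))))) (.node (.node (.node (.leaf (⟨1, 1, 29872, 0, 21721, 1, 34944⟩, .sync ⟨2, 0, 1154⟩)) (.leaf (⟨1, 3, 34944, 0, 34944, 3, 34944⟩, .unit))) (.node (.leaf (⟨1, 1, 34944, 0, 34944, 1, 34944⟩, .unit)) (.leaf (⟨0, 0, 34944, 0, 34944, 1, 34944⟩, .dfn)))) (.node (.node (.leaf (⟨1, 1, 28877, 0, 21693, 1, 34944⟩, .sync ⟨6, 0, 172⟩)) (.leaf (⟨0, 0, 34944, 0, 34944, 1, 34944⟩, .dfn))) (.node (.leaf (⟨1, 3, 36052, 0, 44269, 3, 34944⟩, .sync ⟨9, 13, 741⟩)) (.leaf (⟨0, 0, 34944, 0, 34944, 1, 34944⟩, .dfn)))))))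

/-- definitions -/
def defsMixBad28 : List (ℕ × ℕ × ℕ) := [(0, 34944, 0), (0, 34944, 1), (1, 34659, 0)]

/-- the facts -/
def factsMixBad29 : Tree (Fct × Why) :=
  (.node (.node (.node (.node (.node (.leaf (⟨0, 0, 34944, 0, 34944, 1, 34944⟩, .dfn)) (.leaf (⟨1, 1, 44273, 0, 44273, 1, 34944⟩, .mul 7 7))) (.node (.leaf (⟨1, 1, 51420, 0, 40108, 1, 34944⟩, .mul 5 7)) (.leaf (⟨0, 0, 34944, 0, 34944, 1, 34944⟩, .dfn)))) (.node (.node (.leaf (⟨1, 0, 30869, 0, 30869, 0, 34944⟩, .base)) (.leaf (⟨1, 0, 47638, 0, 47687, 0, 34944⟩, .close 7 2 34944 [⟨10, 0, 0⟩, ⟨16, 13, 243⟩, ⟨15, 18, 440⟩, ⟨19, 14, 156⟩, ⟨11, 1, 479⟩]))) (.node (.leaf (⟨1, 0, 52187, 0, 52187, 0, 34944⟩, .base)) (.leaf (⟨0, 0, 34944, 0, 34944, 1, 34944⟩, .dfn))))) (.node (.node (.node (.leaf (⟨1, 0, 21721, 0, 21721, 0, 34944⟩, .base)) (.leaf (⟨0, 3, 63318, 1, 11975, 3, 61252⟩, .fill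 6 1 4 [34944, 44575, 34944, 65536, 54904, 65536, 62212] 0 34944 [⟨10, 0, 0⟩, ⟨16, 13, 243⟩] [⟨12, 0, 1011⟩, ⟨17, 13, 868⟩]))) (.node (.leaf (⟨1, 0, 34944, 0, 34944, 0, 34944⟩, .base)) (.leaf (⟨0, 0, 34944, 0, 34944, 1, 34944⟩, .dfn)))) (.node (.node (.leaf (⟨1, 0, 21693, 0, 21693, 0, 34944⟩, .base)) (.leaf (⟨0, 0, 34944, 0, 34944, 1, 34944⟩, .dfn))) (.node (.leaf (⟨0, 3, 34944, 0, 34944, 1, 34659⟩, .inv 13)) (.leaf (⟨0, 0, 34944, 0, 34944, 1, 34944⟩, .dfn)))))) (.node (.node (.node (.node (.leaf (⟨0, 1, 34944, 0, 34944, 0, 34944⟩, .inv 0)) (.leaf (⟨1, 1, 54428, 0, 22657, 1, 34944⟩, .mul 8 3))) (.node (.leaf (⟨1, 1, 35056, 0, 44269, 1, 34944⟩, .mul 3 3)) (.leaf (⟨0, 0, 34944, 0, 34944, 1, 34944⟩, .dfn)))) (.node (.node (.leaf (⟨1, 1, 62617, 0, 30869, 1, 34944⟩, .sync ⟨4, 0, 761⟩)) (.leaf (⟨0, 0, 34944, 0, 34944, 1, 34944⟩, .dfn))) (.node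 (.leaf (⟨0, 1, 34659, 0, 34944, 3, 34944⟩, .dfn)) (.leaf (⟨0, 0, 34944, 0, 34944, 1, 34944⟩, .dfn))))) (.node (.node (.node (.leaf (⟨1, 1, 29872, 0, 21721, 1, 34944⟩, .sync ⟨2, 0, 1154⟩)) (.leaf (⟨1, 3, 34944, 0, 34944, 3, 34944⟩, .unit))) (.node (.leaf (⟨1, 1, 34944, 0, 34944, 1, 34944⟩, .unit)) (.leaf (⟨0, 0, 34944, 0, 34944, 1, 34944⟩, .dfn)))) (.node (.node (.leaf (⟨1, 1, 28877, 0, 21693, 1, 34944⟩, .sync ⟨6, 0, 172⟩)) (.leaf (⟨0, 0, 34944, 0, 34944, 1, 34944⟩, .dfn))) (.node (.leaf (⟨1, 3, 36052, 0, 44269, 3, 34944⟩, .sync ⟨9, 13, 741⟩)) (.leaf (⟨0, 0, 34944, 0, 34944, 1, 34944⟩, .dfn)))))))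

/-- definitions -/
def defsMixBad29 : List (ℕ × ℕ × ℕ) := [(0, 34944, 0), (0, 34944, 1), (1, 34659, 0)]

/-- the facts -/
def factsMixBad30 : Tree (Fct × Why) :=
  (.node (.node (.node (.node (.node (.leaf (⟨0, 0, 34944, 0, 34944, 1, 34944⟩, .dfn)) (.leaf (⟨1, 1, 44273, 0, 44273, 1, 34944⟩, .mul 7 7))) (.node (.leaf (⟨1, 1, 51420, 0, 40108, 1, 34944⟩, .mul 5 7)) (.leaf (⟨0, 0, 34944, 0, 34944, 1, 34944⟩, .dfn)))) (.node (.node (.leaf (⟨1, 0, 30869, 0, 30869, 0, 34944⟩, .base)) (.leaf (⟨1, 0, 47639, 0, 47687, 0, 34944⟩, .close 7 2 34944 [⟨10, 0, 0⟩, ⟨16, 13, 243⟩, ⟨15, 18, 440⟩, ⟨19, 14, 615⟩, ⟨11, 1, 831⟩]))) (.node (.leaf (⟨1, 0, 52187, 0, 52187, 0, 34944⟩, .base)) (.leaf (⟨0, 0, 34944, 0, 34944, 1, 34944⟩, .dfn))))) (.node (.node (.node (.leaf (⟨1, 0, 21721, 0, 21721, 0, 34944⟩, .base)) (.leaf (⟨0, 3, 63318, 1, 11975, 3, 61288⟩, .fill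 6 1 4 [34944, 44618, 34944, 65536, 54904, 65536, 62212] 0 34944 [⟨10, 0, 0⟩, ⟨16, 13, 243⟩] [⟨12, 0, 428⟩, ⟨17, 13, 530⟩]))) (.node (.leaf (⟨1, 0, 34944, 0, 34944, 0, 34944⟩, .base)) (.leaf (⟨0, 0, 34944, 0, 34944, 1, 34944⟩, .dfn)))) (.node (.node (.leaf (⟨1, 0, 21693, 0, 21693, 0, 34944⟩, .base)) (.leaf (⟨0, 0, 34944, 0, 34944, 1, 34944⟩, .dfn))) (.node (.leaf (⟨0, 3, 34944, 0, 34944, 1, 34659⟩, .inv 13)) (.leaf (⟨0, 0, 34944, 0, 34944, 1, 34944⟩, .dfn)))))) (.node (.node (.node (.node (.leaf (⟨0, 1, 34944, 0, 34944, 0, 34944⟩, .inv 0)) (.leaf (⟨1, 1, 54428, 0, 22657, 1, 34944⟩, .mul 8 3))) (.node (.leaf (⟨1, 1, 35056, 0, 44269, 1, 34944⟩, .mul 3 3)) (.leaf (⟨0, 0, 34944, 0, 34944, 1, 34944⟩, .dfn)))) (.node (.node (.leaf (⟨1, 1, 62617, 0, 30869, 1, 34944⟩, .sync ⟨4, 0, 761⟩)) (.leaf (⟨0, 0, 34944, 0, 34944, 1, 34944⟩, .dfn))) (.node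 (.leaf (⟨0, 1, 34659, 0, 34944, 3, 34944⟩, .dfn)) (.leaf (⟨0, 0, 34944, 0, 34944, 1, 34944⟩, .dfn))))) (.node (.node (.node (.leaf (⟨1, 1, 29872, 0, 21721, 1, 34944⟩, .sync ⟨2, 0, 1154⟩)) (.leaf (⟨1, 3, 34944, 0, 34944, 3, 34944⟩, .unit))) (.node (.leaf (⟨1, 1, 34944, 0, 34944, 1, 34944⟩, .unit)) (.leaf (⟨0, 0, 34944, 0, 34944, 1, 34944⟩, .dfn)))) (.node (.node (.leaf (⟨1, 1, 28877, 0, 21693, 1, 34944⟩, .sync ⟨6, 0, 172⟩)) (.leaf (⟨0, 0, 34944, 0, 34944, 1, 34944⟩, .dfn))) (.node (.leaf (⟨1, 3, 36052, 0, 44269, 3, 34944⟩, .sync ⟨9, 13, 741⟩)) (.leaf (⟨0, 0, 34944, 0, 34944, 1, 34944⟩, .dfn)))))))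

/-- definitions -/
def defsMixBad30 : List (ℕ × ℕ × ℕ) := [(0, 34944, 0), (0, 34944, 1), (1, 34659, 0)]

/-- the facts -/
def factsMixBad31 : Tree (Fct × Why) :=
  (.node (.node (.node (.node (.node (.leaf (⟨0, 0, 34944, 0, 34944, 1, 34944⟩, .dfn)) (.leaf (⟨1, 1, 44273, 0, 44273, 1, 34944⟩, .mul 7 7))) (.node (.leaf (⟨1, 1, 51420, 0, 40108, 1, 34944⟩, .mul 5 7)) (.leaf (⟨0, 0, 34944, 0, 34944, 1, 34944⟩, .dfn)))) (.node (.node (.leaf (⟨1, 0, 30869, 0, 30869, 0, 34944⟩, .base)) (.leaf (⟨1, 0, 47639, 0, 47687, 0, 34944⟩, .close 7 2 34944 [⟨10, 0, 0⟩, ⟨16, 13, 243⟩, ⟨15, 18, 440⟩, ⟨19, 14, 1084⟩, ⟨11, 1, 218⟩]))) (.node (.leaf (⟨1, 0, 52187, 0, 52187, 0, 34944⟩, .base)) (.leaf (⟨0, 0, 34944, 0, 34944, 1, 34944⟩, .dfn))))) (.node (.node (.node (.leaf (⟨1, 0, 21721, 0, 21721, 0, 34944⟩, .base)) (.leaf (⟨0, 3, 63318, 1, 11975, 3, 14149⟩, .fill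 6 1 4 [34944, 44619, 34944, 65536, 54904, 65536, 62212] 0 34944 [⟨10, 0, 0⟩, ⟨16, 13, 243⟩] [⟨12, 0, 1198⟩, ⟨17, 13, 41⟩]))) (.node (.leaf (⟨1, 0, 34944, 0, 34944, 0, 34944⟩, .base)) (.leaf (⟨0, 0, 34944, 0, 34944, 1, 34944⟩, .dfn)))) (.node (.node (.leaf (⟨1, 0, 21693, 0, 21693, 0, 34944⟩, .base)) (.leaf (⟨0, 0, 34944, 0, 34944, 1, 34944⟩, .dfn))) (.node (.leaf (⟨0, 3, 34944, 0, 34944, 1, 34659⟩, .inv 13)) (.leaf (⟨0, 0, 34944, 0, 34944, 1, 34944⟩, .dfn)))))) (.node (.node (.node (.node (.leaf (⟨0, 1, 34944, 0, 34944, 0, 34944⟩, .inv 0)) (.leaf (⟨1, 1, 54428, 0, 22657, 1, 34944⟩, .mul 8 3))) (.node (.leaf (⟨1, 1, 35056, 0, 44269, 1, 34944⟩, .mul 3 3)) (.leaf (⟨0, 0, 34944, 0, 34944, 1, 34944⟩, .dfn)))) (.node (.node (.leaf (⟨1, 1, 62617, 0, 30869, 1, 34944⟩, .sync ⟨4, 0, 761⟩)) (.leaf (⟨0, 0, 34944, 0, 34944, 1, 34944⟩, .dfn))) (.node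 (.leaf (⟨0, 1, 34659, 0, 34944, 3, 34944⟩, .dfn)) (.leaf (⟨0, 0, 34944, 0, 34944, 1, 34944⟩, .dfn))))) (.node (.node (.node (.leaf (⟨1, 1, 29872, 0, 21721, 1, 34944⟩, .sync ⟨2, 0, 1154⟩)) (.leaf (⟨1, 3, 34944, 0, 34944, 3, 34944⟩, .unit))) (.node (.leaf (⟨1, 1, 34944, 0, 34944, 1, 34944⟩, .unit)) (.leaf (⟨0, 0, 34944, 0, 34944, 1, 34944⟩, .dfn)))) (.node (.node (.leaf (⟨1, 1, 28877, 0, 21693, 1, 34944⟩, .sync ⟨6, 0, 172⟩)) (.leaf (⟨0, 0, 34944, 0, 34944, 1, 34944⟩, .dfn))) (.node (.leaf (⟨1, 3, 36052, 0, 44269, 3, 34944⟩, .sync ⟨9, 13, 741⟩)) (.leaf (⟨0, 0, 34944, 0, 34944, 1, 34944⟩, .dfn)))))))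

/-- definitions -/
def defsMixBad31 : List (ℕ × ℕ × ℕ) := [(0, 34944, 0), (0, 34944, 1), (1, 34659, 0)]

/-- the facts -/
def factsMixBad32 : Tree (Fct × Why) :=
  (.node (.node (.node (.node (.node (.leaf (⟨0, 0, 34944, 0, 34944, 1, 34944⟩, .dfn)) (.leaf (⟨1, 1, 44273, 0, 44273, 1, 34944⟩, .mul 7 7))) (.node (.leaf (⟨1, 1, 51420, 0, 40108, 1, 34944⟩, .mul 5 7)) (.leaf (⟨0, 0, 34944, 0, 34944, 1, 34944⟩, .dfn)))) (.node (.node (.leaf (⟨1, 0, 30869, 0, 30869, 0, 34944⟩, .base)) (.leaf (⟨1, 0, 47638, 0, 47687, 0, 34944⟩, .close 7 2 34944 [⟨10, 0, 0⟩, ⟨16, 13, 243⟩, ⟨15, 18, 440⟩, ⟨19, 14, 1140⟩, ⟨11, 1, 428⟩]))) (.node (.leaf (⟨1, 0, 52187, 0, 52187, 0, 34944⟩, .base)) (.leaf (⟨0, 0, 34944, 0, 34944, 1, 34944⟩, .dfn))))) (.node (.node (.node (.leaf (⟨1, 0, 21721, 0, 21721, 0, 34944⟩, .base)) (.leaf (⟨0, 3, 63318, 1, 11975, 3, 42788⟩, .fill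 6 1 4 [34944, 44622, 34944, 65536, 54904, 65536, 62212] 0 34944 [⟨10, 0, 0⟩, ⟨16, 13, 243⟩] [⟨12, 0, 180⟩, ⟨17, 13, 408⟩]))) (.node (.leaf (⟨1, 0, 34944, 0, 34944, 0, 34944⟩, .base)) (.leaf (⟨0, 0, 34944, 0, 34944, 1, 34944⟩, .dfn)))) (.node (.node (.leaf (⟨1, 0, 21693, 0, 21693, 0, 34944⟩, .base)) (.leaf (⟨0, 0, 34944, 0, 34944, 1, 34944⟩, .dfn))) (.node (.leaf (⟨0, 3, 34944, 0, 34944, 1, 34659⟩, .inv 13)) (.leaf (⟨0, 0, 34944, 0, 34944, 1, 34944⟩, .dfn)))))) (.node (.node (.node (.node (.leaf (⟨0, 1, 34944, 0, 34944, 0, 34944⟩, .inv 0)) (.leaf (⟨1, 1, 54428, 0, 22657, 1, 34944⟩, .mul 8 3))) (.node (.leaf (⟨1, 1, 35056, 0, 44269, 1, 34944⟩, .mul 3 3)) (.leaf (⟨0, 0, 34944, 0, 34944, 1, 34944⟩, .dfn)))) (.node (.node (.leaf (⟨1, 1, 62617, 0, 30869, 1, 34944⟩, .sync ⟨4, 0, 761⟩)) (.leaf (⟨0, 0, 34944, 0, 34944, 1, 34944⟩, .dfn))) (.node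 (.leaf (⟨0, 1, 34659, 0, 34944, 3, 34944⟩, .dfn)) (.leaf (⟨0, 0, 34944, 0, 34944, 1, 34944⟩, .dfn))))) (.node (.node (.node (.leaf (⟨1, 1, 29872, 0, 21721, 1, 34944⟩, .sync ⟨2, 0, 1154⟩)) (.leaf (⟨1, 3, 34944, 0, 34944, 3, 34944⟩, .unit))) (.node (.leaf (⟨1, 1, 34944, 0, 34944, 1, 34944⟩, .unit)) (.leaf (⟨0, 0, 34944, 0, 34944, 1, 34944⟩, .dfn)))) (.node (.node (.leaf (⟨1, 1, 28877, 0, 21693, 1, 34944⟩, .sync ⟨6, 0, 172⟩)) (.leaf (⟨0, 0, 34944, 0, 34944, 1, 34944⟩, .dfn))) (.node (.leaf (⟨1, 3, 36052, 0, 44269, 3, 34944⟩, .sync ⟨9, 13, 741⟩)) (.leaf (⟨0, 0, 34944, 0, 34944, 1, 34944⟩, .dfn)))))))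

/-- definitions -/
def defsMixBad32 : List (ℕ × ℕ × ℕ) := [(0, 34944, 0), (0, 34944, 1), (1, 34659, 0)]

/-- the facts -/
def factsMixBad33 : Tree (Fct × Why) :=
  (.node (.node (.node (.node (.node (.leaf (⟨0, 0, 34944, 0, 34944, 1, 34944⟩, .dfn)) (.leaf (⟨1, 1, 44273, 0, 44273, 1, 34944⟩, .mul 7 7))) (.node (.leaf (⟨1, 1, 51420, 0, 40108, 1, 34944⟩, .mul 5 7)) (.leaf (⟨0, 0, 34944, 0, 34944, 1, 34944⟩, .dfn)))) (.node (.node (.leaf (⟨1, 0, 30869, 0, 30869, 0, 34944⟩, .base)) (.leaf (⟨1, 0, 47638, 0, 47687, 0, 34944⟩, .close 7 2 34944 [⟨10, 0, 0⟩, ⟨16, 13, 243⟩, ⟨15, 18, 440⟩, ⟨19, 14, 341⟩, ⟨11, 1, 797⟩]))) (.node (.leaf (⟨1, 0, 52187, 0, 52187, 0, 34944⟩, .base)) (.leaf (⟨0, 0, 34944, 0, 34944, 1, 34944⟩, .dfn))))) (.node (.node (.node (.leaf (⟨1, 0, 21721, 0, 21721, 0, 34944⟩, .base)) (.leaf (⟨0, 3, 63318, 1, 11975, 3, 32521⟩, .fill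 6 1 4 [34944, 44623, 34944, 65536, 54904, 65536, 62212] 0 34944 [⟨10, 0, 0⟩, ⟨16, 13, 243⟩] [⟨12, 0, 725⟩, ⟨17, 13, 1379⟩]))) (.node (.leaf (⟨1, 0, 34944, 0, 34944, 0, 34944⟩, .base)) (.leaf (⟨0, 0, 34944, 0, 34944, 1, 34944⟩, .dfn)))) (.node (.node (.leaf (⟨1, 0, 21693, 0, 21693, 0, 34944⟩, .base)) (.leaf (⟨0, 0, 34944, 0, 34944, 1, 34944⟩, .dfn))) (.node (.leaf (⟨0, 3, 34944, 0, 34944, 1, 34659⟩, .inv 13)) (.leaf (⟨0, 0, 34944, 0, 34944, 1, 34944⟩, .dfn)))))) (.node (.node (.node (.node (.leaf (⟨0, 1, 34944, 0, 34944, 0, 34944⟩, .inv 0)) (.leaf (⟨1, 1, 54428, 0, 22657, 1, 34944⟩, .mul 8 3))) (.node (.leaf (⟨1, 1, 35056, 0, 44269, 1, 34944⟩, .mul 3 3)) (.leaf (⟨0, 0, 34944, 0, 34944, 1, 34944⟩, .dfn)))) (.node (.node (.leaf (⟨1, 1, 62617, 0, 30869, 1, 34944⟩, .sync ⟨4, 0, 761⟩)) (.leaf (⟨0, 0, 34944, 0, 34944, 1, 34944⟩, .dfn))) (.node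 (.leaf (⟨0, 1, 34659, 0, 34944, 3, 34944⟩, .dfn)) (.leaf (⟨0, 0, 34944, 0, 34944, 1, 34944⟩, .dfn))))) (.node (.node (.node (.leaf (⟨1, 1, 29872, 0, 21721, 1, 34944⟩, .sync ⟨2, 0, 1154⟩)) (.leaf (⟨1, 3, 34944, 0, 34944, 3, 34944⟩, .unit))) (.node (.leaf (⟨1, 1, 34944, 0, 34944, 1, 34944⟩, .unit)) (.leaf (⟨0, 0, 34944, 0, 34944, 1, 34944⟩, .dfn)))) (.node (.node (.leaf (⟨1, 1, 28877, 0, 21693, 1, 34944⟩, .sync ⟨6, 0, 172⟩)) (.leaf (⟨0, 0, 34944, 0, 34944, 1, 34944⟩, .dfn))) (.node (.leaf (⟨1, 3, 36052, 0, 44269, 3, 34944⟩, .sync ⟨9, 13, 741⟩)) (.leaf (⟨0, 0, 34944, 0, 34944, 1, 34944⟩, .dfn)))))))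

/-- definitions -/
def defsMixBad33 : List (ℕ × ℕ × ℕ) := [(0, 34944, 0), (0, 34944, 1), (1, 34659, 0)]

/-- the facts -/
def factsMixBad34 : Tree (Fct × Why) :=
  (.node (.node (.node (.node (.node (.leaf (⟨0, 0, 34944, 0, 34944, 1, 34944⟩, .dfn)) (.leaf (⟨1, 1, 44273, 0, 44273, 1, 34944⟩, .mul 7 7))) (.node (.leaf (⟨1, 1, 51420, 0, 40108, 1, 34944⟩, .mul 5 7)) (.leaf (⟨0, 0, 34944, 0, 34944, 1, 34944⟩, .dfn)))) (.node (.node (.leaf (⟨1, 0, 30869, 0, 30869, 0, 34944⟩, .base)) (.leaf (⟨1, 0, 47686, 0, 47687, 0, 34944⟩, .close 7 2 34944 [⟨10, 0, 0⟩, ⟨16, 13, 243⟩, ⟨15, 18, 440⟩, ⟨19, 14, 274⟩, ⟨11, 1, 1115⟩]))) (.node (.leaf (⟨1, 0, 52187, 0, 52187, 0, 34944⟩, .base)) (.leaf (⟨0, 0, 34944, 0, 34944, 1, 34944⟩, .dfn))))) (.node (.node (.node (.leaf (⟨1, 0, 21721, 0, 21721, 0, 34944⟩, .base)) (.leaf (⟨0, 3, 63318, 1, 11975, 3, 61192⟩, .fill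 6 1 4 [34944, 44634, 34944, 65536, 54904, 65536, 62212] 0 34944 [⟨10, 0, 0⟩, ⟨16, 13, 243⟩] [⟨12, 0, 797⟩, ⟨17, 13, 122⟩]))) (.node (.leaf (⟨1, 0, 34944, 0, 34944, 0, 34944⟩, .base)) (.leaf (⟨0, 0, 34944, 0, 34944, 1, 34944⟩, .dfn)))) (.node (.node (.leaf (⟨1, 0, 21693, 0, 21693, 0, 34944⟩, .base)) (.leaf (⟨0, 0, 34944, 0, 34944, 1, 34944⟩, .dfn))) (.node (.leaf (⟨0, 3, 34944, 0, 34944, 1, 34659⟩, .inv 13)) (.leaf (⟨0, 0, 34944, 0, 34944, 1, 34944⟩, .dfn)))))) (.node (.node (.node (.node (.leaf (⟨0, 1, 34944, 0, 34944, 0, 34944⟩, .inv 0)) (.leaf (⟨1, 1, 54428, 0, 22657, 1, 34944⟩, .mul 8 3))) (.node (.leaf (⟨1, 1, 35056, 0, 44269, 1, 34944⟩, .mul 3 3)) (.leaf (⟨0, 0, 34944, 0, 34944, 1, 34944⟩, .dfn)))) (.node (.node (.leaf (⟨1, 1, 62617, 0, 30869, 1, 34944⟩, .sync ⟨4, 0, 761⟩)) (.leaf (⟨0, 0, 34944, 0, 34944, 1, 34944⟩, .dfn))) (.node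 (.leaf (⟨0, 1, 34659, 0, 34944, 3, 34944⟩, .dfn)) (.leaf (⟨0, 0, 34944, 0, 34944, 1, 34944⟩, .dfn))))) (.node (.node (.node (.leaf (⟨1, 1, 29872, 0, 21721, 1, 34944⟩, .sync ⟨2, 0, 1154⟩)) (.leaf (⟨1, 3, 34944, 0, 34944, 3, 34944⟩, .unit))) (.node (.leaf (⟨1, 1, 34944, 0, 34944, 1, 34944⟩, .unit)) (.leaf (⟨0, 0, 34944, 0, 34944, 1, 34944⟩, .dfn)))) (.node (.node (.leaf (⟨1, 1, 28877, 0, 21693, 1, 34944⟩, .sync ⟨6, 0, 172⟩)) (.leaf (⟨0, 0, 34944, 0, 34944, 1, 34944⟩, .dfn))) (.node (.leaf (⟨1, 3, 36052, 0, 44269, 3, 34944⟩, .sync ⟨9, 13, 741⟩)) (.leaf (⟨0, 0, 34944, 0, 34944, 1, 34944⟩, .dfn)))))))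

/-- definitions -/
def defsMixBad34 : List (ℕ × ℕ × ℕ) := [(0, 34944, 0), (0, 34944, 1), (1, 34659, 0)]

/-- the facts -/
def factsMixBad35 : Tree (Fct × Why) :=
  (.node (.node (.node (.node (.node (.leaf (⟨0, 0, 34944, 0, 34944, 1, 34944⟩, .dfn)) (.leaf (⟨1, 1, 44273, 0, 44273, 1, 34944⟩, .mul 7 7))) (.node (.leaf (⟨1, 1, 51420, 0, 40108, 1, 34944⟩, .mul 5 7)) (.leaf (⟨0, 0, 34944, 0, 34944, 1, 34944⟩, .dfn)))) (.node (.node (.leaf (⟨1, 0, 30869, 0, 30869, 0, 34944⟩, .base)) (.leaf (⟨1, 0, 47686, 0, 47687, 0, 34944⟩, .close 7 2 34944 [⟨10, 0, 0⟩, ⟨16, 13, 243⟩, ⟨15, 18, 440⟩, ⟨19, 14, 83⟩, ⟨11, 1, 813⟩]))) (.node (.leaf (⟨1, 0, 52187, 0, 52187, 0, 34944⟩, .base)) (.leaf (⟨0, 0, 34944, 0, 34944, 1, 34944⟩, .dfn))))) (.node (.node (.node (.leaf (⟨1, 0, 21721, 0, 21721, 0, 34944⟩, .base)) (.leaf (⟨0, 3, 63318, 1, 11975, 3, 14117⟩, .fill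 6 1 4 [34944, 44635, 34944, 65536, 54904, 65536, 62212] 0 34944 [⟨10, 0, 0⟩, ⟨16, 13, 243⟩] [⟨12, 0, 915⟩, ⟨17, 13, 204⟩]))) (.node (.leaf (⟨1, 0, 34944, 0, 34944, 0, 34944⟩, .base)) (.leaf (⟨0, 0, 34944, 0, 34944, 1, 34944⟩, .dfn)))) (.node (.node (.leaf (⟨1, 0, 21693, 0, 21693, 0, 34944⟩, .base)) (.leaf (⟨0, 0, 34944, 0, 34944, 1, 34944⟩, .dfn))) (.node (.leaf (⟨0, 3, 34944, 0, 34944, 1, 34659⟩, .inv 13)) (.leaf (⟨0, 0, 34944, 0, 34944, 1, 34944⟩, .dfn)))))) (.node (.node (.node (.node (.leaf (⟨0, 1, 34944, 0, 34944, 0, 34944⟩, .inv 0)) (.leaf (⟨1, 1, 54428, 0, 22657, 1, 34944⟩, .mul 8 3))) (.node (.leaf (⟨1, 1, 35056, 0, 44269, 1, 34944⟩, .mul 3 3)) (.leaf (⟨0, 0, 34944, 0, 34944, 1, 34944⟩, .dfn)))) (.node (.node (.leaf (⟨1, 1, 62617, 0, 30869, 1, 34944⟩, .sync ⟨4, 0, 761⟩)) (.leaf (⟨0, 0, 34944, 0, 34944, 1, 34944⟩, .dfn))) (.node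 (.leaf (⟨0, 1, 34659, 0, 34944, 3, 34944⟩, .dfn)) (.leaf (⟨0, 0, 34944, 0, 34944, 1, 34944⟩, .dfn))))) (.node (.node (.node (.leaf (⟨1, 1, 29872, 0, 21721, 1, 34944⟩, .sync ⟨2, 0, 1154⟩)) (.leaf (⟨1, 3, 34944, 0, 34944, 3, 34944⟩, .unit))) (.node (.leaf (⟨1, 1, 34944, 0, 34944, 1, 34944⟩, .unit)) (.leaf (⟨0, 0, 34944, 0, 34944, 1, 34944⟩, .dfn)))) (.node (.node (.leaf (⟨1, 1, 28877, 0, 21693, 1, 34944⟩, .sync ⟨6, 0, 172⟩)) (.leaf (⟨0, 0, 34944, 0, 34944, 1, 34944⟩, .dfn))) (.node (.leaf (⟨1, 3, 36052, 0, 44269, 3, 34944⟩, .sync ⟨9, 13, 741⟩)) (.leaf (⟨0, 0, 34944, 0, 34944, 1, 34944⟩, .dfn)))))))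

/-- definitions -/
def defsMixBad35 : List (ℕ × ℕ × ℕ) := [(0, 34944, 0), (0, 34944, 1), (1, 34659, 0)]

/-- the facts -/
def factsMixBad36 : Tree (Fct × Why) :=
  (.node (.node (.node (.node (.node (.leaf (⟨0, 0, 34944, 0, 34944, 1, 34944⟩, .dfn)) (.leaf (⟨1, 3, 36052, 0, 44269, 3, 34944⟩, .sync ⟨8, 14, 741⟩))) (.node (.leaf (⟨1, 1, 35056, 0, 44269, 1, 34944⟩, .mul 2 2)) (.leaf (⟨1, 3, 34944, 0, 34944, 3, 34944⟩, .unit)))) (.node (.node (.leaf (⟨1, 1, 62617, 0, 30869, 1, 34944⟩, .sync ⟨3, 0, 761⟩)) (.leaf (⟨1, 1, 60597, 0, 47305, 1, 34944⟩, .mul 19 4))) (.node (.leaf (⟨1, 1, 34944, 0, 34944, 1, 34944⟩, .unit)) (.leaf (⟨1, 1, 36085, 0, 36085, 1, 34944⟩, .mul 27 6))))) (.node (.node (.node (.leaf (⟨1, 1, 29872, 0, 21721, 1, 34944⟩, .sync ⟨1, 0, 1154⟩)) (.leaf (⟨1, 1, 20673, 0, 28857, 1, 34944⟩, .mul 17 2))) (.node (.leaf (⟨1, 0, 31898,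 0, 31898, 0, 34944⟩, .base)) (.leaf (⟨1, 1, 52384, 0, 39132, 1, 34944⟩, .mul 21 6)))) (.node (.node (.leaf (⟨1, 1, 28877, 0, 21693, 1, 34944⟩, .sync ⟨5, 0, 172⟩)) (.leaf (⟨1, 1, 54428, 0, 22657, 1, 34944⟩, .mul 7 2))) (.node (.leaf (⟨0, 1, 34659, 0, 34944, 3, 34944⟩, .dfn)) (.leaf (⟨0, 0, 34944, 0, 34944, 1, 34944⟩, .dfn)))))) (.node (.node (.node (.node (.leaf (⟨1, 0, 21721, 0, 21721, 0, 34944⟩, .base)) (.leaf (⟨1, 1, 44273, 0, 44273, 1, 34944⟩, .mul 6 6))) (.node (.leaf (⟨1, 0, 34944, 0, 34944, 0, 34944⟩, .base)) (.leaf (⟨0, 3, 56635, 0, 36560, 3, 27220⟩, .fill 6 1 6 [34944, 44638, 34944, 65536, 54904] 1 34946 [⟨12, 11, 0⟩, ⟨22, 14, 119⟩, ⟨16, 23, 1085⟩] [⟨6, 14, 1295⟩])))) (.node (.node (.leaf (⟨1, 0, 21693, 0, 21693, 0, 34944⟩, .base)) (.leaf (⟨1, 1, 61685, 0, 31989, 1, 34944⟩, .mul 20 2))) (.node (.leaf (⟨1, 0, 52187, 0, 52187, 0,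 34944⟩, .base)) (.leaf (⟨1, 1, 36085, 0, 40181, 1, 34944⟩, .close 6 9 34946 [⟨12, 11, 0⟩, ⟨18, 14, 513⟩, ⟨16, 25, 73⟩, ⟨16, 23, 78⟩, ⟨24, 15, 1193⟩]))))) (.node (.node (.node (.leaf (⟨1, 0, 30869, 0, 30869, 0, 34944⟩, .base)) (.leaf (⟨1, 1, 40169, 0, 51429, 1, 34944⟩, .mul 6 4))) (.node (.leaf (⟨0, 1, 34946, 0, 31898, 1, 39050⟩, .fill 0 0 2 [20621, 34946, 65536, 34946] 0 34944 [⟨9, 0, 0⟩] [⟨10, 0, 512⟩])) (.leaf (⟨1, 1, 20681, 0, 29881, 1, 34944⟩, .mul 26 4)))) (.node (.node (.leaf (⟨1, 1, 51420, 0, 40108, 1, 34944⟩, .mul 4 6)) (.leaf (⟨0, 3, 63318, 1, 11975, 3, 42820⟩, .fill 6 1 4 [34944, 44638, 34944, 65536, 54904, 65536, 62212] 0 34944 [⟨9, 0, 0⟩, ⟨17, 14, 243⟩] [⟨13, 0, 348⟩, ⟨22, 14, 138⟩]))) (.node (.leaf (⟨0, 3, 34944, 0, 34944, 1, 34659⟩, .inv 14)) (.leaf (⟨0, 0, 34944, 0, 34944, 1, 34944⟩, .dfn)))))))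

/-- definitions -/
def defsMixBad36 : List (ℕ × ℕ × ℕ) := [(0, 34944, 0), (0, 34944, 1), (1, 34659, 0)]

/-- the facts -/
def factsMixBad37 : Tree (Fct × Why) :=
  (.node (.node (.node (.node (.node (.leaf (⟨0, 0, 34944, 0, 34944, 1, 34944⟩, .dfn)) (.leaf (⟨0, 3, 34944, 0, 34944, 1, 34659⟩, .inv 15))) (.node (.leaf (⟨1, 1, 35056, 0, 44269, 1, 34944⟩, .mul 2 2)) (.leaf (⟨0, 3, 38155, 0, 36560, 3, 27156⟩, .fill 6 1 6 [34944, 44639, 34944, 65536, 54904] 1 34946 [⟨13, 12, 0⟩, ⟨21, 15, 119⟩, ⟨17, 22, 1085⟩] [⟨6, 15, 1133⟩])))) (.node (.node (.leaf (⟨1, 1, 62617, 0, 30869, 1, 34944⟩, .sync ⟨3, 0, 761⟩)) (.leaf (⟨1, 1, 59641, 0, 47340, 1, 34944⟩, .mul 9 4))) (.node (.leaf (⟨0, 1, 34946, 0, 31898, 1, 39050⟩, .fill 0 0 2 [20621, 34946, 65536, 34946] 0 34944 [⟨10, 0, 0⟩] [⟨11, 0, 512⟩])) (.leaf (⟨1, 1, 44252, 0, 36021, 1, 34944⟩, .mul 27 6)))))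 (.node (.node (.node (.leaf (⟨1, 1, 29872, 0, 21721, 1, 34944⟩, .sync ⟨1, 0, 1154⟩)) (.leaf (⟨1, 1, 44273, 0, 44273, 1, 34944⟩, .mul 6 6))) (.node (.leaf (⟨1, 0, 34944, 0, 34944, 0, 34944⟩, .base)) (.leaf (⟨1, 1, 60552, 0, 39069, 1, 34944⟩, .mul 25 6)))) (.node (.node (.leaf (⟨1, 1, 28877, 0, 21693, 1, 34944⟩, .sync ⟨5, 0, 172⟩)) (.leaf (⟨0, 3, 63318, 1, 11975, 3, 32617⟩, .fill 6 1 4 [34944, 44639, 34944, 65536, 54904, 65536, 62212] 0 34944 [⟨10, 0, 0⟩, ⟨18, 15, 243⟩] [⟨14, 0, 1018⟩, ⟨21, 15, 1107⟩]))) (.node (.leaf (⟨1, 0, 52187, 0, 52187, 0, 34944⟩, .base)) (.leaf (⟨0, 0, 34944, 0, 34944, 1, 34944⟩, .dfn)))))) (.node (.node (.node (.node (.leaf (⟨1, 0, 21721, 0, 21721, 0, 34944⟩, .base)) (.leaf (⟨1, 3, 36052, 0, 44269, 3, 34944⟩, .sync ⟨8, 15, 741⟩))) (.node (.leaf (⟨1, 1, 39125, 0, 51376, 1, 34944⟩, .mul 2 4)) (.leaf (⟨1, 1, 53420,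 0, 31941, 1, 34944⟩, .mul 20 6)))) (.node (.node (.leaf (⟨1, 0, 21693, 0, 21693, 0, 34944⟩, .base)) (.leaf (⟨1, 1, 54428, 0, 22657, 1, 34944⟩, .mul 7 2))) (.node (.leaf (⟨1, 1, 34944, 0, 34944, 1, 34944⟩, .unit)) (.leaf (⟨1, 1, 44252, 0, 40181, 1, 34944⟩, .close 6 9 34946 [⟨13, 12, 0⟩, ⟨19, 15, 1035⟩, ⟨17, 24, 1364⟩, ⟨17, 22, 1039⟩, ⟨23, 16, 426⟩]))))) (.node (.node (.node (.leaf (⟨1, 0, 30869, 0, 30869, 0, 34944⟩, .base)) (.leaf (⟨1, 1, 20673, 0, 28857, 1, 34944⟩, .mul 18 2))) (.node (.leaf (⟨1, 0, 31898, 0, 31898, 0, 34944⟩, .base)) (.leaf (⟨1, 1, 28817, 0, 29832, 1, 34944⟩, .mul 26 4)))) (.node (.node (.leaf (⟨1, 1, 51420, 0, 40108, 1, 34944⟩, .mul 4 6)) (.leaf (⟨1, 3, 34944, 0, 34944, 3, 34944⟩, .unit))) (.node (.leaf (⟨0, 1, 34659, 0, 34944, 3, 34944⟩, .dfn)) (.leaf (⟨0, 0, 34944, 0, 34944, 1, 34944⟩, .dfn)))))))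

/-- definitions -/
def defsMixBad37 : List (ℕ × ℕ × ℕ) := [(0, 34944, 0), (0, 34944, 1), (1, 34659, 0)]

/-- the facts -/
def factsMixBad38 : Tree (Fct × Why) :=
  (.node (.node (.node (.node (.node (.leaf (⟨0, 0, 34944, 0, 34944, 1, 34944⟩, .dfn)) (.leaf (⟨1, 1, 44273, 0, 44273, 1, 34944⟩, .mul 7 7))) (.node (.leaf (⟨1, 1, 51420, 0, 40108, 1, 34944⟩, .mul 5 7)) (.leaf (⟨0, 0, 34944, 0, 34944, 1, 34944⟩, .dfn)))) (.node (.node (.leaf (⟨1, 0, 30869, 0, 30869, 0, 34944⟩, .base)) (.leaf (⟨1, 0, 47638, 0, 47687, 0, 34944⟩, .close 7 2 34944 [⟨10, 0, 0⟩, ⟨16, 13, 243⟩, ⟨15, 18, 440⟩, ⟨19, 14, 676⟩, ⟨11, 1, 461⟩]))) (.node (.leaf (⟨1, 0, 52187, 0, 52187, 0, 34944⟩, .base)) (.leaf (⟨0, 0, 34944, 0, 34944, 1, 34944⟩, .dfn))))) (.node (.node (.node (.leaf (⟨1, 0, 21721, 0, 21721, 0, 34944⟩, .base)) (.leaf (⟨0, 3, 63318, 1, 11975, 3, 61257⟩, .fill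 6 1 4 [34944, 47626, 34944, 65536, 54904, 65536, 62212] 0 34944 [⟨10, 0, 0⟩, ⟨16, 13, 243⟩] [⟨12, 0, 920⟩, ⟨17, 13, 885⟩]))) (.node (.leaf (⟨1, 0, 34944, 0, 34944, 0, 34944⟩, .base)) (.leaf (⟨0, 0, 34944, 0, 34944, 1, 34944⟩, .dfn)))) (.node (.node (.leaf (⟨1, 0, 21693, 0, 21693, 0, 34944⟩, .base)) (.leaf (⟨0, 0, 34944, 0, 34944, 1, 34944⟩, .dfn))) (.node (.leaf (⟨0, 3, 34944, 0, 34944, 1, 34659⟩, .inv 13)) (.leaf (⟨0, 0, 34944, 0, 34944, 1, 34944⟩, .dfn)))))) (.node (.node (.node (.node (.leaf (⟨0, 1, 34944, 0, 34944, 0, 34944⟩, .inv 0)) (.leaf (⟨1, 1, 54428, 0, 22657, 1, 34944⟩, .mul 8 3))) (.node (.leaf (⟨1, 1, 35056, 0, 44269, 1, 34944⟩, .mul 3 3)) (.leaf (⟨0, 0, 34944, 0, 34944, 1, 34944⟩, .dfn)))) (.node (.node (.leaf (⟨1, 1, 62617, 0, 30869, 1, 34944⟩, .sync ⟨4, 0, 761⟩)) (.leaf (⟨0, 0, 34944, 0, 34944, 1, 34944⟩, .dfn))) (.node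 (.leaf (⟨0, 1, 34659, 0, 34944, 3, 34944⟩, .dfn)) (.leaf (⟨0, 0, 34944, 0, 34944, 1, 34944⟩, .dfn))))) (.node (.node (.node (.leaf (⟨1, 1, 29872, 0, 21721, 1, 34944⟩, .sync ⟨2, 0, 1154⟩)) (.leaf (⟨1, 3, 34944, 0, 34944, 3, 34944⟩, .unit))) (.node (.leaf (⟨1, 1, 34944, 0, 34944, 1, 34944⟩, .unit)) (.leaf (⟨0, 0, 34944, 0, 34944, 1, 34944⟩, .dfn)))) (.node (.node (.leaf (⟨1, 1, 28877, 0, 21693, 1, 34944⟩, .sync ⟨6, 0, 172⟩)) (.leaf (⟨0, 0, 34944, 0, 34944, 1, 34944⟩, .dfn))) (.node (.leaf (⟨1, 3, 36052, 0, 44269, 3, 34944⟩, .sync ⟨9, 13, 741⟩)) (.leaf (⟨0, 0, 34944, 0, 34944, 1, 34944⟩, .dfn)))))))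

/-- definitions -/
def defsMixBad38 : List (ℕ × ℕ × ℕ) := [(0, 34944, 0), (0, 34944, 1), (1, 34659, 0)]

/-- the facts -/
def factsMixBad39 : Tree (Fct × Why) :=
  (.node (.node (.node (.node (.node (.leaf (⟨0, 0, 34944, 0, 34944, 1, 34944⟩, .dfn)) (.leaf (⟨1, 1, 44273, 0, 44273, 1, 34944⟩, .mul 7 7))) (.node (.leaf (⟨1, 1, 51420, 0, 40108, 1, 34944⟩, .mul 5 7)) (.leaf (⟨0, 0, 34944, 0, 34944, 1, 34944⟩, .dfn)))) (.node (.node (.leaf (⟨1, 0, 30869, 0, 30869, 0, 34944⟩, .base)) (.leaf (⟨1, 0, 47638, 0, 47687, 0, 34944⟩, .close 7 2 34944 [⟨10, 0, 0⟩, ⟨16, 13, 243⟩, ⟨15, 18, 440⟩, ⟨19, 14, 721⟩, ⟨11, 1, 1321⟩]))) (.node (.leaf (⟨1, 0, 52187, 0, 52187, 0, 34944⟩, .base)) (.leaf (⟨0, 0, 34944, 0, 34944, 1, 34944⟩, .dfn))))) (.node (.node (.node (.leaf (⟨1, 0, 21721, 0, 21721, 0, 34944⟩, .base)) (.leaf (⟨0, 3, 63318, 1, 11975, 3, 14180⟩, .fill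 6 1 4 [34944, 47627, 34944, 65536, 54904, 65536, 62212] 0 34944 [⟨10, 0, 0⟩, ⟨16, 13, 243⟩] [⟨12, 0, 1150⟩, ⟨17, 13, 1530⟩]))) (.node (.leaf (⟨1, 0, 34944, 0, 34944, 0, 34944⟩, .base)) (.leaf (⟨0, 0, 34944, 0, 34944, 1, 34944⟩, .dfn)))) (.node (.node (.leaf (⟨1, 0, 21693, 0, 21693, 0, 34944⟩, .base)) (.leaf (⟨0, 0, 34944, 0, 34944, 1, 34944⟩, .dfn))) (.node (.leaf (⟨0, 3, 34944, 0, 34944, 1, 34659⟩, .inv 13)) (.leaf (⟨0, 0, 34944, 0, 34944, 1, 34944⟩, .dfn)))))) (.node (.node (.node (.node (.leaf (⟨0, 1, 34944, 0, 34944, 0, 34944⟩, .inv 0)) (.leaf (⟨1, 1, 54428, 0, 22657, 1, 34944⟩, .mul 8 3))) (.node (.leaf (⟨1, 1, 35056, 0, 44269, 1, 34944⟩, .mul 3 3)) (.leaf (⟨0, 0, 34944, 0, 34944, 1, 34944⟩, .dfn)))) (.node (.node (.leaf (⟨1, 1, 62617, 0, 30869, 1, 34944⟩, .sync ⟨4, 0, 761⟩)) (.leaf (⟨0, 0, 34944, 0, 34944, 1, 34944⟩, .dfn))) (.node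 (.leaf (⟨0, 1, 34659, 0, 34944, 3, 34944⟩, .dfn)) (.leaf (⟨0, 0, 34944, 0, 34944, 1, 34944⟩, .dfn))))) (.node (.node (.node (.leaf (⟨1, 1, 29872, 0, 21721, 1, 34944⟩, .sync ⟨2, 0, 1154⟩)) (.leaf (⟨1, 3, 34944, 0, 34944, 3, 34944⟩, .unit))) (.node (.leaf (⟨1, 1, 34944, 0, 34944, 1, 34944⟩, .unit)) (.leaf (⟨0, 0, 34944, 0, 34944, 1, 34944⟩, .dfn)))) (.node (.node (.leaf (⟨1, 1, 28877, 0, 21693, 1, 34944⟩, .sync ⟨6, 0, 172⟩)) (.leaf (⟨0, 0, 34944, 0, 34944, 1, 34944⟩, .dfn))) (.node (.leaf (⟨1, 3, 36052, 0, 44269, 3, 34944⟩, .sync ⟨9, 13, 741⟩)) (.leaf (⟨0, 0, 34944, 0, 34944, 1, 34944⟩, .dfn)))))))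

/-- definitions -/
def defsMixBad39 : List (ℕ × ℕ × ℕ) := [(0, 34944, 0), (0, 34944, 1), (1, 34659, 0)]

/-- the facts -/
def factsMixBad40 : Tree (Fct × Why) :=
  (.node (.node (.node (.node (.node (.leaf (⟨0, 0, 34944, 0, 34944, 1, 34944⟩, .dfn)) (.leaf (⟨1, 1, 44273, 0, 44273, 1, 34944⟩, .mul 7 7))) (.node (.leaf (⟨1, 1, 51420, 0, 40108, 1, 34944⟩, .mul 5 7)) (.leaf (⟨0, 0, 34944, 0, 34944, 1, 34944⟩, .dfn)))) (.node (.node (.leaf (⟨1, 0, 30869, 0, 30869, 0, 34944⟩, .base)) (.leaf (⟨1, 0, 47639, 0, 47687, 0, 34944⟩, .close 7 2 34944 [⟨10, 0, 0⟩, ⟨16, 13, 243⟩, ⟨15, 18, 440⟩, ⟨19, 14, 860⟩, ⟨11, 1, 1207⟩]))) (.node (.leaf (⟨1, 0, 52187, 0, 52187, 0, 34944⟩, .base)) (.leaf (⟨0, 0, 34944, 0, 34944, 1, 34944⟩, .dfn))))) (.node (.node (.node (.leaf (⟨1, 0, 21721, 0, 21721, 0, 34944⟩, .base)) (.leaf (⟨0, 3, 63318, 1, 11975, 3, 42757⟩, .fill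 6 1 4 [34944, 47630, 34944, 65536, 54904, 65536, 62212] 0 34944 [⟨10, 0, 0⟩, ⟨16, 13, 243⟩] [⟨12, 0, 382⟩, ⟨17, 13, 1311⟩]))) (.node (.leaf (⟨1, 0, 34944, 0, 34944, 0, 34944⟩, .base)) (.leaf (⟨0, 0, 34944, 0, 34944, 1, 34944⟩, .dfn)))) (.node (.node (.leaf (⟨1, 0, 21693, 0, 21693, 0, 34944⟩, .base)) (.leaf (⟨0, 0, 34944, 0, 34944, 1, 34944⟩, .dfn))) (.node (.leaf (⟨0, 3, 34944, 0, 34944, 1, 34659⟩, .inv 13)) (.leaf (⟨0, 0, 34944, 0, 34944, 1, 34944⟩, .dfn)))))) (.node (.node (.node (.node (.leaf (⟨0, 1, 34944, 0, 34944, 0, 34944⟩, .inv 0)) (.leaf (⟨1, 1, 54428, 0, 22657, 1, 34944⟩, .mul 8 3))) (.node (.leaf (⟨1, 1, 35056, 0, 44269, 1, 34944⟩, .mul 3 3)) (.leaf (⟨0, 0, 34944, 0, 34944, 1, 34944⟩, .dfn)))) (.node (.node (.leaf (⟨1, 1, 62617, 0, 30869, 1, 34944⟩, .sync ⟨4, 0, 761⟩)) (.leaf (⟨0, 0, 34944, 0, 34944, 1, 34944⟩, .dfn))) (.node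 (.leaf (⟨0, 1, 34659, 0, 34944, 3, 34944⟩, .dfn)) (.leaf (⟨0, 0, 34944, 0, 34944, 1, 34944⟩, .dfn))))) (.node (.node (.node (.leaf (⟨1, 1, 29872, 0, 21721, 1, 34944⟩, .sync ⟨2, 0, 1154⟩)) (.leaf (⟨1, 3, 34944, 0, 34944, 3, 34944⟩, .unit))) (.node (.leaf (⟨1, 1, 34944, 0, 34944, 1, 34944⟩, .unit)) (.leaf (⟨0, 0, 34944, 0, 34944, 1, 34944⟩, .dfn)))) (.node (.node (.leaf (⟨1, 1, 28877, 0, 21693, 1, 34944⟩, .sync ⟨6, 0, 172⟩)) (.leaf (⟨0, 0, 34944, 0, 34944, 1, 34944⟩, .dfn))) (.node (.leaf (⟨1, 3, 36052, 0, 44269, 3, 34944⟩, .sync ⟨9, 13, 741⟩)) (.leaf (⟨0, 0, 34944, 0, 34944, 1, 34944⟩, .dfn)))))))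

/-- definitions -/
def defsMixBad40 : List (ℕ × ℕ × ℕ) := [(0, 34944, 0), (0, 34944, 1), (1, 34659, 0)]

/-- the facts -/
def factsMixBad41 : Tree (Fct × Why) :=
  (.node (.node (.node (.node (.node (.leaf (⟨0, 0, 34944, 0, 34944, 1, 34944⟩, .dfn)) (.leaf (⟨1, 1, 44273, 0, 44273, 1, 34944⟩, .mul 7 7))) (.node (.leaf (⟨1, 1, 51420, 0, 40108, 1, 34944⟩, .mul 5 7)) (.leaf (⟨0, 0, 34944, 0, 34944, 1, 34944⟩, .dfn)))) (.node (.node (.leaf (⟨1, 0, 30869, 0, 30869, 0, 34944⟩, .base)) (.leaf (⟨1, 0, 47639, 0, 47687, 0, 34944⟩, .close 7 2 34944 [⟨10, 0, 0⟩, ⟨16, 13, 243⟩, ⟨15, 18, 440⟩, ⟨19, 14, 824⟩, ⟨11, 1, 1155⟩]))) (.node (.leaf (⟨1, 0, 52187, 0, 52187, 0, 34944⟩, .base)) (.leaf (⟨0, 0, 34944, 0, 34944, 1, 34944⟩, .dfn))))) (.node (.node (.node (.leaf (⟨1, 0, 21721, 0, 21721, 0, 34944⟩, .base)) (.leaf (⟨0, 3, 63318, 1, 11975, 3, 32552⟩, .fill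 6 1 4 [34944, 47631, 34944, 65536, 54904, 65536, 62212] 0 34944 [⟨10, 0, 0⟩, ⟨16, 13, 243⟩] [⟨12, 0, 1141⟩, ⟨17, 13, 108⟩]))) (.node (.leaf (⟨1, 0, 34944, 0, 34944, 0, 34944⟩, .base)) (.leaf (⟨0, 0, 34944, 0, 34944, 1, 34944⟩, .dfn)))) (.node (.node (.leaf (⟨1, 0, 21693, 0, 21693, 0, 34944⟩, .base)) (.leaf (⟨0, 0, 34944, 0, 34944, 1, 34944⟩, .dfn))) (.node (.leaf (⟨0, 3, 34944, 0, 34944, 1, 34659⟩, .inv 13)) (.leaf (⟨0, 0, 34944, 0, 34944, 1, 34944⟩, .dfn)))))) (.node (.node (.node (.node (.leaf (⟨0, 1, 34944, 0, 34944, 0, 34944⟩, .inv 0)) (.leaf (⟨1, 1, 54428, 0, 22657, 1, 34944⟩, .mul 8 3))) (.node (.leaf (⟨1, 1, 35056, 0, 44269, 1, 34944⟩, .mul 3 3)) (.leaf (⟨0, 0, 34944, 0, 34944, 1, 34944⟩, .dfn)))) (.node (.node (.leaf (⟨1, 1, 62617, 0, 30869, 1, 34944⟩, .sync ⟨4, 0, 761⟩)) (.leaf (⟨0, 0, 34944, 0, 34944, 1, 34944⟩, .dfn))) (.node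 (.leaf (⟨0, 1, 34659, 0, 34944, 3, 34944⟩, .dfn)) (.leaf (⟨0, 0, 34944, 0, 34944, 1, 34944⟩, .dfn))))) (.node (.node (.node (.leaf (⟨1, 1, 29872, 0, 21721, 1, 34944⟩, .sync ⟨2, 0, 1154⟩)) (.leaf (⟨1, 3, 34944, 0, 34944, 3, 34944⟩, .unit))) (.node (.leaf (⟨1, 1, 34944, 0, 34944, 1, 34944⟩, .unit)) (.leaf (⟨0, 0, 34944, 0, 34944, 1, 34944⟩, .dfn)))) (.node (.node (.leaf (⟨1, 1, 28877, 0, 21693, 1, 34944⟩, .sync ⟨6, 0, 172⟩)) (.leaf (⟨0, 0, 34944, 0, 34944, 1, 34944⟩, .dfn))) (.node (.leaf (⟨1, 3, 36052, 0, 44269, 3, 34944⟩, .sync ⟨9, 13, 741⟩)) (.leaf (⟨0, 0, 34944, 0, 34944, 1, 34944⟩, .dfn)))))))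

/-- definitions -/
def defsMixBad41 : List (ℕ × ℕ × ℕ) := [(0, 34944, 0), (0, 34944, 1), (1, 34659, 0)]

/-- the facts -/
def factsMixBad42 : Tree (Fct × Why) :=
  (.node (.node (.node (.node (.node (.leaf (⟨0, 0, 34944, 0, 34944, 1, 34944⟩, .dfn)) (.leaf (⟨1, 3, 36052, 0, 44269, 3, 34944⟩, .sync ⟨8, 14, 741⟩))) (.node (.leaf (⟨1, 1, 35056, 0, 44269, 1, 34944⟩, .mul 2 2)) (.leaf (⟨0, 3, 63787, 0, 36560, 3, 56856⟩, .fill 6 1 6 [34944, 47643, 34944, 65536, 54904] 1 34946 [⟨12, 11, 0⟩, ⟨20, 14, 119⟩, ⟨16, 21, 1085⟩] [⟨6, 14, 1484⟩])))) (.node (.node (.leaf (⟨1, 1, 62617, 0, 30869, 1, 34944⟩, .sync ⟨3, 0, 761⟩)) (.leaf (⟨1, 1, 54428, 0, 22657, 1, 34944⟩, .mul 7 2))) (.node (.leaf (⟨1, 1, 34944, 0, 34944, 1, 34944⟩, .unit)) (.leaf (⟨1, 1, 52429, 0, 40181, 1, 34944⟩, .close 6 9 34946 [⟨12, 11, 0⟩, ⟨19, 14, 975⟩, ⟨16, 24, 1273⟩, ⟨16, 21, 257⟩,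 ⟨22, 15, 1315⟩]))))) (.node (.node (.node (.leaf (⟨1, 1, 29872, 0, 21721, 1, 34944⟩, .sync ⟨1, 0, 1154⟩)) (.leaf (⟨1, 1, 44273, 0, 44273, 1, 34944⟩, .mul 6 6))) (.node (.leaf (⟨1, 0, 31898, 0, 31898, 0, 34944⟩, .base)) (.leaf (⟨1, 1, 53501, 0, 30961, 1, 34944⟩, .mul 25 2)))) (.node (.node (.leaf (⟨1, 1, 28877, 0, 21693, 1, 34944⟩, .sync ⟨5, 0, 172⟩)) (.leaf (⟨1, 3, 34944, 0, 34944, 3, 34944⟩, .unit))) (.node (.leaf (⟨0, 1, 34659, 0, 34944, 3, 34944⟩, .dfn)) (.leaf (⟨0, 0, 34944, 0, 34944, 1, 34944⟩, .dfn)))))) (.node (.node (.node (.node (.leaf (⟨1, 0, 21721, 0, 21721, 0, 34944⟩, .base)) (.leaf (⟨1, 1, 59561, 0, 40128, 1, 34944⟩, .mul 4 2))) (.node (.leaf (⟨1, 0, 34944, 0, 34944, 0, 34944⟩, .base)) (.leaf (⟨1, 1, 52413, 0, 48333, 1, 34944⟩, .mul 23 2)))) (.node (.node (.leaf (⟨1, 0, 21693, 0, 21693, 0, 34944⟩, .base)) (.leaf (⟨0, 3, 63318,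 1, 11975, 3, 14084⟩, .fill 6 1 4 [34944, 47643, 34944, 65536, 54904, 65536, 62212] 0 34944 [⟨9, 0, 0⟩, ⟨18, 14, 243⟩] [⟨13, 0, 1328⟩, ⟨20, 14, 1454⟩]))) (.node (.leaf (⟨1, 0, 52187, 0, 52187, 0, 34944⟩, .base)) (.leaf (⟨0, 0, 34944, 0, 34944, 1, 34944⟩, .dfn))))) (.node (.node (.node (.leaf (⟨1, 0, 30869, 0, 30869, 0, 34944⟩, .base)) (.leaf (⟨1, 1, 20673, 0, 28857, 1, 34944⟩, .mul 18 2))) (.node (.leaf (⟨0, 1, 34946, 0, 31898, 1, 39050⟩, .fill 0 0 2 [20621, 34946, 65536, 34946] 0 34944 [⟨9, 0, 0⟩] [⟨10, 0, 512⟩])) (.leaf (⟨1, 1, 52429, 0, 40117, 1, 34944⟩, .mul 26 2)))) (.node (.node (.leaf (⟨1, 1, 51420, 0, 40108, 1, 34944⟩, .mul 4 6)) (.leaf (⟨1, 1, 53389, 0, 22680, 1, 34944⟩, .mul 17 6))) (.node (.leaf (⟨0, 3, 34944, 0, 34944, 1, 34659⟩, .inv 14)) (.leaf (⟨0, 0, 34944, 0, 34944, 1, 34944⟩, .dfn)))))))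

/-- definitions -/
def defsMixBad42 : List (ℕ × ℕ × ℕ) := [(0, 34944, 0), (0, 34944, 1), (1, 34659, 0)]

/-- the facts -/
def factsMixBad43 : Tree (Fct × Why) :=
  (.node (.node (.node (.node (.node (.leaf (⟨0, 0, 34944, 0, 34944, 1, 34944⟩, .dfn)) (.leaf (⟨1, 1, 44273, 0, 44273, 1, 34944⟩, .mul 7 7))) (.node (.leaf (⟨1, 1, 51420, 0, 40108, 1, 34944⟩, .mul 5 7)) (.leaf (⟨0, 0, 34944, 0, 34944, 1, 34944⟩, .dfn)))) (.node (.node (.leaf (⟨1, 0, 30869, 0, 30869, 0, 34944⟩, .base)) (.leaf (⟨1, 0, 47686, 0, 47687, 0, 34944⟩, .close 7 2 34944 [⟨10, 0, 0⟩, ⟨16, 13, 243⟩, ⟨15, 18, 440⟩, ⟨19, 14, 186⟩, ⟨11, 1, 680⟩]))) (.node (.leaf (⟨1, 0, 52187, 0, 52187, 0, 34944⟩, .base)) (.leaf (⟨0, 0, 34944, 0, 34944, 1, 34944⟩, .dfn))))) (.node (.node (.node (.leaf (⟨1, 0, 21721, 0, 21721, 0, 34944⟩, .base)) (.leaf (⟨0, 3, 63318, 1, 11975, 3, 42853⟩, .fill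 6 1 4 [34944, 47646, 34944, 65536, 54904, 65536, 62212] 0 34944 [⟨10, 0, 0⟩, ⟨16, 13, 243⟩] [⟨12, 0, 224⟩, ⟨17, 13, 526⟩]))) (.node (.leaf (⟨1, 0, 34944, 0, 34944, 0, 34944⟩, .base)) (.leaf (⟨0, 0, 34944, 0, 34944, 1, 34944⟩, .dfn)))) (.node (.node (.leaf (⟨1, 0, 21693, 0, 21693, 0, 34944⟩, .base)) (.leaf (⟨0, 0, 34944, 0, 34944, 1, 34944⟩, .dfn))) (.node (.leaf (⟨0, 3, 34944, 0, 34944, 1, 34659⟩, .inv 13)) (.leaf (⟨0, 0, 34944, 0, 34944, 1, 34944⟩, .dfn)))))) (.node (.node (.node (.node (.leaf (⟨0, 1, 34944, 0, 34944, 0, 34944⟩, .inv 0)) (.leaf (⟨1, 1, 54428, 0, 22657, 1, 34944⟩, .mul 8 3))) (.node (.leaf (⟨1, 1, 35056, 0, 44269, 1, 34944⟩, .mul 3 3)) (.leaf (⟨0, 0, 34944, 0, 34944, 1, 34944⟩, .dfn)))) (.node (.node (.leaf (⟨1, 1, 62617, 0, 30869, 1, 34944⟩, .sync ⟨4, 0, 761⟩)) (.leaf (⟨0, 0, 34944, 0, 34944, 1, 34944⟩, .dfn))) (.node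 (.leaf (⟨0, 1, 34659, 0, 34944, 3, 34944⟩, .dfn)) (.leaf (⟨0, 0, 34944, 0, 34944, 1, 34944⟩, .dfn))))) (.node (.node (.node (.leaf (⟨1, 1, 29872, 0, 21721, 1, 34944⟩, .sync ⟨2, 0, 1154⟩)) (.leaf (⟨1, 3, 34944, 0, 34944, 3, 34944⟩, .unit))) (.node (.leaf (⟨1, 1, 34944, 0, 34944, 1, 34944⟩, .unit)) (.leaf (⟨0, 0, 34944, 0, 34944, 1, 34944⟩, .dfn)))) (.node (.node (.leaf (⟨1, 1, 28877, 0, 21693, 1, 34944⟩, .sync ⟨6, 0, 172⟩)) (.leaf (⟨0, 0, 34944, 0, 34944, 1, 34944⟩, .dfn))) (.node (.leaf (⟨1, 3, 36052, 0, 44269, 3, 34944⟩, .sync ⟨9, 13, 741⟩)) (.leaf (⟨0, 0, 34944, 0, 34944, 1, 34944⟩, .dfn)))))))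

/-- definitions -/
def defsMixBad43 : List (ℕ × ℕ × ℕ) := [(0, 34944, 0), (0, 34944, 1), (1, 34659, 0)]

/-- the facts -/
def factsMixBad44 : Tree (Fct × Why) :=
  (.node (.node (.node (.node (.node (.leaf (⟨0, 0, 34944, 0, 34944, 1, 34944⟩, .dfn)) (.leaf (⟨1, 1, 44273, 0, 44273, 1, 34944⟩, .mul 7 7))) (.node (.leaf (⟨1, 1, 51420, 0, 40108, 1, 34944⟩, .mul 5 7)) (.leaf (⟨0, 0, 34944, 0, 34944, 1, 34944⟩, .dfn)))) (.node (.node (.leaf (⟨1, 0, 30869, 0, 30869, 0, 34944⟩, .base)) (.leaf (⟨1, 0, 47686, 0, 47687, 0, 34944⟩, .close 7 2 34944 [⟨10, 0, 0⟩, ⟨16, 13, 243⟩, ⟨15, 18, 440⟩, ⟨19, 14, 560⟩, ⟨11, 1, 1312⟩]))) (.node (.leaf (⟨1, 0, 52187, 0, 52187, 0, 34944⟩, .base)) (.leaf (⟨0, 0, 34944, 0, 34944, 1, 34944⟩, .dfn))))) (.node (.node (.node (.leaf (⟨1, 0, 21721, 0, 21721, 0, 34944⟩, .base)) (.leaf (⟨0, 3, 63318, 1, 11975, 3, 32584⟩, .fill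 6 1 4 [34944, 47647, 34944, 65536, 54904, 65536, 62212] 0 34944 [⟨10, 0, 0⟩, ⟨16, 13, 243⟩] [⟨12, 0, 818⟩, ⟨17, 13, 445⟩]))) (.node (.leaf (⟨1, 0, 34944, 0, 34944, 0, 34944⟩, .base)) (.leaf (⟨0, 0, 34944, 0, 34944, 1, 34944⟩, .dfn)))) (.node (.node (.leaf (⟨1, 0, 21693, 0, 21693, 0, 34944⟩, .base)) (.leaf (⟨0, 0, 34944, 0, 34944, 1, 34944⟩, .dfn))) (.node (.leaf (⟨0, 3, 34944, 0, 34944, 1, 34659⟩, .inv 13)) (.leaf (⟨0, 0, 34944, 0, 34944, 1, 34944⟩, .dfn)))))) (.node (.node (.node (.node (.leaf (⟨0, 1, 34944, 0, 34944, 0, 34944⟩, .inv 0)) (.leaf (⟨1, 1, 54428, 0, 22657, 1, 34944⟩, .mul 8 3))) (.node (.leaf (⟨1, 1, 35056, 0, 44269, 1, 34944⟩, .mul 3 3)) (.leaf (⟨0, 0, 34944, 0, 34944, 1, 34944⟩, .dfn)))) (.node (.node (.leaf (⟨1, 1, 62617, 0, 30869, 1, 34944⟩, .sync ⟨4, 0, 761⟩)) (.leaf (⟨0, 0, 34944, 0, 34944, 1, 34944⟩, .dfn))) (.node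 (.leaf (⟨0, 1, 34659, 0, 34944, 3, 34944⟩, .dfn)) (.leaf (⟨0, 0, 34944, 0, 34944, 1, 34944⟩, .dfn))))) (.node (.node (.node (.leaf (⟨1, 1, 29872, 0, 21721, 1, 34944⟩, .sync ⟨2, 0, 1154⟩)) (.leaf (⟨1, 3, 34944, 0, 34944, 3, 34944⟩, .unit))) (.node (.leaf (⟨1, 1, 34944, 0, 34944, 1, 34944⟩, .unit)) (.leaf (⟨0, 0, 34944, 0, 34944, 1, 34944⟩, .dfn)))) (.node (.node (.leaf (⟨1, 1, 28877, 0, 21693, 1, 34944⟩, .sync ⟨6, 0, 172⟩)) (.leaf (⟨0, 0, 34944, 0, 34944, 1, 34944⟩, .dfn))) (.node (.leaf (⟨1, 3, 36052, 0, 44269, 3, 34944⟩, .sync ⟨9, 13, 741⟩)) (.leaf (⟨0, 0, 34944, 0, 34944, 1, 34944⟩, .dfn)))))))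

/-- definitions -/
def defsMixBad44 : List (ℕ × ℕ × ℕ) := [(0, 34944, 0), (0, 34944, 1), (1, 34659, 0)]

/-- the facts -/
def factsMixBad45 : Tree (Fct × Why) :=
  (.node (.node (.node (.node (.node (.leaf (⟨0, 0, 34944, 0, 34944, 1, 34944⟩, .dfn)) (.leaf (⟨0, 3, 34944, 0, 34944, 1, 34659⟩, .inv 15))) (.node (.leaf (⟨1, 1, 35056, 0, 44269, 1, 34944⟩, .mul 2 2)) (.leaf (⟨0, 3, 38150, 0, 36560, 3, 19972⟩, .fill 6 1 6 [34944, 47690, 34944, 65536, 54904] 1 34946 [⟨13, 12, 0⟩, ⟨21, 15, 119⟩, ⟨17, 22, 1085⟩] [⟨6, 15, 862⟩])))) (.node (.node (.leaf (⟨1, 1, 62617, 0, 30869, 1, 34944⟩, .sync ⟨3, 0, 761⟩)) (.leaf (⟨1, 1, 59641, 0, 47340, 1, 34944⟩, .mul 9 4))) (.node (.leaf (⟨0, 1, 34946, 0, 31898, 1, 39050⟩, .fill 0 0 2 [20621, 34946, 65536, 34946] 0 34944 [⟨10, 0, 0⟩] [⟨11, 0, 512⟩])) (.leaf (⟨1, 1, 44252, 0, 36021, 1, 34944⟩, .mul 27 6)))))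 (.node (.node (.node (.leaf (⟨1, 1, 29872, 0, 21721, 1, 34944⟩, .sync ⟨1, 0, 1154⟩)) (.leaf (⟨1, 1, 44273, 0, 44273, 1, 34944⟩, .mul 6 6))) (.node (.leaf (⟨1, 0, 34944, 0, 34944, 0, 34944⟩, .base)) (.leaf (⟨1, 1, 60552, 0, 39069, 1, 34944⟩, .mul 25 6)))) (.node (.node (.leaf (⟨1, 1, 28877, 0, 21693, 1, 34944⟩, .sync ⟨5, 0, 172⟩)) (.leaf (⟨0, 3, 63318, 1, 11975, 3, 32612⟩, .fill 6 1 4 [34944, 47690, 34944, 65536, 54904, 65536, 62212] 0 34944 [⟨10, 0, 0⟩, ⟨18, 15, 243⟩] [⟨14, 0, 804⟩, ⟨21, 15, 308⟩]))) (.node (.leaf (⟨1, 0, 52187, 0, 52187, 0, 34944⟩, .base)) (.leaf (⟨0, 0, 34944, 0, 34944, 1, 34944⟩, .dfn)))))) (.node (.node (.node (.node (.leaf (⟨1, 0, 21721, 0, 21721, 0, 34944⟩, .base)) (.leaf (⟨1, 3, 36052, 0, 44269, 3, 34944⟩, .sync ⟨8, 15, 741⟩))) (.node (.leaf (⟨1, 1, 39125, 0, 51376, 1, 34944⟩, .mul 2 4)) (.leaf (⟨1, 1, 53420, 0,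 31941, 1, 34944⟩, .mul 20 6)))) (.node (.node (.leaf (⟨1, 0, 21693, 0, 21693, 0, 34944⟩, .base)) (.leaf (⟨1, 1, 54428, 0, 22657, 1, 34944⟩, .mul 7 2))) (.node (.leaf (⟨1, 1, 34944, 0, 34944, 1, 34944⟩, .unit)) (.leaf (⟨1, 1, 44252, 0, 40181, 1, 34944⟩, .close 6 9 34946 [⟨13, 12, 0⟩, ⟨19, 15, 1283⟩, ⟨17, 24, 781⟩, ⟨17, 22, 1512⟩, ⟨23, 16, 426⟩]))))) (.node (.node (.node (.leaf (⟨1, 0, 30869, 0, 30869, 0, 34944⟩, .base)) (.leaf (⟨1, 1, 20673, 0, 28857, 1, 34944⟩, .mul 18 2))) (.node (.leaf (⟨1, 0, 31898, 0, 31898, 0, 34944⟩, .base)) (.leaf (⟨1, 1, 28817, 0, 29832, 1, 34944⟩, .mul 26 4)))) (.node (.node (.leaf (⟨1, 1, 51420, 0, 40108, 1, 34944⟩, .mul 4 6)) (.leaf (⟨1, 3, 34944, 0, 34944, 3, 34944⟩, .unit))) (.node (.leaf (⟨0, 1, 34659, 0, 34944, 3, 34944⟩, .dfn)) (.leaf (⟨0, 0, 34944, 0, 34944, 1, 34944⟩, .dfn)))))))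

/-- definitions -/
def defsMixBad45 : List (ℕ × ℕ × ℕ) := [(0, 34944, 0), (0, 34944, 1), (1, 34659, 0)]

/-- the facts -/
def factsMixBad46 : Tree (Fct × Why) :=
  (.node (.node (.node (.node (.node (.leaf (⟨0, 0, 34944, 0, 34944, 1, 34944⟩, .dfn)) (.leaf (⟨1, 3, 36052, 0, 44269, 3, 34944⟩, .sync ⟨8, 14, 741⟩))) (.node (.leaf (⟨1, 1, 35056, 0, 44269, 1, 34944⟩, .mul 2 2)) (.leaf (⟨1, 3, 34944, 0, 34944, 3, 34944⟩, .unit)))) (.node (.node (.leaf (⟨1, 1, 62617, 0, 30869, 1, 34944⟩, .sync ⟨3, 0, 761⟩)) (.leaf (⟨1, 1, 60597, 0, 47305, 1, 34944⟩, .mul 19 4))) (.node (.leaf (⟨1, 1, 34944, 0, 34944, 1, 34944⟩, .unit)) (.leaf (⟨1, 1, 36085, 0, 36085, 1, 34944⟩, .mul 27 6))))) (.node (.node (.node (.leaf (⟨1, 1, 29872, 0, 21721, 1, 34944⟩, .sync ⟨1, 0, 1154⟩)) (.leaf (⟨1, 1, 20673, 0, 28857, 1, 34944⟩, .mul 17 2))) (.node (.leaf (⟨1, 0, 31898,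 0, 31898, 0, 34944⟩, .base)) (.leaf (⟨1, 1, 52384, 0, 39132, 1, 34944⟩, .mul 21 6)))) (.node (.node (.leaf (⟨1, 1, 28877, 0, 21693, 1, 34944⟩, .sync ⟨5, 0, 172⟩)) (.leaf (⟨1, 1, 54428, 0, 22657, 1, 34944⟩, .mul 7 2))) (.node (.leaf (⟨0, 1, 34659, 0, 34944, 3, 34944⟩, .dfn)) (.leaf (⟨0, 0, 34944, 0, 34944, 1, 34944⟩, .dfn)))))) (.node (.node (.node (.node (.leaf (⟨1, 0, 21721, 0, 21721, 0, 34944⟩, .base)) (.leaf (⟨1, 1, 44273, 0, 44273, 1, 34944⟩, .mul 6 6))) (.node (.leaf (⟨1, 0, 34944, 0, 34944, 0, 34944⟩, .base)) (.leaf (⟨0, 3, 56630, 0, 36560, 3, 20036⟩, .fill 6 1 6 [34944, 47691, 34944, 65536, 54904] 1 34946 [⟨12, 11, 0⟩, ⟨22, 14, 119⟩, ⟨16, 23, 1085⟩] [⟨6, 14, 1422⟩])))) (.node (.node (.leaf (⟨1, 0, 21693, 0, 21693, 0, 34944⟩, .base)) (.leaf (⟨1, 1, 61685, 0, 31989, 1, 34944⟩, .mul 20 2))) (.node (.leaf (⟨1, 0, 52187, 0, 52187, 0,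 34944⟩, .base)) (.leaf (⟨1, 1, 36085, 0, 40181, 1, 34944⟩, .close 6 9 34946 [⟨12, 11, 0⟩, ⟨18, 14, 1099⟩, ⟨16, 25, 1302⟩, ⟨16, 23, 926⟩, ⟨24, 15, 1193⟩]))))) (.node (.node (.node (.leaf (⟨1, 0, 30869, 0, 30869, 0, 34944⟩, .base)) (.leaf (⟨1, 1, 40169, 0, 51429, 1, 34944⟩, .mul 6 4))) (.node (.leaf (⟨0, 1, 34946, 0, 31898, 1, 39050⟩, .fill 0 0 2 [20621, 34946, 65536, 34946] 0 34944 [⟨9, 0, 0⟩] [⟨10, 0, 512⟩])) (.leaf (⟨1, 1, 20681, 0, 29881, 1, 34944⟩, .mul 26 4)))) (.node (.node (.leaf (⟨1, 1, 51420, 0, 40108, 1, 34944⟩, .mul 4 6)) (.leaf (⟨0, 3, 63318, 1, 11975, 3, 42825⟩, .fill 6 1 4 [34944, 47691, 34944, 65536, 54904, 65536, 62212] 0 34944 [⟨9, 0, 0⟩, ⟨17, 14, 243⟩] [⟨13, 0, 1307⟩, ⟨22, 14, 48⟩]))) (.node (.leaf (⟨0, 3, 34944, 0, 34944, 1, 34659⟩, .inv 14)) (.leaf (⟨0, 0, 34944, 0, 34944, 1, 34944⟩, .dfn)))))))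

/-- definitions -/
def defsMixBad46 : List (ℕ × ℕ × ℕ) := [(0, 34944, 0), (0, 34944, 1), (1, 34659, 0)]

/-- the facts -/
def factsMixBad47 : Tree (Fct × Why) :=
  (.node (.node (.node (.node (.node (.leaf (⟨0, 0, 34944, 0, 34944, 1, 34944⟩, .dfn)) (.leaf (⟨1, 1, 44273, 0, 44273, 1, 34944⟩, .mul 7 7))) (.node (.leaf (⟨1, 1, 51420, 0, 40108, 1, 34944⟩, .mul 5 7)) (.leaf (⟨0, 0, 34944, 0, 34944, 1, 34944⟩, .dfn)))) (.node (.node (.leaf (⟨1, 0, 30869, 0, 30869, 0, 34944⟩, .base)) (.leaf (⟨1, 0, 47686, 0, 47687, 0, 34944⟩, .close 7 2 34944 [⟨10, 0, 0⟩, ⟨16, 13, 243⟩, ⟨15, 18, 440⟩, ⟨19, 14, 916⟩, ⟨11, 1, 45⟩]))) (.node (.leaf (⟨1, 0, 52187, 0, 52187, 0, 34944⟩, .base)) (.leaf (⟨0, 0, 34944, 0, 34944, 1, 34944⟩, .dfn))))) (.node (.node (.node (.leaf (⟨1, 0, 21721, 0, 21721, 0, 34944⟩, .base)) (.leaf (⟨0, 3, 63318, 1, 11975, 3, 14120⟩, .fill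 6 1 4 [34944, 47694, 34944, 65536, 54904, 65536, 62212] 0 34944 [⟨10, 0, 0⟩, ⟨16, 13, 243⟩] [⟨12, 0, 227⟩, ⟨17, 13, 1480⟩]))) (.node (.leaf (⟨1, 0, 34944, 0, 34944, 0, 34944⟩, .base)) (.leaf (⟨0, 0, 34944, 0, 34944, 1, 34944⟩, .dfn)))) (.node (.node (.leaf (⟨1, 0, 21693, 0, 21693, 0, 34944⟩, .base)) (.leaf (⟨0, 0, 34944, 0, 34944, 1, 34944⟩, .dfn))) (.node (.leaf (⟨0, 3, 34944, 0, 34944, 1, 34659⟩, .inv 13)) (.leaf (⟨0, 0, 34944, 0, 34944, 1, 34944⟩, .dfn)))))) (.node (.node (.node (.node (.leaf (⟨0, 1, 34944, 0, 34944, 0, 34944⟩, .inv 0)) (.leaf (⟨1, 1, 54428, 0, 22657, 1, 34944⟩, .mul 8 3))) (.node (.leaf (⟨1, 1, 35056, 0, 44269, 1, 34944⟩, .mul 3 3)) (.leaf (⟨0, 0, 34944, 0, 34944, 1, 34944⟩, .dfn)))) (.node (.node (.leaf (⟨1, 1, 62617, 0, 30869, 1, 34944⟩, .sync ⟨4, 0, 761⟩)) (.leaf (⟨0, 0, 34944, 0, 34944, 1, 34944⟩, .dfn))) (.node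 (.leaf (⟨0, 1, 34659, 0, 34944, 3, 34944⟩, .dfn)) (.leaf (⟨0, 0, 34944, 0, 34944, 1, 34944⟩, .dfn))))) (.node (.node (.node (.leaf (⟨1, 1, 29872, 0, 21721, 1, 34944⟩, .sync ⟨2, 0, 1154⟩)) (.leaf (⟨1, 3, 34944, 0, 34944, 3, 34944⟩, .unit))) (.node (.leaf (⟨1, 1, 34944, 0, 34944, 1, 34944⟩, .unit)) (.leaf (⟨0, 0, 34944, 0, 34944, 1, 34944⟩, .dfn)))) (.node (.node (.leaf (⟨1, 1, 28877, 0, 21693, 1, 34944⟩, .sync ⟨6, 0, 172⟩)) (.leaf (⟨0, 0, 34944, 0, 34944, 1, 34944⟩, .dfn))) (.node (.leaf (⟨1, 3, 36052, 0, 44269, 3, 34944⟩, .sync ⟨9, 13, 741⟩)) (.leaf (⟨0, 0, 34944, 0, 34944, 1, 34944⟩, .dfn)))))))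

/-- definitions -/
def defsMixBad47 : List (ℕ × ℕ × ℕ) := [(0, 34944, 0), (0, 34944, 1), (1, 34659, 0)]

/-- the facts -/
def factsMixBad48 : Tree (Fct × Why) :=
  (.node (.node (.node (.node (.node (.leaf (⟨0, 0, 34944, 0, 34944, 1, 34944⟩, .dfn)) (.leaf (⟨1, 1, 44273, 0, 44273, 1, 34944⟩, .mul 7 7))) (.node (.leaf (⟨1, 1, 51420, 0, 40108, 1, 34944⟩, .mul 5 7)) (.leaf (⟨0, 0, 34944, 0, 34944, 1, 34944⟩, .dfn)))) (.node (.node (.leaf (⟨1, 0, 30869, 0, 30869, 0, 34944⟩, .base)) (.leaf (⟨1, 0, 47686, 0, 47687, 0, 34944⟩, .close 7 2 34944 [⟨10, 0, 0⟩, ⟨16, 13, 243⟩, ⟨15, 18, 440⟩, ⟨19, 14, 712⟩, ⟨11, 1, 945⟩]))) (.node (.leaf (⟨1, 0, 52187, 0, 52187, 0, 34944⟩, .base)) (.leaf (⟨0, 0, 34944, 0, 34944, 1, 34944⟩, .dfn))))) (.node (.node (.node (.leaf (⟨1, 0, 21721, 0, 21721, 0, 34944⟩, .base)) (.leaf (⟨0, 3, 63318, 1, 11975, 3, 61189⟩, .fill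 6 1 4 [34944, 47695, 34944, 65536, 54904, 65536, 62212] 0 34944 [⟨10, 0, 0⟩, ⟨16, 13, 243⟩] [⟨12, 0, 821⟩, ⟨17, 13, 1266⟩]))) (.node (.leaf (⟨1, 0, 34944, 0, 34944, 0, 34944⟩, .base)) (.leaf (⟨0, 0, 34944, 0, 34944, 1, 34944⟩, .dfn)))) (.node (.node (.leaf (⟨1, 0, 21693, 0, 21693, 0, 34944⟩, .base)) (.leaf (⟨0, 0, 34944, 0, 34944, 1, 34944⟩, .dfn))) (.node (.leaf (⟨0, 3, 34944, 0, 34944, 1, 34659⟩, .inv 13)) (.leaf (⟨0, 0, 34944, 0, 34944, 1, 34944⟩, .dfn)))))) (.node (.node (.node (.node (.leaf (⟨0, 1, 34944, 0, 34944, 0, 34944⟩, .inv 0)) (.leaf (⟨1, 1, 54428, 0, 22657, 1, 34944⟩, .mul 8 3))) (.node (.leaf (⟨1, 1, 35056, 0, 44269, 1, 34944⟩, .mul 3 3)) (.leaf (⟨0, 0, 34944, 0, 34944, 1, 34944⟩, .dfn)))) (.node (.node (.leaf (⟨1, 1, 62617, 0, 30869, 1, 34944⟩, .sync ⟨4, 0, 761⟩)) (.leaf (⟨0, 0, 34944, 0, 34944, 1, 34944⟩, .dfn))) (.node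 (.leaf (⟨0, 1, 34659, 0, 34944, 3, 34944⟩, .dfn)) (.leaf (⟨0, 0, 34944, 0, 34944, 1, 34944⟩, .dfn))))) (.node (.node (.node (.leaf (⟨1, 1, 29872, 0, 21721, 1, 34944⟩, .sync ⟨2, 0, 1154⟩)) (.leaf (⟨1, 3, 34944, 0, 34944, 3, 34944⟩, .unit))) (.node (.leaf (⟨1, 1, 34944, 0, 34944, 1, 34944⟩, .unit)) (.leaf (⟨0, 0, 34944, 0, 34944, 1, 34944⟩, .dfn)))) (.node (.node (.leaf (⟨1, 1, 28877, 0, 21693, 1, 34944⟩, .sync ⟨6, 0, 172⟩)) (.leaf (⟨0, 0, 34944, 0, 34944, 1, 34944⟩, .dfn))) (.node (.leaf (⟨1, 3, 36052, 0, 44269, 3, 34944⟩, .sync ⟨9, 13, 741⟩)) (.leaf (⟨0, 0, 34944, 0, 34944, 1, 34944⟩, .dfn)))))))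

/-- definitions -/
def defsMixBad48 : List (ℕ × ℕ × ℕ) := [(0, 34944, 0), (0, 34944, 1), (1, 34659, 0)]

/-- the facts -/
def factsMixBad49 : Tree (Fct × Why) :=
  (.node (.node (.node (.node (.node (.leaf (⟨0, 0, 34944, 0, 34944, 1, 34944⟩, .dfn)) (.leaf (⟨1, 1, 44273, 0, 44273, 1, 34944⟩, .mul 7 7))) (.node (.leaf (⟨1, 1, 51420, 0, 40108, 1, 34944⟩, .mul 5 7)) (.leaf (⟨0, 0, 34944, 0, 34944, 1, 34944⟩, .dfn)))) (.node (.node (.leaf (⟨1, 0, 30869, 0, 30869, 0, 34944⟩, .base)) (.leaf (⟨1, 0, 47638, 0, 47687, 0, 34944⟩, .close 7 2 34944 [⟨10, 0, 0⟩, ⟨16, 13, 243⟩, ⟨15, 18, 440⟩, ⟨19, 14, 339⟩, ⟨11, 1, 299⟩]))) (.node (.leaf (⟨1, 0, 52187, 0, 52187, 0, 34944⟩, .base)) (.leaf (⟨0, 0, 34944, 0, 34944, 1, 34944⟩, .dfn))))) (.node (.node (.node (.leaf (⟨1, 0, 21721, 0, 21721, 0, 34944⟩, .base)) (.leaf (⟨0, 3, 63318, 1, 11975, 3, 32516⟩, .fill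 6 1 4 [34944, 47706, 34944, 65536, 54904, 65536, 62212] 0 34944 [⟨10, 0, 0⟩, ⟨16, 13, 243⟩] [⟨12, 0, 447⟩, ⟨17, 13, 993⟩]))) (.node (.leaf (⟨1, 0, 34944, 0, 34944, 0, 34944⟩, .base)) (.leaf (⟨0, 0, 34944, 0, 34944, 1, 34944⟩, .dfn)))) (.node (.node (.leaf (⟨1, 0, 21693, 0, 21693, 0, 34944⟩, .base)) (.leaf (⟨0, 0, 34944, 0, 34944, 1, 34944⟩, .dfn))) (.node (.leaf (⟨0, 3, 34944, 0, 34944, 1, 34659⟩, .inv 13)) (.leaf (⟨0, 0, 34944, 0, 34944, 1, 34944⟩, .dfn)))))) (.node (.node (.node (.node (.leaf (⟨0, 1, 34944, 0, 34944, 0, 34944⟩, .inv 0)) (.leaf (⟨1, 1, 54428, 0, 22657, 1, 34944⟩, .mul 8 3))) (.node (.leaf (⟨1, 1, 35056, 0, 44269, 1, 34944⟩, .mul 3 3)) (.leaf (⟨0, 0, 34944, 0, 34944, 1, 34944⟩, .dfn)))) (.node (.node (.leaf (⟨1, 1, 62617, 0, 30869, 1, 34944⟩, .sync ⟨4, 0, 761⟩)) (.leaf (⟨0, 0, 34944, 0, 34944, 1, 34944⟩, .dfn))) (.node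 (.leaf (⟨0, 1, 34659, 0, 34944, 3, 34944⟩, .dfn)) (.leaf (⟨0, 0, 34944, 0, 34944, 1, 34944⟩, .dfn))))) (.node (.node (.node (.leaf (⟨1, 1, 29872, 0, 21721, 1, 34944⟩, .sync ⟨2, 0, 1154⟩)) (.leaf (⟨1, 3, 34944, 0, 34944, 3, 34944⟩, .unit))) (.node (.leaf (⟨1, 1, 34944, 0, 34944, 1, 34944⟩, .unit)) (.leaf (⟨0, 0, 34944, 0, 34944, 1, 34944⟩, .dfn)))) (.node (.node (.leaf (⟨1, 1, 28877, 0, 21693, 1, 34944⟩, .sync ⟨6, 0, 172⟩)) (.leaf (⟨0, 0, 34944, 0, 34944, 1, 34944⟩, .dfn))) (.node (.leaf (⟨1, 3, 36052, 0, 44269, 3, 34944⟩, .sync ⟨9, 13, 741⟩)) (.leaf (⟨0, 0, 34944, 0, 34944, 1, 34944⟩, .dfn)))))))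

/-- definitions -/
def defsMixBad49 : List (ℕ × ℕ × ℕ) := [(0, 34944, 0), (0, 34944, 1), (1, 34659, 0)]

/-- the facts -/
def factsMixBad50 : Tree (Fct × Why) :=
  (.node (.node (.node (.node (.node (.leaf (⟨0, 0, 34944, 0, 34944, 1, 34944⟩, .dfn)) (.leaf (⟨1, 1, 44273, 0, 44273, 1, 34944⟩, .mul 7 7))) (.node (.leaf (⟨1, 1, 51420, 0, 40108, 1, 34944⟩, .mul 5 7)) (.leaf (⟨0, 0, 34944, 0, 34944, 1, 34944⟩, .dfn)))) (.node (.node (.leaf (⟨1, 0, 30869, 0, 30869, 0, 34944⟩, .base)) (.leaf (⟨1, 0, 47638, 0, 47687, 0, 34944⟩, .close 7 2 34944 [⟨10, 0, 0⟩, ⟨16, 13, 243⟩, ⟨15, 18, 440⟩, ⟨19, 14, 249⟩, ⟨11, 1, 283⟩]))) (.node (.leaf (⟨1, 0, 52187, 0, 52187, 0, 34944⟩, .base)) (.leaf (⟨0, 0, 34944, 0, 34944, 1, 34944⟩, .dfn))))) (.node (.node (.node (.leaf (⟨1, 0, 21721, 0, 21721, 0, 34944⟩, .base)) (.leaf (⟨0, 3, 63318, 1, 11975, 3, 42793⟩, .fill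 6 1 4 [34944, 47707, 34944, 65536, 54904, 65536, 62212] 0 34944 [⟨10, 0, 0⟩, ⟨16, 13, 243⟩] [⟨12, 0, 961⟩, ⟨17, 13, 243⟩]))) (.node (.leaf (⟨1, 0, 34944, 0, 34944, 0, 34944⟩, .base)) (.leaf (⟨0, 0, 34944, 0, 34944, 1, 34944⟩, .dfn)))) (.node (.node (.leaf (⟨1, 0, 21693, 0, 21693, 0, 34944⟩, .base)) (.leaf (⟨0, 0, 34944, 0, 34944, 1, 34944⟩, .dfn))) (.node (.leaf (⟨0, 3, 34944, 0, 34944, 1, 34659⟩, .inv 13)) (.leaf (⟨0, 0, 34944, 0, 34944, 1, 34944⟩, .dfn)))))) (.node (.node (.node (.node (.leaf (⟨0, 1, 34944, 0, 34944, 0, 34944⟩, .inv 0)) (.leaf (⟨1, 1, 54428, 0, 22657, 1, 34944⟩, .mul 8 3))) (.node (.leaf (⟨1, 1, 35056, 0, 44269, 1, 34944⟩, .mul 3 3)) (.leaf (⟨0, 0, 34944, 0, 34944, 1, 34944⟩, .dfn)))) (.node (.node (.leaf (⟨1, 1, 62617, 0, 30869, 1, 34944⟩, .sync ⟨4, 0, 761⟩)) (.leaf (⟨0, 0, 34944, 0, 34944, 1, 34944⟩, .dfn))) (.node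 (.leaf (⟨0, 1, 34659, 0, 34944, 3, 34944⟩, .dfn)) (.leaf (⟨0, 0, 34944, 0, 34944, 1, 34944⟩, .dfn))))) (.node (.node (.node (.leaf (⟨1, 1, 29872, 0, 21721, 1, 34944⟩, .sync ⟨2, 0, 1154⟩)) (.leaf (⟨1, 3, 34944, 0, 34944, 3, 34944⟩, .unit))) (.node (.leaf (⟨1, 1, 34944, 0, 34944, 1, 34944⟩, .unit)) (.leaf (⟨0, 0, 34944, 0, 34944, 1, 34944⟩, .dfn)))) (.node (.node (.leaf (⟨1, 1, 28877, 0, 21693, 1, 34944⟩, .sync ⟨6, 0, 172⟩)) (.leaf (⟨0, 0, 34944, 0, 34944, 1, 34944⟩, .dfn))) (.node (.leaf (⟨1, 3, 36052, 0, 44269, 3, 34944⟩, .sync ⟨9, 13, 741⟩)) (.leaf (⟨0, 0, 34944, 0, 34944, 1, 34944⟩, .dfn)))))))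

/-- definitions -/
def defsMixBad50 : List (ℕ × ℕ × ℕ) := [(0, 34944, 0), (0, 34944, 1), (1, 34659, 0)]

/-- the facts -/
def factsMixBad51 : Tree (Fct × Why) :=
  (.node (.node (.node (.node (.node (.leaf (⟨0, 0, 34944, 0, 34944, 1, 34944⟩, .dfn)) (.leaf (⟨1, 1, 44273, 0, 44273, 1, 34944⟩, .mul 7 7))) (.node (.leaf (⟨1, 1, 51420, 0, 40108, 1, 34944⟩, .mul 5 7)) (.leaf (⟨0, 0, 34944, 0, 34944, 1, 34944⟩, .dfn)))) (.node (.node (.leaf (⟨1, 0, 30869, 0, 30869, 0, 34944⟩, .base)) (.leaf (⟨1, 0, 47639, 0, 47687, 0, 34944⟩, .close 7 2 34944 [⟨10, 0, 0⟩, ⟨16, 13, 243⟩, ⟨15, 18, 440⟩, ⟨19, 14, 1199⟩, ⟨11, 1, 208⟩]))) (.node (.leaf (⟨1, 0, 52187, 0, 52187, 0, 34944⟩, .base)) (.leaf (⟨0, 0, 34944, 0, 34944, 1, 34944⟩, .dfn))))) (.node (.node (.node (.leaf (⟨1, 0, 21721, 0, 21721, 0, 34944⟩, .base)) (.leaf (⟨0, 3, 63318, 1, 11975, 3, 14152⟩, .fill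 6 1 4 [34944, 47710, 34944, 65536, 54904, 65536, 62212] 0 34944 [⟨10, 0, 0⟩, ⟨16, 13, 243⟩] [⟨12, 0, 758⟩, ⟨17, 13, 1167⟩]))) (.node (.leaf (⟨1, 0, 34944, 0, 34944, 0, 34944⟩, .base)) (.leaf (⟨0, 0, 34944, 0, 34944, 1, 34944⟩, .dfn)))) (.node (.node (.leaf (⟨1, 0, 21693, 0, 21693, 0, 34944⟩, .base)) (.leaf (⟨0, 0, 34944, 0, 34944, 1, 34944⟩, .dfn))) (.node (.leaf (⟨0, 3, 34944, 0, 34944, 1, 34659⟩, .inv 13)) (.leaf (⟨0, 0, 34944, 0, 34944, 1, 34944⟩, .dfn)))))) (.node (.node (.node (.node (.leaf (⟨0, 1, 34944, 0, 34944, 0, 34944⟩, .inv 0)) (.leaf (⟨1, 1, 54428, 0, 22657, 1, 34944⟩, .mul 8 3))) (.node (.leaf (⟨1, 1, 35056, 0, 44269, 1, 34944⟩, .mul 3 3)) (.leaf (⟨0, 0, 34944, 0, 34944, 1, 34944⟩, .dfn)))) (.node (.node (.leaf (⟨1, 1, 62617, 0, 30869, 1, 34944⟩, .sync ⟨4, 0, 761⟩)) (.leaf (⟨0, 0, 34944, 0, 34944, 1, 34944⟩, .dfn))) (.node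 (.leaf (⟨0, 1, 34659, 0, 34944, 3, 34944⟩, .dfn)) (.leaf (⟨0, 0, 34944, 0, 34944, 1, 34944⟩, .dfn))))) (.node (.node (.node (.leaf (⟨1, 1, 29872, 0, 21721, 1, 34944⟩, .sync ⟨2, 0, 1154⟩)) (.leaf (⟨1, 3, 34944, 0, 34944, 3, 34944⟩, .unit))) (.node (.leaf (⟨1, 1, 34944, 0, 34944, 1, 34944⟩, .unit)) (.leaf (⟨0, 0, 34944, 0, 34944, 1, 34944⟩, .dfn)))) (.node (.node (.leaf (⟨1, 1, 28877, 0, 21693, 1, 34944⟩, .sync ⟨6, 0, 172⟩)) (.leaf (⟨0, 0, 34944, 0, 34944, 1, 34944⟩, .dfn))) (.node (.leaf (⟨1, 3, 36052, 0, 44269, 3, 34944⟩, .sync ⟨9, 13, 741⟩)) (.leaf (⟨0, 0, 34944, 0, 34944, 1, 34944⟩, .dfn)))))))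

/-- definitions -/
def defsMixBad51 : List (ℕ × ℕ × ℕ) := [(0, 34944, 0), (0, 34944, 1), (1, 34659, 0)]

/-- the facts -/
def factsMixBad52 : Tree (Fct × Why) :=
  (.node (.node (.node (.node (.node (.leaf (⟨0, 0, 34944, 0, 34944, 1, 34944⟩, .dfn)) (.leaf (⟨1, 1, 44273, 0, 44273, 1, 34944⟩, .mul 7 7))) (.node (.leaf (⟨1, 1, 51420, 0, 40108, 1, 34944⟩, .mul 5 7)) (.leaf (⟨0, 0, 34944, 0, 34944, 1, 34944⟩, .dfn)))) (.node (.node (.leaf (⟨1, 0, 30869, 0, 30869, 0, 34944⟩, .base)) (.leaf (⟨1, 0, 47639, 0, 47687, 0, 34944⟩, .close 7 2 34944 [⟨10, 0, 0⟩, ⟨16, 13, 243⟩, ⟨15, 18, 440⟩, ⟨19, 14, 667⟩, ⟨11, 1, 269⟩]))) (.node (.leaf (⟨1, 0, 52187, 0, 52187, 0, 34944⟩, .base)) (.leaf (⟨0, 0, 34944, 0, 34944, 1, 34944⟩, .dfn))))) (.node (.node (.node (.leaf (⟨1, 0, 21721, 0, 21721, 0, 34944⟩, .base)) (.leaf (⟨0, 3, 63318, 1, 11975, 3, 61285⟩, .fill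 6 1 4 [34944, 47711, 34944, 65536, 54904, 65536, 62212] 0 34944 [⟨10, 0, 0⟩, ⟨16, 13, 243⟩] [⟨12, 0, 485⟩, ⟨17, 13, 1488⟩]))) (.node (.leaf (⟨1, 0, 34944, 0, 34944, 0, 34944⟩, .base)) (.leaf (⟨0, 0, 34944, 0, 34944, 1, 34944⟩, .dfn)))) (.node (.node (.leaf (⟨1, 0, 21693, 0, 21693, 0, 34944⟩, .base)) (.leaf (⟨0, 0, 34944, 0, 34944, 1, 34944⟩, .dfn))) (.node (.leaf (⟨0, 3, 34944, 0, 34944, 1, 34659⟩, .inv 13)) (.leaf (⟨0, 0, 34944, 0, 34944, 1, 34944⟩, .dfn)))))) (.node (.node (.node (.node (.leaf (⟨0, 1, 34944, 0, 34944, 0, 34944⟩, .inv 0)) (.leaf (⟨1, 1, 54428, 0, 22657, 1, 34944⟩, .mul 8 3))) (.node (.leaf (⟨1, 1, 35056, 0, 44269, 1, 34944⟩, .mul 3 3)) (.leaf (⟨0, 0, 34944, 0, 34944, 1, 34944⟩, .dfn)))) (.node (.node (.leaf (⟨1, 1, 62617, 0, 30869, 1, 34944⟩, .sync ⟨4, 0, 761⟩)) (.leaf (⟨0, 0, 34944, 0, 34944, 1, 34944⟩, .dfn))) (.node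 (.leaf (⟨0, 1, 34659, 0, 34944, 3, 34944⟩, .dfn)) (.leaf (⟨0, 0, 34944, 0, 34944, 1, 34944⟩, .dfn))))) (.node (.node (.node (.leaf (⟨1, 1, 29872, 0, 21721, 1, 34944⟩, .sync ⟨2, 0, 1154⟩)) (.leaf (⟨1, 3, 34944, 0, 34944, 3, 34944⟩, .unit))) (.node (.leaf (⟨1, 1, 34944, 0, 34944, 1, 34944⟩, .unit)) (.leaf (⟨0, 0, 34944, 0, 34944, 1, 34944⟩, .dfn)))) (.node (.node (.leaf (⟨1, 1, 28877, 0, 21693, 1, 34944⟩, .sync ⟨6, 0, 172⟩)) (.leaf (⟨0, 0, 34944, 0, 34944, 1, 34944⟩, .dfn))) (.node (.leaf (⟨1, 3, 36052, 0, 44269, 3, 34944⟩, .sync ⟨9, 13, 741⟩)) (.leaf (⟨0, 0, 34944, 0, 34944, 1, 34944⟩, .dfn)))))))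

/-- definitions -/
def defsMixBad52 : List (ℕ × ℕ × ℕ) := [(0, 34944, 0), (0, 34944, 1), (1, 34659, 0)]

/-- the facts -/
def factsMixBad53 : Tree (Fct × Why) :=
  (.node (.node (.node (.node (.node (.leaf (⟨0, 0, 34944, 0, 34944, 1, 34944⟩, .dfn)) (.leaf (⟨1, 1, 44273, 0, 44273, 1, 34944⟩, .mul 7 7))) (.node (.leaf (⟨1, 1, 51420, 0, 40108, 1, 34944⟩, .mul 5 7)) (.leaf (⟨0, 0, 34944, 0, 34944, 1, 34944⟩, .dfn)))) (.node (.node (.leaf (⟨1, 0, 30869, 0, 30869, 0, 34944⟩, .base)) (.leaf (⟨1, 0, 44627, 0, 47687, 0, 34944⟩, .close 7 2 34944 [⟨10, 0, 0⟩, ⟨16, 13, 243⟩, ⟨15, 18, 440⟩, ⟨19, 14, 1173⟩, ⟨11, 1, 1220⟩]))) (.node (.leaf (⟨1, 0, 52187, 0, 52187, 0, 34944⟩, .base)) (.leaf (⟨0, 0, 34944, 0, 34944, 1, 34944⟩, .dfn))))) (.node (.node (.node (.leaf (⟨1, 0, 21721, 0, 21721, 0, 34944⟩, .base)) (.leaf (⟨0, 3, 63318, 1, 11975, 3, 14121⟩, .fill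 6 1 4 [34944, 48650, 34944, 65536, 54904, 65536, 62212] 0 34944 [⟨10, 0, 0⟩, ⟨16, 13, 243⟩] [⟨12, 0, 591⟩, ⟨17, 13, 1336⟩]))) (.node (.leaf (⟨1, 0, 34944, 0, 34944, 0, 34944⟩, .base)) (.leaf (⟨0, 0, 34944, 0, 34944, 1, 34944⟩, .dfn)))) (.node (.node (.leaf (⟨1, 0, 21693, 0, 21693, 0, 34944⟩, .base)) (.leaf (⟨0, 0, 34944, 0, 34944, 1, 34944⟩, .dfn))) (.node (.leaf (⟨0, 3, 34944, 0, 34944, 1, 34659⟩, .inv 13)) (.leaf (⟨0, 0, 34944, 0, 34944, 1, 34944⟩, .dfn)))))) (.node (.node (.node (.node (.leaf (⟨0, 1, 34944, 0, 34944, 0, 34944⟩, .inv 0)) (.leaf (⟨1, 1, 54428, 0, 22657, 1, 34944⟩, .mul 8 3))) (.node (.leaf (⟨1, 1, 35056, 0, 44269, 1, 34944⟩, .mul 3 3)) (.leaf (⟨0, 0, 34944, 0, 34944, 1, 34944⟩, .dfn)))) (.node (.node (.leaf (⟨1, 1, 62617, 0, 30869, 1, 34944⟩, .sync ⟨4, 0, 761⟩)) (.leaf (⟨0, 0, 34944, 0, 34944, 1, 34944⟩, .dfn))) (.node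 (.leaf (⟨0, 1, 34659, 0, 34944, 3, 34944⟩, .dfn)) (.leaf (⟨0, 0, 34944, 0, 34944, 1, 34944⟩, .dfn))))) (.node (.node (.node (.leaf (⟨1, 1, 29872, 0, 21721, 1, 34944⟩, .sync ⟨2, 0, 1154⟩)) (.leaf (⟨1, 3, 34944, 0, 34944, 3, 34944⟩, .unit))) (.node (.leaf (⟨1, 1, 34944, 0, 34944, 1, 34944⟩, .unit)) (.leaf (⟨0, 0, 34944, 0, 34944, 1, 34944⟩, .dfn)))) (.node (.node (.leaf (⟨1, 1, 28877, 0, 21693, 1, 34944⟩, .sync ⟨6, 0, 172⟩)) (.leaf (⟨0, 0, 34944, 0, 34944, 1, 34944⟩, .dfn))) (.node (.leaf (⟨1, 3, 36052, 0, 44269, 3, 34944⟩, .sync ⟨9, 13, 741⟩)) (.leaf (⟨0, 0, 34944, 0, 34944, 1, 34944⟩, .dfn)))))))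

/-- definitions -/
def defsMixBad53 : List (ℕ × ℕ × ℕ) := [(0, 34944, 0), (0, 34944, 1), (1, 34659, 0)]

/-- the facts -/
def factsMixBad54 : Tree (Fct × Why) :=
  (.node (.node (.node (.node (.node (.leaf (⟨0, 0, 34944, 0, 34944, 1, 34944⟩, .dfn)) (.leaf (⟨1, 1, 44273, 0, 44273, 1, 34944⟩, .mul 7 7))) (.node (.leaf (⟨1, 1, 51420, 0, 40108, 1, 34944⟩, .mul 5 7)) (.leaf (⟨0, 0, 34944, 0, 34944, 1, 34944⟩, .dfn)))) (.node (.node (.leaf (⟨1, 0, 30869, 0, 30869, 0, 34944⟩, .base)) (.leaf (⟨1, 0, 44627, 0, 47687, 0, 34944⟩, .close 7 2 34944 [⟨10, 0, 0⟩, ⟨16, 13, 243⟩, ⟨15, 18, 440⟩, ⟨19, 14, 1253⟩, ⟨11, 1, 1417⟩]))) (.node (.leaf (⟨1, 0, 52187, 0, 52187, 0, 34944⟩, .base)) (.leaf (⟨0, 0, 34944, 0, 34944, 1, 34944⟩, .dfn))))) (.node (.node (.node (.leaf (⟨1, 0, 21721, 0, 21721, 0, 34944⟩, .base)) (.leaf (⟨0, 3, 63318, 1, 11975, 3, 61188⟩, .fill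 6 1 4 [34944, 48651, 34944, 65536, 54904, 65536, 62212] 0 34944 [⟨10, 0, 0⟩, ⟨16, 13, 243⟩] [⟨12, 0, 1349⟩, ⟨17, 13, 1269⟩]))) (.node (.leaf (⟨1, 0, 34944, 0, 34944, 0, 34944⟩, .base)) (.leaf (⟨0, 0, 34944, 0, 34944, 1, 34944⟩, .dfn)))) (.node (.node (.leaf (⟨1, 0, 21693, 0, 21693, 0, 34944⟩, .base)) (.leaf (⟨0, 0, 34944, 0, 34944, 1, 34944⟩, .dfn))) (.node (.leaf (⟨0, 3, 34944, 0, 34944, 1, 34659⟩, .inv 13)) (.leaf (⟨0, 0, 34944, 0, 34944, 1, 34944⟩, .dfn)))))) (.node (.node (.node (.node (.leaf (⟨0, 1, 34944, 0, 34944, 0, 34944⟩, .inv 0)) (.leaf (⟨1, 1, 54428, 0, 22657, 1, 34944⟩, .mul 8 3))) (.node (.leaf (⟨1, 1, 35056, 0, 44269, 1, 34944⟩, .mul 3 3)) (.leaf (⟨0, 0, 34944, 0, 34944, 1, 34944⟩, .dfn)))) (.node (.node (.leaf (⟨1, 1, 62617, 0, 30869, 1, 34944⟩, .sync ⟨4, 0, 761⟩)) (.leaf (⟨0, 0, 34944, 0, 34944, 1, 34944⟩, .dfn))) (.node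 (.leaf (⟨0, 1, 34659, 0, 34944, 3, 34944⟩, .dfn)) (.leaf (⟨0, 0, 34944, 0, 34944, 1, 34944⟩, .dfn))))) (.node (.node (.node (.leaf (⟨1, 1, 29872, 0, 21721, 1, 34944⟩, .sync ⟨2, 0, 1154⟩)) (.leaf (⟨1, 3, 34944, 0, 34944, 3, 34944⟩, .unit))) (.node (.leaf (⟨1, 1, 34944, 0, 34944, 1, 34944⟩, .unit)) (.leaf (⟨0, 0, 34944, 0, 34944, 1, 34944⟩, .dfn)))) (.node (.node (.leaf (⟨1, 1, 28877, 0, 21693, 1, 34944⟩, .sync ⟨6, 0, 172⟩)) (.leaf (⟨0, 0, 34944, 0, 34944, 1, 34944⟩, .dfn))) (.node (.leaf (⟨1, 3, 36052, 0, 44269, 3, 34944⟩, .sync ⟨9, 13, 741⟩)) (.leaf (⟨0, 0, 34944, 0, 34944, 1, 34944⟩, .dfn)))))))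

/-- definitions -/
def defsMixBad54 : List (ℕ × ℕ × ℕ) := [(0, 34944, 0), (0, 34944, 1), (1, 34659, 0)]

/-- the facts -/
def factsMixBad55 : Tree (Fct × Why) :=
  (.node (.node (.node (.node (.node (.leaf (⟨0, 0, 34944, 0, 34944, 1, 34944⟩, .dfn)) (.leaf (⟨1, 1, 44273, 0, 44273, 1, 34944⟩, .mul 7 7))) (.node (.leaf (⟨1, 1, 51420, 0, 40108, 1, 34944⟩, .mul 5 7)) (.leaf (⟨0, 0, 34944, 0, 34944, 1, 34944⟩, .dfn)))) (.node (.node (.leaf (⟨1, 0, 30869, 0, 30869, 0, 34944⟩, .base)) (.leaf (⟨1, 0, 44626, 0, 47687, 0, 34944⟩, .close 7 2 34944 [⟨10, 0, 0⟩, ⟨16, 13, 243⟩, ⟨15, 18, 440⟩, ⟨19, 14, 149⟩, ⟨11, 1, 602⟩]))) (.node (.leaf (⟨1, 0, 52187, 0, 52187, 0, 34944⟩, .base)) (.leaf (⟨0, 0, 34944, 0, 34944, 1, 34944⟩, .dfn))))) (.node (.node (.node (.leaf (⟨1, 0, 21721, 0, 21721, 0, 34944⟩, .base)) (.leaf (⟨0, 3, 63318, 1, 11975, 3, 32613⟩, .fill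 6 1 4 [34944, 48654, 34944, 65536, 54904, 65536, 62212] 0 34944 [⟨10, 0, 0⟩, ⟨16, 13, 243⟩] [⟨12, 0, 316⟩, ⟨17, 13, 689⟩]))) (.node (.leaf (⟨1, 0, 34944, 0, 34944, 0, 34944⟩, .base)) (.leaf (⟨0, 0, 34944, 0, 34944, 1, 34944⟩, .dfn)))) (.node (.node (.leaf (⟨1, 0, 21693, 0, 21693, 0, 34944⟩, .base)) (.leaf (⟨0, 0, 34944, 0, 34944, 1, 34944⟩, .dfn))) (.node (.leaf (⟨0, 3, 34944, 0, 34944, 1, 34659⟩, .inv 13)) (.leaf (⟨0, 0, 34944, 0, 34944, 1, 34944⟩, .dfn)))))) (.node (.node (.node (.node (.leaf (⟨0, 1, 34944, 0, 34944, 0, 34944⟩, .inv 0)) (.leaf (⟨1, 1, 54428, 0, 22657, 1, 34944⟩, .mul 8 3))) (.node (.leaf (⟨1, 1, 35056, 0, 44269, 1, 34944⟩, .mul 3 3)) (.leaf (⟨0, 0, 34944, 0, 34944, 1, 34944⟩, .dfn)))) (.node (.node (.leaf (⟨1, 1, 62617, 0, 30869, 1, 34944⟩, .sync ⟨4, 0, 761⟩)) (.leaf (⟨0, 0, 34944, 0, 34944, 1, 34944⟩, .dfn))) (.node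 (.leaf (⟨0, 1, 34659, 0, 34944, 3, 34944⟩, .dfn)) (.leaf (⟨0, 0, 34944, 0, 34944, 1, 34944⟩, .dfn))))) (.node (.node (.node (.leaf (⟨1, 1, 29872, 0, 21721, 1, 34944⟩, .sync ⟨2, 0, 1154⟩)) (.leaf (⟨1, 3, 34944, 0, 34944, 3, 34944⟩, .unit))) (.node (.leaf (⟨1, 1, 34944, 0, 34944, 1, 34944⟩, .unit)) (.leaf (⟨0, 0, 34944, 0, 34944, 1, 34944⟩, .dfn)))) (.node (.node (.leaf (⟨1, 1, 28877, 0, 21693, 1, 34944⟩, .sync ⟨6, 0, 172⟩)) (.leaf (⟨0, 0, 34944, 0, 34944, 1, 34944⟩, .dfn))) (.node (.leaf (⟨1, 3, 36052, 0, 44269, 3, 34944⟩, .sync ⟨9, 13, 741⟩)) (.leaf (⟨0, 0, 34944, 0, 34944, 1, 34944⟩, .dfn)))))))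

/-- definitions -/
def defsMixBad55 : List (ℕ × ℕ × ℕ) := [(0, 34944, 0), (0, 34944, 1), (1, 34659, 0)]

/-- the facts -/
def factsMixBad56 : Tree (Fct × Why) :=
  (.node (.node (.node (.node (.node (.leaf (⟨0, 0, 34944, 0, 34944, 1, 34944⟩, .dfn)) (.leaf (⟨1, 1, 44273, 0, 44273, 1, 34944⟩, .mul 7 7))) (.node (.leaf (⟨1, 1, 51420, 0, 40108, 1, 34944⟩, .mul 5 7)) (.leaf (⟨0, 0, 34944, 0, 34944, 1, 34944⟩, .dfn)))) (.node (.node (.leaf (⟨1, 0, 30869, 0, 30869, 0, 34944⟩, .base)) (.leaf (⟨1, 0, 44626, 0, 47687, 0, 34944⟩, .close 7 2 34944 [⟨10, 0, 0⟩, ⟨16, 13, 243⟩, ⟨15, 18, 440⟩, ⟨19, 14, 933⟩, ⟨11, 1, 1369⟩]))) (.node (.leaf (⟨1, 0, 52187, 0, 52187, 0, 34944⟩, .base)) (.leaf (⟨0, 0, 34944, 0, 34944, 1, 34944⟩, .dfn))))) (.node (.node (.node (.leaf (⟨1, 0, 21721, 0, 21721, 0, 34944⟩, .base)) (.leaf (⟨0, 3, 63318, 1, 11975, 3, 42824⟩, .fill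 6 1 4 [34944, 48655, 34944, 65536, 54904, 65536, 62212] 0 34944 [⟨10, 0, 0⟩, ⟨16, 13, 243⟩] [⟨12, 0, 843⟩, ⟨17, 13, 88⟩]))) (.node (.leaf (⟨1, 0, 34944, 0, 34944, 0, 34944⟩, .base)) (.leaf (⟨0, 0, 34944, 0, 34944, 1, 34944⟩, .dfn)))) (.node (.node (.leaf (⟨1, 0, 21693, 0, 21693, 0, 34944⟩, .base)) (.leaf (⟨0, 0, 34944, 0, 34944, 1, 34944⟩, .dfn))) (.node (.leaf (⟨0, 3, 34944, 0, 34944, 1, 34659⟩, .inv 13)) (.leaf (⟨0, 0, 34944, 0, 34944, 1, 34944⟩, .dfn)))))) (.node (.node (.node (.node (.leaf (⟨0, 1, 34944, 0, 34944, 0, 34944⟩, .inv 0)) (.leaf (⟨1, 1, 54428, 0, 22657, 1, 34944⟩, .mul 8 3))) (.node (.leaf (⟨1, 1, 35056, 0, 44269, 1, 34944⟩, .mul 3 3)) (.leaf (⟨0, 0, 34944, 0, 34944, 1, 34944⟩, .dfn)))) (.node (.node (.leaf (⟨1, 1, 62617, 0, 30869, 1, 34944⟩, .sync ⟨4, 0, 761⟩)) (.leaf (⟨0, 0, 34944, 0, 34944, 1, 34944⟩, .dfn))) (.node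 (.leaf (⟨0, 1, 34659, 0, 34944, 3, 34944⟩, .dfn)) (.leaf (⟨0, 0, 34944, 0, 34944, 1, 34944⟩, .dfn))))) (.node (.node (.node (.leaf (⟨1, 1, 29872, 0, 21721, 1, 34944⟩, .sync ⟨2, 0, 1154⟩)) (.leaf (⟨1, 3, 34944, 0, 34944, 3, 34944⟩, .unit))) (.node (.leaf (⟨1, 1, 34944, 0, 34944, 1, 34944⟩, .unit)) (.leaf (⟨0, 0, 34944, 0, 34944, 1, 34944⟩, .dfn)))) (.node (.node (.leaf (⟨1, 1, 28877, 0, 21693, 1, 34944⟩, .sync ⟨6, 0, 172⟩)) (.leaf (⟨0, 0, 34944, 0, 34944, 1, 34944⟩, .dfn))) (.node (.leaf (⟨1, 3, 36052, 0, 44269, 3, 34944⟩, .sync ⟨9, 13, 741⟩)) (.leaf (⟨0, 0, 34944, 0, 34944, 1, 34944⟩, .dfn)))))))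

/-- definitions -/
def defsMixBad56 : List (ℕ × ℕ × ℕ) := [(0, 34944, 0), (0, 34944, 1), (1, 34659, 0)]

/-- the facts -/
def factsMixBad57 : Tree (Fct × Why) :=
  (.node (.node (.node (.node (.node (.leaf (⟨0, 0, 34944, 0, 34944, 1, 34944⟩, .dfn)) (.leaf (⟨1, 1, 44273, 0, 44273, 1, 34944⟩, .mul 7 7))) (.node (.leaf (⟨1, 1, 51420, 0, 40108, 1, 34944⟩, .mul 5 7)) (.leaf (⟨0, 0, 34944, 0, 34944, 1, 34944⟩, .dfn)))) (.node (.node (.leaf (⟨1, 0, 30869, 0, 30869, 0, 34944⟩, .base)) (.leaf (⟨1, 0, 44546, 0, 47687, 0, 34944⟩, .close 7 2 34944 [⟨10, 0, 0⟩, ⟨16, 13, 243⟩, ⟨15, 18, 440⟩, ⟨19, 14, 429⟩, ⟨11, 1, 460⟩]))) (.node (.leaf (⟨1, 0, 52187, 0, 52187, 0, 34944⟩, .base)) (.leaf (⟨0, 0, 34944, 0, 34944, 1, 34944⟩, .dfn))))) (.node (.node (.node (.leaf (⟨1, 0, 21721, 0, 21721, 0, 34944⟩, .base)) (.leaf (⟨0, 3, 63318, 1, 11975, 3, 14153⟩, .fill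 6 1 4 [34944, 48666, 34944, 65536, 54904, 65536, 62212] 0 34944 [⟨10, 0, 0⟩, ⟨16, 13, 243⟩] [⟨12, 0, 975⟩, ⟨17, 13, 835⟩]))) (.node (.leaf (⟨1, 0, 34944, 0, 34944, 0, 34944⟩, .base)) (.leaf (⟨0, 0, 34944, 0, 34944, 1, 34944⟩, .dfn)))) (.node (.node (.leaf (⟨1, 0, 21693, 0, 21693, 0, 34944⟩, .base)) (.leaf (⟨0, 0, 34944, 0, 34944, 1, 34944⟩, .dfn))) (.node (.leaf (⟨0, 3, 34944, 0, 34944, 1, 34659⟩, .inv 13)) (.leaf (⟨0, 0, 34944, 0, 34944, 1, 34944⟩, .dfn)))))) (.node (.node (.node (.node (.leaf (⟨0, 1, 34944, 0, 34944, 0, 34944⟩, .inv 0)) (.leaf (⟨1, 1, 54428, 0, 22657, 1, 34944⟩, .mul 8 3))) (.node (.leaf (⟨1, 1, 35056, 0, 44269, 1, 34944⟩, .mul 3 3)) (.leaf (⟨0, 0, 34944, 0, 34944, 1, 34944⟩, .dfn)))) (.node (.node (.leaf (⟨1, 1, 62617, 0, 30869, 1, 34944⟩, .sync ⟨4, 0, 761⟩)) (.leaf (⟨0, 0, 34944, 0, 34944, 1, 34944⟩, .dfn))) (.node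 (.leaf (⟨0, 1, 34659, 0, 34944, 3, 34944⟩, .dfn)) (.leaf (⟨0, 0, 34944, 0, 34944, 1, 34944⟩, .dfn))))) (.node (.node (.node (.leaf (⟨1, 1, 29872, 0, 21721, 1, 34944⟩, .sync ⟨2, 0, 1154⟩)) (.leaf (⟨1, 3, 34944, 0, 34944, 3, 34944⟩, .unit))) (.node (.leaf (⟨1, 1, 34944, 0, 34944, 1, 34944⟩, .unit)) (.leaf (⟨0, 0, 34944, 0, 34944, 1, 34944⟩, .dfn)))) (.node (.node (.leaf (⟨1, 1, 28877, 0, 21693, 1, 34944⟩, .sync ⟨6, 0, 172⟩)) (.leaf (⟨0, 0, 34944, 0, 34944, 1, 34944⟩, .dfn))) (.node (.leaf (⟨1, 3, 36052, 0, 44269, 3, 34944⟩, .sync ⟨9, 13, 741⟩)) (.leaf (⟨0, 0, 34944, 0, 34944, 1, 34944⟩, .dfn)))))))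

/-- definitions -/
def defsMixBad57 : List (ℕ × ℕ × ℕ) := [(0, 34944, 0), (0, 34944, 1), (1, 34659, 0)]

/-- the facts -/
def factsMixBad58 : Tree (Fct × Why) :=
  (.node (.node (.node (.node (.node (.leaf (⟨0, 0, 34944, 0, 34944, 1, 34944⟩, .dfn)) (.leaf (⟨1, 1, 44273, 0, 44273, 1, 34944⟩, .mul 7 7))) (.node (.leaf (⟨1, 1, 51420, 0, 40108, 1, 34944⟩, .mul 5 7)) (.leaf (⟨0, 0, 34944, 0, 34944, 1, 34944⟩, .dfn)))) (.node (.node (.leaf (⟨1, 0, 30869, 0, 30869, 0, 34944⟩, .base)) (.leaf (⟨1, 0, 44546, 0, 47687, 0, 34944⟩, .close 7 2 34944 [⟨10, 0, 0⟩, ⟨16, 13, 243⟩, ⟨15, 18, 440⟩, ⟨19, 14, 1179⟩, ⟨11, 1, 1240⟩]))) (.node (.leaf (⟨1, 0, 52187, 0, 52187, 0, 34944⟩, .base)) (.leaf (⟨0, 0, 34944, 0, 34944, 1, 34944⟩, .dfn))))) (.node (.node (.node (.leaf (⟨1, 0, 21721, 0, 21721, 0, 34944⟩, .base)) (.leaf (⟨0, 3, 63318, 1, 11975, 3, 61284⟩, .fill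 6 1 4 [34944, 48667, 34944, 65536, 54904, 65536, 62212] 0 34944 [⟨10, 0, 0⟩, ⟨16, 13, 243⟩] [⟨12, 0, 1498⟩, ⟨17, 13, 1532⟩]))) (.node (.leaf (⟨1, 0, 34944, 0, 34944, 0, 34944⟩, .base)) (.leaf (⟨0, 0, 34944, 0, 34944, 1, 34944⟩, .dfn)))) (.node (.node (.leaf (⟨1, 0, 21693, 0, 21693, 0, 34944⟩, .base)) (.leaf (⟨0, 0, 34944, 0, 34944, 1, 34944⟩, .dfn))) (.node (.leaf (⟨0, 3, 34944, 0, 34944, 1, 34659⟩, .inv 13)) (.leaf (⟨0, 0, 34944, 0, 34944, 1, 34944⟩, .dfn)))))) (.node (.node (.node (.node (.leaf (⟨0, 1, 34944, 0, 34944, 0, 34944⟩, .inv 0)) (.leaf (⟨1, 1, 54428, 0, 22657, 1, 34944⟩, .mul 8 3))) (.node (.leaf (⟨1, 1, 35056, 0, 44269, 1, 34944⟩, .mul 3 3)) (.leaf (⟨0, 0, 34944, 0, 34944, 1, 34944⟩, .dfn)))) (.node (.node (.leaf (⟨1, 1, 62617, 0, 30869, 1, 34944⟩, .sync ⟨4, 0, 761⟩)) (.leaf (⟨0, 0, 34944, 0, 34944, 1, 34944⟩, .dfn))) (.node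 (.leaf (⟨0, 1, 34659, 0, 34944, 3, 34944⟩, .dfn)) (.leaf (⟨0, 0, 34944, 0, 34944, 1, 34944⟩, .dfn))))) (.node (.node (.node (.leaf (⟨1, 1, 29872, 0, 21721, 1, 34944⟩, .sync ⟨2, 0, 1154⟩)) (.leaf (⟨1, 3, 34944, 0, 34944, 3, 34944⟩, .unit))) (.node (.leaf (⟨1, 1, 34944, 0, 34944, 1, 34944⟩, .unit)) (.leaf (⟨0, 0, 34944, 0, 34944, 1, 34944⟩, .dfn)))) (.node (.node (.leaf (⟨1, 1, 28877, 0, 21693, 1, 34944⟩, .sync ⟨6, 0, 172⟩)) (.leaf (⟨0, 0, 34944, 0, 34944, 1, 34944⟩, .dfn))) (.node (.leaf (⟨1, 3, 36052, 0, 44269, 3, 34944⟩, .sync ⟨9, 13, 741⟩)) (.leaf (⟨0, 0, 34944, 0, 34944, 1, 34944⟩, .dfn)))))))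

/-- definitions -/
def defsMixBad58 : List (ℕ × ℕ × ℕ) := [(0, 34944, 0), (0, 34944, 1), (1, 34659, 0)]

/-- the facts -/
def factsMixBad59 : Tree (Fct × Why) :=
  (.node (.node (.node (.node (.node (.leaf (⟨0, 0, 34944, 0, 34944, 1, 34944⟩, .dfn)) (.leaf (⟨1, 1, 44273, 0, 44273, 1, 34944⟩, .mul 7 7))) (.node (.leaf (⟨1, 1, 51420, 0, 40108, 1, 34944⟩, .mul 5 7)) (.leaf (⟨0, 0, 34944, 0, 34944, 1, 34944⟩, .dfn)))) (.node (.node (.leaf (⟨1, 0, 30869, 0, 30869, 0, 34944⟩, .base)) (.leaf (⟨1, 0, 44547, 0, 47687, 0, 34944⟩, .close 7 2 34944 [⟨10, 0, 0⟩, ⟨16, 13, 243⟩, ⟨15, 18, 440⟩, ⟨19, 14, 490⟩, ⟨11, 1, 1184⟩]))) (.node (.leaf (⟨1, 0, 52187, 0, 52187, 0, 34944⟩, .base)) (.leaf (⟨0, 0, 34944, 0, 34944, 1, 34944⟩, .dfn))))) (.node (.node (.node (.leaf (⟨1, 0, 21721, 0, 21721, 0, 34944⟩, .base)) (.leaf (⟨0, 3, 63318, 1, 11975, 3, 32517⟩, .fill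 6 1 4 [34944, 48670, 34944, 65536, 54904, 65536, 62212] 0 34944 [⟨10, 0, 0⟩, ⟨16, 13, 243⟩] [⟨12, 0, 879⟩, ⟨17, 13, 1346⟩]))) (.node (.leaf (⟨1, 0, 34944, 0, 34944, 0, 34944⟩, .base)) (.leaf (⟨0, 0, 34944, 0, 34944, 1, 34944⟩, .dfn)))) (.node (.node (.leaf (⟨1, 0, 21693, 0, 21693, 0, 34944⟩, .base)) (.leaf (⟨0, 0, 34944, 0, 34944, 1, 34944⟩, .dfn))) (.node (.leaf (⟨0, 3, 34944, 0, 34944, 1, 34659⟩, .inv 13)) (.leaf (⟨0, 0, 34944, 0, 34944, 1, 34944⟩, .dfn)))))) (.node (.node (.node (.node (.leaf (⟨0, 1, 34944, 0, 34944, 0, 34944⟩, .inv 0)) (.leaf (⟨1, 1, 54428, 0, 22657, 1, 34944⟩, .mul 8 3))) (.node (.leaf (⟨1, 1, 35056, 0, 44269, 1, 34944⟩, .mul 3 3)) (.leaf (⟨0, 0, 34944, 0, 34944, 1, 34944⟩, .dfn)))) (.node (.node (.leaf (⟨1, 1, 62617, 0, 30869, 1, 34944⟩, .sync ⟨4, 0, 761⟩)) (.leaf (⟨0, 0, 34944, 0, 34944, 1, 34944⟩, .dfn))) (.node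 (.leaf (⟨0, 1, 34659, 0, 34944, 3, 34944⟩, .dfn)) (.leaf (⟨0, 0, 34944, 0, 34944, 1, 34944⟩, .dfn))))) (.node (.node (.node (.leaf (⟨1, 1, 29872, 0, 21721, 1, 34944⟩, .sync ⟨2, 0, 1154⟩)) (.leaf (⟨1, 3, 34944, 0, 34944, 3, 34944⟩, .unit))) (.node (.leaf (⟨1, 1, 34944, 0, 34944, 1, 34944⟩, .unit)) (.leaf (⟨0, 0, 34944, 0, 34944, 1, 34944⟩, .dfn)))) (.node (.node (.leaf (⟨1, 1, 28877, 0, 21693, 1, 34944⟩, .sync ⟨6, 0, 172⟩)) (.leaf (⟨0, 0, 34944, 0, 34944, 1, 34944⟩, .dfn))) (.node (.leaf (⟨1, 3, 36052, 0, 44269, 3, 34944⟩, .sync ⟨9, 13, 741⟩)) (.leaf (⟨0, 0, 34944, 0, 34944, 1, 34944⟩, .dfn)))))))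

/-- definitions -/
def defsMixBad59 : List (ℕ × ℕ × ℕ) := [(0, 34944, 0), (0, 34944, 1), (1, 34659, 0)]

/-- the facts -/
def factsMixBad60 : Tree (Fct × Why) :=
  (.node (.node (.node (.node (.node (.leaf (⟨0, 0, 34944, 0, 34944, 1, 34944⟩, .dfn)) (.leaf (⟨1, 1, 44273, 0, 44273, 1, 34944⟩, .mul 7 7))) (.node (.leaf (⟨1, 1, 51420, 0, 40108, 1, 34944⟩, .mul 5 7)) (.leaf (⟨0, 0, 34944, 0, 34944, 1, 34944⟩, .dfn)))) (.node (.node (.leaf (⟨1, 0, 30869, 0, 30869, 0, 34944⟩, .base)) (.leaf (⟨1, 0, 44547, 0, 47687, 0, 34944⟩, .close 7 2 34944 [⟨10, 0, 0⟩, ⟨16, 13, 243⟩, ⟨15, 18, 440⟩, ⟨19, 14, 383⟩, ⟨11, 1, 655⟩]))) (.node (.leaf (⟨1, 0, 52187, 0, 52187, 0, 34944⟩, .base)) (.leaf (⟨0, 0, 34944, 0, 34944, 1, 34944⟩, .dfn))))) (.node (.node (.node (.leaf (⟨1, 0, 21721, 0, 21721, 0, 34944⟩, .base)) (.leaf (⟨0, 3, 63318, 1, 11975, 3, 42792⟩, .fill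 6 1 4 [34944, 48671, 34944, 65536, 54904, 65536, 62212] 0 34944 [⟨10, 0, 0⟩, ⟨16, 13, 243⟩] [⟨12, 0, 1251⟩, ⟨17, 13, 14⟩]))) (.node (.leaf (⟨1, 0, 34944, 0, 34944, 0, 34944⟩, .base)) (.leaf (⟨0, 0, 34944, 0, 34944, 1, 34944⟩, .dfn)))) (.node (.node (.leaf (⟨1, 0, 21693, 0, 21693, 0, 34944⟩, .base)) (.leaf (⟨0, 0, 34944, 0, 34944, 1, 34944⟩, .dfn))) (.node (.leaf (⟨0, 3, 34944, 0, 34944, 1, 34659⟩, .inv 13)) (.leaf (⟨0, 0, 34944, 0, 34944, 1, 34944⟩, .dfn)))))) (.node (.node (.node (.node (.leaf (⟨0, 1, 34944, 0, 34944, 0, 34944⟩, .inv 0)) (.leaf (⟨1, 1, 54428, 0, 22657, 1, 34944⟩, .mul 8 3))) (.node (.leaf (⟨1, 1, 35056, 0, 44269, 1, 34944⟩, .mul 3 3)) (.leaf (⟨0, 0, 34944, 0, 34944, 1, 34944⟩, .dfn)))) (.node (.node (.leaf (⟨1, 1, 62617, 0, 30869, 1, 34944⟩, .sync ⟨4, 0, 761⟩)) (.leaf (⟨0, 0, 34944, 0, 34944, 1, 34944⟩, .dfn))) (.node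 (.leaf (⟨0, 1, 34659, 0, 34944, 3, 34944⟩, .dfn)) (.leaf (⟨0, 0, 34944, 0, 34944, 1, 34944⟩, .dfn))))) (.node (.node (.node (.leaf (⟨1, 1, 29872, 0, 21721, 1, 34944⟩, .sync ⟨2, 0, 1154⟩)) (.leaf (⟨1, 3, 34944, 0, 34944, 3, 34944⟩, .unit))) (.node (.leaf (⟨1, 1, 34944, 0, 34944, 1, 34944⟩, .unit)) (.leaf (⟨0, 0, 34944, 0, 34944, 1, 34944⟩, .dfn)))) (.node (.node (.leaf (⟨1, 1, 28877, 0, 21693, 1, 34944⟩, .sync ⟨6, 0, 172⟩)) (.leaf (⟨0, 0, 34944, 0, 34944, 1, 34944⟩, .dfn))) (.node (.leaf (⟨1, 3, 36052, 0, 44269, 3, 34944⟩, .sync ⟨9, 13, 741⟩)) (.leaf (⟨0, 0, 34944, 0, 34944, 1, 34944⟩, .dfn)))))))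

/-- definitions -/
def defsMixBad60 : List (ℕ × ℕ × ℕ) := [(0, 34944, 0), (0, 34944, 1), (1, 34659, 0)]

/-- the facts -/
def factsMixBad61 : Tree (Fct × Why) :=
  (.node (.node (.node (.node (.node (.leaf (⟨0, 0, 34944, 0, 34944, 1, 34944⟩, .dfn)) (.leaf (⟨1, 1, 44273, 0, 44273, 1, 34944⟩, .mul 7 7))) (.node (.leaf (⟨1, 1, 51420, 0, 40108, 1, 34944⟩, .mul 5 7)) (.leaf (⟨0, 0, 34944, 0, 34944, 1, 34944⟩, .dfn)))) (.node (.node (.leaf (⟨1, 0, 30869, 0, 30869, 0, 34944⟩, .base)) (.leaf (⟨1, 0, 44546, 0, 47687, 0, 34944⟩, .close 7 2 34944 [⟨10, 0, 0⟩, ⟨16, 13, 243⟩, ⟨15, 18, 440⟩, ⟨19, 14, 805⟩, ⟨11, 1, 347⟩]))) (.node (.leaf (⟨1, 0, 52187, 0, 52187, 0, 34944⟩, .base)) (.leaf (⟨0, 0, 34944, 0, 34944, 1, 34944⟩, .dfn))))) (.node (.node (.node (.leaf (⟨1, 0, 21721, 0, 21721, 0, 34944⟩, .base)) (.leaf (⟨0, 3, 63318, 1, 11975, 3, 42756⟩, .fill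 6 1 4 [34944, 48714, 34944, 65536, 54904, 65536, 62212] 0 34944 [⟨10, 0, 0⟩, ⟨16, 13, 243⟩] [⟨12, 0, 647⟩, ⟨17, 13, 724⟩]))) (.node (.leaf (⟨1, 0, 34944, 0, 34944, 0, 34944⟩, .base)) (.leaf (⟨0, 0, 34944, 0, 34944, 1, 34944⟩, .dfn)))) (.node (.node (.leaf (⟨1, 0, 21693, 0, 21693, 0, 34944⟩, .base)) (.leaf (⟨0, 0, 34944, 0, 34944, 1, 34944⟩, .dfn))) (.node (.leaf (⟨0, 3, 34944, 0, 34944, 1, 34659⟩, .inv 13)) (.leaf (⟨0, 0, 34944, 0, 34944, 1, 34944⟩, .dfn)))))) (.node (.node (.node (.node (.leaf (⟨0, 1, 34944, 0, 34944, 0, 34944⟩, .inv 0)) (.leaf (⟨1, 1, 54428, 0, 22657, 1, 34944⟩, .mul 8 3))) (.node (.leaf (⟨1, 1, 35056, 0, 44269, 1, 34944⟩, .mul 3 3)) (.leaf (⟨0, 0, 34944, 0, 34944, 1, 34944⟩, .dfn)))) (.node (.node (.leaf (⟨1, 1, 62617, 0, 30869, 1, 34944⟩, .sync ⟨4, 0, 761⟩)) (.leaf (⟨0, 0, 34944, 0, 34944, 1, 34944⟩, .dfn))) (.node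 (.leaf (⟨0, 1, 34659, 0, 34944, 3, 34944⟩, .dfn)) (.leaf (⟨0, 0, 34944, 0, 34944, 1, 34944⟩, .dfn))))) (.node (.node (.node (.leaf (⟨1, 1, 29872, 0, 21721, 1, 34944⟩, .sync ⟨2, 0, 1154⟩)) (.leaf (⟨1, 3, 34944, 0, 34944, 3, 34944⟩, .unit))) (.node (.leaf (⟨1, 1, 34944, 0, 34944, 1, 34944⟩, .unit)) (.leaf (⟨0, 0, 34944, 0, 34944, 1, 34944⟩, .dfn)))) (.node (.node (.leaf (⟨1, 1, 28877, 0, 21693, 1, 34944⟩, .sync ⟨6, 0, 172⟩)) (.leaf (⟨0, 0, 34944, 0, 34944, 1, 34944⟩, .dfn))) (.node (.leaf (⟨1, 3, 36052, 0, 44269, 3, 34944⟩, .sync ⟨9, 13, 741⟩)) (.leaf (⟨0, 0, 34944, 0, 34944, 1, 34944⟩, .dfn)))))))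

/-- definitions -/
def defsMixBad61 : List (ℕ × ℕ × ℕ) := [(0, 34944, 0), (0, 34944, 1), (1, 34659, 0)]

/-- the facts -/
def factsMixBad62 : Tree (Fct × Why) :=
  (.node (.node (.node (.node (.node (.leaf (⟨0, 0, 34944, 0, 34944, 1, 34944⟩, .dfn)) (.leaf (⟨1, 1, 44273, 0, 44273, 1, 34944⟩, .mul 7 7))) (.node (.leaf (⟨1, 1, 51420, 0, 40108, 1, 34944⟩, .mul 5 7)) (.leaf (⟨0, 0, 34944, 0, 34944, 1, 34944⟩, .dfn)))) (.node (.node (.leaf (⟨1, 0, 30869, 0, 30869, 0, 34944⟩, .base)) (.leaf (⟨1, 0, 44546, 0, 47687, 0, 34944⟩, .close 7 2 34944 [⟨10, 0, 0⟩, ⟨16, 13, 243⟩, ⟨15, 18, 440⟩, ⟨19, 14, 230⟩, ⟨11, 1, 306⟩]))) (.node (.leaf (⟨1, 0, 52187, 0, 52187, 0, 34944⟩, .base)) (.leaf (⟨0, 0, 34944, 0, 34944, 1, 34944⟩, .dfn))))) (.node (.node (.node (.leaf (⟨1, 0, 21721, 0, 21721, 0, 34944⟩, .base)) (.leaf (⟨0, 3, 63318, 1, 11975, 3, 32553⟩, .fill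 6 1 4 [34944, 48715, 34944, 65536, 54904, 65536, 62212] 0 34944 [⟨10, 0, 0⟩, ⟨16, 13, 243⟩] [⟨12, 0, 1031⟩, ⟨17, 13, 747⟩]))) (.node (.leaf (⟨1, 0, 34944, 0, 34944, 0, 34944⟩, .base)) (.leaf (⟨0, 0, 34944, 0, 34944, 1, 34944⟩, .dfn)))) (.node (.node (.leaf (⟨1, 0, 21693, 0, 21693, 0, 34944⟩, .base)) (.leaf (⟨0, 0, 34944, 0, 34944, 1, 34944⟩, .dfn))) (.node (.leaf (⟨0, 3, 34944, 0, 34944, 1, 34659⟩, .inv 13)) (.leaf (⟨0, 0, 34944, 0, 34944, 1, 34944⟩, .dfn)))))) (.node (.node (.node (.node (.leaf (⟨0, 1, 34944, 0, 34944, 0, 34944⟩, .inv 0)) (.leaf (⟨1, 1, 54428, 0, 22657, 1, 34944⟩, .mul 8 3))) (.node (.leaf (⟨1, 1, 35056, 0, 44269, 1, 34944⟩, .mul 3 3)) (.leaf (⟨0, 0, 34944, 0, 34944, 1, 34944⟩, .dfn)))) (.node (.node (.leaf (⟨1, 1, 62617, 0, 30869, 1, 34944⟩, .sync ⟨4, 0, 761⟩)) (.leaf (⟨0, 0, 34944, 0, 34944, 1, 34944⟩, .dfn))) (.node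 (.leaf (⟨0, 1, 34659, 0, 34944, 3, 34944⟩, .dfn)) (.leaf (⟨0, 0, 34944, 0, 34944, 1, 34944⟩, .dfn))))) (.node (.node (.node (.leaf (⟨1, 1, 29872, 0, 21721, 1, 34944⟩, .sync ⟨2, 0, 1154⟩)) (.leaf (⟨1, 3, 34944, 0, 34944, 3, 34944⟩, .unit))) (.node (.leaf (⟨1, 1, 34944, 0, 34944, 1, 34944⟩, .unit)) (.leaf (⟨0, 0, 34944, 0, 34944, 1, 34944⟩, .dfn)))) (.node (.node (.leaf (⟨1, 1, 28877, 0, 21693, 1, 34944⟩, .sync ⟨6, 0, 172⟩)) (.leaf (⟨0, 0, 34944, 0, 34944, 1, 34944⟩, .dfn))) (.node (.leaf (⟨1, 3, 36052, 0, 44269, 3, 34944⟩, .sync ⟨9, 13, 741⟩)) (.leaf (⟨0, 0, 34944, 0, 34944, 1, 34944⟩, .dfn)))))))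

/-- definitions -/
def defsMixBad62 : List (ℕ × ℕ × ℕ) := [(0, 34944, 0), (0, 34944, 1), (1, 34659, 0)]

/-- the facts -/
def factsMixBad63 : Tree (Fct × Why) :=
  (.node (.node (.node (.node (.node (.leaf (⟨0, 0, 34944, 0, 34944, 1, 34944⟩, .dfn)) (.leaf (⟨1, 1, 44273, 0, 44273, 1, 34944⟩, .mul 7 7))) (.node (.leaf (⟨1, 1, 51420, 0, 40108, 1, 34944⟩, .mul 5 7)) (.leaf (⟨0, 0, 34944, 0, 34944, 1, 34944⟩, .dfn)))) (.node (.node (.leaf (⟨1, 0, 30869, 0, 30869, 0, 34944⟩, .base)) (.leaf (⟨1, 0, 44547, 0, 47687, 0, 34944⟩, .close 7 2 34944 [⟨10, 0, 0⟩, ⟨16, 13, 243⟩, ⟨15, 18, 440⟩, ⟨19, 14, 1293⟩, ⟨11, 1, 229⟩]))) (.node (.leaf (⟨1, 0, 52187, 0, 52187, 0, 34944⟩, .base)) (.leaf (⟨0, 0, 34944, 0, 34944, 1, 34944⟩, .dfn))))) (.node (.node (.node (.leaf (⟨1, 0, 21721, 0, 21721, 0, 34944⟩, .base)) (.leaf (⟨0, 3, 63318, 1, 11975, 3, 61256⟩, .fill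 6 1 4 [34944, 48718, 34944, 65536, 54904, 65536, 62212] 0 34944 [⟨10, 0, 0⟩, ⟨16, 13, 243⟩] [⟨12, 0, 477⟩, ⟨17, 13, 1163⟩]))) (.node (.leaf (⟨1, 0, 34944, 0, 34944, 0, 34944⟩, .base)) (.leaf (⟨0, 0, 34944, 0, 34944, 1, 34944⟩, .dfn)))) (.node (.node (.leaf (⟨1, 0, 21693, 0, 21693, 0, 34944⟩, .base)) (.leaf (⟨0, 0, 34944, 0, 34944, 1, 34944⟩, .dfn))) (.node (.leaf (⟨0, 3, 34944, 0, 34944, 1, 34659⟩, .inv 13)) (.leaf (⟨0, 0, 34944, 0, 34944, 1, 34944⟩, .dfn)))))) (.node (.node (.node (.node (.leaf (⟨0, 1, 34944, 0, 34944, 0, 34944⟩, .inv 0)) (.leaf (⟨1, 1, 54428, 0, 22657, 1, 34944⟩, .mul 8 3))) (.node (.leaf (⟨1, 1, 35056, 0, 44269, 1, 34944⟩, .mul 3 3)) (.leaf (⟨0, 0, 34944, 0, 34944, 1, 34944⟩, .dfn)))) (.node (.node (.leaf (⟨1, 1, 62617, 0, 30869, 1, 34944⟩, .sync ⟨4, 0, 761⟩)) (.leaf (⟨0, 0, 34944, 0, 34944, 1, 34944⟩, .dfn))) (.node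 (.leaf (⟨0, 1, 34659, 0, 34944, 3, 34944⟩, .dfn)) (.leaf (⟨0, 0, 34944, 0, 34944, 1, 34944⟩, .dfn))))) (.node (.node (.node (.leaf (⟨1, 1, 29872, 0, 21721, 1, 34944⟩, .sync ⟨2, 0, 1154⟩)) (.leaf (⟨1, 3, 34944, 0, 34944, 3, 34944⟩, .unit))) (.node (.leaf (⟨1, 1, 34944, 0, 34944, 1, 34944⟩, .unit)) (.leaf (⟨0, 0, 34944, 0, 34944, 1, 34944⟩, .dfn)))) (.node (.node (.leaf (⟨1, 1, 28877, 0, 21693, 1, 34944⟩, .sync ⟨6, 0, 172⟩)) (.leaf (⟨0, 0, 34944, 0, 34944, 1, 34944⟩, .dfn))) (.node (.leaf (⟨1, 3, 36052, 0, 44269, 3, 34944⟩, .sync ⟨9, 13, 741⟩)) (.leaf (⟨0, 0, 34944, 0, 34944, 1, 34944⟩, .dfn)))))))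

/-- definitions -/
def defsMixBad63 : List (ℕ × ℕ × ℕ) := [(0, 34944, 0), (0, 34944, 1), (1, 34659, 0)]

/-- the facts -/
def factsMixBad64 : Tree (Fct × Why) :=
  (.node (.node (.node (.node (.node (.leaf (⟨0, 0, 34944, 0, 34944, 1, 34944⟩, .dfn)) (.leaf (⟨1, 1, 44273, 0, 44273, 1, 34944⟩, .mul 7 7))) (.node (.leaf (⟨1, 1, 51420, 0, 40108, 1, 34944⟩, .mul 5 7)) (.leaf (⟨0, 0, 34944, 0, 34944, 1, 34944⟩, .dfn)))) (.node (.node (.leaf (⟨1, 0, 30869, 0, 30869, 0, 34944⟩, .base)) (.leaf (⟨1, 0, 44547, 0, 47687, 0, 34944⟩, .close 7 2 34944 [⟨10, 0, 0⟩, ⟨16, 13, 243⟩, ⟨15, 18, 440⟩, ⟨19, 14, 176⟩, ⟨11, 1, 268⟩]))) (.node (.leaf (⟨1, 0, 52187, 0, 52187, 0, 34944⟩, .base)) (.leaf (⟨0, 0, 34944, 0, 34944, 1, 34944⟩, .dfn))))) (.node (.node (.node (.leaf (⟨1, 0, 21721, 0, 21721, 0, 34944⟩, .base)) (.leaf (⟨0, 3, 63318, 1, 11975, 3, 14181⟩, .fill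 6 1 4 [34944, 48719, 34944, 65536, 54904, 65536, 62212] 0 34944 [⟨10, 0, 0⟩, ⟨16, 13, 243⟩] [⟨12, 0, 1229⟩, ⟨17, 13, 1476⟩]))) (.node (.leaf (⟨1, 0, 34944, 0, 34944, 0, 34944⟩, .base)) (.leaf (⟨0, 0, 34944, 0, 34944, 1, 34944⟩, .dfn)))) (.node (.node (.leaf (⟨1, 0, 21693, 0, 21693, 0, 34944⟩, .base)) (.leaf (⟨0, 0, 34944, 0, 34944, 1, 34944⟩, .dfn))) (.node (.leaf (⟨0, 3, 34944, 0, 34944, 1, 34659⟩, .inv 13)) (.leaf (⟨0, 0, 34944, 0, 34944, 1, 34944⟩, .dfn)))))) (.node (.node (.node (.node (.leaf (⟨0, 1, 34944, 0, 34944, 0, 34944⟩, .inv 0)) (.leaf (⟨1, 1, 54428, 0, 22657, 1, 34944⟩, .mul 8 3))) (.node (.leaf (⟨1, 1, 35056, 0, 44269, 1, 34944⟩, .mul 3 3)) (.leaf (⟨0, 0, 34944, 0, 34944, 1, 34944⟩, .dfn)))) (.node (.node (.leaf (⟨1, 1, 62617, 0, 30869, 1, 34944⟩, .sync ⟨4, 0, 761⟩)) (.leaf (⟨0, 0, 34944, 0, 34944, 1, 34944⟩, .dfn))) (.node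 (.leaf (⟨0, 1, 34659, 0, 34944, 3, 34944⟩, .dfn)) (.leaf (⟨0, 0, 34944, 0, 34944, 1, 34944⟩, .dfn))))) (.node (.node (.node (.leaf (⟨1, 1, 29872, 0, 21721, 1, 34944⟩, .sync ⟨2, 0, 1154⟩)) (.leaf (⟨1, 3, 34944, 0, 34944, 3, 34944⟩, .unit))) (.node (.leaf (⟨1, 1, 34944, 0, 34944, 1, 34944⟩, .unit)) (.leaf (⟨0, 0, 34944, 0, 34944, 1, 34944⟩, .dfn)))) (.node (.node (.leaf (⟨1, 1, 28877, 0, 21693, 1, 34944⟩, .sync ⟨6, 0, 172⟩)) (.leaf (⟨0, 0, 34944, 0, 34944, 1, 34944⟩, .dfn))) (.node (.leaf (⟨1, 3, 36052, 0, 44269, 3, 34944⟩, .sync ⟨9, 13, 741⟩)) (.leaf (⟨0, 0, 34944, 0, 34944, 1, 34944⟩, .dfn)))))))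

/-- definitions -/
def defsMixBad64 : List (ℕ × ℕ × ℕ) := [(0, 34944, 0), (0, 34944, 1), (1, 34659, 0)]

/-- the facts -/
def factsMixBad65 : Tree (Fct × Why) :=
  (.node (.node (.node (.node (.node (.leaf (⟨0, 0, 34944, 0, 34944, 1, 34944⟩, .dfn)) (.leaf (⟨1, 1, 44273, 0, 44273, 1, 34944⟩, .mul 7 7))) (.node (.leaf (⟨1, 1, 51420, 0, 40108, 1, 34944⟩, .mul 5 7)) (.leaf (⟨0, 0, 34944, 0, 34944, 1, 34944⟩, .dfn)))) (.node (.node (.leaf (⟨1, 0, 30869, 0, 30869, 0, 34944⟩, .base)) (.leaf (⟨1, 0, 44627, 0, 47687, 0, 34944⟩, .close 7 2 34944 [⟨10, 0, 0⟩, ⟨16, 13, 243⟩, ⟨15, 18, 440⟩, ⟨19, 14, 729⟩, ⟨11, 1, 1017⟩]))) (.node (.leaf (⟨1, 0, 52187, 0, 52187, 0, 34944⟩, .base)) (.leaf (⟨0, 0, 34944, 0, 34944, 1, 34944⟩, .dfn))))) (.node (.node (.node (.leaf (⟨1, 0, 21721, 0, 21721, 0, 34944⟩, .base)) (.leaf (⟨0, 3, 63318, 1, 11975, 3, 42852⟩, .fill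 6 1 4 [34944, 48730, 34944, 65536, 54904, 65536, 62212] 0 34944 [⟨10, 0, 0⟩, ⟨16, 13, 243⟩] [⟨12, 0, 1283⟩, ⟨17, 13, 179⟩]))) (.node (.leaf (⟨1, 0, 34944, 0, 34944, 0, 34944⟩, .base)) (.leaf (⟨0, 0, 34944, 0, 34944, 1, 34944⟩, .dfn)))) (.node (.node (.leaf (⟨1, 0, 21693, 0, 21693, 0, 34944⟩, .base)) (.leaf (⟨0, 0, 34944, 0, 34944, 1, 34944⟩, .dfn))) (.node (.leaf (⟨0, 3, 34944, 0, 34944, 1, 34659⟩, .inv 13)) (.leaf (⟨0, 0, 34944, 0, 34944, 1, 34944⟩, .dfn)))))) (.node (.node (.node (.node (.leaf (⟨0, 1, 34944, 0, 34944, 0, 34944⟩, .inv 0)) (.leaf (⟨1, 1, 54428, 0, 22657, 1, 34944⟩, .mul 8 3))) (.node (.leaf (⟨1, 1, 35056, 0, 44269, 1, 34944⟩, .mul 3 3)) (.leaf (⟨0, 0, 34944, 0, 34944, 1, 34944⟩, .dfn)))) (.node (.node (.leaf (⟨1, 1, 62617, 0, 30869, 1, 34944⟩, .sync ⟨4, 0, 761⟩)) (.leaf (⟨0, 0, 34944, 0, 34944, 1, 34944⟩, .dfn))) (.node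 (.leaf (⟨0, 1, 34659, 0, 34944, 3, 34944⟩, .dfn)) (.leaf (⟨0, 0, 34944, 0, 34944, 1, 34944⟩, .dfn))))) (.node (.node (.node (.leaf (⟨1, 1, 29872, 0, 21721, 1, 34944⟩, .sync ⟨2, 0, 1154⟩)) (.leaf (⟨1, 3, 34944, 0, 34944, 3, 34944⟩, .unit))) (.node (.leaf (⟨1, 1, 34944, 0, 34944, 1, 34944⟩, .unit)) (.leaf (⟨0, 0, 34944, 0, 34944, 1, 34944⟩, .dfn)))) (.node (.node (.leaf (⟨1, 1, 28877, 0, 21693, 1, 34944⟩, .sync ⟨6, 0, 172⟩)) (.leaf (⟨0, 0, 34944, 0, 34944, 1, 34944⟩, .dfn))) (.node (.leaf (⟨1, 3, 36052, 0, 44269, 3, 34944⟩, .sync ⟨9, 13, 741⟩)) (.leaf (⟨0, 0, 34944, 0, 34944, 1, 34944⟩, .dfn)))))))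

/-- definitions -/
def defsMixBad65 : List (ℕ × ℕ × ℕ) := [(0, 34944, 0), (0, 34944, 1), (1, 34659, 0)]

/-- the facts -/
def factsMixBad66 : Tree (Fct × Why) :=
  (.node (.node (.node (.node (.node (.leaf (⟨0, 0, 34944, 0, 34944, 1, 34944⟩, .dfn)) (.leaf (⟨1, 1, 44273, 0, 44273, 1, 34944⟩, .mul 7 7))) (.node (.leaf (⟨1, 1, 51420, 0, 40108, 1, 34944⟩, .mul 5 7)) (.leaf (⟨0, 0, 34944, 0, 34944, 1, 34944⟩, .dfn)))) (.node (.node (.leaf (⟨1, 0, 30869, 0, 30869, 0, 34944⟩, .base)) (.leaf (⟨1, 0, 44627, 0, 47687, 0, 34944⟩, .close 7 2 34944 [⟨10, 0, 0⟩, ⟨16, 13, 243⟩, ⟨15, 18, 440⟩, ⟨19, 14, 134⟩, ⟨11, 1, 992⟩]))) (.node (.leaf (⟨1, 0, 52187, 0, 52187, 0, 34944⟩, .base)) (.leaf (⟨0, 0, 34944, 0, 34944, 1, 34944⟩, .dfn))))) (.node (.node (.node (.leaf (⟨1, 0, 21721, 0, 21721, 0, 34944⟩, .base)) (.leaf (⟨0, 3, 63318, 1, 11975, 3, 32585⟩, .fill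 6 1 4 [34944, 48731, 34944, 65536, 54904, 65536, 62212] 0 34944 [⟨10, 0, 0⟩, ⟨16, 13, 243⟩] [⟨12, 0, 1099⟩, ⟨17, 13, 959⟩]))) (.node (.leaf (⟨1, 0, 34944, 0, 34944, 0, 34944⟩, .base)) (.leaf (⟨0, 0, 34944, 0, 34944, 1, 34944⟩, .dfn)))) (.node (.node (.leaf (⟨1, 0, 21693, 0, 21693, 0, 34944⟩, .base)) (.leaf (⟨0, 0, 34944, 0, 34944, 1, 34944⟩, .dfn))) (.node (.leaf (⟨0, 3, 34944, 0, 34944, 1, 34659⟩, .inv 13)) (.leaf (⟨0, 0, 34944, 0, 34944, 1, 34944⟩, .dfn)))))) (.node (.node (.node (.node (.leaf (⟨0, 1, 34944, 0, 34944, 0, 34944⟩, .inv 0)) (.leaf (⟨1, 1, 54428, 0, 22657, 1, 34944⟩, .mul 8 3))) (.node (.leaf (⟨1, 1, 35056, 0, 44269, 1, 34944⟩, .mul 3 3)) (.leaf (⟨0, 0, 34944, 0, 34944, 1, 34944⟩, .dfn)))) (.node (.node (.leaf (⟨1, 1, 62617, 0, 30869, 1, 34944⟩, .sync ⟨4, 0, 761⟩)) (.leaf (⟨0, 0, 34944, 0, 34944, 1, 34944⟩, .dfn))) (.node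 (.leaf (⟨0, 1, 34659, 0, 34944, 3, 34944⟩, .dfn)) (.leaf (⟨0, 0, 34944, 0, 34944, 1, 34944⟩, .dfn))))) (.node (.node (.node (.leaf (⟨1, 1, 29872, 0, 21721, 1, 34944⟩, .sync ⟨2, 0, 1154⟩)) (.leaf (⟨1, 3, 34944, 0, 34944, 3, 34944⟩, .unit))) (.node (.leaf (⟨1, 1, 34944, 0, 34944, 1, 34944⟩, .unit)) (.leaf (⟨0, 0, 34944, 0, 34944, 1, 34944⟩, .dfn)))) (.node (.node (.leaf (⟨1, 1, 28877, 0, 21693, 1, 34944⟩, .sync ⟨6, 0, 172⟩)) (.leaf (⟨0, 0, 34944, 0, 34944, 1, 34944⟩, .dfn))) (.node (.leaf (⟨1, 3, 36052, 0, 44269, 3, 34944⟩, .sync ⟨9, 13, 741⟩)) (.leaf (⟨0, 0, 34944, 0, 34944, 1, 34944⟩, .dfn)))))))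

/-- definitions -/
def defsMixBad66 : List (ℕ × ℕ × ℕ) := [(0, 34944, 0), (0, 34944, 1), (1, 34659, 0)]

/-- the facts -/
def factsMixBad67 : Tree (Fct × Why) :=
  (.node (.node (.node (.node (.node (.leaf (⟨0, 0, 34944, 0, 34944, 1, 34944⟩, .dfn)) (.leaf (⟨1, 1, 44273, 0, 44273, 1, 34944⟩, .mul 7 7))) (.node (.leaf (⟨1, 1, 51420, 0, 40108, 1, 34944⟩, .mul 5 7)) (.leaf (⟨0, 0, 34944, 0, 34944, 1, 34944⟩, .dfn)))) (.node (.node (.leaf (⟨1, 0, 30869, 0, 30869, 0, 34944⟩, .base)) (.leaf (⟨1, 0, 44626, 0, 47687, 0, 34944⟩, .close 7 2 34944 [⟨10, 0, 0⟩, ⟨16, 13, 243⟩, ⟨15, 18, 440⟩, ⟨19, 14, 1059⟩, ⟨11, 1, 823⟩]))) (.node (.leaf (⟨1, 0, 52187, 0, 52187, 0, 34944⟩, .base)) (.leaf (⟨0, 0, 34944, 0, 34944, 1, 34944⟩, .dfn))))) (.node (.node (.node (.leaf (⟨1, 0, 21721, 0, 21721, 0, 34944⟩, .base)) (.leaf (⟨0, 3, 63318, 1, 11975, 3, 61224⟩, .fill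 6 1 4 [34944, 48734, 34944, 65536, 54904, 65536, 62212] 0 34944 [⟨10, 0, 0⟩, ⟨16, 13, 243⟩] [⟨12, 0, 340⟩, ⟨17, 13, 1453⟩]))) (.node (.leaf (⟨1, 0, 34944, 0, 34944, 0, 34944⟩, .base)) (.leaf (⟨0, 0, 34944, 0, 34944, 1, 34944⟩, .dfn)))) (.node (.node (.leaf (⟨1, 0, 21693, 0, 21693, 0, 34944⟩, .base)) (.leaf (⟨0, 0, 34944, 0, 34944, 1, 34944⟩, .dfn))) (.node (.leaf (⟨0, 3, 34944, 0, 34944, 1, 34659⟩, .inv 13)) (.leaf (⟨0, 0, 34944, 0, 34944, 1, 34944⟩, .dfn)))))) (.node (.node (.node (.node (.leaf (⟨0, 1, 34944, 0, 34944, 0, 34944⟩, .inv 0)) (.leaf (⟨1, 1, 54428, 0, 22657, 1, 34944⟩, .mul 8 3))) (.node (.leaf (⟨1, 1, 35056, 0, 44269, 1, 34944⟩, .mul 3 3)) (.leaf (⟨0, 0, 34944, 0, 34944, 1, 34944⟩, .dfn)))) (.node (.node (.leaf (⟨1, 1, 62617, 0, 30869, 1, 34944⟩, .sync ⟨4, 0, 761⟩)) (.leaf (⟨0, 0, 34944, 0, 34944, 1, 34944⟩, .dfn))) (.node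 (.leaf (⟨0, 1, 34659, 0, 34944, 3, 34944⟩, .dfn)) (.leaf (⟨0, 0, 34944, 0, 34944, 1, 34944⟩, .dfn))))) (.node (.node (.node (.leaf (⟨1, 1, 29872, 0, 21721, 1, 34944⟩, .sync ⟨2, 0, 1154⟩)) (.leaf (⟨1, 3, 34944, 0, 34944, 3, 34944⟩, .unit))) (.node (.leaf (⟨1, 1, 34944, 0, 34944, 1, 34944⟩, .unit)) (.leaf (⟨0, 0, 34944, 0, 34944, 1, 34944⟩, .dfn)))) (.node (.node (.leaf (⟨1, 1, 28877, 0, 21693, 1, 34944⟩, .sync ⟨6, 0, 172⟩)) (.leaf (⟨0, 0, 34944, 0, 34944, 1, 34944⟩, .dfn))) (.node (.leaf (⟨1, 3, 36052, 0, 44269, 3, 34944⟩, .sync ⟨9, 13, 741⟩)) (.leaf (⟨0, 0, 34944, 0, 34944, 1, 34944⟩, .dfn)))))))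

/-- definitions -/
def defsMixBad67 : List (ℕ × ℕ × ℕ) := [(0, 34944, 0), (0, 34944, 1), (1, 34659, 0)]

/-- the facts -/
def factsMixBad68 : Tree (Fct × Why) :=
  (.node (.node (.node (.node (.node (.leaf (⟨0, 0, 34944, 0, 34944, 1, 34944⟩, .dfn)) (.leaf (⟨1, 1, 44273, 0, 44273, 1, 34944⟩, .mul 7 7))) (.node (.leaf (⟨1, 1, 51420, 0, 40108, 1, 34944⟩, .mul 5 7)) (.leaf (⟨0, 0, 34944, 0, 34944, 1, 34944⟩, .dfn)))) (.node (.node (.leaf (⟨1, 0, 30869, 0, 30869, 0, 34944⟩, .base)) (.leaf (⟨1, 0, 44626, 0, 47687, 0, 34944⟩, .close 7 2 34944 [⟨10, 0, 0⟩, ⟨16, 13, 243⟩, ⟨15, 18, 440⟩, ⟨19, 14, 523⟩, ⟨11, 1, 944⟩]))) (.node (.leaf (⟨1, 0, 52187, 0, 52187, 0, 34944⟩, .base)) (.leaf (⟨0, 0, 34944, 0, 34944, 1, 34944⟩, .dfn))))) (.node (.node (.node (.leaf (⟨1, 0, 21721, 0, 21721, 0, 34944⟩, .base)) (.leaf (⟨0, 3, 63318, 1, 11975, 3, 14085⟩, .fill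 6 1 4 [34944, 48735, 34944, 65536, 54904, 65536, 62212] 0 34944 [⟨10, 0, 0⟩, ⟨16, 13, 243⟩] [⟨12, 0, 1012⟩, ⟨17, 13, 1265⟩]))) (.node (.leaf (⟨1, 0, 34944, 0, 34944, 0, 34944⟩, .base)) (.leaf (⟨0, 0, 34944, 0, 34944, 1, 34944⟩, .dfn)))) (.node (.node (.leaf (⟨1, 0, 21693, 0, 21693, 0, 34944⟩, .base)) (.leaf (⟨0, 0, 34944, 0, 34944, 1, 34944⟩, .dfn))) (.node (.leaf (⟨0, 3, 34944, 0, 34944, 1, 34659⟩, .inv 13)) (.leaf (⟨0, 0, 34944, 0, 34944, 1, 34944⟩, .dfn)))))) (.node (.node (.node (.node (.leaf (⟨0, 1, 34944, 0, 34944, 0, 34944⟩, .inv 0)) (.leaf (⟨1, 1, 54428, 0, 22657, 1, 34944⟩, .mul 8 3))) (.node (.leaf (⟨1, 1, 35056, 0, 44269, 1, 34944⟩, .mul 3 3)) (.leaf (⟨0, 0, 34944, 0, 34944, 1, 34944⟩, .dfn)))) (.node (.node (.leaf (⟨1, 1, 62617, 0, 30869, 1, 34944⟩, .sync ⟨4, 0, 761⟩)) (.leaf (⟨0, 0, 34944, 0, 34944, 1, 34944⟩, .dfn))) (.node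 (.leaf (⟨0, 1, 34659, 0, 34944, 3, 34944⟩, .dfn)) (.leaf (⟨0, 0, 34944, 0, 34944, 1, 34944⟩, .dfn))))) (.node (.node (.node (.leaf (⟨1, 1, 29872, 0, 21721, 1, 34944⟩, .sync ⟨2, 0, 1154⟩)) (.leaf (⟨1, 3, 34944, 0, 34944, 3, 34944⟩, .unit))) (.node (.leaf (⟨1, 1, 34944, 0, 34944, 1, 34944⟩, .unit)) (.leaf (⟨0, 0, 34944, 0, 34944, 1, 34944⟩, .dfn)))) (.node (.node (.leaf (⟨1, 1, 28877, 0, 21693, 1, 34944⟩, .sync ⟨6, 0, 172⟩)) (.leaf (⟨0, 0, 34944, 0, 34944, 1, 34944⟩, .dfn))) (.node (.leaf (⟨1, 3, 36052, 0, 44269, 3, 34944⟩, .sync ⟨9, 13, 741⟩)) (.leaf (⟨0, 0, 34944, 0, 34944, 1, 34944⟩, .dfn)))))))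

/-- definitions -/
def defsMixBad68 : List (ℕ × ℕ × ℕ) := [(0, 34944, 0), (0, 34944, 1), (1, 34659, 0)]

/-- refuted values -/
def badMix : List (ℕ × List (ℕ × ℕ) × Tree (Fct × Why) × ℕ × List (ℕ × ℕ × ℕ) × ℕ × ℕ) := [
  (0, [(0, 60545)], factsMixBad0, 17, defsMixBad0, 16, 16),
  (0, [(0, 60546)], factsMixBad1, 17, defsMixBad1, 16, 16),
  (0, [(0, 60547)], factsMixBad2, 17, defsMixBad2, 16, 16),
  (0, [(0, 60556)], factsMixBad3, 17, defsMixBad3, 16, 16),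
  (0, [(0, 60557)], factsMixBad4, 26, defsMixBad4, 25, 24),
  (0, [(0, 60558)], factsMixBad5, 17, defsMixBad5, 16, 16),
  (0, [(0, 60559)], factsMixBad6, 17, defsMixBad6, 16, 16),
  (1, [(0, 60544), (1, 43530)], factsMixBad7, 21, defsMixBad7, 20, 20),
  (1, [(0, 60544), (1, 43531)], factsMixBad8, 21, defsMixBad8, 20, 20),
  (1, [(0, 60544), (1, 43534)], factsMixBad9, 21, defsMixBad9, 20, 20),
  (1, [(0, 60544), (1, 43535)], factsMixBad10, 21, defsMixBad10, 20, 20),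
  (1, [(0, 60544), (1, 43546)], factsMixBad11, 21, defsMixBad11, 20, 20),
  (1, [(0, 60544), (1, 43547)], factsMixBad12, 21, defsMixBad12, 20, 20),
  (1, [(0, 60544), (1, 43550)], factsMixBad13, 21, defsMixBad13, 20, 20),
  (1, [(0, 60544), (1, 43551)], factsMixBad14, 21, defsMixBad14, 20, 20),
  (1, [(0, 60544), (1, 43594)], factsMixBad15, 21, defsMixBad15, 20, 20),
  (1, [(0, 60544), (1, 43595)], factsMixBad16, 21, defsMixBad16, 20, 20),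
  (1, [(0, 60544), (1, 43598)], factsMixBad17, 21, defsMixBad17, 20, 20),
  (1, [(0, 60544), (1, 43599)], factsMixBad18, 21, defsMixBad18, 20, 20),
  (1, [(0, 60544), (1, 43610)], factsMixBad19, 21, defsMixBad19, 20, 20),
  (1, [(0, 60544), (1, 43611)], factsMixBad20, 21, defsMixBad20, 20, 20),
  (1, [(0, 60544), (1, 43614)], factsMixBad21, 21, defsMixBad21, 20, 20),
  (1, [(0, 60544), (1, 43615)], factsMixBad22, 21, defsMixBad22, 20, 20),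
  (1, [(0, 60544), (1, 44554)], factsMixBad23, 21, defsMixBad23, 20, 20),
  (1, [(0, 60544), (1, 44555)], factsMixBad24, 21, defsMixBad24, 20, 20),
  (1, [(0, 60544), (1, 44558)], factsMixBad25, 29, defsMixBad25, 28, 27),
  (1, [(0, 60544), (1, 44570)], factsMixBad26, 21, defsMixBad26, 20, 20),
  (1, [(0, 60544), (1, 44571)], factsMixBad27, 21, defsMixBad27, 20, 20),
  (1, [(0, 60544), (1, 44574)], factsMixBad28, 21, defsMixBad28, 20, 20),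
  (1, [(0, 60544), (1, 44575)], factsMixBad29, 21, defsMixBad29, 20, 20),
  (1, [(0, 60544), (1, 44618)], factsMixBad30, 21, defsMixBad30, 20, 20),
  (1, [(0, 60544), (1, 44619)], factsMixBad31, 21, defsMixBad31, 20, 20),
  (1, [(0, 60544), (1, 44622)], factsMixBad32, 21, defsMixBad32, 20, 20),
  (1, [(0, 60544), (1, 44623)], factsMixBad33, 21, defsMixBad33, 20, 20),
  (1, [(0, 60544), (1, 44634)], factsMixBad34, 21, defsMixBad34, 20, 20),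
  (1, [(0, 60544), (1, 44635)], factsMixBad35, 21, defsMixBad35, 20, 20),
  (1, [(0, 60544), (1, 44638)], factsMixBad36, 30, defsMixBad36, 29, 28),
  (1, [(0, 60544), (1, 44639)], factsMixBad37, 30, defsMixBad37, 29, 28),
  (1, [(0, 60544), (1, 47626)], factsMixBad38, 21, defsMixBad38, 20, 20),
  (1, [(0, 60544), (1, 47627)], factsMixBad39, 21, defsMixBad39, 20, 20),
  (1, [(0, 60544), (1, 47630)], factsMixBad40, 21, defsMixBad40, 20, 20),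
  (1, [(0, 60544), (1, 47631)], factsMixBad41, 21, defsMixBad41, 20, 20),
  (1, [(0, 60544), (1, 47643)], factsMixBad42, 29, defsMixBad42, 28, 27),
  (1, [(0, 60544), (1, 47646)], factsMixBad43, 21, defsMixBad43, 20, 20),
  (1, [(0, 60544), (1, 47647)], factsMixBad44, 21, defsMixBad44, 20, 20),
  (1, [(0, 60544), (1, 47690)], factsMixBad45, 30, defsMixBad45, 29, 28),
  (1, [(0, 60544), (1, 47691)], factsMixBad46, 30, defsMixBad46, 29, 28),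
  (1, [(0, 60544), (1, 47694)], factsMixBad47, 21, defsMixBad47, 20, 20),
  (1, [(0, 60544), (1, 47695)], factsMixBad48, 21, defsMixBad48, 20, 20),
  (1, [(0, 60544), (1, 47706)], factsMixBad49, 21, defsMixBad49, 20, 20),
  (1, [(0, 60544), (1, 47707)], factsMixBad50, 21, defsMixBad50, 20, 20),
  (1, [(0, 60544), (1, 47710)], factsMixBad51, 21, defsMixBad51, 20, 20),
  (1, [(0, 60544), (1, 47711)], factsMixBad52, 21, defsMixBad52, 20, 20),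
  (1, [(0, 60544), (1, 48650)], factsMixBad53, 21, defsMixBad53, 20, 20),
  (1, [(0, 60544), (1, 48651)], factsMixBad54, 21, defsMixBad54, 20, 20),
  (1, [(0, 60544), (1, 48654)], factsMixBad55, 21, defsMixBad55, 20, 20),
  (1, [(0, 60544), (1, 48655)], factsMixBad56, 21, defsMixBad56, 20, 20),
  (1, [(0, 60544), (1, 48666)], factsMixBad57, 21, defsMixBad57, 20, 20),
  (1, [(0, 60544), (1, 48667)], factsMixBad58, 21, defsMixBad58, 20, 20),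
  (1, [(0, 60544), (1, 48670)], factsMixBad59, 21, defsMixBad59, 20, 20),
  (1, [(0, 60544), (1, 48671)], factsMixBad60, 21, defsMixBad60, 20, 20),
  (1, [(0, 60544), (1, 48714)], factsMixBad61, 21, defsMixBad61, 20, 20),
  (1, [(0, 60544), (1, 48715)], factsMixBad62, 21, defsMixBad62, 20, 20),
  (1, [(0, 60544), (1, 48718)], factsMixBad63, 21, defsMixBad63, 20, 20),
  (1, [(0, 60544), (1, 48719)], factsMixBad64, 21, defsMixBad64, 20, 20),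
  (1, [(0, 60544), (1, 48730)], factsMixBad65, 21, defsMixBad65, 20, 20),
  (1, [(0, 60544), (1, 48731)], factsMixBad66, 21, defsMixBad66, 20, 20),
  (1, [(0, 60544), (1, 48734)], factsMixBad67, 21, defsMixBad67, 20, 20),
  (1, [(0, 60544), (1, 48735)], factsMixBad68, 21, defsMixBad68, 20, 20)]

/-- permutations of the matrix parts -/
def permL : Tree ℕ :=
  (.node (.node (.node (.node (.node (.node (.node (.node (.node (.leaf 984818244535754528103549039458486304) (.leaf 984818244535754528103549039458486304)) (.node (.leaf 984818244535754528103549039458486304) (.leaf 984818244535754528103549039458486304))) (.node (.node (.leaf 984818244535754528103549039458486304) (.leaf 984818244535754528103549039458486304)) (.node (.leaf 984818244535754528103549039458486304) (.leaf 984818244535754528103549039458486304)))) (.node (.node (.node (.leaf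 984818244535754528103549039458486304) (.leaf 984818244535754528103549039458486304)) (.node (.leaf 984818244535754528103549039458486304) (.leaf 984818244535754528103549039458486304))) (.node (.node (.leaf 984818244535754528103549039458486304) (.leaf 984818244535754528103549039458486304)) (.node (.leaf 984818244535754528103549039458486304) (.leaf 984818244535754528103549039458486304))))) (.node (.node (.node (.node (.leaf 984818244535754528103549039458486304) (.leaf 984818244535754528103549039458486304)) (.node (.leaf 984818244535754528103549039458486304) (.leaf 984818244535754528103549039458486304))) (.node (.node (.leaf 984818244535754528103549039458486304) (.leaf 984818244535754528103549039458486304)) (.node (.leaf 984818244535754528103549039458486304) (.leaf 984818244535754528103549039458486304)))) (.node (.node (.node (.leaf 984818244535754528103549039458486304)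 (.leaf 984818244535754528103549039458486304)) (.node (.leaf 984818244535754528103549039458486304) (.leaf 984818244535754528103549039458486304))) (.node (.node (.leaf 984818244535754528103549039458486304) (.leaf 984818244535754528103549039458486304)) (.node (.leaf 984818244535754528103549039458486304) (.leaf 984818244535754528103549039458486304)))))) (.node (.node (.node (.node (.node (.leaf 984818244535754528103549039458486304) (.leaf 984818244535754528103549039458486304)) (.node (.leaf 984818244535754528103549039458486304) (.leaf 984818244535754528103549039458486304))) (.node (.node (.leaf 984818244535754528103549039458486304) (.leaf 984818244535754528103549039458486304)) (.node (.leaf 984818244535754528103549039458486304) (.leaf 984818244535754528103549039458486304)))) (.node (.node (.node (.leaf 984818244535754528103549039458486304)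 (.leaf 984818244535754528103549039458486304)) (.node (.leaf 984818244535754528103549039458486304) (.leaf 984818244535754528103549039458486304))) (.node (.node (.leaf 984818244535754528103549039458486304) (.leaf 984818244535754528103549039458486304)) (.node (.leaf 984818244535754528103549039458486304) (.leaf 984818244535754528103549039458486304))))) (.node (.node (.node (.node (.leaf 984818244535754528103549039458486304) (.leaf 984818244535754528103549039458486304)) (.node (.leaf 984818244535754528103549039458486304) (.leaf 984818244535754528103549039458486304))) (.node (.node (.leaf 984818244535754528103549039458486304) (.leaf 984818244535754528103549039458486304)) (.node (.leaf 984818244535754528103549039458486304) (.leaf 984818244535754528103549039458486304)))) (.node (.node (.node (.leaf 984818244535754528103549039458486304) (.leaf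 984818244535754528103549039458486304)) (.node (.leaf 984818244535754528103549039458486304) (.leaf 984818244535754528103549039458486304))) (.node (.node (.leaf 984818244535754528103549039458486304) (.leaf 984818244535754528103549039458486304)) (.node (.leaf 984818244535754528103549039458486304) (.leaf 984818244535754528103549039458486304))))))) (.node (.node (.node (.node (.node (.node (.leaf 984818244535754528103549039458486304) (.leaf 984818244535754528103549039458486304)) (.node (.leaf 984818244535754528103549039458486304) (.leaf 984818244535754528103549039458486304))) (.node (.node (.leaf 984818244535754528103549039458486304) (.leaf 984818244535754528103549039458486304)) (.node (.leaf 984818244535754528103549039458486304) (.leaf 984818244535754528103549039458486304)))) (.node (.node (.node (.leaf 984818244535754528103549039458486304)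 (.leaf 984818244535754528103549039458486304)) (.node (.leaf 984818244535754528103549039458486304) (.leaf 984818244535754528103549039458486304))) (.node (.node (.leaf 984818244535754528103549039458486304) (.leaf 984818244535754528103549039458486304)) (.node (.leaf 984818244535754528103549039458486304) (.leaf 984818244535754528103549039458486304))))) (.node (.node (.node (.node (.leaf 984818244535754528103549039458486304) (.leaf 984818244535754528103549039458486304)) (.node (.leaf 984818244535754528103549039458486304) (.leaf 984818244535754528103549039458486304))) (.node (.node (.leaf 944556987916542127533713541583457760) (.leaf 56006840065698970405507020337121440)) (.node (.leaf 795908435542373836335688511834773873) (.leaf 103405682926484958083841890390738673)))) (.node (.node (.node (.leaf 984818244535754528103549039458486304) (.leaf 984818244535754528103549039458486304))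 (.node (.leaf 984818244535754528103549039458486304) (.leaf 984818244535754528103549039458486304))) (.node (.node (.leaf 648486141309054634557472273009499840) (.leaf 210839099536203491561303083671825440)) (.node (.leaf 957231080941931825965644232987458641) (.leaf 486227001891845591818112293925033585)))))) (.node (.node (.node (.node (.node (.leaf 984818244535754528103549039458486304) (.leaf 984818244535754528103549039458486304)) (.node (.leaf 984815136958239900269906221619840361) (.leaf 458399556959843050428465875203349225))) (.node (.node (.leaf 984818244535754528103549039458486304) (.leaf 984818244535754528103549039458486304)) (.node (.leaf 232541298857336302326106667912464873) (.leaf 626540553072752148129437258724002985)))) (.node (.node (.node (.leaf 984818244535754528103549039458486304) (.leaf 984818244535754528103549039458486304))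 (.node (.leaf 809457078968726552426052767860397129) (.leaf 90100428415907667226915518627921513))) (.node (.node (.leaf 984818244535754528103549039458486304) (.leaf 984818244535754528103549039458486304)) (.node (.leaf 71948820203585330695701293539995337) (.leaf 928858396693747058079495522439420969))))) (.node (.node (.node (.node (.leaf 984818244535754528103549039458486304) (.leaf 984818244535754528103549039458486304)) (.node (.leaf 44892068460786008813078040053833201) (.leaf 939040176218688644894418994489142449))) (.node (.node (.leaf 85110959367673677376652379860243808) (.leaf 818340763233203139176049682383322848)) (.node (.leaf 984818244535754528103549039458486304) (.leaf 984818244535754528103549039458486304)))) (.node (.node (.node (.leaf 984818244535754528103549039458486304) (.leaf 984818244535754528103549039458486304)) (.node (.leaf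 222846297162487477680644023425027793) (.leaf 653110526985500088501242960564127793))) (.node (.node (.leaf 464281452031715015160818317864830016) (.leaf 975039026670088763356007928549562976)) (.node (.leaf 984818244535754528103549039458486304) (.leaf 984818244535754528103549039458486304)))))))) (.node (.node (.node (.node (.node (.node (.node (.leaf 984818244535754528103549039458486304) (.leaf 984818244535754528103549039458486304)) (.node (.leaf 984818244535754528103549039458486304) (.leaf 984818244535754528103549039458486304))) (.node (.node (.leaf 984818244535754528103549039458486304) (.leaf 984818244535754528103549039458486304)) (.node (.leaf 984818244535754528103549039458486304) (.leaf 984818244535754528103549039458486304)))) (.node (.node (.node (.leaf 984818244535754528103549039458486304) (.leaf 984818244535754528103549039458486304))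 (.node (.leaf 984818244535754528103549039458486304) (.leaf 984818244535754528103549039458486304))) (.node (.node (.leaf 984797806029263954355250239723646022) (.leaf 232544615105320167724947021238844454)) (.node (.leaf 458409300670313354902511683236224616) (.leaf 626529629799714909582596062410020552))))) (.node (.node (.node (.node (.leaf 984818244535754528103549039458486304) (.leaf 984818244535754528103549039458486304)) (.node (.leaf 984818244535754528103549039458486304) (.leaf 984818244535754528103549039458486304))) (.node (.node (.leaf 984818244535754528103549039458486304) (.leaf 984818244535754528103549039458486304)) (.node (.leaf 984818244535754528103549039458486304) (.leaf 984818244535754528103549039458486304)))) (.node (.node (.node (.leaf 984818244535754528103549039458486304) (.leaf 984818244535754528103549039458486304)) (.node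 (.leaf 984818244535754528103549039458486304) (.leaf 984818244535754528103549039458486304))) (.node (.node (.leaf 809447778440420427120518515161041262) (.leaf 71944336578345344831159908225472686)) (.node (.leaf 90117345872782641728507859542691555) (.leaf 928870477441008162585625831451919843)))))) (.node (.node (.node (.node (.node (.leaf 984818244535754528103549039458486304) (.leaf 944575093795477381421486852072914086)) (.node (.leaf 984818244535754528103549039458486304) (.leaf 55996866098729652617999938458424808))) (.node (.node (.leaf 984818244535754528103549039458486304) (.leaf 795905179953464881275868536372670182)) (.node (.leaf 984818244535754528103549039458486304) (.leaf 103416416795210933822382542657019240)))) (.node (.node (.node (.leaf 984818244535754528103549039458486304) (.leaf 85132214372574148378870572902526566)) (.node (.leaf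 984818244535754528103549039458486304) (.leaf 818319375768301133535345265633090632))) (.node (.node (.leaf 44870205627816186826016435954007750) (.leaf 984818244535754528103549039458486304)) (.node (.leaf 939062540417411556116076070770512936) (.leaf 984818244535754528103549039458486304))))) (.node (.node (.node (.node (.leaf 984818244535754528103549039458486304) (.leaf 648495924633342091354672050931521582)) (.node (.leaf 984818244535754528103549039458486304) (.leaf 210821214010921454331048768540182211))) (.node (.node (.leaf 984818244535754528103549039458486304) (.leaf 957235545998008629360050668069653102)) (.node (.leaf 984818244535754528103549039458486304) (.leaf 486215048652016594978892637355134019)))) (.node (.node (.node (.leaf 984818244535754528103549039458486304) (.leaf 464288054043160813883043074605681390)) (.node (.leaf 984818244535754528103549039458486304)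 (.leaf 975032522455862977341876451936783715))) (.node (.node (.leaf 222839119509598681344625535422159342) (.leaf 984818244535754528103549039458486304)) (.node (.leaf 653117168610763293189034928955131043) (.leaf 984818244535754528103549039458486304))))))) (.node (.node (.node (.node (.node (.node (.leaf 984818244535754528103549039458486304) (.leaf 984818244535754528103549039458486304)) (.node (.leaf 984818244535754528103549039458486304) (.leaf 984818244535754528103549039458486304))) (.node (.node (.leaf 984818244535754528103549039458486304) (.leaf 984818244535754528103549039458486304)) (.node (.leaf 984818244535754528103549039458486304) (.leaf 984818244535754528103549039458486304)))) (.node (.node (.node (.leaf 984818244535754528103549039458486304) (.leaf 984818244535754528103549039458486304)) (.node (.leaf 984818244535754528103549039458486304)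 (.leaf 984818244535754528103549039458486304))) (.node (.node (.leaf 98182852972551844321873934814862054) (.leaf 61522496068907979025996220205124774)) (.node (.leaf 920846815306336105614778449244719592) (.leaf 819911421825321848099680515274605928))))) (.node (.node (.node (.node (.leaf 984818244535754528103549039458486304) (.leaf 984818244535754528103549039458486304)) (.node (.leaf 984818244535754528103549039458486304) (.leaf 984818244535754528103549039458486304))) (.node (.node (.leaf 460345713598006184333074260278427246) (.leaf 236762248887684062040562688255351854)) (.node (.leaf 624886049112516405055721761132261059) (.leaf 980872992107838168263125701176628291)))) (.node (.node (.node (.leaf 984818244535754528103549039458486304) (.leaf 984818244535754528103549039458486304)) (.node (.leaf 984818244535754528103549039458486304) (.leaf 984818244535754528103549039458486304)))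 (.node (.node (.leaf 984818244535754528103549039458486304) (.leaf 984818244535754528103549039458486304)) (.node (.leaf 984818244535754528103549039458486304) (.leaf 984818244535754528103549039458486304)))))) (.node (.node (.node (.node (.node (.leaf 984818244535754528103549039458486304) (.leaf 227983223478316690240504964357611206)) (.node (.leaf 630387040864836341403238952387259432) (.leaf 984818244535754528103549039458486304))) (.node (.node (.leaf 984818244535754528103549039458486304) (.leaf 970157174264339849073936382230009446)) (.node (.leaf 487274260904182554178769858058009672) (.leaf 984818244535754528103549039458486304)))) (.node (.node (.node (.leaf 984818244535754528103549039458486304) (.leaf 803818179688714225105828877546325062)) (.node (.leaf 113242215945271676317534640365951592) (.leaf 984818244535754528103549039458486304)))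 (.node (.node (.leaf 933614746236832145040393287012485158) (.leaf 984818244535754528103549039458486304)) (.node (.leaf 984818244535754528103549039458486304) (.leaf 48328521807316053747931992784424648))))) (.node (.node (.node (.node (.leaf 984818244535754528103549039458486304) (.leaf 958288856487459865293334413885871470)) (.node (.leaf 481894925233323129269009854002151139) (.leaf 984818244535754528103549039458486304))) (.node (.node (.leaf 651932486918667612518266240183348398) (.leaf 984818244535754528103549039458486304)) (.node (.leaf 984818244535754528103549039458486304) (.leaf 209289990578654705252612430296833507)))) (.node (.node (.node (.leaf 984818244535754528103549039458486304) (.leaf 70916398250284726092273212339047918)) (.node (.leaf 915963101927489331563679420099627171) (.leaf 984818244535754528103549039458486304))) (.node (.node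 (.leaf 984818244535754528103549039458486304) (.leaf 792321374527455110757408446890378990)) (.node (.leaf 108236744973786722169913675632105827) (.leaf 984818244535754528103549039458486304))))))))) (.node (.node (.node (.node (.node (.node (.node (.node (.leaf 984818244535754528103549039458486304) (.leaf 984818244535754528103549039458486304)) (.node (.leaf 984818244535754528103549039458486304) (.leaf 984818244535754528103549039458486304))) (.node (.node (.leaf 984818244535754528103549039458486304) (.leaf 984818244535754528103549039458486304)) (.node (.leaf 984818244535754528103549039458486304) (.leaf 984818244535754528103549039458486304)))) (.node (.node (.node (.leaf 984818244535754528103549039458486304) (.leaf 984818244535754528103549039458486304)) (.node (.leaf 944577213497328230710097143784380009) (.leaf 795897069899317055364549972362485449)))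 (.node (.node (.leaf 984818244535754528103549039458486304) (.leaf 984818244535754528103549039458486304)) (.node (.leaf 56005701702486787170232196549524553) (.leaf 103415693605462461543475183151590441))))) (.node (.node (.node (.node (.leaf 984818244535754528103549039458486304) (.leaf 984818244535754528103549039458486304)) (.node (.leaf 984818244535754528103549039458486304) (.leaf 232533649315936278902489140291896401))) (.node (.node (.leaf 984818244535754528103549039458486304) (.leaf 458407906053106915319977801621655232)) (.node (.leaf 984818244535754528103549039458486304) (.leaf 626538900191533550152976284141083249)))) (.node (.node (.node (.leaf 984818244535754528103549039458486304) (.leaf 44873788032572242936138448379337440)) (.node (.leaf 85114780694837255883117934985628849) (.leaf 984818244535754528103549039458486304))) (.node (.node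 (.leaf 984818244535754528103549039458486304) (.leaf 939044472915432233498192720554034528)) (.node (.leaf 818323433542486106063222709023869425) (.leaf 984818244535754528103549039458486304)))))) (.node (.node (.node (.node (.node (.leaf 984818244535754528103549039458486304) (.leaf 984818244535754528103549039458486304)) (.node (.leaf 984818244535754528103549039458486304) (.leaf 984818244535754528103549039458486304))) (.node (.node (.leaf 984818244535754528103549039458486304) (.leaf 984818244535754528103549039458486304)) (.node (.leaf 984818244535754528103549039458486304) (.leaf 984818244535754528103549039458486304)))) (.node (.node (.node (.leaf 984818244535754528103549039458486304) (.leaf 984818244535754528103549039458486304)) (.node (.leaf 648494767700660282824342094342260457) (.leaf 957223708699931855449294874759876073))) (.node (.node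 (.leaf 984818244535754528103549039458486304) (.leaf 984818244535754528103549039458486304)) (.node (.leaf 210841335604233160947191767904770409) (.leaf 486226062062427910764007628223023273))))) (.node (.node (.node (.node (.leaf 984818244535754528103549039458486304) (.leaf 809456693272982007427334088430988448)) (.node (.leaf 984818244535754528103549039458486304) (.leaf 71937256489139231198773787758892401))) (.node (.node (.leaf 984818244535754528103549039458486304) (.leaf 90120257855125742150050113172757984)) (.node (.leaf 984818244535754528103549039458486304) (.leaf 928868645058269574528527201482325745)))) (.node (.node (.node (.leaf 984818244535754528103549039458486304) (.leaf 222831487724517065942117024284130912)) (.node (.leaf 464273998510906930943618137035234353) (.leaf 984818244535754528103549039458486304))) (.node (.node (.leaf 984818244535754528103549039458486304)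 (.leaf 653103350763035035121980634848236608)) (.node (.leaf 975024969899587029788916355392024273) (.leaf 984818244535754528103549039458486304))))))) (.node (.node (.node (.node (.node (.node (.leaf 984818244535754528103549039458486304) (.leaf 984818244535754528103549039458486304)) (.node (.leaf 984818244535754528103549039458486304) (.leaf 984818244535754528103549039458486304))) (.node (.node (.leaf 984818244535754528103549039458486304) (.leaf 984818244535754528103549039458486304)) (.node (.leaf 984818244535754528103549039458486304) (.leaf 984818244535754528103549039458486304)))) (.node (.node (.node (.leaf 984818244535754528103549039458486304) (.leaf 984818244535754528103549039458486304)) (.node (.leaf 460356402089010623257630110026073577) (.leaf 624866482116040588315424545776339305))) (.node (.node (.leaf 984818244535754528103549039458486304)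 (.leaf 984818244535754528103549039458486304)) (.node (.leaf 236763366205604709578531097942183657) (.leaf 980863008662482138046225570609027241))))) (.node (.node (.node (.node (.leaf 984818244535754528103549039458486304) (.leaf 630403999174127127866071808679136608)) (.node (.leaf 984818244535754528103549039458486304) (.leaf 487269727761324694805094945730353649))) (.node (.node (.leaf 227980116441931218040143471776926432) (.leaf 984818244535754528103549039458486304)) (.node (.leaf 970175717135823016335769021592896689) (.leaf 984818244535754528103549039458486304)))) (.node (.node (.node (.leaf 984818244535754528103549039458486304) (.leaf 481893201671831561116867175234442720)) (.node (.leaf 651940795043107881270948848922320241) (.leaf 984818244535754528103549039458486304))) (.node (.node (.leaf 958279268217103757753427558984367264) (.leaf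 984818244535754528103549039458486304)) (.node (.leaf 984818244535754528103549039458486304) (.leaf 209290476083915474266351170450927345)))))) (.node (.node (.node (.node (.node (.leaf 984818244535754528103549039458486304) (.leaf 984818244535754528103549039458486304)) (.node (.leaf 98189734991238126710385398653687497) (.leaf 920838653142262659332185213983796297))) (.node (.node (.leaf 984818244535754528103549039458486304) (.leaf 984818244535754528103549039458486304)) (.node (.leaf 61519187945299975320274666923253353) (.leaf 819913491892548997195547159877434409)))) (.node (.node (.node (.leaf 984818244535754528103549039458486304) (.leaf 984818244535754528103549039458486304)) (.node (.leaf 984818244535754528103549039458486304) (.leaf 984818244535754528103549039458486304))) (.node (.node (.leaf 984818244535754528103549039458486304) (.leaf 984818244535754528103549039458486304))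 (.node (.leaf 984818244535754528103549039458486304) (.leaf 984818244535754528103549039458486304))))) (.node (.node (.node (.node (.leaf 984818244535754528103549039458486304) (.leaf 113243650175803891925037582803830464)) (.node (.leaf 933626860833665443356347813673094225) (.leaf 984818244535754528103549039458486304))) (.node (.node (.leaf 803797186585842180881039063708391456) (.leaf 984818244535754528103549039458486304)) (.node (.leaf 984818244535754528103549039458486304) (.leaf 48318221450291869655484477522348657)))) (.node (.node (.node (.leaf 984818244535754528103549039458486304) (.leaf 915976880161740515717032938527317056)) (.node (.leaf 984818244535754528103549039458486304) (.leaf 108243624090378806207654097137450705))) (.node (.node (.leaf 70924703473160758048920542737116768) (.leaf 984818244535754528103549039458486304)) (.node (.leaf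 792335469674318935198489874613146673) (.leaf 984818244535754528103549039458486304)))))))) (.node (.node (.node (.node (.node (.node (.node (.leaf 984818244535754528103549039458486304) (.leaf 984818244535754528103549039458486304)) (.node (.leaf 984818244535754528103549039458486304) (.leaf 984818244535754528103549039458486304))) (.node (.node (.leaf 984818244535754528103549039458486304) (.leaf 984818244535754528103549039458486304)) (.node (.leaf 984818244535754528103549039458486304) (.leaf 984818244535754528103549039458486304)))) (.node (.node (.node (.leaf 984818244535754528103549039458486304) (.leaf 984818244535754528103549039458486304)) (.node (.leaf 228001345449752151239134423184627784) (.leaf 970153907533255558660807053653593128))) (.node (.node (.leaf 630383298766288590331859805968828006) (.leaf 487291432139027762334597780559891142))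 (.node (.leaf 984818244535754528103549039458486304) (.leaf 984818244535754528103549039458486304))))) (.node (.node (.node (.node (.leaf 984818244535754528103549039458486304) (.leaf 98194099774536418322197851205590190)) (.node (.leaf 984818244535754528103549039458486304) (.leaf 61501795120280604616270314112816867))) (.node (.node (.leaf 984818244535754528103549039458486304) (.leaf 920848944020938264378828930580233582)) (.node (.leaf 984818244535754528103549039458486304) (.leaf 819901411145060661012700634387361251)))) (.node (.node (.node (.leaf 984818244535754528103549039458486304) (.leaf 933622593847542353095806031319303790)) (.node (.leaf 803815309796216133453890027920853699) (.leaf 984818244535754528103549039458486304))) (.node (.node (.leaf 113233114184426580228779289094704174) (.leaf 984818244535754528103549039458486304)) (.node (.leaf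 984818244535754528103549039458486304) (.leaf 48330095461354260561811077192800323)))))) (.node (.node (.node (.node (.node (.leaf 984818244535754528103549039458486304) (.leaf 460353283911507803453803525483056166)) (.node (.leaf 984818244535754528103549039458486304) (.leaf 236752869828572097109975779262858856))) (.node (.node (.leaf 984818244535754528103549039458486304) (.leaf 624884050728446391014106932873025606)) (.node (.leaf 984818244535754528103549039458486304) (.leaf 980873852708112097395907282474666696)))) (.node (.node (.node (.leaf 984818244535754528103549039458486304) (.leaf 651943931789697638683943497197983462)) (.node (.leaf 958290232535877511362636898566974952) (.leaf 984818244535754528103549039458486304))) (.node (.node (.leaf 481874620423997261644155397635103910) (.leaf 984818244535754528103549039458486304)) (.node (.leaf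 984818244535754528103549039458486304) (.leaf 209279742215416757731582363679636840))))) (.node (.node (.node (.node (.leaf 984818244535754528103549039458486304) (.leaf 984818244535754528103549039458486304)) (.node (.leaf 984818244535754528103549039458486304) (.leaf 984818244535754528103549039458486304))) (.node (.node (.leaf 984818244535754528103549039458486304) (.leaf 984818244535754528103549039458486304)) (.node (.leaf 984818244535754528103549039458486304) (.leaf 984818244535754528103549039458486304)))) (.node (.node (.node (.leaf 984818244535754528103549039458486304) (.leaf 984818244535754528103549039458486304)) (.node (.leaf 70930217335580888305825430464150883) (.leaf 792329422259443120355974828029664419))) (.node (.node (.leaf 915970872361211655216366013879195374) (.leaf 108249811392899333225570520622181870)) (.node (.leaf 984818244535754528103549039458486304)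 (.leaf 984818244535754528103549039458486304))))))) (.node (.node (.node (.node (.node (.node (.leaf 984818244535754528103549039458486304) (.leaf 984818244535754528103549039458486304)) (.node (.leaf 984818244535754528103549039458486304) (.leaf 984818244535754528103549039458486304))) (.node (.node (.leaf 984818244535754528103549039458486304) (.leaf 984818244535754528103549039458486304)) (.node (.leaf 984818244535754528103549039458486304) (.leaf 984818244535754528103549039458486304)))) (.node (.node (.node (.leaf 984818244535754528103549039458486304) (.leaf 984818244535754528103549039458486304)) (.node (.leaf 67079886203943594761712273013714664) (.leaf 111812630989098271635042153040133288))) (.node (.node (.leaf 791394373729216601890418121552008678) (.leaf 916628062967169030997188001003953510)) (.node (.leaf 984818244535754528103549039458486304)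 (.leaf 984818244535754528103549039458486304))))) (.node (.node (.node (.node (.leaf 984818244535754528103549039458486304) (.leaf 791405331393809131493793201869930190)) (.node (.leaf 984818244535754528103549039458486304) (.leaf 916618073370816755980508108379598435))) (.node (.node (.leaf 67069460853868981929222664949455950) (.leaf 984818244535754528103549039458486304)) (.node (.leaf 111822439845523622951985058375210019) (.leaf 984818244535754528103549039458486304)))) (.node (.node (.node (.leaf 984818244535754528103549039458486304) (.leaf 238286686319128535172912457084841038)) (.node (.leaf 962612127795204685172126338624273443) (.leaf 984818244535754528103549039458486304))) (.node (.node (.leaf 984818244535754528103549039458486304) (.leaf 476930220864901078716268712657360590)) (.node (.leaf 637891552225186991526947045616344675) (.leaf 984818244535754528103549039458486304))))))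 (.node (.node (.node (.node (.node (.leaf 984818244535754528103549039458486304) (.leaf 67062742901161387938775479055649126)) (.node (.leaf 791388382448059377617494065685846184) (.leaf 984818244535754528103549039458486304))) (.node (.node (.leaf 984818244535754528103549039458486304) (.leaf 111806441636628867860861081623135718)) (.node (.leaf 916612147700150669840778354397499112) (.leaf 984818244535754528103549039458486304)))) (.node (.node (.node (.leaf 984818244535754528103549039458486304) (.leaf 962629274811851193261456540714686950)) (.node (.leaf 984818244535754528103549039458486304) (.leaf 637897042141261252568952784141093608))) (.node (.node (.leaf 238293840026200851783106208362417510) (.leaf 984818244535754528103549039458486304)) (.node (.leaf 476946021003880902935998801530520744) (.leaf 984818244535754528103549039458486304))))) (.node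 (.node (.node (.node (.leaf 984818244535754528103549039458486304) (.leaf 984818244535754528103549039458486304)) (.node (.leaf 238303710779250752569390765624789603) (.leaf 476936727130209226969826131325442083))) (.node (.node (.leaf 962618832129635407463821523822053070) (.leaf 637907348650377357531482663200967758)) (.node (.leaf 984818244535754528103549039458486304) (.leaf 984818244535754528103549039458486304)))) (.node (.node (.node (.leaf 984818244535754528103549039458486304) (.leaf 984818244535754528103549039458486304)) (.node (.leaf 984818244535754528103549039458486304) (.leaf 984818244535754528103549039458486304))) (.node (.node (.leaf 984818244535754528103549039458486304) (.leaf 984818244535754528103549039458486304)) (.node (.leaf 984818244535754528103549039458486304) (.leaf 984818244535754528103549039458486304))))))))))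

/-- permutations of the rows -/
def permR : List ℕ := [984818244535754528103549039458486304, 210435120435307550330452051101407840, 624517044061651488927946079149412044, 482459827099231466604978979955901516, 803652105196627511828563558794968224, 61883120498559899304777101680422624, 90444939817544343322532435405692268, 943847460223198919942428813748245996]

/-- permutations of the columns and corners -/
def permS : List ℕ := [984818244535754528103549039458486304, 984084262567613236192610165765867564, 984778933196102347286236936446445614, 984634424208374560522616205749127204, 984680074005312166942073745218734128, 984276938768663380215962083661514794, 984247803890945741191112268691310630, 984316253684297417473049715097700397, 984118494548597429619212189062072369, 984508922729717990627575126524299316, 984432868724039877641667869130360867,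 983958774452431346275486523314276405, 984481032107449774523896020634634281, 984204696427524577597304228719003687, 984363150101368796103184830841751592, 984597650899688112051113258191751218]

end CfsgLib.HeUnique
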