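import Cfsg.Agent.Lib.HeUnique.Cert

/-!
The four candidate automorphisms of the centralizer of two involutions.
-/

set_option autoImplicit false
set_option linter.style.longLine false
set_option maxRecDepth 100000

namespace CfsgLib.HeUnique

/-- table 1 -/
def tabPhi1 : Tree (ℕ × ℕ) :=
  (.node (.node (.node (.node (.node (.node (.node (.node (.node (.node (.node (.leaf (34944, 34944)) (.leaf (53489, 22685))) (.node (.leaf (52377, 59548)) (.leaf (34944, 34944)))) (.node (.node (.leaf (21653, 47324)) (.leaf (51425, 60620))) (.node (.leaf (28896, 39052)) (.leaf (34944, 34944))))) (.node (.node (.node (.leaf (47233, 29928)) (.leaf (43153, 34969))) (.node (.leaf (20712, 47236)) (.leaf (34944, 34944)))) (.node (.node (.leaf (52357, 60557)) (.leaf (20653, 48380))) (.node (.leaf (40189, 20661)) (.leaf (34944, 34944)))))) (.node (.node (.node (.node (.leaf (54400, 31965)) (.leaf (62673, 23725))) (.node (.leaf (31876, 61669)) (.leaf (34944, 34944)))) (.node (.node (.leaf (59589, 59644)) (.leaf (20641, 47340))) (.node (.leaf (53457,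 23720)) (.leaf (34944, 34944))))) (.node (.node (.node (.leaf (53444, 30889)) (.leaf (48325, 29833))) (.node (.leaf (60616, 60657)) (.leaf (34944, 34944)))) (.node (.node (.leaf (43240, 44252)) (.leaf (43216, 44277))) (.node (.leaf (53436, 31973)) (.leaf (34944, 34944))))))) (.node (.node (.node (.node (.node (.leaf (22657, 54496)) (.leaf (62685, 22717))) (.node (.leaf (30921, 61596)) (.leaf (34944, 34944)))) (.node (.node (.leaf (53469, 22712)) (.leaf (44216, 35005))) (.node (.leaf (61605, 23804)) (.leaf (34944, 34944))))) (.node (.node (.node (.leaf (44204, 44204)) (.leaf (44193, 43180))) (.node (.leaf (36012, 44196)) (.leaf (34944, 34944)))) (.node (.node (.leaf (21717, 39093)) (.leaf (43209, 36068))) (.node (.leaf (40101, 21721)) (.leaf (34944, 34944)))))) (.node (.node (.node (.node (.leaf (60644, 51401)) (.leaf (53488, 22669))) (.node (.leaf (52425, 60649)) (.leaf (34944, 34944)))) (.node (.node (.leaf (21708, 47268)) (.leaf (62616, 23764))) (.node (.leaf (51380, 52392)) (.leaf (34944, 34944))))) (.node (.node (.node (.leaf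 (30908, 62661)) (.leaf (43248, 36061))) (.node (.leaf (30965, 53424)) (.leaf (34944, 34944)))) (.node (.node (.leaf (23796, 53413)) (.leaf (20656, 47357))) (.node (.leaf (44168, 43141)) (.leaf (34944, 34944)))))))) (.node (.node (.node (.node (.node (.node (.leaf (48312, 20688)) (.leaf (62633, 22753))) (.node (.leaf (48361, 29868)) (.leaf (34944, 34944)))) (.node (.node (.leaf (36033, 44257)) (.leaf (53493, 31885))) (.node (.leaf (40181, 28853)) (.leaf (34944, 34944))))) (.node (.node (.node (.leaf (54452, 23784)) (.leaf (43172, 36001))) (.node (.leaf (47237, 20728)) (.leaf (34944, 34944)))) (.node (.node (.leaf (61649, 23712)) (.leaf (39048, 21744))) (.node (.leaf (44265, 44225)) (.leaf (34944, 34944)))))) (.node (.node (.node (.node (.leaf (52352, 51341)) (.leaf (62664, 31932))) (.node (.leaf (54472, 31924)) (.leaf (34944, 34944)))) (.node (.node (.leaf (52460, 59585)) (.leaf (52360, 59533))) (.node (.leaf (43149, 35976)) (.leaf (34944, 34944))))) (.node (.node (.node (.leaf (35969, 34973)) (.leaf (43237, 43228))) (.node (.leaf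 (52477, 59600)) (.leaf (34944, 34944)))) (.node (.node (.leaf (21645, 39133)) (.leaf (51336, 59520))) (.node (.leaf (54488, 31925)) (.leaf (34944, 34944))))))) (.node (.node (.node (.node (.node (.leaf (22729, 61588)) (.leaf (20613, 47312))) (.node (.leaf (54469, 30900)) (.leaf (34944, 34944)))) (.node (.node (.leaf (47313, 20629)) (.leaf (30896, 61653))) (.node (.leaf (30905, 53445)) (.leaf (34944, 34944))))) (.node (.node (.node (.leaf (40168, 29876)) (.leaf (61632, 23729))) (.node (.leaf (21745, 39064)) (.leaf (34944, 34944)))) (.node (.node (.leaf (29945, 47248)) (.leaf (59552, 59569))) (.node (.leaf (35992, 43148)) (.leaf (34944, 34944)))))) (.node (.node (.node (.node (.leaf (40164, 28836)) (.leaf (47236, 20712))) (.node (.leaf (21641, 48333)) (.leaf (34944, 34944)))) (.node (.node (.leaf (31916, 62665)) (.leaf (39052, 28896))) (.node (.leaf (60589, 60604)) (.leaf (34944, 34944))))) (.node (.node (.node (.leaf (21732, 48281)) (.leaf (51413, 59637))) (.node (.leaf (43256, 44253)) (.leaf (34944, 34944)))) (.node (.node (.leaf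 (34984, 35001)) (.leaf (39125, 29837))) (.node (.leaf (62677, 30909)) (.leaf (34944, 34944))))))))) (.node (.node (.node (.node (.node (.node (.node (.leaf (34945, 34960)) (.leaf (20732, 40085))) (.node (.leaf (21677, 48369)) (.leaf (34944, 34944)))) (.node (.node (.leaf (53464, 31928)) (.leaf (22736, 53381))) (.node (.leaf (48321, 20633)) (.leaf (34944, 34944))))) (.node (.node (.node (.leaf (31964, 54416)) (.leaf (39148, 20649))) (.node (.leaf (47329, 21665)) (.leaf (34944, 34944)))) (.node (.node (.leaf (30932, 62621)) (.leaf (20612, 47296))) (.node (.leaf (28837, 40180)) (.leaf (34944, 34944)))))) (.node (.node (.node (.node (.leaf (53468, 22696)) (.leaf (31913, 53449))) (.node (.leaf (44205, 44220)) (.leaf (34944, 34944)))) (.node (.node (.leaf (44165, 44165)) (.leaf (35069, 35029))) (.node (.leaf (60624, 52464)) (.leaf (34944, 34944))))) (.node (.node (.node (.leaf (40093, 28924)) (.leaf (30852, 61672))) (.node (.leaf (47352, 29872)) (.leaf (34944, 34944)))) (.node (.node (.leaf (60653, 59609)) (.leaf (51401, 60644))) (.node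 (.leaf (48264, 21749)) (.leaf (34944, 34944))))))) (.node (.node (.node (.node (.node (.leaf (48257, 29925)) (.leaf (31992, 54461))) (.node (.leaf (30897, 61637)) (.leaf (34944, 34944)))) (.node (.node (.leaf (44284, 35008)) (.leaf (60564, 60564))) (.node (.leaf (29888, 48316)) (.leaf (34944, 34944))))) (.node (.node (.node (.leaf (35037, 43261)) (.leaf (40128, 20609))) (.node (.leaf (44200, 35004)) (.leaf (34944, 34944)))) (.node (.node (.leaf (44280, 44240)) (.leaf (44173, 35973))) (.node (.leaf (34965, 44161)) (.leaf (34944, 34944)))))) (.node (.node (.node (.node (.leaf (36020, 36005)) (.leaf (31917, 62681))) (.node (.leaf (44241, 44264)) (.leaf (34944, 34944)))) (.node (.node (.leaf (48376, 29885)) (.leaf (20688, 48312))) (.node (.leaf (43249, 36045)) (.leaf (34944, 34944))))) (.node (.node (.node (.leaf (29901, 47292)) (.leaf (43221, 35061))) (.node (.leaf (22764, 61609)) (.leaf (34944, 34944)))) (.node (.node (.leaf (48328, 28809)) (.leaf (39120, 20621))) (.node (.leaf (35017, 36076)) (.leaf (34944, 34944)))))))) (.node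 (.node (.node (.node (.node (.node (.leaf (28884, 39072)) (.leaf (54404, 22733))) (.node (.leaf (36081, 36040)) (.leaf (34944, 34944)))) (.node (.node (.leaf (54401, 31949)) (.leaf (30876, 53481))) (.node (.leaf (40089, 21740)) (.leaf (34944, 34944))))) (.node (.node (.node (.leaf (62592, 31957)) (.leaf (43157, 44169))) (.node (.leaf (62632, 22769)) (.leaf (34944, 34944)))) (.node (.node (.leaf (31960, 61568)) (.leaf (59561, 51361))) (.node (.leaf (30881, 61636)) (.leaf (34944, 34944)))))) (.node (.node (.node (.node (.leaf (22745, 61589)) (.leaf (62692, 31897))) (.node (.leaf (44233, 36073)) (.leaf (34944, 34944)))) (.node (.node (.leaf (44276, 43200)) (.leaf (62596, 22725))) (.node (.leaf (21681, 47328)) (.leaf (34944, 34944))))) (.node (.node (.node (.leaf (36061, 43248)) (.leaf (36001, 43172))) (.node (.leaf (40173, 20660)) (.leaf (34944, 34944)))) (.node (.node (.leaf (48329, 28825)) (.leaf (48288, 28881))) (.node (.leaf (47256, 21753)) (.leaf (34944, 34944))))))) (.node (.node (.node (.node (.node (.leaf (28801, 40136))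 (.leaf (39153, 21672))) (.node (.leaf (59605, 59645)) (.leaf (34944, 34944)))) (.node (.node (.leaf (59624, 52436)) (.leaf (51417, 60645))) (.node (.leaf (54485, 30901)) (.leaf (34944, 34944))))) (.node (.node (.node (.leaf (52472, 52432)) (.leaf (43165, 35977))) (.node (.leaf (48333, 21641)) (.leaf (34944, 34944)))) (.node (.node (.leaf (36029, 44213)) (.leaf (51357, 52353))) (.node (.leaf (29912, 40125)) (.leaf (34944, 34944)))))) (.node (.node (.node (.node (.leaf (48360, 29884)) (.leaf (61572, 22728))) (.node (.leaf (36084, 43208)) (.leaf (34944, 34944)))) (.node (.node (.leaf (40153, 28816)) (.leaf (39149, 20665))) (.node (.leaf (54465, 23716)) (.leaf (34944, 34944))))) (.node (.node (.node (.leaf (40145, 20624)) (.leaf (20721, 39061))) (.node (.leaf (43208, 36084)) (.leaf (34944, 34944)))) (.node (.node (.leaf (21752, 47240)) (.leaf (39145, 29865))) (.node (.leaf (62669, 22716)) (.leaf (34944, 34944)))))))))) (.node (.node (.node (.node (.node (.node (.node (.node (.leaf (22656, 54512)) (.leaf (20713, 47252))) (.node (.leaf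 (40073, 21741)) (.leaf (34944, 34944)))) (.node (.node (.leaf (29884, 48360)) (.leaf (20680, 40121))) (.node (.leaf (31969, 62636)) (.leaf (34944, 34944))))) (.node (.node (.node (.leaf (35005, 44216)) (.leaf (61576, 23768))) (.node (.leaf (36040, 36081)) (.leaf (34944, 34944)))) (.node (.node (.leaf (21724, 47269)) (.leaf (51381, 52408))) (.node (.leaf (48284, 28900)) (.leaf (34944, 34944)))))) (.node (.node (.node (.node (.leaf (31932, 62664)) (.leaf (39121, 20637))) (.node (.leaf (47304, 28804)) (.leaf (34944, 34944)))) (.node (.node (.leaf (54481, 23717)) (.leaf (35024, 44285))) (.node (.leaf (48368, 21693)) (.leaf (34944, 34944))))) (.node (.node (.node (.leaf (21737, 47257)) (.leaf (36016, 43189))) (.node (.leaf (28865, 48289)) (.leaf (34944, 34944)))) (.node (.node (.leaf (36064, 36057)) (.leaf (51332, 60560))) (.node (.leaf (53401, 23745)) (.leaf (34944, 34944))))))) (.node (.node (.node (.node (.node (.leaf (35064, 44245)) (.leaf (48260, 20709))) (.node (.leaf (54425, 23756)) (.leaf (34944, 34944)))) (.node (.node (.leaf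 (54524, 23696)) (.leaf (29828, 47301))) (.node (.leaf (30945, 62625)) (.leaf (34944, 34944))))) (.node (.node (.node (.leaf (48364, 20652)) (.leaf (59536, 51337))) (.node (.leaf (47300, 29844)) (.leaf (34944, 34944)))) (.node (.node (.leaf (61636, 30881)) (.leaf (62681, 31917))) (.node (.leaf (61640, 31921)) (.leaf (34944, 34944)))))) (.node (.node (.node (.node (.leaf (29880, 39160)) (.leaf (36024, 34997))) (.node (.leaf (23689, 62701)) (.leaf (34944, 34944)))) (.node (.node (.leaf (48345, 28824)) (.leaf (31900, 53476))) (.node (.leaf (60612, 59617)) (.leaf (34944, 34944))))) (.node (.node (.node (.leaf (54492, 22693)) (.leaf (20669, 48381))) (.node (.leaf (53381, 22736)) (.leaf (34944, 34944)))) (.node (.node (.leaf (48365, 20668)) (.leaf (20697, 40104))) (.node (.leaf (35045, 43220)) (.leaf (34944, 34944)))))))) (.node (.node (.node (.node (.node (.node (.leaf (53484, 23708)) (.leaf (47260, 28905))) (.node (.leaf (60656, 60632)) (.leaf (34944, 34944)))) (.node (.node (.leaf (31973, 53436)) (.leaf (43257, 44237))) (.node (.leaf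 (40176, 21685)) (.leaf (34944, 34944))))) (.node (.node (.node (.leaf (47340, 20641)) (.leaf (30913, 53404))) (.node (.leaf (62700, 23705)) (.leaf (34944, 34944)))) (.node (.node (.leaf (28861, 48373)) (.leaf (47280, 28893))) (.node (.leaf (40149, 29824)) (.leaf (34944, 34944)))))) (.node (.node (.node (.node (.leaf (22712, 53469)) (.leaf (62625, 30945))) (.node (.leaf (35068, 35013)) (.leaf (34944, 34944)))) (.node (.node (.leaf (23788, 61604)) (.leaf (20709, 48260))) (.node (.leaf (54489, 31909)) (.leaf (34944, 34944))))) (.node (.node (.node (.leaf (30920, 61580)) (.leaf (23749, 62601))) (.node (.leaf (22660, 61664)) (.leaf (34944, 34944)))) (.node (.node (.leaf (30853, 61688)) (.leaf (43168, 43185))) (.node (.leaf (59616, 60628)) (.leaf (34944, 34944))))))) (.node (.node (.node (.node (.node (.leaf (48348, 21656)) (.leaf (31996, 61613))) (.node (.leaf (47240, 21752)) (.leaf (34944, 34944)))) (.node (.node (.leaf (22665, 62688)) (.leaf (48276, 20708))) (.node (.leaf (29925, 48257)) (.leaf (34944, 34944))))) (.node (.node (.node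 (.leaf (52412, 60581)) (.leaf (62701, 23689))) (.node (.leaf (48352, 21692)) (.leaf (34944, 34944)))) (.node (.node (.leaf (53388, 30912)) (.leaf (61685, 31877))) (.node (.leaf (36032, 44273)) (.leaf (34944, 34944)))))) (.node (.node (.node (.node (.leaf (21676, 48353)) (.leaf (61657, 31904))) (.node (.leaf (28877, 47281)) (.leaf (34944, 34944)))) (.node (.node (.leaf (21636, 47309)) (.leaf (62629, 23793))) (.node (.leaf (43217, 44261)) (.leaf (34944, 34944))))) (.node (.node (.node (.leaf (21701, 39092)) (.leaf (51409, 52453))) (.node (.leaf (44277, 43216)) (.leaf (34944, 34944)))) (.node (.node (.leaf (53392, 31953)) (.leaf (51440, 60637))) (.node (.leaf (23789, 61620)) (.leaf (34944, 34944))))))))) (.node (.node (.node (.node (.node (.node (.node (.leaf (22716, 62669)) (.leaf (62656, 23740))) (.node (.leaf (61692, 23701)) (.leaf (34944, 34944)))) (.node (.node (.leaf (35993, 43164)) (.leaf (31989, 53437))) (.node (.leaf (59565, 60593)) (.leaf (34944, 34944))))) (.node (.node (.node (.leaf (28849, 47333)) (.leaf (43176, 34993)))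 (.node (.leaf (21672, 39153)) (.leaf (34944, 34944)))) (.node (.node (.leaf (52421, 59641)) (.leaf (62680, 31933))) (.node (.leaf (40144, 20608)) (.leaf (34944, 34944)))))) (.node (.node (.node (.node (.leaf (22717, 62685)) (.leaf (20705, 39060))) (.node (.leaf (28833, 47332)) (.leaf (34944, 34944)))) (.node (.node (.leaf (62676, 30893)) (.leaf (62608, 31956))) (.node (.leaf (47309, 21636)) (.leaf (34944, 34944))))) (.node (.node (.node (.leaf (60633, 60640)) (.leaf (30928, 53389))) (.node (.leaf (47281, 28877)) (.leaf (34944, 34944)))) (.node (.node (.leaf (36017, 43173)) (.leaf (51385, 51368))) (.node (.leaf (29909, 39101)) (.leaf (34944, 34944))))))) (.node (.node (.node (.node (.node (.leaf (60604, 60589)) (.leaf (39076, 21700))) (.node (.leaf (36085, 43224)) (.leaf (34944, 34944)))) (.node (.node (.leaf (44281, 44224)) (.leaf (48280, 21748))) (.node (.leaf (29836, 39109)) (.leaf (34944, 34944))))) (.node (.node (.node (.leaf (21693, 48368)) (.leaf (61596, 30921))) (.node (.leaf (62617, 23748)) (.leaf (34944, 34944)))) (.node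 (.node (.leaf (52401, 59557)) (.leaf (43233, 36044))) (.node (.leaf (60585, 51372)) (.leaf (34944, 34944)))))) (.node (.node (.node (.node (.leaf (22740, 62613)) (.leaf (28829, 39129))) (.node (.leaf (52361, 59549)) (.leaf (34944, 34944)))) (.node (.node (.leaf (28920, 47245)) (.leaf (39129, 28829))) (.node (.leaf (29833, 48325)) (.leaf (34944, 34944))))) (.node (.node (.node (.leaf (54436, 23785)) (.leaf (23801, 54437))) (.node (.leaf (62628, 23777)) (.leaf (34944, 34944)))) (.node (.node (.leaf (23748, 62617)) (.leaf (39088, 28885))) (.node (.leaf (44269, 35025)) (.leaf (34944, 34944)))))))) (.node (.node (.node (.node (.node (.node (.leaf (31872, 54517)) (.leaf (44261, 43217))) (.node (.leaf (36008, 34996)) (.leaf (34944, 34944)))) (.node (.node (.leaf (31933, 62680)) (.leaf (40080, 29948))) (.node (.leaf (21661, 39132)) (.leaf (34944, 34944))))) (.node (.node (.node (.leaf (47305, 28820)) (.leaf (54509, 23681))) (.node (.leaf (28841, 39140)) (.leaf (34944, 34944)))) (.node (.node (.leaf (34981, 36025)) (.leaf (30864, 54521)))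 (.node (.leaf (35057, 36037)) (.leaf (34944, 34944)))))) (.node (.node (.node (.node (.leaf (48313, 20672)) (.leaf (53456, 23736))) (.node (.leaf (39156, 28840)) (.leaf (34944, 34944)))) (.node (.node (.leaf (52396, 60580)) (.leaf (39117, 21644))) (.node (.leaf (61688, 30853)) (.leaf (34944, 34944))))) (.node (.node (.node (.leaf (22669, 53488)) (.leaf (61693, 23685))) (.node (.leaf (52373, 60556)) (.leaf (34944, 34944)))) (.node (.node (.leaf (30929, 53405)) (.leaf (51445, 51421))) (.node (.leaf (47292, 29901)) (.leaf (34944, 34944))))))) (.node (.node (.node (.node (.node (.leaf (31972, 53420)) (.leaf (40136, 28801))) (.node (.leaf (59641, 52421)) (.leaf (34944, 34944)))) (.node (.node (.leaf (23740, 62656)) (.leaf (20633, 48321))) (.node (.leaf (54437, 23801)) (.leaf (34944, 34944))))) (.node (.node (.node (.leaf (35065, 44229)) (.leaf (43169, 43169))) (.node (.leaf (60625, 52448)) (.leaf (34944, 34944)))) (.node (.node (.leaf (36069, 43225)) (.leaf (23696, 54524))) (.node (.leaf (35989, 44172)) (.leaf (34944, 34944))))))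 (.node (.node (.node (.node (.leaf (60657, 60616)) (.leaf (30889, 53444))) (.node (.leaf (47245, 28920)) (.leaf (34944, 34944)))) (.node (.node (.leaf (52392, 51380)) (.leaf (20704, 39044))) (.node (.leaf (23709, 53500)) (.leaf (34944, 34944))))) (.node (.node (.node (.leaf (59644, 59589)) (.leaf (60560, 51332))) (.node (.leaf (53420, 31972)) (.leaf (34944, 34944)))) (.node (.node (.leaf (40076, 28909)) (.leaf (51352, 59521))) (.node (.leaf (22720, 53380)) (.leaf (34944, 34944))))))))))) (.node (.node (.node (.node (.node (.node (.node (.node (.node (.leaf (34996, 36008)) (.leaf (20657, 47341))) (.node (.leaf (61665, 22676)) (.leaf (34944, 34944)))) (.node (.node (.leaf (60581, 52412)) (.leaf (23685, 61693))) (.node (.leaf (47261, 28921)) (.leaf (34944, 34944))))) (.node (.node (.node (.leaf (31873, 54501)) (.leaf (21721, 40101))) (.node (.leaf (28876, 47265)) (.leaf (34944, 34944)))) (.node (.node (.leaf (61573, 22744)) (.leaf (51404, 51428))) (.node (.leaf (48272, 29940)) (.leaf (34944, 34944)))))) (.node (.node (.node (.node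 (.leaf (31928, 53464)) (.leaf (39053, 28912))) (.node (.leaf (44213, 36029)) (.leaf (34944, 34944)))) (.node (.node (.leaf (59564, 60577)) (.leaf (22680, 62705))) (.node (.leaf (43229, 43253)) (.leaf (34944, 34944))))) (.node (.node (.node (.leaf (59556, 52385)) (.leaf (54416, 31964))) (.node (.leaf (28845, 48372)) (.leaf (34944, 34944)))) (.node (.node (.leaf (29853, 39124)) (.leaf (35996, 35996))) (.node (.leaf (43241, 44236)) (.leaf (34944, 34944))))))) (.node (.node (.node (.node (.node (.leaf (40064, 29949)) (.leaf (44257, 36033))) (.node (.leaf (29857, 47337)) (.leaf (34944, 34944)))) (.node (.node (.leaf (54513, 22672)) (.leaf (61601, 30956))) (.node (.leaf (52452, 51393)) (.leaf (34944, 34944))))) (.node (.node (.node (.leaf (22780, 61608)) (.leaf (31885, 53493))) (.node (.leaf (20700, 47272)) (.leaf (34944, 34944)))) (.node (.node (.leaf (21712, 48309)) (.leaf (43200, 44276))) (.node (.leaf (22697, 53452)) (.leaf (34944, 34944)))))) (.node (.node (.node (.node (.leaf (60557, 52357)) (.leaf (36065, 36041))) (.node (.leaf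 (59613, 51453)) (.leaf (34944, 34944)))) (.node (.node (.leaf (48340, 29848)) (.leaf (44229, 35065))) (.node (.leaf (51436, 59596)) (.leaf (34944, 34944))))) (.node (.node (.node (.leaf (29924, 48273)) (.leaf (23744, 53385))) (.node (.leaf (61617, 30957)) (.leaf (34944, 34944)))) (.node (.node (.leaf (47332, 28833)) (.leaf (39056, 29937))) (.node (.leaf (53424, 30965)) (.leaf (34944, 34944)))))))) (.node (.node (.node (.node (.node (.node (.leaf (48308, 21696)) (.leaf (39097, 20677))) (.node (.leaf (60568, 59524)) (.leaf (34944, 34944)))) (.node (.node (.leaf (47349, 28848)) (.leaf (52445, 51448))) (.node (.leaf (40092, 28908)) (.leaf (34944, 34944))))) (.node (.node (.node (.leaf (54456, 22776)) (.leaf (44224, 44281))) (.node (.leaf (39092, 21701)) (.leaf (34944, 34944)))) (.node (.node (.leaf (35052, 35012)) (.leaf (53449, 31913))) (.node (.leaf (30937, 61597)) (.leaf (34944, 34944)))))) (.node (.node (.node (.node (.leaf (61568, 31960)) (.leaf (39113, 28828))) (.node (.leaf (20692, 39080)) (.leaf (34944, 34944)))) (.node (.node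 (.leaf (59625, 52420)) (.leaf (53413, 23796))) (.node (.leaf (29929, 47249)) (.leaf (34944, 34944))))) (.node (.node (.node (.leaf (53429, 23797)) (.leaf (29840, 40148))) (.node (.leaf (61677, 23684)) (.leaf (34944, 34944)))) (.node (.node (.leaf (53480, 30860)) (.leaf (20645, 40188))) (.node (.leaf (21660, 39116)) (.leaf (34944, 34944))))))) (.node (.node (.node (.node (.node (.leaf (22700, 62668)) (.leaf (39080, 20692))) (.node (.leaf (31965, 54400)) (.leaf (34944, 34944)))) (.node (.node (.leaf (44169, 43157)) (.leaf (36093, 35032))) (.node (.leaf (30909, 62677)) (.leaf (34944, 34944))))) (.node (.node (.node (.leaf (40069, 20733)) (.leaf (61593, 23753))) (.node (.leaf (21668, 40161)) (.leaf (34944, 34944)))) (.node (.node (.leaf (36073, 44233)) (.leaf (34968, 43137))) (.node (.leaf (29872, 47352)) (.leaf (34944, 34944)))))) (.node (.node (.node (.node (.leaf (35020, 43244)) (.leaf (52416, 52473))) (.node (.leaf (48305, 28864)) (.leaf (34944, 34944)))) (.node (.node (.leaf (35041, 36036)) (.leaf (20717, 40068))) (.node (.leaf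 (30912, 53388)) (.leaf (34944, 34944))))) (.node (.node (.node (.leaf (59609, 60653)) (.leaf (51337, 59536))) (.node (.leaf (29928, 47233)) (.leaf (34944, 34944)))) (.node (.node (.leaf (40100, 21705)) (.leaf (51421, 51445))) (.node (.leaf (62717, 23688)) (.leaf (34944, 34944))))))))) (.node (.node (.node (.node (.node (.node (.node (.leaf (28800, 40152)) (.leaf (62697, 30873))) (.node (.leaf (21673, 39137)) (.leaf (34944, 34944)))) (.node (.node (.leaf (30964, 53408)) (.leaf (47244, 28904))) (.node (.leaf (59557, 52401)) (.leaf (34944, 34944))))) (.node (.node (.node (.leaf (31961, 61584)) (.leaf (43201, 44260))) (.node (.leaf (39112, 28812)) (.leaf (34944, 34944)))) (.node (.node (.leaf (30936, 61581)) (.leaf (39073, 28868))) (.node (.leaf (21697, 48292)) (.leaf (34944, 34944)))))) (.node (.node (.node (.node (.leaf (35048, 44244)) (.leaf (20665, 39149))) (.node (.leaf (22781, 61624)) (.leaf (34944, 34944)))) (.node (.node (.leaf (62648, 22768)) (.leaf (54420, 22732))) (.node (.leaf (23697, 54508)) (.leaf (34944, 34944)))))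 (.node (.node (.node (.leaf (40177, 21669)) (.leaf (53453, 22713))) (.node (.leaf (31893, 61684)) (.leaf (34944, 34944)))) (.node (.node (.leaf (30861, 53496)) (.leaf (36037, 35057))) (.node (.leaf (30860, 53480)) (.leaf (34944, 34944))))))) (.node (.node (.node (.node (.node (.leaf (48269, 28917)) (.leaf (53405, 30929))) (.node (.leaf (36092, 35016)) (.leaf (34944, 34944)))) (.node (.node (.leaf (62660, 30892)) (.leaf (22777, 54440))) (.node (.leaf (36053, 35056)) (.leaf (34944, 34944))))) (.node (.node (.node (.leaf (28844, 48356)) (.leaf (22749, 54405))) (.node (.leaf (62708, 31896)) (.leaf (34944, 34944)))) (.node (.node (.leaf (61597, 30937)) (.leaf (62688, 22665))) (.node (.leaf (60608, 52465)) (.leaf (34944, 34944)))))) (.node (.node (.node (.node (.leaf (60648, 52441)) (.leaf (35040, 36052))) (.node (.leaf (62601, 23749)) (.leaf (34944, 34944)))) (.node (.node (.leaf (48296, 20689)) (.leaf (20677, 39097))) (.node (.leaf (20684, 47273)) (.leaf (34944, 34944))))) (.node (.node (.node (.leaf (29864, 39161)) (.leaf (51341,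 52352))) (.node (.leaf (21709, 47284)) (.leaf (34944, 34944)))) (.node (.node (.leaf (54520, 30848)) (.leaf (62624, 30961))) (.node (.leaf (54480, 23733)) (.leaf (34944, 34944)))))))) (.node (.node (.node (.node (.node (.node (.leaf (47232, 29944)) (.leaf (20617, 48320))) (.node (.leaf (29896, 40124)) (.leaf (34944, 34944)))) (.node (.node (.leaf (31929, 53448)) (.leaf (44240, 44280))) (.node (.leaf (21684, 40160)) (.leaf (34944, 34944))))) (.node (.node (.node (.leaf (44252, 43240)) (.leaf (35013, 35068))) (.node (.leaf (52433, 52456)) (.leaf (34944, 34944)))) (.node (.node (.leaf (35012, 35052)) (.leaf (21705, 40100))) (.node (.leaf (61577, 23752)) (.leaf (34944, 34944)))))) (.node (.node (.node (.node (.leaf (40104, 20697)) (.leaf (29876, 40168))) (.node (.leaf (44192, 43196)) (.leaf (34944, 34944)))) (.node (.node (.leaf (62668, 22700)) (.leaf (39093, 21717))) (.node (.leaf (60613, 59633)) (.leaf (34944, 34944))))) (.node (.node (.node (.leaf (60593, 59565)) (.leaf (43140, 44184))) (.node (.leaf (21729, 39065)) (.leaf (34944,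 34944)))) (.node (.node (.leaf (48292, 21697)) (.leaf (23712, 61649))) (.node (.leaf (44285, 35024)) (.leaf (34944, 34944))))))) (.node (.node (.node (.node (.node (.leaf (47348, 28832)) (.leaf (62613, 22740))) (.node (.leaf (23681, 54509)) (.leaf (34944, 34944)))) (.node (.node (.leaf (23764, 62616)) (.leaf (43205, 35060))) (.node (.leaf (29865, 39145)) (.leaf (34944, 34944))))) (.node (.node (.node (.leaf (61672, 30852)) (.leaf (30900, 54469))) (.node (.leaf (48320, 20617)) (.leaf (34944, 34944)))) (.node (.node (.leaf (29941, 48256)) (.leaf (43156, 44185))) (.node (.leaf (29936, 39040)) (.leaf (34944, 34944)))))) (.node (.node (.node (.node (.leaf (60569, 59540)) (.leaf (30933, 62605))) (.node (.leaf (20708, 48276)) (.leaf (34944, 34944)))) (.node (.node (.leaf (52417, 52457)) (.leaf (53380, 22720))) (.node (.leaf (23800, 54453)) (.leaf (34944, 34944))))) (.node (.node (.node (.leaf (40124, 29896)) (.leaf (30857, 62696))) (.node (.leaf (40161, 21668)) (.leaf (34944, 34944)))) (.node (.node (.leaf (21757, 40072)) (.leaf (51348,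 60561))) (.node (.leaf (52397, 60596)) (.leaf (34944, 34944)))))))))) (.node (.node (.node (.node (.node (.node (.node (.node (.leaf (48256, 29941)) (.leaf (35008, 44284))) (.node (.leaf (59585, 52460)) (.leaf (34944, 34944)))) (.node (.node (.leaf (36044, 43233)) (.leaf (20637, 39121))) (.node (.leaf (28813, 39128)) (.leaf (34944, 34944))))) (.node (.node (.node (.leaf (54468, 30884)) (.leaf (59569, 59552))) (.node (.leaf (20648, 39164)) (.leaf (34944, 34944)))) (.node (.node (.leaf (21748, 48280)) (.leaf (31888, 54516))) (.node (.leaf (28864, 48305)) (.leaf (34944, 34944)))))) (.node (.node (.node (.node (.leaf (28900, 48284)) (.leaf (39160, 29880))) (.node (.leaf (47269, 21724)) (.leaf (34944, 34944)))) (.node (.node (.leaf (44268, 35009)) (.leaf (54473, 31908))) (.node (.leaf (43204, 35044)) (.leaf (34944, 34944))))) (.node (.node (.node (.leaf (21740, 40089)) (.leaf (22704, 61661))) (.node (.leaf (28836, 40164)) (.leaf (34944, 34944)))) (.node (.node (.leaf (54417, 31948)) (.leaf (51408, 52469))) (.node (.leaf (23705, 62700))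 (.leaf (34944, 34944))))))) (.node (.node (.node (.node (.node (.leaf (21736, 47241)) (.leaf (53437, 31989))) (.node (.leaf (60561, 51348)) (.leaf (34944, 34944)))) (.node (.node (.leaf (47257, 21737)) (.leaf (36080, 36056))) (.node (.leaf (34964, 44177)) (.leaf (34944, 34944))))) (.node (.node (.node (.leaf (48332, 21657)) (.leaf (59544, 59529))) (.node (.leaf (44225, 44265)) (.leaf (34944, 34944)))) (.node (.node (.leaf (22748, 54421)) (.leaf (59532, 52376))) (.node (.leaf (40097, 28873)) (.leaf (34944, 34944)))))) (.node (.node (.node (.node (.leaf (29916, 47277)) (.leaf (60573, 52356))) (.node (.leaf (59633, 60613)) (.leaf (34944, 34944)))) (.node (.node (.leaf (48373, 28861)) (.leaf (20616, 48336))) (.node (.leaf (43161, 43161)) (.leaf (34944, 34944))))) (.node (.node (.node (.leaf (54484, 30885)) (.leaf (29844, 47300))) (.node (.leaf (59525, 60552)) (.leaf (34944, 34944)))) (.node (.node (.leaf (43236, 43212)) (.leaf (20624, 40145))) (.node (.leaf (54412, 30925)) (.leaf (34944, 34944)))))))) (.node (.node (.node (.node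 (.node (.node (.leaf (34997, 36024)) (.leaf (35053, 35028))) (.node (.leaf (29829, 47317)) (.leaf (34944, 34944)))) (.node (.node (.leaf (34952, 43136)) (.leaf (61669, 31876))) (.node (.leaf (52449, 60609)) (.leaf (34944, 34944))))) (.node (.node (.node (.leaf (44248, 36088)) (.leaf (43260, 35021))) (.node (.leaf (62661, 30908)) (.leaf (34944, 34944)))) (.node (.node (.leaf (47272, 20700)) (.leaf (53408, 30964))) (.node (.leaf (34992, 43192)) (.leaf (34944, 34944)))))) (.node (.node (.node (.node (.leaf (59592, 60668)) (.leaf (62600, 23765))) (.node (.leaf (54421, 22748)) (.leaf (34944, 34944)))) (.node (.node (.leaf (59588, 59628)) (.leaf (20649, 39148))) (.node (.leaf (35001, 34984)) (.leaf (34944, 34944))))) (.node (.node (.node (.leaf (36052, 35040)) (.leaf (34985, 34985))) (.node (.leaf (61621, 23805)) (.leaf (34944, 34944)))) (.node (.node (.leaf (51328, 51328)) (.leaf (61588, 22729))) (.node (.leaf (23781, 53428)) (.leaf (34944, 34944))))))) (.node (.node (.node (.node (.node (.leaf (48337, 20632)) (.leaf (20625, 40129)))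 (.node (.leaf (31880, 62709)) (.leaf (34944, 34944)))) (.node (.node (.leaf (48265, 21733)) (.leaf (48277, 20724))) (.node (.leaf (54493, 22709)) (.leaf (34944, 34944))))) (.node (.node (.node (.leaf (61620, 23789)) (.leaf (22685, 53489))) (.node (.leaf (60665, 52424)) (.leaf (34944, 34944)))) (.node (.node (.leaf (30849, 54504)) (.leaf (62665, 31916))) (.node (.leaf (48261, 20725)) (.leaf (34944, 34944)))))) (.node (.node (.node (.node (.leaf (48357, 28860)) (.leaf (52356, 60573))) (.node (.leaf (28840, 39156)) (.leaf (34944, 34944)))) (.node (.node (.leaf (40117, 21720)) (.leaf (39101, 29909))) (.node (.leaf (43192, 34992)) (.leaf (34944, 34944))))) (.node (.node (.node (.leaf (21696, 48308)) (.leaf (51345, 51345))) (.node (.leaf (30972, 61600)) (.leaf (34944, 34944)))) (.node (.node (.leaf (28921, 47261)) (.leaf (51405, 51444))) (.node (.leaf (47248, 29945)) (.leaf (34944, 34944))))))))) (.node (.node (.node (.node (.node (.node (.node (.leaf (22744, 61573)) (.leaf (47344, 21680))) (.node (.leaf (22677, 61681)) (.leaf (34944,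 34944)))) (.node (.node (.leaf (29873, 47336)) (.leaf (28828, 39113))) (.node (.leaf (28825, 48329)) (.leaf (34944, 34944))))) (.node (.node (.node (.leaf (53385, 23744)) (.leaf (43213, 43252))) (.node (.leaf (62597, 22741)) (.leaf (34944, 34944)))) (.node (.node (.leaf (61660, 22688)) (.leaf (51433, 52428))) (.node (.leaf (22733, 54404)) (.leaf (34944, 34944)))))) (.node (.node (.node (.node (.leaf (40156, 21648)) (.leaf (62605, 30933))) (.node (.leaf (35025, 44269)) (.leaf (34944, 34944)))) (.node (.node (.leaf (62716, 23704)) (.leaf (23688, 62717))) (.node (.leaf (48341, 29832)) (.leaf (34944, 34944))))) (.node (.node (.node (.leaf (29825, 40133)) (.leaf (54501, 31873))) (.node (.leaf (31937, 53393)) (.leaf (34944, 34944)))) (.node (.node (.leaf (34957, 35968)) (.leaf (51424, 60636))) (.node (.leaf (36041, 36065)) (.leaf (34944, 34944))))))) (.node (.node (.node (.node (.node (.leaf (60628, 59616)) (.leaf (20621, 39120))) (.node (.leaf (21665, 47329)) (.leaf (34944, 34944)))) (.node (.node (.leaf (47293, 29917)) (.leaf (30872,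 62713))) (.node (.leaf (35980, 35997)) (.leaf (34944, 34944))))) (.node (.node (.node (.leaf (21689, 39136)) (.leaf (52400, 59573))) (.node (.leaf (44228, 35049)) (.leaf (34944, 34944)))) (.node (.node (.leaf (61633, 23713)) (.leaf (51349, 60545))) (.node (.leaf (29949, 40064)) (.leaf (34944, 34944)))))) (.node (.node (.node (.node (.leaf (22773, 53432)) (.leaf (59576, 51376))) (.node (.leaf (28853, 40181)) (.leaf (34944, 34944)))) (.node (.node (.leaf (47308, 21652)) (.leaf (39152, 21688))) (.node (.leaf (20676, 39081)) (.leaf (34944, 34944))))) (.node (.node (.node (.leaf (35060, 43205)) (.leaf (21640, 48349))) (.node (.leaf (30952, 54449)) (.leaf (34944, 34944)))) (.node (.node (.leaf (60641, 60617)) (.leaf (39136, 21689))) (.node (.leaf (44164, 44181)) (.leaf (34944, 34944)))))))) (.node (.node (.node (.node (.node (.node (.leaf (35004, 44200)) (.leaf (28812, 39112))) (.node (.leaf (48316, 29888)) (.leaf (34944, 34944)))) (.node (.node (.leaf (28901, 48268)) (.leaf (40084, 20716))) (.node (.leaf (44189, 35972)) (.leaf (34944,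 34944))))) (.node (.node (.node (.leaf (47268, 21708)) (.leaf (28889, 40096))) (.node (.leaf (23737, 53440)) (.leaf (34944, 34944)))) (.node (.node (.leaf (28868, 39073)) (.leaf (43253, 43229))) (.node (.leaf (40141, 21633)) (.leaf (34944, 34944)))))) (.node (.node (.node (.node (.leaf (48309, 21712)) (.leaf (60552, 59525))) (.node (.leaf (52369, 51356)) (.leaf (34944, 34944)))) (.node (.node (.leaf (28897, 39068)) (.leaf (23760, 53384))) (.node (.leaf (51432, 52444)) (.leaf (34944, 34944))))) (.node (.node (.node (.leaf (30904, 53461)) (.leaf (51428, 51404))) (.node (.leaf (43212, 43236)) (.leaf (34944, 34944)))) (.node (.node (.leaf (54500, 31889)) (.leaf (20632, 48337))) (.node (.leaf (47312, 20613)) (.leaf (34944, 34944))))))) (.node (.node (.node (.node (.node (.leaf (34953, 43152)) (.leaf (62653, 31984))) (.node (.leaf (54505, 30865)) (.leaf (34944, 34944)))) (.node (.node (.leaf (23768, 61576)) (.leaf (23772, 54424))) (.node (.leaf (22761, 54441)) (.leaf (34944, 34944))))) (.node (.node (.node (.leaf (28904, 47244)) (.leaf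 (59540, 60569))) (.node (.leaf (53448, 31929)) (.leaf (34944, 34944)))) (.node (.node (.leaf (48353, 21676)) (.leaf (43160, 43145))) (.node (.leaf (35000, 35000)) (.leaf (34944, 34944)))))) (.node (.node (.node (.node (.leaf (28885, 39088)) (.leaf (30880, 61652))) (.node (.leaf (20668, 48365)) (.leaf (34944, 34944)))) (.node (.node (.leaf (30892, 62660)) (.leaf (39069, 28913))) (.node (.leaf (59560, 51377)) (.leaf (34944, 34944))))) (.node (.node (.node (.leaf (21649, 40140)) (.leaf (51389, 60600))) (.node (.leaf (47325, 21637)) (.leaf (34944, 34944)))) (.node (.node (.leaf (40160, 21684)) (.leaf (20640, 47356))) (.node (.leaf (28824, 48345)) (.leaf (34944, 34944)))))))))))) (.node (.node (.node (.node (.node (.node (.node (.node (.node (.node (.leaf (53376, 31952)) (.leaf (23692, 53485))) (.node (.leaf (52465, 60608)) (.leaf (34944, 34944)))) (.node (.node (.leaf (48349, 21640)) (.leaf (51384, 51384))) (.node (.leaf (35056, 36053)) (.leaf (34944, 34944))))) (.node (.node (.node (.leaf (28857, 39141)) (.leaf (43189, 36016)))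 (.node (.leaf (35061, 43221)) (.leaf (34944, 34944)))) (.node (.node (.leaf (40113, 28872)) (.leaf (39137, 21673))) (.node (.leaf (22765, 61625)) (.leaf (34944, 34944)))))) (.node (.node (.node (.node (.leaf (47320, 28805)) (.leaf (54405, 22749))) (.node (.leaf (62593, 31941)) (.leaf (34944, 34944)))) (.node (.node (.leaf (35016, 36092)) (.leaf (40088, 21756))) (.node (.leaf (43185, 43168)) (.leaf (34944, 34944))))) (.node (.node (.node (.leaf (34961, 34961)) (.leaf (29852, 39108))) (.node (.leaf (48285, 28916)) (.leaf (34944, 34944)))) (.node (.node (.leaf (48324, 29849)) (.leaf (20725, 48261))) (.node (.leaf (30960, 62640)) (.leaf (34944, 34944))))))) (.node (.node (.node (.node (.node (.leaf (21692, 48352)) (.leaf (62709, 31880))) (.node (.leaf (48281, 21732)) (.leaf (34944, 34944)))) (.node (.node (.leaf (59617, 60612)) (.leaf (61680, 22661))) (.node (.leaf (52364, 52381)) (.leaf (34944, 34944))))) (.node (.node (.node (.leaf (31953, 53392)) (.leaf (47328, 21681))) (.node (.leaf (23761, 53400)) (.leaf (34944, 34944)))) (.node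 (.node (.leaf (40105, 20681)) (.leaf (30868, 61673))) (.node (.leaf (40137, 28817)) (.leaf (34944, 34944)))))) (.node (.node (.node (.node (.leaf (36072, 44249)) (.leaf (29937, 39056))) (.node (.leaf (47273, 20684)) (.leaf (34944, 34944)))) (.node (.node (.leaf (22692, 54476)) (.leaf (62640, 30960))) (.node (.leaf (51388, 60584)) (.leaf (34944, 34944))))) (.node (.node (.node (.leaf (48380, 20653)) (.leaf (51444, 51405))) (.node (.leaf (52409, 51365)) (.leaf (34944, 34944)))) (.node (.node (.leaf (54508, 23697)) (.leaf (20733, 40069))) (.node (.leaf (22664, 62704)) (.leaf (34944, 34944)))))))) (.node (.node (.node (.node (.node (.node (.leaf (60544, 51333)) (.leaf (39057, 29921))) (.node (.leaf (29893, 39100)) (.leaf (34944, 34944)))) (.node (.node (.leaf (22689, 61644)) (.leaf (52376, 59532))) (.node (.leaf (21741, 40073)) (.leaf (34944, 34944))))) (.node (.node (.node (.leaf (23680, 54525)) (.leaf (62645, 23792))) (.node (.leaf (39096, 20693)) (.leaf (34944, 34944)))) (.node (.node (.leaf (53496, 30861)) (.leaf (39044, 20704)))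 (.node (.leaf (61580, 30920)) (.leaf (34944, 34944)))))) (.node (.node (.node (.node (.leaf (40116, 21704)) (.leaf (39108, 29852))) (.node (.leaf (23769, 61592)) (.leaf (34944, 34944)))) (.node (.node (.leaf (47324, 21653)) (.leaf (31941, 62593))) (.node (.leaf (48369, 21677)) (.leaf (34944, 34944))))) (.node (.node (.node (.leaf (60629, 59632)) (.leaf (30969, 54432))) (.node (.leaf (40169, 29860)) (.leaf (34944, 34944)))) (.node (.node (.leaf (60664, 52440)) (.leaf (61600, 30972))) (.node (.leaf (34972, 35985)) (.leaf (34944, 34944))))))) (.node (.node (.node (.node (.node (.leaf (21700, 39076)) (.leaf (39128, 28813))) (.node (.leaf (47277, 29916)) (.leaf (34944, 34944)))) (.node (.node (.leaf (31921, 61640)) (.leaf (29933, 40065))) (.node (.leaf (43137, 34968)) (.leaf (34944, 34944))))) (.node (.node (.node (.leaf (61676, 23700)) (.leaf (34976, 43193))) (.node (.leaf (22681, 62689)) (.leaf (34944, 34944)))) (.node (.node (.leaf (60645, 51417)) (.leaf (44256, 36049))) (.node (.leaf (35984, 34956)) (.leaf (34944, 34944))))))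 (.node (.node (.node (.node (.leaf (21756, 40088)) (.leaf (53400, 23761))) (.node (.leaf (22737, 53397)) (.leaf (34944, 34944)))) (.node (.node (.leaf (28913, 39069)) (.leaf (31949, 54401))) (.node (.leaf (43197, 44208)) (.leaf (34944, 34944))))) (.node (.node (.node (.leaf (53417, 22756)) (.leaf (51333, 60544))) (.node (.leaf (30948, 53409)) (.leaf (34944, 34944)))) (.node (.node (.leaf (21720, 40117)) (.leaf (62620, 30916))) (.node (.leaf (52405, 52405)) (.leaf (34944, 34944))))))))) (.node (.node (.node (.node (.node (.node (.node (.leaf (59572, 52384)) (.leaf (39100, 29893))) (.node (.leaf (40081, 29932)) (.leaf (34944, 34944)))) (.node (.node (.leaf (29948, 40080)) (.leaf (53404, 30913))) (.node (.leaf (34960, 34945)) (.leaf (34944, 34944))))) (.node (.node (.node (.leaf (44196, 36012)) (.leaf (62621, 30932))) (.node (.leaf (62657, 23724)) (.leaf (34944, 34944)))) (.node (.node (.leaf (61581, 30936)) (.leaf (36000, 43188))) (.node (.leaf (35029, 35069)) (.leaf (34944, 34944)))))) (.node (.node (.node (.node (.leaf (53500,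 23709)) (.leaf (23684, 61677))) (.node (.leaf (31952, 53376)) (.leaf (34944, 34944)))) (.node (.node (.leaf (28805, 47320)) (.leaf (23757, 54409))) (.node (.leaf (20728, 47237)) (.leaf (34944, 34944))))) (.node (.node (.node (.leaf (61608, 22780)) (.leaf (51329, 51344))) (.node (.leaf (47253, 20729)) (.leaf (34944, 34944)))) (.node (.node (.leaf (29877, 40184)) (.leaf (20720, 39045))) (.node (.leaf (30856, 62712)) (.leaf (34944, 34944))))))) (.node (.node (.node (.node (.node (.leaf (60632, 60656)) (.leaf (31912, 53465))) (.node (.leaf (29932, 40081)) (.leaf (34944, 34944)))) (.node (.node (.leaf (31968, 62652)) (.leaf (36009, 34980))) (.node (.leaf (29861, 40185)) (.leaf (34944, 34944))))) (.node (.node (.node (.leaf (59608, 60669)) (.leaf (40109, 29913))) (.node (.leaf (28888, 40112)) (.leaf (34944, 34944)))) (.node (.node (.leaf (52381, 52364)) (.leaf (51453, 59613))) (.node (.leaf (29885, 48376)) (.leaf (34944, 34944)))))) (.node (.node (.node (.node (.leaf (29940, 48272)) (.leaf (28912, 39053))) (.node (.leaf (31884, 53477))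 (.leaf (34944, 34944)))) (.node (.node (.leaf (53393, 31937)) (.leaf (20672, 48313))) (.node (.leaf (23745, 53401)) (.leaf (34944, 34944))))) (.node (.node (.node (.leaf (30916, 62620)) (.leaf (43193, 34976))) (.node (.leaf (62684, 22701)) (.leaf (34944, 34944)))) (.node (.node (.leaf (29841, 40132)) (.leaf (39161, 29864))) (.node (.leaf (23721, 53441)) (.leaf (34944, 34944)))))))) (.node (.node (.node (.node (.node (.node (.leaf (59529, 59544)) (.leaf (23733, 54480))) (.node (.leaf (36088, 44248)) (.leaf (34944, 34944)))) (.node (.node (.leaf (47321, 28821)) (.leaf (21664, 47345))) (.node (.leaf (61612, 31980)) (.leaf (34944, 34944))))) (.node (.node (.node (.leaf (44212, 36013)) (.leaf (53397, 22737))) (.node (.leaf (52440, 60664)) (.leaf (34944, 34944)))) (.node (.node (.leaf (28852, 40165)) (.leaf (59524, 60568))) (.node (.leaf (52448, 60625)) (.leaf (34944, 34944)))))) (.node (.node (.node (.node (.leaf (21716, 39077)) (.leaf (47252, 20713))) (.node (.leaf (52428, 51433)) (.leaf (34944, 34944)))) (.node (.node (.leaf (31976,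 54460)) (.leaf (44208, 43197))) (.node (.leaf (21685, 40176)) (.leaf (34944, 34944))))) (.node (.node (.node (.leaf (29837, 39125)) (.leaf (22769, 62632))) (.node (.leaf (61673, 30868)) (.leaf (34944, 34944)))) (.node (.node (.leaf (53452, 22697)) (.leaf (23704, 62716))) (.node (.leaf (54445, 31993)) (.leaf (34944, 34944))))))) (.node (.node (.node (.node (.node (.leaf (59581, 60592)) (.leaf (31948, 54417))) (.node (.leaf (54453, 23800)) (.leaf (34944, 34944)))) (.node (.node (.leaf (35044, 43204)) (.leaf (53421, 31988))) (.node (.leaf (30917, 62604)) (.leaf (34944, 34944))))) (.node (.node (.node (.leaf (40172, 20644)) (.leaf (21644, 39117))) (.node (.leaf (60597, 52413)) (.leaf (34944, 34944)))) (.node (.node (.leaf (36021, 36021)) (.leaf (43220, 35045))) (.node (.leaf (36036, 35041)) (.leaf (34944, 34944)))))) (.node (.node (.node (.node (.leaf (29892, 39084)) (.leaf (34948, 44176))) (.node (.leaf (23784, 54452)) (.leaf (34944, 34944)))) (.node (.node (.leaf (22713, 53453)) (.leaf (39109, 29836))) (.node (.leaf (60636, 51424))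 (.leaf (34944, 34944))))) (.node (.node (.node (.leaf (61652, 30880)) (.leaf (20644, 40172))) (.node (.leaf (30869, 61689)) (.leaf (34944, 34944)))) (.node (.node (.leaf (40165, 28852)) (.leaf (51369, 51369))) (.node (.leaf (44184, 43140)) (.leaf (34944, 34944)))))))))) (.node (.node (.node (.node (.node (.node (.node (.node (.leaf (53432, 22773)) (.leaf (20716, 40084))) (.node (.leaf (61628, 31981)) (.leaf (34944, 34944)))) (.node (.node (.leaf (60609, 52449)) (.leaf (20685, 47289))) (.node (.leaf (47316, 29845)) (.leaf (34944, 34944))))) (.node (.node (.node (.leaf (47297, 20628)) (.leaf (30941, 54413))) (.node (.leaf (23701, 61692)) (.leaf (34944, 34944)))) (.node (.node (.leaf (44220, 44205)) (.leaf (39104, 20620))) (.node (.leaf (47289, 20685)) (.leaf (34944, 34944)))))) (.node (.node (.node (.node (.leaf (47356, 20640)) (.leaf (39157, 28856))) (.node (.leaf (54477, 22708)) (.leaf (34944, 34944)))) (.node (.node (.leaf (62712, 30856)) (.leaf (23728, 61648))) (.node (.leaf (53492, 31901)) (.leaf (34944, 34944))))) (.node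 (.node (.node (.leaf (40180, 28837)) (.leaf (34956, 35984))) (.node (.leaf (31944, 61569)) (.leaf (34944, 34944)))) (.node (.node (.leaf (23752, 61577)) (.leaf (51340, 52368))) (.node (.leaf (30885, 54484)) (.leaf (34944, 34944))))))) (.node (.node (.node (.node (.node (.leaf (22756, 53417)) (.leaf (60637, 51440))) (.node (.leaf (36013, 44212)) (.leaf (34944, 34944)))) (.node (.node (.leaf (59596, 51436)) (.leaf (29920, 39041))) (.node (.leaf (61689, 30869)) (.leaf (34944, 34944))))) (.node (.node (.node (.leaf (53445, 30905)) (.leaf (28869, 39089))) (.node (.leaf (62644, 23776)) (.leaf (34944, 34944)))) (.node (.node (.leaf (40108, 29897)) (.leaf (43261, 35037))) (.node (.leaf (61637, 30897)) (.leaf (34944, 34944)))))) (.node (.node (.node (.node (.leaf (30848, 54520)) (.leaf (48293, 21713))) (.node (.leaf (54449, 30952)) (.leaf (34944, 34944)))) (.node (.node (.leaf (53501, 23693)) (.leaf (20620, 39104))) (.node (.leaf (61644, 22689)) (.leaf (34944, 34944))))) (.node (.node (.node (.leaf (35977, 43165)) (.leaf (47353, 29856)))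 (.node (.leaf (34993, 43176)) (.leaf (34944, 34944)))) (.node (.node (.leaf (30973, 61616)) (.leaf (20628, 47297))) (.node (.leaf (23765, 62600)) (.leaf (34944, 34944)))))))) (.node (.node (.node (.node (.node (.node (.leaf (48356, 28844)) (.leaf (28925, 40077))) (.node (.leaf (53472, 22668)) (.leaf (34944, 34944)))) (.node (.node (.leaf (28808, 48344)) (.leaf (30949, 53425))) (.node (.leaf (22752, 62649)) (.leaf (34944, 34944))))) (.node (.node (.node (.leaf (54504, 30849)) (.leaf (40148, 29840))) (.node (.leaf (39140, 28841)) (.leaf (34944, 34944)))) (.node (.node (.leaf (59584, 52476)) (.leaf (28873, 40097))) (.node (.leaf (61648, 23728)) (.leaf (34944, 34944)))))) (.node (.node (.node (.node (.leaf (35021, 43260)) (.leaf (39065, 21729))) (.node (.leaf (23756, 54425)) (.leaf (34944, 34944)))) (.node (.node (.leaf (54516, 31888)) (.leaf (23700, 61676))) (.node (.leaf (60601, 51373)) (.leaf (34944, 34944))))) (.node (.node (.node (.leaf (29860, 40169)) (.leaf (54428, 30924))) (.node (.leaf (52413, 60597)) (.leaf (34944, 34944))))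 (.node (.node (.leaf (43188, 36000)) (.leaf (61641, 31905))) (.node (.leaf (54512, 22656)) (.leaf (34944, 34944))))))) (.node (.node (.node (.node (.node (.leaf (60580, 52396)) (.leaf (20629, 47313))) (.node (.leaf (28848, 47349)) (.leaf (34944, 34944)))) (.node (.node (.leaf (53425, 30949)) (.leaf (48304, 28880))) (.node (.leaf (30957, 61617)) (.leaf (34944, 34944))))) (.node (.node (.node (.leaf (52436, 59624)) (.leaf (21669, 40177))) (.node (.leaf (29900, 47276)) (.leaf (34944, 34944)))) (.node (.node (.leaf (29881, 39144)) (.leaf (39133, 21645))) (.node (.leaf (22688, 61660)) (.leaf (34944, 34944)))))) (.node (.node (.node (.node (.leaf (53485, 23692)) (.leaf (30893, 62676))) (.node (.leaf (31940, 62609)) (.leaf (34944, 34944)))) (.node (.node (.leaf (52353, 51357)) (.leaf (62604, 30917))) (.node (.leaf (51412, 59621)) (.leaf (34944, 34944))))) (.node (.node (.node (.leaf (40121, 20680)) (.leaf (51353, 59537))) (.node (.leaf (62696, 30857)) (.leaf (34944, 34944)))) (.node (.node (.leaf (48297, 20673)) (.leaf (39060, 20705)))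 (.node (.leaf (54517, 31872)) (.leaf (34944, 34944))))))))) (.node (.node (.node (.node (.node (.node (.node (.leaf (21632, 40157)) (.leaf (44181, 44164))) (.node (.leaf (40085, 20732)) (.leaf (34944, 34944)))) (.node (.node (.leaf (35985, 34972)) (.leaf (47301, 29828))) (.node (.leaf (28924, 40093)) (.leaf (34944, 34944))))) (.node (.node (.node (.leaf (31881, 62693)) (.leaf (52365, 52365))) (.node (.leaf (52437, 59640)) (.leaf (34944, 34944)))) (.node (.node (.leaf (44232, 36089)) (.leaf (62704, 22664))) (.node (.leaf (40125, 29912)) (.leaf (34944, 34944)))))) (.node (.node (.node (.node (.leaf (21633, 40141)) (.leaf (20660, 40173))) (.node (.leaf (59612, 51437)) (.leaf (34944, 34944)))) (.node (.node (.leaf (52404, 52389)) (.leaf (52368, 51340))) (.node (.leaf (29869, 48377)) (.leaf (34944, 34944))))) (.node (.node (.node (.leaf (48268, 28901)) (.leaf (23805, 61621))) (.node (.leaf (28872, 40113)) (.leaf (34944, 34944)))) (.node (.node (.leaf (36025, 34981)) (.leaf (20681, 40105))) (.node (.leaf (54460, 31976)) (.leaf (34944,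 34944))))))) (.node (.node (.node (.node (.node (.leaf (35968, 34957)) (.leaf (20701, 47288))) (.node (.leaf (22684, 53473)) (.leaf (34944, 34944)))) (.node (.node (.leaf (28905, 47260)) (.leaf (29856, 47353))) (.node (.leaf (60592, 59581)) (.leaf (34944, 34944))))) (.node (.node (.node (.leaf (40065, 29933)) (.leaf (61584, 31961))) (.node (.leaf (62641, 30944)) (.leaf (34944, 34944)))) (.node (.node (.leaf (40132, 29841)) (.leaf (51397, 59636))) (.node (.leaf (53465, 31912)) (.leaf (34944, 34944)))))) (.node (.node (.node (.node (.leaf (35049, 44228)) (.leaf (31908, 54473))) (.node (.leaf (44245, 35064)) (.leaf (34944, 34944)))) (.node (.node (.leaf (59620, 51396)) (.leaf (21680, 47344))) (.node (.leaf (23753, 61593)) (.leaf (34944, 34944))))) (.node (.node (.node (.leaf (36049, 44256)) (.leaf (29913, 40109))) (.node (.leaf (43252, 43213)) (.leaf (34944, 34944)))) (.node (.node (.leaf (54429, 30940)) (.leaf (39068, 28897))) (.node (.leaf (52457, 52417)) (.leaf (34944, 34944)))))))) (.node (.node (.node (.node (.node (.node (.leaf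 (28892, 47264)) (.leaf (44172, 35989))) (.node (.leaf (22776, 54456)) (.leaf (34944, 34944)))) (.node (.node (.leaf (47357, 20656)) (.leaf (40185, 29861))) (.node (.leaf (52385, 59556)) (.leaf (34944, 34944))))) (.node (.node (.node (.leaf (54476, 22692)) (.leaf (47264, 28892))) (.node (.leaf (35033, 36077)) (.leaf (34944, 34944)))) (.node (.node (.leaf (59537, 51353)) (.leaf (61616, 30973))) (.node (.leaf (21648, 40156)) (.leaf (34944, 34944)))))) (.node (.node (.node (.node (.leaf (60545, 51349)) (.leaf (48377, 29869))) (.node (.leaf (62609, 31940)) (.leaf (34944, 34944)))) (.node (.node (.leaf (44273, 36032)) (.leaf (52432, 52472))) (.node (.leaf (43244, 35020)) (.leaf (34944, 34944))))) (.node (.node (.node (.leaf (48344, 28808)) (.leaf (51437, 59612))) (.node (.leaf (61664, 22660)) (.leaf (34944, 34944)))) (.node (.node (.leaf (23804, 61605)) (.leaf (20636, 39105))) (.node (.leaf (54408, 23773)) (.leaf (34944, 34944))))))) (.node (.node (.node (.node (.node (.leaf (28809, 48328)) (.leaf (21749, 48264))) (.node (.leaf (47341,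 20657)) (.leaf (34944, 34944)))) (.node (.node (.leaf (20608, 40144)) (.leaf (43148, 35992))) (.node (.leaf (36048, 44272)) (.leaf (34944, 34944))))) (.node (.node (.node (.leaf (59645, 59605)) (.leaf (53396, 22721))) (.node (.leaf (60600, 51389)) (.leaf (34944, 34944)))) (.node (.node (.leaf (22741, 62597)) (.leaf (43245, 35036))) (.node (.leaf (35997, 35980)) (.leaf (34944, 34944)))))) (.node (.node (.node (.node (.leaf (53473, 22684)) (.leaf (21744, 39048))) (.node (.leaf (36060, 43232)) (.leaf (34944, 34944)))) (.node (.node (.leaf (61656, 31920)) (.leaf (39144, 29881))) (.node (.leaf (34973, 35969)) (.leaf (34944, 34944))))) (.node (.node (.node (.leaf (22701, 62684)) (.leaf (43144, 43144))) (.node (.leaf (59637, 51413)) (.leaf (34944, 34944)))) (.node (.node (.leaf (61625, 22765)) (.leaf (51344, 51329))) (.node (.leaf (22693, 54492)) (.leaf (34944, 34944))))))))))) (.node (.node (.node (.node (.node (.node (.node (.node (.node (.leaf (59520, 51336)) (.leaf (36089, 44232))) (.node (.leaf (52444, 51432)) (.leaf (34944, 34944))))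 (.node (.node (.leaf (48336, 20616)) (.leaf (23777, 62628))) (.node (.leaf (47345, 21664)) (.leaf (34944, 34944))))) (.node (.node (.node (.leaf (28893, 47280)) (.leaf (44217, 34989))) (.node (.leaf (34988, 44201)) (.leaf (34944, 34944)))) (.node (.node (.leaf (34949, 44160)) (.leaf (51441, 60621))) (.node (.leaf (60617, 60641)) (.leaf (34944, 34944)))))) (.node (.node (.node (.node (.leaf (44160, 34949)) (.leaf (51364, 52393))) (.node (.leaf (44253, 43256)) (.leaf (34944, 34944)))) (.node (.node (.leaf (23720, 53457)) (.leaf (28832, 47348))) (.node (.leaf (51416, 60661)) (.leaf (34944, 34944))))) (.node (.node (.node (.leaf (22757, 53433)) (.leaf (29904, 48317))) (.node (.leaf (59600, 52477)) (.leaf (34944, 34944)))) (.node (.node (.leaf (30884, 54468)) (.leaf (35988, 44188))) (.node (.leaf (48301, 29905)) (.leaf (34944, 34944))))))) (.node (.node (.node (.node (.node (.leaf (21688, 39152)) (.leaf (47317, 29829))) (.node (.leaf (30873, 62697)) (.leaf (34944, 34944)))) (.node (.node (.leaf (23780, 53412)) (.leaf (61613, 31996)))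 (.node (.leaf (61684, 31893)) (.leaf (34944, 34944))))) (.node (.node (.node (.leaf (53476, 31900)) (.leaf (44244, 35048))) (.node (.leaf (23732, 54464)) (.leaf (34944, 34944)))) (.node (.node (.leaf (40129, 20625)) (.leaf (43173, 36017))) (.node (.leaf (52408, 51381)) (.leaf (34944, 34944)))))) (.node (.node (.node (.node (.leaf (53389, 30928)) (.leaf (60549, 60549))) (.node (.leaf (54461, 31992)) (.leaf (34944, 34944)))) (.node (.node (.leaf (60588, 60588)) (.leaf (31896, 62708))) (.node (.leaf (53497, 30877)) (.leaf (34944, 34944))))) (.node (.node (.node (.leaf (30956, 61601)) (.leaf (23725, 62673))) (.node (.leaf (61629, 31997)) (.leaf (34944, 34944)))) (.node (.node (.leaf (29908, 39085)) (.leaf (31993, 54445))) (.node (.leaf (28917, 48269)) (.leaf (34944, 34944)))))))) (.node (.node (.node (.node (.node (.node (.leaf (22772, 53416)) (.leaf (52469, 51408))) (.node (.leaf (36005, 36020)) (.leaf (34944, 34944)))) (.node (.node (.leaf (28909, 40076)) (.leaf (40072, 21757))) (.node (.leaf (61609, 22764)) (.leaf (34944, 34944)))))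 (.node (.node (.node (.leaf (59640, 52437)) (.leaf (43196, 44192))) (.node (.leaf (31988, 53421)) (.leaf (34944, 34944)))) (.node (.node (.leaf (59593, 60652)) (.leaf (35973, 44173))) (.node (.leaf (52384, 59572)) (.leaf (34944, 34944)))))) (.node (.node (.node (.node (.leaf (40152, 28800)) (.leaf (31897, 62692))) (.node (.leaf (59632, 60629)) (.leaf (34944, 34944)))) (.node (.node (.leaf (54521, 30864)) (.leaf (23785, 54436))) (.node (.leaf (35972, 44189)) (.leaf (34944, 34944))))) (.node (.node (.node (.leaf (29889, 48300)) (.leaf (36077, 35033))) (.node (.leaf (40068, 20717)) (.leaf (34944, 34944)))) (.node (.node (.leaf (43224, 36085)) (.leaf (43164, 35993))) (.node (.leaf (21656, 48348)) (.leaf (34944, 34944))))))) (.node (.node (.node (.node (.node (.leaf (53461, 30904)) (.leaf (20689, 48296))) (.node (.leaf (44197, 36028)) (.leaf (34944, 34944)))) (.node (.node (.leaf (31925, 54488)) (.leaf (54496, 22657))) (.node (.leaf (48381, 20669)) (.leaf (34944, 34944))))) (.node (.node (.node (.leaf (22661, 61680)) (.leaf (22708,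 54477))) (.node (.leaf (60660, 51400)) (.leaf (34944, 34944)))) (.node (.node (.leaf (60556, 52373)) (.leaf (44188, 35988))) (.node (.leaf (60621, 51441)) (.leaf (34944, 34944)))))) (.node (.node (.node (.node (.leaf (22673, 54497)) (.leaf (52393, 51364))) (.node (.leaf (48317, 29904)) (.leaf (34944, 34944)))) (.node (.node (.leaf (40157, 21632)) (.leaf (20661, 40189))) (.node (.leaf (61604, 23788)) (.leaf (34944, 34944))))) (.node (.node (.node (.leaf (22728, 61572)) (.leaf (20652, 48364))) (.node (.leaf (21733, 48265)) (.leaf (34944, 34944)))) (.node (.node (.leaf (21725, 47285)) (.leaf (39072, 28884))) (.node (.leaf (52461, 59601)) (.leaf (34944, 34944))))))))) (.node (.node (.node (.node (.node (.node (.node (.leaf (59580, 60576)) (.leaf (52464, 60624))) (.node (.leaf (40184, 29877)) (.leaf (34944, 34944)))) (.node (.node (.leaf (29849, 48324)) (.leaf (31984, 62653))) (.node (.leaf (28817, 40137)) (.leaf (34944, 34944))))) (.node (.node (.node (.leaf (47241, 21736)) (.leaf (51396, 59620))) (.node (.leaf (62636, 31969)) (.leaf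 (34944, 34944)))) (.node (.node (.leaf (40120, 20696)) (.leaf (39124, 29853))) (.node (.leaf (52389, 52404)) (.leaf (34944, 34944)))))) (.node (.node (.node (.node (.leaf (59628, 59588)) (.leaf (23776, 62644))) (.node (.leaf (53477, 31884)) (.leaf (34944, 34944)))) (.node (.node (.leaf (39040, 29936)) (.leaf (52429, 51449))) (.node (.leaf (23741, 62672)) (.leaf (34944, 34944))))) (.node (.node (.node (.leaf (22753, 62633)) (.leaf (43181, 44209))) (.node (.leaf (31889, 54500)) (.leaf (34944, 34944)))) (.node (.node (.leaf (29905, 48301)) (.leaf (51429, 51420))) (.node (.leaf (48300, 29889)) (.leaf (34944, 34944))))))) (.node (.node (.node (.node (.node (.leaf (29824, 40149)) (.leaf (20696, 40120))) (.node (.leaf (54497, 22673)) (.leaf (34944, 34944)))) (.node (.node (.leaf (44177, 34964)) (.leaf (30925, 54412))) (.node (.leaf (54441, 22761)) (.leaf (34944, 34944))))) (.node (.node (.node (.leaf (59601, 52461)) (.leaf (52380, 52380))) (.node (.leaf (39164, 20648)) (.leaf (34944, 34944)))) (.node (.node (.leaf (61585, 31945)) (.leaf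 (43145, 43160))) (.node (.leaf (36045, 43249)) (.leaf (34944, 34944)))))) (.node (.node (.node (.node (.leaf (36068, 43209)) (.leaf (31985, 62637))) (.node (.leaf (44221, 44221)) (.leaf (34944, 34944)))) (.node (.node (.leaf (59629, 59604)) (.leaf (62672, 23741))) (.node (.leaf (23716, 54465)) (.leaf (34944, 34944))))) (.node (.node (.node (.leaf (36056, 36080)) (.leaf (60548, 60565))) (.node (.leaf (22724, 62612)) (.leaf (34944, 34944)))) (.node (.node (.leaf (36076, 35017)) (.leaf (39064, 21745))) (.node (.leaf (62713, 30872)) (.leaf (34944, 34944)))))))) (.node (.node (.node (.node (.node (.node (.leaf (28856, 39157)) (.leaf (62705, 22680))) (.node (.leaf (60565, 60548)) (.leaf (34944, 34944)))) (.node (.node (.leaf (44161, 34965)) (.leaf (30944, 62641))) (.node (.leaf (44237, 43257)) (.leaf (34944, 34944))))) (.node (.node (.node (.leaf (28860, 48357)) (.leaf (47337, 29857))) (.node (.leaf (47336, 29873)) (.leaf (34944, 34944)))) (.node (.node (.leaf (48372, 28845)) (.leaf (52372, 60572))) (.node (.leaf (30940, 54429)) (.leaf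 (34944, 34944)))))) (.node (.node (.node (.node (.leaf (21713, 48293)) (.leaf (60576, 59580))) (.node (.leaf (28880, 48304)) (.leaf (34944, 34944)))) (.node (.node (.leaf (44185, 43156)) (.leaf (39141, 28857))) (.node (.leaf (22696, 53468)) (.leaf (34944, 34944))))) (.node (.node (.node (.leaf (35981, 35981)) (.leaf (51377, 59560))) (.node (.leaf (21704, 40116)) (.leaf (34944, 34944)))) (.node (.node (.leaf (43180, 44193)) (.leaf (51376, 59576))) (.node (.leaf (44176, 34948)) (.leaf (34944, 34944))))))) (.node (.node (.node (.node (.node (.leaf (28908, 40092)) (.leaf (39084, 29892))) (.node (.leaf (54457, 22760)) (.leaf (34944, 34944)))) (.node (.node (.leaf (54413, 30941)) (.leaf (23717, 54481))) (.node (.leaf (36057, 36064)) (.leaf (34944, 34944))))) (.node (.node (.node (.leaf (35032, 36093)) (.leaf (61645, 22705))) (.node (.leaf (29868, 48361)) (.leaf (34944, 34944)))) (.node (.node (.leaf (60649, 52425)) (.leaf (51361, 59561))) (.node (.leaf (29845, 47316)) (.leaf (34944, 34944)))))) (.node (.node (.node (.node (.leaf (36004,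 36004)) (.leaf (61661, 22704))) (.node (.leaf (23693, 53501)) (.leaf (34944, 34944)))) (.node (.node (.leaf (44236, 43241)) (.leaf (31936, 53377))) (.node (.leaf (20724, 48277)) (.leaf (34944, 34944))))) (.node (.node (.node (.leaf (22732, 54420)) (.leaf (20729, 47253))) (.node (.leaf (53441, 23721)) (.leaf (34944, 34944)))) (.node (.node (.leaf (52441, 60648)) (.leaf (51356, 52369))) (.node (.leaf (44272, 36048)) (.leaf (34944, 34944)))))))))) (.node (.node (.node (.node (.node (.node (.node (.node (.leaf (53460, 30888)) (.leaf (23792, 62645))) (.node (.leaf (22672, 54513)) (.leaf (34944, 34944)))) (.node (.node (.leaf (60584, 51388)) (.leaf (40096, 28889))) (.node (.leaf (31924, 54472)) (.leaf (34944, 34944))))) (.node (.node (.node (.leaf (47276, 29900)) (.leaf (59577, 51360))) (.node (.leaf (23793, 62629)) (.leaf (34944, 34944)))) (.node (.node (.leaf (44260, 43201)) (.leaf (31892, 61668))) (.node (.leaf (31945, 61585)) (.leaf (34944, 34944)))))) (.node (.node (.node (.node (.leaf (31980, 61612)) (.leaf (28816, 40153))) (.node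 (.leaf (31957, 62592)) (.leaf (34944, 34944)))) (.node (.node (.leaf (52456, 52433)) (.leaf (20693, 39096))) (.node (.leaf (54432, 30969)) (.leaf (34944, 34944))))) (.node (.node (.node (.leaf (52424, 60665)) (.leaf (43225, 36069))) (.node (.leaf (35028, 35053)) (.leaf (34944, 34944)))) (.node (.node (.leaf (54525, 23680)) (.leaf (51392, 52468))) (.node (.leaf (54433, 30953)) (.leaf (34944, 34944))))))) (.node (.node (.node (.node (.node (.leaf (53433, 22757)) (.leaf (31997, 61629))) (.node (.leaf (29832, 48341)) (.leaf (34944, 34944)))) (.node (.node (.leaf (54444, 31977)) (.leaf (29897, 40108))) (.node (.leaf (59553, 59553)) (.leaf (34944, 34944))))) (.node (.node (.node (.leaf (53416, 22772)) (.leaf (34989, 44217))) (.node (.leaf (52420, 59625)) (.leaf (34944, 34944)))) (.node (.node (.leaf (52468, 51392)) (.leaf (51368, 51385))) (.node (.leaf (61589, 22745)) (.leaf (34944, 34944)))))) (.node (.node (.node (.node (.leaf (36028, 44197)) (.leaf (28820, 47305))) (.node (.leaf (47333, 28849)) (.leaf (34944, 34944)))) (.node (.node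 (.leaf (60652, 59593)) (.leaf (39081, 20676))) (.node (.leaf (51372, 60585)) (.leaf (34944, 34944))))) (.node (.node (.node (.leaf (60596, 52397)) (.leaf (60661, 51416))) (.node (.leaf (40188, 20645)) (.leaf (34944, 34944)))) (.node (.node (.leaf (30968, 54448)) (.leaf (62612, 22724))) (.node (.leaf (20609, 40128)) (.leaf (34944, 34944)))))))) (.node (.node (.node (.node (.node (.node (.leaf (59521, 51352)) (.leaf (23773, 54408))) (.node (.leaf (29921, 39057)) (.leaf (34944, 34944)))) (.node (.node (.leaf (47285, 21725)) (.leaf (59568, 59568))) (.node (.leaf (61681, 22677)) (.leaf (34944, 34944))))) (.node (.node (.node (.leaf (31877, 61685)) (.leaf (51448, 52445))) (.node (.leaf (39116, 21660)) (.leaf (34944, 34944)))) (.node (.node (.leaf (28881, 48288)) (.leaf (31901, 53492))) (.node (.leaf (21657, 48332)) (.leaf (34944, 34944)))))) (.node (.node (.node (.node (.leaf (34980, 36009)) (.leaf (39089, 28869))) (.node (.leaf (62652, 31968)) (.leaf (34944, 34944)))) (.node (.node (.leaf (47249, 29929)) (.leaf (62637, 31985))) (.node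 (.leaf (59533, 52360)) (.leaf (34944, 34944))))) (.node (.node (.node (.leaf (54440, 22777)) (.leaf (60572, 52372))) (.node (.leaf (52473, 52416)) (.leaf (34944, 34944)))) (.node (.node (.leaf (43228, 43237)) (.leaf (61592, 23769))) (.node (.leaf (59597, 51452)) (.leaf (34944, 34944))))))) (.node (.node (.node (.node (.node (.leaf (59573, 52400)) (.leaf (20673, 48297))) (.node (.leaf (53384, 23760)) (.leaf (34944, 34944)))) (.node (.node (.leaf (28916, 48285)) (.leaf (43184, 43184))) (.node (.leaf (35976, 43149)) (.leaf (34944, 34944))))) (.node (.node (.node (.leaf (61624, 22781)) (.leaf (44201, 34988))) (.node (.leaf (53481, 30876)) (.leaf (34944, 34944)))) (.node (.node (.leaf (29917, 47293)) (.leaf (43177, 34977))) (.node (.leaf (48289, 28865)) (.leaf (34944, 34944)))))) (.node (.node (.node (.node (.leaf (60668, 59592)) (.leaf (40112, 28888))) (.node (.leaf (53412, 23780)) (.leaf (34944, 34944)))) (.node (.node (.leaf (61569, 31944)) (.leaf (62693, 31881))) (.node (.leaf (23736, 53456)) (.leaf (34944, 34944))))) (.node (.node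 (.node (.leaf (52388, 52388)) (.leaf (51393, 52452))) (.node (.leaf (61668, 31892)) (.leaf (34944, 34944)))) (.node (.node (.leaf (59621, 51412)) (.leaf (43152, 34953))) (.node (.leaf (31977, 54444)) (.leaf (34944, 34944))))))))) (.node (.node (.node (.node (.node (.node (.node (.leaf (53377, 31936)) (.leaf (39105, 20636))) (.node (.leaf (60669, 59608)) (.leaf (34944, 34944)))) (.node (.node (.leaf (60620, 51425)) (.leaf (31909, 54489))) (.node (.leaf (34969, 43153)) (.leaf (34944, 34944))))) (.node (.node (.node (.leaf (59604, 59629)) (.leaf (51400, 60660))) (.node (.leaf (44209, 43181)) (.leaf (34944, 34944)))) (.node (.node (.leaf (30888, 53460)) (.leaf (39085, 29908))) (.node (.leaf (52453, 51409)) (.leaf (34944, 34944)))))) (.node (.node (.node (.node (.leaf (21637, 47325)) (.leaf (62689, 22681))) (.node (.leaf (23729, 61632)) (.leaf (34944, 34944)))) (.node (.node (.leaf (44264, 44241)) (.leaf (54448, 30968))) (.node (.leaf (30901, 54485)) (.leaf (34944, 34944))))) (.node (.node (.node (.leaf (60605, 60605)) (.leaf (23797,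 53429))) (.node (.leaf (53409, 30948)) (.leaf (34944, 34944)))) (.node (.node (.leaf (22705, 61645)) (.leaf (51365, 52409))) (.node (.leaf (23713, 61633)) (.leaf (34944, 34944))))))) (.node (.node (.node (.node (.node (.leaf (53428, 23781)) (.leaf (39132, 21661))) (.node (.leaf (47296, 20612)) (.leaf (34944, 34944)))) (.node (.node (.leaf (54409, 23757)) (.leaf (54424, 23772))) (.node (.leaf (22668, 53472)) (.leaf (34944, 34944))))) (.node (.node (.node (.leaf (52476, 59584)) (.leaf (40133, 29825))) (.node (.leaf (47265, 28876)) (.leaf (34944, 34944)))) (.node (.node (.leaf (34977, 43177)) (.leaf (44180, 44180))) (.node (.leaf (29848, 48340)) (.leaf (34944, 34944)))))) (.node (.node (.node (.node (.leaf (21753, 47256)) (.leaf (59541, 60553))) (.node (.leaf (22709, 54493)) (.leaf (34944, 34944)))) (.node (.node (.leaf (28821, 47321)) (.leaf (39077, 21716))) (.node (.leaf (23724, 62657)) (.leaf (34944, 34944))))) (.node (.node (.node (.leaf (22760, 54457)) (.leaf (51420, 51429))) (.node (.leaf (40077, 28925)) (.leaf (34944, 34944))))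 (.node (.node (.leaf (35009, 44268)) (.leaf (51449, 52429))) (.node (.leaf (39041, 29920)) (.leaf (34944, 34944)))))))) (.node (.node (.node (.node (.node (.node (.leaf (35036, 43245)) (.leaf (39049, 21728))) (.node (.leaf (30924, 54428)) (.leaf (34944, 34944)))) (.node (.node (.leaf (31981, 61628)) (.leaf (22676, 61665))) (.node (.leaf (30877, 53497)) (.leaf (34944, 34944))))) (.node (.node (.node (.leaf (31956, 62608)) (.leaf (59549, 52361))) (.node (.leaf (54464, 23732)) (.leaf (34944, 34944)))) (.node (.node (.leaf (59545, 59545)) (.leaf (30953, 54433))) (.node (.leaf (21652, 47308)) (.leaf (34944, 34944)))))) (.node (.node (.node (.node (.leaf (29944, 47232)) (.leaf (60640, 60633))) (.node (.leaf (62649, 22752)) (.leaf (34944, 34944)))) (.node (.node (.leaf (22721, 53396)) (.leaf (39165, 20664))) (.node (.leaf (43141, 44168)) (.leaf (34944, 34944))))) (.node (.node (.node (.leaf (43136, 34952)) (.leaf (53440, 23737))) (.node (.leaf (30865, 54505)) (.leaf (34944, 34944)))) (.node (.node (.leaf (60553, 59541)) (.leaf (31904,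 61657))) (.node (.leaf (31920, 61656)) (.leaf (34944, 34944))))))) (.node (.node (.node (.node (.node (.leaf (47284, 21709)) (.leaf (39045, 20720))) (.node (.leaf (44249, 36072)) (.leaf (34944, 34944)))) (.node (.node (.leaf (47288, 20701)) (.leaf (23708, 53484))) (.node (.leaf (60577, 59564)) (.leaf (34944, 34944))))) (.node (.node (.node (.leaf (59636, 51397)) (.leaf (59548, 52377))) (.node (.leaf (48273, 29924)) (.leaf (34944, 34944)))) (.node (.node (.leaf (30961, 62624)) (.leaf (51373, 60601))) (.node (.leaf (22725, 62596)) (.leaf (34944, 34944)))))) (.node (.node (.node (.node (.leaf (59528, 59528)) (.leaf (51452, 59597))) (.node (.leaf (20664, 39165)) (.leaf (34944, 34944)))) (.node (.node (.leaf (61653, 30896)) (.leaf (39061, 20721))) (.node (.leaf (21728, 39049)) (.leaf (34944, 34944))))) (.node (.node (.node (.leaf (40140, 21649)) (.leaf (43232, 36060))) (.node (.leaf (28804, 47304)) (.leaf (34944, 34944)))) (.node (.node (.leaf (22768, 62648)) (.leaf (51360, 59577))) (.node (.leaf (31905, 61641)) (.leaf (34944, 34944)))))))))))))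

/-- table 2 -/
def tabPhi2 : Tree (ℕ × ℕ) :=
  (.node (.node (.node (.node (.node (.node (.node (.node (.node (.node (.node (.leaf (34944, 34944)) (.leaf (53489, 22673))) (.node (.leaf (52377, 59548)) (.leaf (34944, 34944)))) (.node (.node (.leaf (21653, 48332)) (.leaf (51425, 51408))) (.node (.leaf (28896, 39048)) (.leaf (34944, 34944))))) (.node (.node (.node (.leaf (47233, 20728)) (.leaf (43153, 34969))) (.node (.leaf (20712, 47232)) (.leaf (34944, 34944)))) (.node (.node (.leaf (52357, 60557)) (.leaf (20653, 40160))) (.node (.leaf (40189, 21676)) (.leaf (34944, 34944)))))) (.node (.node (.node (.node (.leaf (54400, 22733)) (.leaf (62673, 22708))) (.node (.leaf (31876, 62709)) (.leaf (34944, 34944)))) (.node (.node (.leaf (59589, 60648)) (.leaf (20641, 39152))) (.node (.leaf (53457, 22705)) (.leaf (34944, 34944))))) (.node (.node (.node (.leaf (53444, 31920)) (.leaf (48325, 29829))) (.node (.leaf (60616, 59621)) (.leaf (34944, 34944)))) (.node (.node (.leaf (43240, 43208)) (.leaf (43216, 35049))) (.node (.leaf (53436, 23793))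 (.leaf (34944, 34944))))))) (.node (.node (.node (.node (.node (.leaf (22657, 53488)) (.leaf (62685, 23716))) (.node (.leaf (30921, 61592)) (.leaf (34944, 34944)))) (.node (.node (.leaf (53469, 23713)) (.leaf (44216, 43172))) (.node (.leaf (61605, 31976)) (.leaf (34944, 34944))))) (.node (.node (.node (.leaf (44204, 36021)) (.leaf (44193, 34997))) (.node (.leaf (36012, 36029)) (.leaf (34944, 34944)))) (.node (.node (.leaf (21717, 48300)) (.leaf (43209, 43256))) (.node (.leaf (40101, 29901)) (.leaf (34944, 34944)))))) (.node (.node (.node (.node (.leaf (60644, 60629)) (.leaf (53488, 22657))) (.node (.leaf (52425, 59645)) (.leaf (34944, 34944)))) (.node (.node (.leaf (21708, 40125)) (.leaf (62616, 30916))) (.node (.leaf (51380, 60593)) (.leaf (34944, 34944))))) (.node (.node (.node (.leaf (30908, 54489)) (.leaf (43248, 35017))) (.node (.leaf (30965, 62633)) (.leaf (34944, 34944)))) (.node (.node (.leaf (23796, 62652)) (.leaf (20656, 39137))) (.node (.leaf (44168, 43141)) (.leaf (34944, 34944)))))))) (.node (.node (.node (.node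 (.node (.node (.leaf (48312, 28868)) (.leaf (62633, 30965))) (.node (.leaf (48361, 28853)) (.leaf (34944, 34944)))) (.node (.node (.leaf (36033, 35069)) (.leaf (53493, 31873))) (.node (.leaf (40181, 29868)) (.leaf (34944, 34944))))) (.node (.node (.node (.leaf (54452, 31996)) (.leaf (43172, 44216))) (.node (.leaf (47237, 29928)) (.leaf (34944, 34944)))) (.node (.node (.leaf (61649, 22713)) (.leaf (39048, 28896))) (.node (.leaf (44265, 43221)) (.leaf (34944, 34944)))))) (.node (.node (.node (.node (.leaf (52352, 51341)) (.leaf (62664, 30885))) (.node (.leaf (54472, 30893)) (.leaf (34944, 34944)))) (.node (.node (.leaf (52460, 52445)) (.leaf (52360, 59533))) (.node (.leaf (43149, 35976)) (.leaf (34944, 34944))))) (.node (.node (.node (.leaf (35969, 34973)) (.leaf (43237, 44232))) (.node (.leaf (52477, 52428)) (.leaf (34944, 34944)))) (.node (.node (.leaf (21645, 40141)) (.leaf (51336, 59520))) (.node (.leaf (54488, 30892)) (.leaf (34944, 34944))))))) (.node (.node (.node (.node (.node (.leaf (22729, 61584)) (.leaf (20613, 48320)))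 (.node (.leaf (54469, 31917)) (.leaf (34944, 34944)))) (.node (.node (.leaf (47313, 20633)) (.leaf (30896, 53449))) (.node (.leaf (30905, 61657)) (.leaf (34944, 34944))))) (.node (.node (.node (.leaf (40168, 28845)) (.leaf (61632, 22696))) (.node (.leaf (21745, 39068)) (.leaf (34944, 34944)))) (.node (.node (.leaf (29945, 47252)) (.leaf (59552, 51368))) (.node (.leaf (35992, 43148)) (.leaf (34944, 34944)))))) (.node (.node (.node (.node (.leaf (40164, 29885)) (.leaf (47236, 29944))) (.node (.leaf (21641, 47325)) (.leaf (34944, 34944)))) (.node (.node (.leaf (31916, 54485)) (.leaf (39052, 21744))) (.node (.leaf (60589, 52389)) (.leaf (34944, 34944))))) (.node (.node (.node (.leaf (21732, 48285)) (.leaf (51413, 60641))) (.node (.leaf (43256, 43209)) (.leaf (34944, 34944)))) (.node (.node (.leaf (34984, 43168)) (.leaf (39125, 29825))) (.node (.leaf (62677, 31908)) (.leaf (34944, 34944))))))))) (.node (.node (.node (.node (.node (.node (.node (.leaf (34945, 34960)) (.leaf (20732, 40081))) (.node (.leaf (21677, 40173)) (.leaf (34944,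 34944)))) (.node (.node (.leaf (53464, 30881)) (.leaf (22736, 53377))) (.node (.leaf (48321, 20629)) (.leaf (34944, 34944))))) (.node (.node (.node (.leaf (31964, 54420)) (.leaf (39148, 21680))) (.node (.leaf (47329, 20664)) (.leaf (34944, 34944)))) (.node (.node (.leaf (30932, 62617)) (.leaf (20612, 48336))) (.node (.leaf (28837, 48360)) (.leaf (34944, 34944)))))) (.node (.node (.node (.node (.leaf (53468, 23729)) (.leaf (31913, 61653))) (.node (.leaf (44205, 36005)) (.leaf (34944, 34944)))) (.node (.node (.leaf (44165, 44165)) (.leaf (35069, 36033))) (.node (.leaf (60624, 51428)) (.leaf (34944, 34944))))) (.node (.node (.node (.leaf (40093, 21740)) (.leaf (30852, 62712))) (.node (.leaf (47352, 28841)) (.leaf (34944, 34944)))) (.node (.node (.leaf (60653, 52421)) (.leaf (51401, 59632))) (.node (.leaf (48264, 28901)) (.leaf (34944, 34944))))))) (.node (.node (.node (.node (.node (.leaf (48257, 20725)) (.leaf (31992, 61604))) (.node (.leaf (30897, 53465)) (.leaf (34944, 34944)))) (.node (.node (.leaf (44284, 36052)) (.leaf (60564,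 60564))) (.node (.leaf (29888, 39077)) (.leaf (34944, 34944))))) (.node (.node (.node (.leaf (35037, 36065)) (.leaf (40128, 20621))) (.node (.leaf (44200, 43173)) (.leaf (34944, 34944)))) (.node (.node (.leaf (44280, 43204)) (.leaf (44173, 35973))) (.node (.leaf (34965, 44161)) (.leaf (34944, 34944)))))) (.node (.node (.node (.node (.leaf (36020, 44220)) (.leaf (31917, 54469))) (.node (.leaf (44241, 35060)) (.leaf (34944, 34944)))) (.node (.node (.leaf (48376, 28836)) (.leaf (20688, 39073))) (.node (.leaf (43249, 35033)) (.leaf (34944, 34944))))) (.node (.node (.node (.leaf (29901, 40101)) (.leaf (43221, 44265))) (.node (.leaf (22764, 54448)) (.leaf (34944, 34944)))) (.node (.node (.leaf (48328, 28805)) (.leaf (39120, 20609))) (.node (.leaf (35017, 43248)) (.leaf (34944, 34944)))))))) (.node (.node (.node (.node (.node (.node (.leaf (28884, 48313)) (.leaf (54404, 31965))) (.node (.leaf (36081, 35036)) (.leaf (34944, 34944)))) (.node (.node (.leaf (54401, 22749)) (.leaf (30876, 54521))) (.node (.leaf (40089, 28924)) (.leaf (34944,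 34944))))) (.node (.node (.node (.leaf (62592, 22725)) (.leaf (43157, 44169))) (.node (.leaf (62632, 30949)) (.leaf (34944, 34944)))) (.node (.node (.leaf (31960, 61572)) (.leaf (59561, 59576))) (.node (.leaf (30881, 53464)) (.leaf (34944, 34944)))))) (.node (.node (.node (.node (.leaf (22745, 61585)) (.leaf (62692, 31893))) (.node (.leaf (44233, 43253)) (.leaf (34944, 34944)))) (.node (.node (.leaf (44276, 44244)) (.leaf (62596, 31957))) (.node (.leaf (21681, 39164)) (.leaf (34944, 34944))))) (.node (.node (.node (.leaf (36061, 36076)) (.leaf (36001, 35005))) (.node (.leaf (40173, 21677)) (.leaf (34944, 34944)))) (.node (.node (.leaf (48329, 28821)) (.leaf (48288, 20677))) (.node (.leaf (47256, 28905)) (.leaf (34944, 34944))))))) (.node (.node (.node (.node (.node (.leaf (28801, 39128)) (.leaf (39153, 20657))) (.node (.leaf (59605, 60649)) (.leaf (34944, 34944)))) (.node (.node (.leaf (59624, 59592)) (.leaf (51417, 59633))) (.node (.leaf (54485, 31916)) (.leaf (34944, 34944))))) (.node (.node (.node (.leaf (52472, 59596)) (.leaf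 (43165, 35977))) (.node (.leaf (48333, 21637)) (.leaf (34944, 34944)))) (.node (.node (.leaf (36029, 36012)) (.leaf (51357, 52353))) (.node (.leaf (29912, 47268)) (.leaf (34944, 34944)))))) (.node (.node (.node (.node (.leaf (48360, 28837)) (.leaf (61572, 31960))) (.node (.leaf (36084, 44252)) (.leaf (34944, 34944)))) (.node (.node (.leaf (40153, 28828)) (.leaf (39149, 21664))) (.node (.leaf (54465, 22717)) (.leaf (34944, 34944))))) (.node (.node (.node (.leaf (40145, 20636)) (.leaf (20721, 39057))) (.node (.leaf (43208, 43240)) (.leaf (34944, 34944)))) (.node (.node (.leaf (21752, 47244)) (.leaf (39145, 28848))) (.node (.leaf (62669, 23717)) (.leaf (34944, 34944)))))))))) (.node (.node (.node (.node (.node (.node (.node (.node (.leaf (22656, 53472)) (.leaf (20713, 47248))) (.node (.leaf (40073, 28925)) (.leaf (34944, 34944)))) (.node (.node (.leaf (29884, 40180)) (.leaf (20680, 47264))) (.node (.leaf (31969, 53429)) (.leaf (34944, 34944))))) (.node (.node (.node (.leaf (35005, 36001)) (.leaf (61576, 30920))) (.node (.leaf (36040,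 43245)) (.leaf (34944, 34944)))) (.node (.node (.leaf (21724, 40124)) (.leaf (51381, 60577))) (.node (.leaf (48284, 21748)) (.leaf (34944, 34944)))))) (.node (.node (.node (.node (.leaf (31932, 54484)) (.leaf (39121, 20625))) (.node (.leaf (47304, 28808)) (.leaf (34944, 34944)))) (.node (.node (.leaf (54481, 22716)) (.leaf (35024, 35041))) (.node (.leaf (48368, 20644)) (.leaf (34944, 34944))))) (.node (.node (.node (.leaf (21737, 47261)) (.leaf (36016, 34988))) (.node (.leaf (28865, 39096)) (.leaf (34944, 34944)))) (.node (.node (.leaf (36064, 35021)) (.leaf (51332, 60560))) (.node (.leaf (53401, 30929)) (.leaf (34944, 34944))))))) (.node (.node (.node (.node (.node (.leaf (35064, 43201)) (.leaf (48260, 29941))) (.node (.leaf (54425, 30940)) (.leaf (34944, 34944)))) (.node (.node (.leaf (54524, 23708)) (.leaf (29828, 48341))) (.node (.leaf (30945, 53432)) (.leaf (34944, 34944))))) (.node (.node (.node (.leaf (48364, 21685)) (.leaf (59536, 51337))) (.node (.leaf (47300, 29848)) (.leaf (34944, 34944)))) (.node (.node (.leaf (61636,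 31928)) (.leaf (62681, 30900))) (.node (.leaf (61640, 30888)) (.leaf (34944, 34944)))))) (.node (.node (.node (.node (.leaf (29880, 47332)) (.leaf (36024, 43180))) (.node (.leaf (23689, 61693)) (.leaf (34944, 34944)))) (.node (.node (.leaf (48345, 28820)) (.leaf (31900, 54516))) (.node (.leaf (60612, 60661)) (.leaf (34944, 34944))))) (.node (.node (.node (.leaf (54492, 23740)) (.leaf (20669, 40161))) (.node (.leaf (53381, 31936)) (.leaf (34944, 34944)))) (.node (.node (.leaf (48365, 21669)) (.leaf (20697, 47281))) (.node (.leaf (35045, 44224)) (.leaf (34944, 34944)))))))) (.node (.node (.node (.node (.node (.node (.leaf (53484, 23696)) (.leaf (47260, 21753))) (.node (.leaf (60656, 51396)) (.leaf (34944, 34944)))) (.node (.node (.leaf (31973, 62629)) (.leaf (43257, 43225))) (.node (.leaf (40176, 20652)) (.leaf (34944, 34944))))) (.node (.node (.node (.leaf (47340, 21688)) (.leaf (30913, 53400))) (.node (.leaf (62700, 23701)) (.leaf (34944, 34944)))) (.node (.node (.leaf (28861, 40169)) (.leaf (47280, 20681))) (.node (.leaf (40149,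 29836)) (.leaf (34944, 34944)))))) (.node (.node (.node (.node (.leaf (22712, 61633)) (.leaf (62625, 22773))) (.node (.leaf (35068, 36049)) (.leaf (34944, 34944)))) (.node (.node (.leaf (23788, 54461)) (.leaf (20709, 48256))) (.node (.leaf (54489, 30908)) (.leaf (34944, 34944))))) (.node (.node (.node (.leaf (30920, 61576)) (.leaf (23749, 62605))) (.node (.leaf (22660, 62704)) (.leaf (34944, 34944)))) (.node (.node (.leaf (30853, 62696)) (.leaf (43168, 34984))) (.node (.leaf (59616, 51400)) (.leaf (34944, 34944))))))) (.node (.node (.node (.node (.node (.leaf (48348, 21652)) (.leaf (31996, 54452))) (.node (.leaf (47240, 28904)) (.leaf (34944, 34944)))) (.node (.node (.leaf (22665, 61680)) (.leaf (48276, 29940))) (.node (.leaf (29925, 48261)) (.leaf (34944, 34944))))) (.node (.node (.node (.leaf (52412, 52412)) (.leaf (62701, 23685))) (.node (.leaf (48352, 20645)) (.leaf (34944, 34944)))) (.node (.node (.leaf (53388, 23760)) (.leaf (61685, 31881))) (.node (.leaf (36032, 35053)) (.leaf (34944, 34944)))))) (.node (.node (.node (.node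 (.leaf (21676, 40189)) (.leaf (61657, 30905))) (.node (.leaf (28877, 40104)) (.leaf (34944, 34944)))) (.node (.node (.leaf (21636, 48349)) (.leaf (62629, 31973))) (.node (.leaf (43217, 35065)) (.leaf (34944, 34944))))) (.node (.node (.node (.leaf (21701, 48301)) (.leaf (51409, 51441))) (.node (.leaf (44277, 44228)) (.leaf (34944, 34944)))) (.node (.node (.leaf (53392, 22721)) (.leaf (51440, 51393))) (.node (.leaf (23789, 54445)) (.leaf (34944, 34944))))))))) (.node (.node (.node (.node (.node (.node (.node (.leaf (22716, 54481)) (.leaf (62656, 22693))) (.node (.leaf (61692, 23705)) (.leaf (34944, 34944)))) (.node (.node (.leaf (35993, 43164)) (.leaf (31989, 62628))) (.node (.leaf (59565, 52392)) (.leaf (34944, 34944))))) (.node (.node (.node (.leaf (28849, 39161)) (.leaf (43176, 43176))) (.node (.leaf (21672, 47341)) (.leaf (34944, 34944)))) (.node (.node (.leaf (52421, 60653)) (.leaf (62680, 30884))) (.node (.leaf (40144, 20620)) (.leaf (34944, 34944)))))) (.node (.node (.node (.node (.leaf (22717, 54465)) (.leaf (20705, 39056)))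 (.node (.leaf (28833, 39160)) (.leaf (34944, 34944)))) (.node (.node (.leaf (62676, 31924)) (.leaf (62608, 22724))) (.node (.leaf (47309, 21640)) (.leaf (34944, 34944))))) (.node (.node (.node (.leaf (60633, 59636)) (.leaf (30928, 53385))) (.node (.leaf (47281, 20697)) (.leaf (34944, 34944)))) (.node (.node (.leaf (36017, 35004)) (.leaf (51385, 59569))) (.node (.leaf (29909, 48292)) (.leaf (34944, 34944))))))) (.node (.node (.node (.node (.node (.leaf (60604, 52404)) (.leaf (39076, 29904))) (.node (.leaf (36085, 44236)) (.leaf (34944, 34944)))) (.node (.node (.leaf (44281, 43220)) (.leaf (48280, 28900))) (.node (.leaf (29836, 40149)) (.leaf (34944, 34944))))) (.node (.node (.node (.leaf (21693, 40172)) (.leaf (61596, 23769))) (.node (.leaf (62617, 30932)) (.leaf (34944, 34944)))) (.node (.node (.leaf (52401, 51388)) (.leaf (43233, 35032))) (.node (.leaf (60585, 59573)) (.leaf (34944, 34944)))))) (.node (.node (.node (.node (.leaf (22740, 62609)) (.leaf (28829, 40137))) (.node (.leaf (52361, 59549)) (.leaf (34944, 34944)))) (.node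 (.node (.leaf (28920, 47241)) (.leaf (39129, 28817))) (.node (.leaf (29833, 47317)) (.leaf (34944, 34944))))) (.node (.node (.node (.leaf (54436, 31997)) (.leaf (23801, 61628))) (.node (.leaf (62628, 31989)) (.leaf (34944, 34944)))) (.node (.node (.leaf (23748, 62621)) (.leaf (39088, 20673))) (.node (.leaf (44269, 36037)) (.leaf (34944, 34944)))))))) (.node (.node (.node (.node (.node (.node (.leaf (31872, 53477)) (.leaf (44261, 44229))) (.node (.leaf (36008, 43181)) (.leaf (34944, 34944)))) (.node (.node (.leaf (31933, 54468)) (.leaf (40080, 20716))) (.node (.leaf (21661, 40140)) (.leaf (34944, 34944))))) (.node (.node (.node (.leaf (47305, 28824)) (.leaf (54509, 23693))) (.node (.leaf (28841, 47352)) (.leaf (34944, 34944)))) (.node (.node (.leaf (34981, 44192)) (.leaf (30864, 53481))) (.node (.leaf (35057, 35025)) (.leaf (34944, 34944)))))) (.node (.node (.node (.node (.leaf (48313, 28884)) (.leaf (53456, 22689))) (.node (.leaf (39156, 29873)) (.leaf (34944, 34944)))) (.node (.node (.leaf (52396, 52413)) (.leaf (39117, 21632)))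 (.node (.leaf (61688, 30857)) (.leaf (34944, 34944))))) (.node (.node (.node (.leaf (22669, 54496)) (.leaf (61693, 23689))) (.node (.leaf (52373, 60556)) (.leaf (34944, 34944)))) (.node (.node (.leaf (30929, 53401)) (.leaf (51445, 60609))) (.node (.leaf (47292, 21721)) (.leaf (34944, 34944))))))) (.node (.node (.node (.node (.node (.leaf (31972, 62645)) (.leaf (40136, 28813))) (.node (.leaf (59641, 59609)) (.leaf (34944, 34944)))) (.node (.node (.leaf (23740, 54492)) (.leaf (20633, 47313))) (.node (.leaf (54437, 31981)) (.leaf (34944, 34944))))) (.node (.node (.node (.leaf (35065, 43217)) (.leaf (43169, 35000))) (.node (.leaf (60625, 51444)) (.leaf (34944, 34944)))) (.node (.node (.leaf (36069, 44237)) (.leaf (23696, 53484))) (.node (.leaf (35989, 44172)) (.leaf (34944, 34944)))))) (.node (.node (.node (.node (.leaf (60657, 51412)) (.leaf (30889, 61656))) (.node (.leaf (47245, 21736)) (.leaf (34944, 34944)))) (.node (.node (.leaf (52392, 59565)) (.leaf (20704, 39040))) (.node (.leaf (23709, 54508)) (.leaf (34944, 34944))))) (.node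 (.node (.node (.leaf (59644, 52441)) (.leaf (60560, 51332))) (.node (.leaf (53420, 23792)) (.leaf (34944, 34944)))) (.node (.node (.leaf (40076, 21757)) (.leaf (51352, 59521))) (.node (.leaf (22720, 53376)) (.leaf (34944, 34944))))))))))) (.node (.node (.node (.node (.node (.node (.node (.node (.node (.leaf (34996, 44209)) (.leaf (20657, 39153))) (.node (.leaf (61665, 22680)) (.leaf (34944, 34944)))) (.node (.node (.leaf (60581, 60581)) (.leaf (23685, 62701))) (.node (.leaf (47261, 21737)) (.leaf (34944, 34944))))) (.node (.node (.node (.leaf (31873, 53493)) (.leaf (21721, 47292))) (.node (.leaf (28876, 40120)) (.leaf (34944, 34944)))) (.node (.node (.leaf (61573, 31944)) (.leaf (51404, 52464))) (.node (.leaf (48272, 20708)) (.leaf (34944, 34944)))))) (.node (.node (.node (.node (.leaf (31928, 61636)) (.leaf (39053, 21728))) (.node (.leaf (44213, 44196)) (.leaf (34944, 34944)))) (.node (.node (.leaf (59564, 52408)) (.leaf (22680, 61665))) (.node (.leaf (43229, 36073)) (.leaf (34944, 34944))))) (.node (.node (.node (.leaf (59556,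 60600)) (.leaf (54416, 22732))) (.node (.leaf (28845, 40168)) (.leaf (34944, 34944)))) (.node (.node (.leaf (29853, 40132)) (.leaf (35996, 35996))) (.node (.leaf (43241, 43224)) (.leaf (34944, 34944))))))) (.node (.node (.node (.node (.node (.leaf (40064, 20717)) (.leaf (44257, 35029))) (.node (.leaf (29857, 39157)) (.leaf (34944, 34944)))) (.node (.node (.leaf (54513, 22684)) (.leaf (61601, 22776))) (.node (.leaf (52452, 60637)) (.leaf (34944, 34944))))) (.node (.node (.node (.leaf (22780, 54449)) (.leaf (31885, 54501))) (.node (.leaf (20700, 40113)) (.leaf (34944, 34944)))) (.node (.node (.leaf (21712, 39084)) (.leaf (43200, 35048))) (.node (.leaf (22697, 61648)) (.leaf (34944, 34944)))))) (.node (.node (.node (.node (.leaf (60557, 52357)) (.leaf (36065, 35037))) (.node (.leaf (59613, 52457)) (.leaf (34944, 34944)))) (.node (.node (.leaf (48340, 29844)) (.leaf (44229, 44261))) (.node (.leaf (51436, 52432)) (.leaf (34944, 34944))))) (.node (.node (.node (.leaf (29924, 48277)) (.leaf (23744, 53389))) (.node (.leaf (61617, 22777))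 (.leaf (34944, 34944)))) (.node (.node (.leaf (47332, 29880)) (.leaf (39056, 20705))) (.node (.leaf (53424, 22753)) (.leaf (34944, 34944)))))))) (.node (.node (.node (.node (.node (.node (.leaf (48308, 29908)) (.leaf (39097, 28881))) (.node (.leaf (60568, 59524)) (.leaf (34944, 34944)))) (.node (.node (.leaf (47349, 29865)) (.leaf (52445, 52460))) (.node (.leaf (40092, 21756)) (.leaf (34944, 34944))))) (.node (.node (.node (.leaf (54456, 30956)) (.leaf (44224, 35045))) (.node (.leaf (39092, 29905)) (.leaf (34944, 34944)))) (.node (.node (.leaf (35052, 36048)) (.leaf (53449, 30896))) (.node (.leaf (30937, 61593)) (.leaf (34944, 34944)))))) (.node (.node (.node (.node (.leaf (61568, 22728)) (.leaf (39113, 28816))) (.node (.leaf (20692, 48305)) (.leaf (34944, 34944)))) (.node (.node (.leaf (59625, 59608)) (.leaf (53413, 31968))) (.node (.leaf (29929, 47253)) (.leaf (34944, 34944))))) (.node (.node (.node (.leaf (53429, 31969)) (.leaf (29840, 39108))) (.node (.leaf (61677, 23688)) (.leaf (34944, 34944)))) (.node (.node (.leaf (53480,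 30848)) (.leaf (20645, 48352))) (.node (.leaf (21660, 40156)) (.leaf (34944, 34944))))))) (.node (.node (.node (.node (.node (.leaf (22700, 54480)) (.leaf (39080, 28864))) (.node (.leaf (31965, 54404)) (.leaf (34944, 34944)))) (.node (.node (.leaf (44169, 43157)) (.leaf (36093, 36044))) (.node (.leaf (30909, 54473)) (.leaf (34944, 34944))))) (.node (.node (.node (.leaf (40069, 29933)) (.leaf (61593, 30937))) (.node (.leaf (21668, 48381)) (.leaf (34944, 34944)))) (.node (.node (.leaf (36073, 43229)) (.leaf (34968, 43137))) (.node (.leaf (29872, 39140)) (.leaf (34944, 34944)))))) (.node (.node (.node (.node (.leaf (35020, 36080)) (.leaf (52416, 51437))) (.node (.leaf (48305, 20692)) (.leaf (34944, 34944)))) (.node (.node (.leaf (35041, 35024)) (.leaf (20717, 40064))) (.node (.leaf (30912, 53384)) (.leaf (34944, 34944))))) (.node (.node (.node (.leaf (59609, 59641)) (.leaf (51337, 59536))) (.node (.leaf (29928, 47237)) (.leaf (34944, 34944)))) (.node (.node (.leaf (40100, 29917)) (.leaf (51421, 52449))) (.node (.leaf (62717, 23684))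 (.leaf (34944, 34944))))))))) (.node (.node (.node (.node (.node (.node (.node (.leaf (28800, 39112)) (.leaf (62697, 30869))) (.node (.leaf (21673, 47357)) (.leaf (34944, 34944)))) (.node (.node (.leaf (30964, 62649)) (.leaf (47244, 21752))) (.node (.leaf (59557, 60584)) (.leaf (34944, 34944))))) (.node (.node (.node (.leaf (31961, 61588)) (.leaf (43201, 35064))) (.node (.leaf (39112, 28800)) (.leaf (34944, 34944)))) (.node (.node (.leaf (30936, 61577)) (.leaf (39073, 20688))) (.node (.leaf (21697, 39101)) (.leaf (34944, 34944)))))) (.node (.node (.node (.node (.leaf (35048, 43200)) (.leaf (20665, 47345))) (.node (.leaf (22781, 54433)) (.leaf (34944, 34944)))) (.node (.node (.leaf (62648, 30948)) (.leaf (54420, 31964))) (.node (.leaf (23697, 53500)) (.leaf (34944, 34944))))) (.node (.node (.node (.leaf (40177, 20668)) (.leaf (53453, 23712))) (.node (.leaf (31893, 62692)) (.leaf (34944, 34944)))) (.node (.node (.leaf (30861, 54504)) (.leaf (36037, 44269))) (.node (.leaf (30860, 54520)) (.leaf (34944, 34944))))))) (.node (.node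 (.node (.node (.node (.leaf (48269, 21733)) (.leaf (53405, 23745))) (.node (.leaf (36092, 36060)) (.leaf (34944, 34944)))) (.node (.node (.leaf (62660, 31925)) (.leaf (22777, 61617))) (.node (.leaf (36053, 44268)) (.leaf (34944, 34944))))) (.node (.node (.node (.leaf (28844, 40184)) (.leaf (22749, 54401))) (.node (.leaf (62708, 31892)) (.leaf (34944, 34944)))) (.node (.node (.leaf (61597, 23753)) (.leaf (62688, 22661))) (.node (.leaf (60608, 51429)) (.leaf (34944, 34944)))))) (.node (.node (.node (.node (.leaf (60648, 59589)) (.leaf (35040, 35008))) (.node (.leaf (62601, 30933)) (.leaf (34944, 34944)))) (.node (.node (.leaf (48296, 28869)) (.leaf (20677, 48288))) (.node (.leaf (20684, 40112)) (.leaf (34944, 34944))))) (.node (.node (.node (.leaf (29864, 47333)) (.leaf (51341, 52352))) (.node (.leaf (21709, 40109)) (.leaf (34944, 34944)))) (.node (.node (.leaf (54520, 30860)) (.leaf (62624, 22757))) (.node (.leaf (54480, 22700)) (.leaf (34944, 34944)))))))) (.node (.node (.node (.node (.node (.node (.leaf (47232, 20712)) (.leaf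 (20617, 47312))) (.node (.leaf (29896, 47269)) (.leaf (34944, 34944)))) (.node (.node (.leaf (31929, 61652)) (.leaf (44240, 35044))) (.node (.leaf (21684, 48380)) (.leaf (34944, 34944))))) (.node (.node (.node (.leaf (44252, 36084)) (.leaf (35013, 44256))) (.node (.leaf (52433, 51452)) (.leaf (34944, 34944)))) (.node (.node (.leaf (35012, 44272)) (.leaf (21705, 47293))) (.node (.leaf (61577, 30936)) (.leaf (34944, 34944)))))) (.node (.node (.node (.node (.leaf (40104, 28877)) (.leaf (29876, 48372))) (.node (.leaf (44192, 34981)) (.leaf (34944, 34944)))) (.node (.node (.leaf (62668, 23733)) (.leaf (39093, 29889))) (.node (.leaf (60613, 60645)) (.leaf (34944, 34944))))) (.node (.node (.node (.leaf (60593, 51380)) (.leaf (43140, 44184))) (.node (.leaf (21729, 39069)) (.leaf (34944, 34944)))) (.node (.node (.leaf (48292, 29909)) (.leaf (23712, 53453))) (.node (.leaf (44285, 36036)) (.leaf (34944, 34944))))))) (.node (.node (.node (.node (.node (.leaf (47348, 29881)) (.leaf (62613, 31940))) (.node (.leaf (23681, 53501)) (.leaf (34944,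 34944)))) (.node (.node (.leaf (23764, 62620)) (.leaf (43205, 44264))) (.node (.leaf (29865, 47349)) (.leaf (34944, 34944))))) (.node (.node (.node (.leaf (61672, 30856)) (.leaf (30900, 62681))) (.node (.leaf (48320, 20613)) (.leaf (34944, 34944)))) (.node (.node (.leaf (29941, 48260)) (.leaf (43156, 44185))) (.node (.leaf (29936, 39044)) (.leaf (34944, 34944)))))) (.node (.node (.node (.node (.leaf (60569, 59540)) (.leaf (30933, 62601))) (.node (.leaf (20708, 48272)) (.leaf (34944, 34944)))) (.node (.node (.leaf (52417, 51453)) (.leaf (53380, 31952))) (.node (.leaf (23800, 61612)) (.leaf (34944, 34944))))) (.node (.node (.node (.leaf (40124, 21724)) (.leaf (30857, 61688))) (.node (.leaf (40161, 20669)) (.leaf (34944, 34944)))) (.node (.node (.leaf (21757, 40076)) (.leaf (51348, 60561))) (.node (.leaf (52397, 52397)) (.leaf (34944, 34944)))))))))) (.node (.node (.node (.node (.node (.node (.node (.node (.leaf (48256, 20709)) (.leaf (35008, 35040))) (.node (.leaf (59585, 51448)) (.leaf (34944, 34944)))) (.node (.node (.leaf (36044,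 36093)) (.leaf (20637, 40129))) (.node (.leaf (28813, 40136)) (.leaf (34944, 34944))))) (.node (.node (.node (.leaf (54468, 31933)) (.leaf (59569, 51385))) (.node (.leaf (20648, 47328)) (.leaf (34944, 34944)))) (.node (.node (.leaf (21748, 48284)) (.leaf (31888, 53476))) (.node (.leaf (28864, 39080)) (.leaf (34944, 34944)))))) (.node (.node (.node (.node (.leaf (28900, 48280)) (.leaf (39160, 28833))) (.node (.leaf (47269, 29896)) (.leaf (34944, 34944)))) (.node (.node (.leaf (44268, 36053)) (.leaf (54473, 30909))) (.node (.leaf (43204, 44280)) (.leaf (34944, 34944))))) (.node (.node (.node (.leaf (21740, 40093)) (.leaf (22704, 53441))) (.node (.leaf (28836, 48376)) (.leaf (34944, 34944)))) (.node (.node (.leaf (54417, 22748)) (.leaf (51408, 51425))) (.node (.leaf (23705, 61692)) (.leaf (34944, 34944))))))) (.node (.node (.node (.node (.node (.leaf (21736, 47245)) (.leaf (53437, 23777))) (.node (.leaf (60561, 51348)) (.leaf (34944, 34944)))) (.node (.node (.leaf (47257, 28921)) (.leaf (36080, 35020))) (.node (.leaf (34964, 44177))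 (.leaf (34944, 34944))))) (.node (.node (.node (.leaf (48332, 21653)) (.leaf (59544, 59529))) (.node (.leaf (44225, 35061)) (.leaf (34944, 34944)))) (.node (.node (.leaf (22748, 54417)) (.leaf (59532, 52376))) (.node (.leaf (40097, 20701)) (.leaf (34944, 34944)))))) (.node (.node (.node (.node (.leaf (29916, 40116)) (.leaf (60573, 52356))) (.node (.leaf (59633, 51417)) (.leaf (34944, 34944)))) (.node (.node (.leaf (48373, 29860)) (.leaf (20616, 47296))) (.node (.leaf (43161, 43161)) (.leaf (34944, 34944))))) (.node (.node (.node (.leaf (54484, 31932)) (.leaf (29844, 48340))) (.node (.leaf (59525, 60552)) (.leaf (34944, 34944)))) (.node (.node (.leaf (43236, 44248)) (.leaf (20624, 39105))) (.node (.leaf (54412, 23773)) (.leaf (34944, 34944)))))))) (.node (.node (.node (.node (.node (.node (.leaf (34997, 44193)) (.leaf (35053, 36032))) (.node (.leaf (29829, 48325)) (.leaf (34944, 34944)))) (.node (.node (.leaf (34952, 43136)) (.leaf (61669, 31880))) (.node (.leaf (52449, 51421)) (.leaf (34944, 34944))))) (.node (.node (.node (.leaf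 (44248, 43236)) (.leaf (43260, 36057))) (.node (.leaf (62661, 31909)) (.leaf (34944, 34944)))) (.node (.node (.leaf (47272, 28872)) (.leaf (53408, 22752))) (.node (.leaf (34992, 34977)) (.leaf (34944, 34944)))))) (.node (.node (.node (.node (.leaf (59592, 59624)) (.leaf (62600, 30917))) (.node (.leaf (54421, 31948)) (.leaf (34944, 34944)))) (.node (.node (.leaf (59588, 60664)) (.leaf (20649, 47344))) (.node (.leaf (35001, 43185)) (.leaf (34944, 34944))))) (.node (.node (.node (.leaf (36052, 44284)) (.leaf (34985, 43184))) (.node (.leaf (61621, 31977)) (.leaf (34944, 34944)))) (.node (.node (.leaf (51328, 51328)) (.leaf (61588, 31961))) (.node (.leaf (23781, 62637)) (.leaf (34944, 34944))))))) (.node (.node (.node (.node (.node (.leaf (48337, 20628)) (.leaf (20625, 39121))) (.node (.leaf (31880, 61669)) (.leaf (34944, 34944)))) (.node (.node (.leaf (48265, 28917)) (.leaf (48277, 29924))) (.node (.leaf (54493, 23724)) (.leaf (34944, 34944))))) (.node (.node (.node (.leaf (61620, 31993)) (.leaf (22685, 54497))) (.node (.leaf (60665,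 59604)) (.leaf (34944, 34944)))) (.node (.node (.leaf (30849, 53496)) (.leaf (62665, 30901))) (.node (.leaf (48261, 29925)) (.leaf (34944, 34944)))))) (.node (.node (.node (.node (.leaf (48357, 29861)) (.leaf (52356, 60573))) (.node (.leaf (28840, 47336)) (.leaf (34944, 34944)))) (.node (.node (.leaf (40117, 29900)) (.leaf (39101, 21697))) (.node (.leaf (43192, 43177)) (.leaf (34944, 34944))))) (.node (.node (.node (.leaf (21696, 39085)) (.leaf (51345, 51345))) (.node (.leaf (30972, 54457)) (.leaf (34944, 34944)))) (.node (.node (.leaf (28921, 47257)) (.leaf (51405, 52448))) (.node (.leaf (47248, 20713)) (.leaf (34944, 34944))))))))) (.node (.node (.node (.node (.node (.node (.node (.leaf (22744, 61569)) (.leaf (47344, 20649))) (.node (.leaf (22677, 62689)) (.leaf (34944, 34944)))) (.node (.node (.leaf (29873, 39156)) (.leaf (28828, 40153))) (.node (.leaf (28825, 47321)) (.leaf (34944, 34944))))) (.node (.node (.node (.leaf (53385, 30928)) (.leaf (43213, 36072))) (.node (.leaf (62597, 31941)) (.leaf (34944, 34944)))) (.node (.node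 (.leaf (61660, 23737)) (.leaf (51433, 59600))) (.node (.leaf (22733, 54400)) (.leaf (34944, 34944)))))) (.node (.node (.node (.node (.leaf (40156, 21660)) (.leaf (62605, 23749))) (.node (.leaf (35025, 35057)) (.leaf (34944, 34944)))) (.node (.node (.leaf (62716, 23700)) (.leaf (23688, 61677))) (.node (.leaf (48341, 29828)) (.leaf (34944, 34944))))) (.node (.node (.node (.leaf (29825, 39125)) (.leaf (54501, 31885))) (.node (.leaf (31937, 53397)) (.leaf (34944, 34944)))) (.node (.node (.leaf (34957, 35968)) (.leaf (51424, 51392))) (.node (.leaf (36041, 43261)) (.leaf (34944, 34944))))))) (.node (.node (.node (.node (.node (.leaf (60628, 60660)) (.leaf (20621, 40128))) (.node (.leaf (21665, 39165)) (.leaf (34944, 34944)))) (.node (.node (.leaf (47293, 21705)) (.leaf (30872, 61673))) (.node (.leaf (35980, 35997)) (.leaf (34944, 34944))))) (.node (.node (.node (.leaf (21689, 47356)) (.leaf (52400, 51372))) (.node (.leaf (44228, 44277)) (.leaf (34944, 34944)))) (.node (.node (.leaf (61633, 22712)) (.leaf (51349, 60545))) (.node (.leaf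 (29949, 40068)) (.leaf (34944, 34944)))))) (.node (.node (.node (.node (.leaf (22773, 62625)) (.leaf (59576, 59561))) (.node (.leaf (28853, 48361)) (.leaf (34944, 34944)))) (.node (.node (.leaf (47308, 21656)) (.leaf (39152, 20641))) (.node (.leaf (20676, 48304)) (.leaf (34944, 34944))))) (.node (.node (.node (.leaf (35060, 44241)) (.leaf (21640, 47309))) (.node (.leaf (30952, 61608)) (.leaf (34944, 34944)))) (.node (.node (.leaf (60641, 51413)) (.leaf (39136, 20640))) (.node (.leaf (44164, 44181)) (.leaf (34944, 34944)))))))) (.node (.node (.node (.node (.node (.node (.leaf (35004, 36017)) (.leaf (28812, 40152))) (.node (.leaf (48316, 21716)) (.leaf (34944, 34944)))) (.node (.node (.leaf (28901, 48264)) (.leaf (40084, 29948))) (.node (.leaf (44189, 35972)) (.leaf (34944, 34944))))) (.node (.node (.node (.leaf (47268, 29912)) (.leaf (28889, 47289))) (.node (.leaf (23737, 61660)) (.leaf (34944, 34944)))) (.node (.node (.leaf (28868, 48312)) (.leaf (43253, 44233))) (.node (.leaf (40141, 21645)) (.leaf (34944, 34944)))))) (.node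 (.node (.node (.node (.leaf (48309, 29892)) (.leaf (60552, 59525))) (.node (.leaf (52369, 51356)) (.leaf (34944, 34944)))) (.node (.node (.leaf (28897, 39064)) (.leaf (23760, 53388))) (.node (.leaf (51432, 59584)) (.leaf (34944, 34944))))) (.node (.node (.node (.leaf (30904, 61641)) (.leaf (51428, 60624))) (.node (.leaf (43212, 36088)) (.leaf (34944, 34944)))) (.node (.node (.leaf (54500, 31901)) (.leaf (20632, 47297))) (.node (.leaf (47312, 20617)) (.leaf (34944, 34944))))))) (.node (.node (.node (.node (.node (.leaf (34953, 43152)) (.leaf (62653, 23780))) (.node (.leaf (54505, 30877)) (.leaf (34944, 34944)))) (.node (.node (.leaf (23768, 61580)) (.leaf (23772, 54428))) (.node (.leaf (22761, 61616)) (.leaf (34944, 34944))))) (.node (.node (.node (.leaf (28904, 47240)) (.leaf (59540, 60569))) (.node (.leaf (53448, 30880)) (.leaf (34944, 34944)))) (.node (.node (.leaf (48353, 20661)) (.leaf (43160, 43145))) (.node (.leaf (35000, 43169)) (.leaf (34944, 34944)))))) (.node (.node (.node (.node (.leaf (28885, 48297)) (.leaf (30880,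 53448))) (.node (.leaf (20668, 40177)) (.leaf (34944, 34944)))) (.node (.node (.leaf (30892, 54488)) (.leaf (39069, 21729))) (.node (.leaf (59560, 59560)) (.leaf (34944, 34944))))) (.node (.node (.node (.leaf (21649, 39132)) (.leaf (51389, 52385))) (.node (.leaf (47325, 21641)) (.leaf (34944, 34944)))) (.node (.node (.leaf (40160, 20653)) (.leaf (20640, 39136))) (.node (.leaf (28824, 47305)) (.leaf (34944, 34944)))))))))))) (.node (.node (.node (.node (.node (.node (.node (.node (.node (.node (.leaf (53376, 22720)) (.leaf (23692, 54525))) (.node (.leaf (52465, 51420)) (.leaf (34944, 34944)))) (.node (.node (.leaf (48349, 21636)) (.leaf (51384, 59553))) (.node (.leaf (35056, 35009)) (.leaf (34944, 34944))))) (.node (.node (.node (.leaf (28857, 47353)) (.leaf (43189, 44201))) (.node (.leaf (35061, 44225)) (.leaf (34944, 34944)))) (.node (.node (.leaf (40113, 20700)) (.leaf (39137, 20656))) (.node (.leaf (22765, 54432)) (.leaf (34944, 34944)))))) (.node (.node (.node (.node (.leaf (47320, 28809)) (.leaf (54405, 31949))) (.node (.leaf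 (62593, 22741)) (.leaf (34944, 34944)))) (.node (.node (.leaf (35016, 43232)) (.leaf (40088, 28908))) (.node (.leaf (43185, 35001)) (.leaf (34944, 34944))))) (.node (.node (.node (.leaf (34961, 34961)) (.leaf (29852, 40148))) (.node (.leaf (48285, 21732)) (.leaf (34944, 34944)))) (.node (.node (.leaf (48324, 29845)) (.leaf (20725, 48257))) (.node (.leaf (30960, 53417)) (.leaf (34944, 34944))))))) (.node (.node (.node (.node (.node (.leaf (21692, 40188)) (.leaf (62709, 31876))) (.node (.leaf (48281, 28916)) (.leaf (34944, 34944)))) (.node (.node (.leaf (59617, 51416)) (.leaf (61680, 22665))) (.node (.leaf (52364, 52381)) (.leaf (34944, 34944))))) (.node (.node (.node (.leaf (31953, 53396)) (.leaf (47328, 20648))) (.node (.leaf (23761, 53404)) (.leaf (34944, 34944)))) (.node (.node (.leaf (40105, 28893)) (.leaf (30868, 62713))) (.node (.leaf (40137, 28829)) (.leaf (34944, 34944)))))) (.node (.node (.node (.node (.leaf (36072, 43213)) (.leaf (29937, 39060))) (.node (.leaf (47273, 28888)) (.leaf (34944, 34944)))) (.node (.node (.leaf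 (22692, 62672)) (.leaf (62640, 22756))) (.node (.leaf (51388, 52401)) (.leaf (34944, 34944))))) (.node (.node (.node (.leaf (48380, 21684)) (.leaf (51444, 60625))) (.node (.leaf (52409, 59580)) (.leaf (34944, 34944)))) (.node (.node (.leaf (54508, 23709)) (.leaf (20733, 40065))) (.node (.leaf (22664, 61664)) (.leaf (34944, 34944)))))))) (.node (.node (.node (.node (.node (.node (.leaf (60544, 51333)) (.leaf (39057, 20721))) (.node (.leaf (29893, 48293)) (.leaf (34944, 34944)))) (.node (.node (.leaf (22689, 53456)) (.leaf (52376, 59532))) (.node (.leaf (21741, 40077)) (.leaf (34944, 34944))))) (.node (.node (.node (.leaf (23680, 53485)) (.leaf (62645, 31972))) (.node (.leaf (39096, 28865)) (.leaf (34944, 34944)))) (.node (.node (.leaf (53496, 30849)) (.leaf (39044, 29936))) (.node (.leaf (61580, 23768)) (.leaf (34944, 34944)))))) (.node (.node (.node (.node (.leaf (40116, 29916)) (.leaf (39108, 29840))) (.node (.leaf (23769, 61596)) (.leaf (34944, 34944)))) (.node (.node (.leaf (47324, 21657)) (.leaf (31941, 62597))) (.node (.leaf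 (48369, 20660)) (.leaf (34944, 34944))))) (.node (.node (.node (.leaf (60629, 60644)) (.leaf (30969, 61625))) (.node (.leaf (40169, 28861)) (.leaf (34944, 34944)))) (.node (.node (.leaf (60664, 59588)) (.leaf (61600, 22760))) (.node (.leaf (34972, 35985)) (.leaf (34944, 34944))))))) (.node (.node (.node (.node (.node (.leaf (21700, 48317)) (.leaf (39128, 28801))) (.node (.leaf (47277, 21704)) (.leaf (34944, 34944)))) (.node (.node (.leaf (31921, 53460)) (.leaf (29933, 40069))) (.node (.leaf (43137, 34968)) (.leaf (34944, 34944))))) (.node (.node (.node (.leaf (61676, 23704)) (.leaf (34976, 34976))) (.node (.leaf (22681, 61681)) (.leaf (34944, 34944)))) (.node (.node (.leaf (60645, 60613)) (.leaf (44256, 35013))) (.node (.leaf (35984, 34956)) (.leaf (34944, 34944)))))) (.node (.node (.node (.node (.leaf (21756, 40092)) (.leaf (53400, 30913))) (.node (.leaf (22737, 53393)) (.leaf (34944, 34944)))) (.node (.node (.leaf (28913, 39065)) (.leaf (31949, 54405))) (.node (.leaf (43197, 36009)) (.leaf (34944, 34944))))) (.node (.node (.node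 (.leaf (53417, 30960)) (.leaf (51333, 60544))) (.node (.leaf (30948, 62648)) (.leaf (34944, 34944)))) (.node (.node (.leaf (21720, 47276)) (.leaf (62620, 23764))) (.node (.leaf (52405, 60588)) (.leaf (34944, 34944))))))))) (.node (.node (.node (.node (.node (.node (.node (.leaf (59572, 60601)) (.leaf (39100, 21713))) (.node (.leaf (40081, 20732)) (.leaf (34944, 34944)))) (.node (.node (.leaf (29948, 40084)) (.leaf (53404, 23761))) (.node (.leaf (34960, 34945)) (.leaf (34944, 34944))))) (.node (.node (.node (.leaf (44196, 44213)) (.leaf (62621, 23748))) (.node (.leaf (62657, 22709)) (.leaf (34944, 34944)))) (.node (.node (.leaf (61581, 23752)) (.leaf (36000, 34989))) (.node (.leaf (35029, 44257)) (.leaf (34944, 34944)))))) (.node (.node (.node (.node (.leaf (53500, 23697)) (.leaf (23684, 62717))) (.node (.leaf (31952, 53380)) (.leaf (34944, 34944)))) (.node (.node (.leaf (28805, 48328)) (.leaf (23757, 54413))) (.node (.leaf (20728, 47233)) (.leaf (34944, 34944))))) (.node (.node (.node (.leaf (61608, 30952)) (.leaf (51329, 51344)))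 (.node (.leaf (47253, 29929)) (.leaf (34944, 34944)))) (.node (.node (.leaf (29877, 48356)) (.leaf (20720, 39041))) (.node (.leaf (30856, 61672)) (.leaf (34944, 34944))))))) (.node (.node (.node (.node (.node (.leaf (60632, 59620)) (.leaf (31912, 61637))) (.node (.leaf (29932, 40085)) (.leaf (34944, 34944)))) (.node (.node (.leaf (31968, 53413)) (.leaf (36009, 43197))) (.node (.leaf (29861, 48357)) (.leaf (34944, 34944))))) (.node (.node (.node (.leaf (59608, 59625)) (.leaf (40109, 21709))) (.node (.leaf (28888, 47273)) (.leaf (34944, 34944)))) (.node (.node (.leaf (52381, 52364)) (.leaf (51453, 52417))) (.node (.leaf (29885, 40164)) (.leaf (34944, 34944)))))) (.node (.node (.node (.node (.leaf (29940, 48276)) (.leaf (28912, 39049))) (.node (.leaf (31884, 54517)) (.leaf (34944, 34944)))) (.node (.node (.leaf (53393, 22737)) (.leaf (20672, 39072))) (.node (.leaf (23745, 53405)) (.leaf (34944, 34944))))) (.node (.node (.node (.leaf (30916, 62616)) (.leaf (43193, 43193))) (.node (.leaf (62684, 23732)) (.leaf (34944, 34944)))) (.node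 (.node (.leaf (29841, 39124)) (.leaf (39161, 28849))) (.node (.leaf (23721, 61661)) (.leaf (34944, 34944)))))))) (.node (.node (.node (.node (.node (.node (.leaf (59529, 59544)) (.leaf (23733, 62668))) (.node (.leaf (36088, 43212)) (.leaf (34944, 34944)))) (.node (.node (.leaf (47321, 28825)) (.leaf (21664, 39149))) (.node (.leaf (61612, 23800)) (.leaf (34944, 34944))))) (.node (.node (.node (.leaf (44212, 44212)) (.leaf (53397, 31937))) (.node (.leaf (52440, 59628)) (.leaf (34944, 34944)))) (.node (.node (.leaf (28852, 48377)) (.leaf (59524, 60568))) (.node (.leaf (52448, 51405)) (.leaf (34944, 34944)))))) (.node (.node (.node (.node (.leaf (21716, 48316)) (.leaf (47252, 29945))) (.node (.leaf (52428, 52477)) (.leaf (34944, 34944)))) (.node (.node (.leaf (31976, 61605)) (.leaf (44208, 34980))) (.node (.leaf (21685, 48364)) (.leaf (34944, 34944))))) (.node (.node (.node (.leaf (29837, 40133)) (.leaf (22769, 53425))) (.node (.leaf (61673, 30872)) (.leaf (34944, 34944)))) (.node (.node (.leaf (53452, 23728)) (.leaf (23704, 61676)))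 (.node (.leaf (54445, 23789)) (.leaf (34944, 34944))))))) (.node (.node (.node (.node (.node (.leaf (59581, 52393)) (.leaf (31948, 54421))) (.node (.leaf (54453, 31980)) (.leaf (34944, 34944)))) (.node (.node (.leaf (35044, 44240)) (.leaf (53421, 23776))) (.node (.leaf (30917, 62600)) (.leaf (34944, 34944))))) (.node (.node (.node (.leaf (40172, 21693)) (.leaf (21644, 40157))) (.node (.leaf (60597, 60580)) (.leaf (34944, 34944)))) (.node (.node (.leaf (36021, 44204)) (.leaf (43220, 44281))) (.node (.leaf (36036, 44285)) (.leaf (34944, 34944)))))) (.node (.node (.node (.node (.leaf (29892, 48309)) (.leaf (34948, 44176))) (.node (.leaf (23784, 61613)) (.leaf (34944, 34944)))) (.node (.node (.leaf (22713, 61649)) (.leaf (39109, 29824))) (.node (.leaf (60636, 52468)) (.leaf (34944, 34944))))) (.node (.node (.node (.leaf (61652, 31929)) (.leaf (20644, 48368))) (.node (.leaf (30869, 62697)) (.leaf (34944, 34944)))) (.node (.node (.leaf (40165, 29869)) (.leaf (51369, 59568))) (.node (.leaf (44184, 43140)) (.leaf (34944, 34944))))))))))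 (.node (.node (.node (.node (.node (.node (.node (.node (.leaf (53432, 30945)) (.leaf (20716, 40080))) (.node (.leaf (61628, 23801)) (.leaf (34944, 34944)))) (.node (.node (.leaf (60609, 51445)) (.leaf (20685, 40096))) (.node (.leaf (47316, 29849)) (.leaf (34944, 34944))))) (.node (.node (.node (.leaf (47297, 20632)) (.leaf (30941, 54409))) (.node (.leaf (23701, 62700)) (.leaf (34944, 34944)))) (.node (.node (.leaf (44220, 36020)) (.leaf (39104, 20608))) (.node (.leaf (47289, 28889)) (.leaf (34944, 34944)))))) (.node (.node (.node (.node (.leaf (47356, 21689)) (.leaf (39157, 29857))) (.node (.leaf (54477, 23725)) (.leaf (34944, 34944)))) (.node (.node (.leaf (62712, 30852)) (.leaf (23728, 53452))) (.node (.leaf (53492, 31889)) (.leaf (34944, 34944))))) (.node (.node (.node (.leaf (40180, 29884)) (.leaf (34956, 35984))) (.node (.leaf (31944, 61573)) (.leaf (34944, 34944)))) (.node (.node (.leaf (23752, 61581)) (.leaf (51340, 52368))) (.node (.leaf (30885, 62664)) (.leaf (34944, 34944))))))) (.node (.node (.node (.node (.node (.leaf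 (22756, 62640)) (.leaf (60637, 52452))) (.node (.leaf (36013, 36013)) (.leaf (34944, 34944)))) (.node (.node (.leaf (59596, 52472)) (.leaf (29920, 39045))) (.node (.leaf (61689, 30873)) (.leaf (34944, 34944))))) (.node (.node (.node (.leaf (53445, 31904)) (.leaf (28869, 48296))) (.node (.leaf (62644, 31988)) (.leaf (34944, 34944)))) (.node (.node (.leaf (40108, 21725)) (.leaf (43261, 36041))) (.node (.leaf (61637, 31912)) (.leaf (34944, 34944)))))) (.node (.node (.node (.node (.leaf (30848, 53480)) (.leaf (48293, 29893))) (.node (.leaf (54449, 22780)) (.leaf (34944, 34944)))) (.node (.node (.leaf (53501, 23681)) (.leaf (20620, 40144))) (.node (.leaf (61644, 23736)) (.leaf (34944, 34944))))) (.node (.node (.node (.leaf (35977, 43165)) (.leaf (47353, 28857))) (.node (.leaf (34993, 34993)) (.leaf (34944, 34944)))) (.node (.node (.leaf (30973, 54441)) (.leaf (20628, 48337))) (.node (.leaf (23765, 62604)) (.leaf (34944, 34944)))))))) (.node (.node (.node (.node (.node (.node (.leaf (48356, 29877)) (.leaf (28925, 40073))) (.node (.leaf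 (53472, 22656)) (.leaf (34944, 34944)))) (.node (.node (.leaf (28808, 47304)) (.leaf (30949, 62632))) (.node (.leaf (22752, 53408)) (.leaf (34944, 34944))))) (.node (.node (.node (.leaf (54504, 30861)) (.leaf (40148, 29852))) (.node (.leaf (39140, 29872)) (.leaf (34944, 34944)))) (.node (.node (.leaf (59584, 51432)) (.leaf (28873, 47288))) (.node (.leaf (61648, 22697)) (.leaf (34944, 34944)))))) (.node (.node (.node (.node (.leaf (35021, 36064)) (.leaf (39065, 28913))) (.node (.leaf (23756, 54429)) (.leaf (34944, 34944)))) (.node (.node (.leaf (54516, 31900)) (.leaf (23700, 62716))) (.node (.leaf (60601, 59572)) (.leaf (34944, 34944))))) (.node (.node (.node (.leaf (29860, 48373)) (.leaf (54428, 23772))) (.node (.leaf (52413, 52396)) (.leaf (34944, 34944)))) (.node (.node (.leaf (43188, 44217)) (.leaf (61641, 30904))) (.node (.leaf (54512, 22668)) (.leaf (34944, 34944))))))) (.node (.node (.node (.node (.node (.leaf (60580, 60597)) (.leaf (20629, 48321))) (.node (.leaf (28848, 39145)) (.leaf (34944, 34944)))) (.node (.node (.leaf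 (53425, 22769)) (.leaf (48304, 20676))) (.node (.leaf (30957, 54440)) (.leaf (34944, 34944))))) (.node (.node (.node (.leaf (52436, 60668)) (.leaf (21669, 48365))) (.node (.leaf (29900, 40117)) (.leaf (34944, 34944)))) (.node (.node (.leaf (29881, 47348)) (.leaf (39133, 21633))) (.node (.leaf (22688, 53440)) (.leaf (34944, 34944)))))) (.node (.node (.node (.node (.leaf (53485, 23680)) (.leaf (30893, 54472))) (.node (.leaf (31940, 62613)) (.leaf (34944, 34944)))) (.node (.node (.leaf (52353, 51357)) (.leaf (62604, 23765))) (.node (.leaf (51412, 60657)) (.leaf (34944, 34944))))) (.node (.node (.node (.leaf (40121, 28892)) (.leaf (51353, 59537))) (.node (.leaf (62696, 30853)) (.leaf (34944, 34944)))) (.node (.node (.leaf (48297, 28885)) (.leaf (39060, 29937))) (.node (.leaf (54517, 31884)) (.leaf (34944, 34944))))))))) (.node (.node (.node (.node (.node (.node (.node (.leaf (21632, 39117)) (.leaf (44181, 44164))) (.node (.leaf (40085, 29932)) (.leaf (34944, 34944)))) (.node (.node (.leaf (35985, 34972)) (.leaf (47301, 29832))) (.node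 (.leaf (28924, 40089)) (.leaf (34944, 34944))))) (.node (.node (.node (.leaf (31881, 61685)) (.leaf (52365, 52365))) (.node (.leaf (52437, 60652)) (.leaf (34944, 34944)))) (.node (.node (.leaf (44232, 43237)) (.leaf (62704, 22660))) (.node (.leaf (40125, 21708)) (.leaf (34944, 34944)))))) (.node (.node (.node (.node (.leaf (21633, 39133)) (.leaf (20660, 48369))) (.node (.leaf (59612, 52473)) (.leaf (34944, 34944)))) (.node (.node (.leaf (52404, 60604)) (.leaf (52368, 51340))) (.node (.leaf (29869, 40165)) (.leaf (34944, 34944))))) (.node (.node (.node (.leaf (48268, 21749)) (.leaf (23805, 54444))) (.node (.leaf (28872, 47272)) (.leaf (34944, 34944)))) (.node (.node (.leaf (36025, 43196)) (.leaf (20681, 47280))) (.node (.leaf (54460, 23804)) (.leaf (34944, 34944))))))) (.node (.node (.node (.node (.node (.leaf (35968, 34957)) (.leaf (20701, 40097))) (.node (.leaf (22684, 54513)) (.leaf (34944, 34944)))) (.node (.node (.leaf (28905, 47256)) (.leaf (29856, 39141))) (.node (.leaf (60592, 51364)) (.leaf (34944, 34944))))) (.node (.node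 (.node (.leaf (40065, 20733)) (.leaf (61584, 22729))) (.node (.leaf (62641, 22772)) (.leaf (34944, 34944)))) (.node (.node (.leaf (40132, 29853)) (.leaf (51397, 60640))) (.node (.leaf (53465, 30897)) (.leaf (34944, 34944)))))) (.node (.node (.node (.node (.leaf (35049, 43216)) (.leaf (31908, 62677))) (.node (.leaf (44245, 44260)) (.leaf (34944, 34944)))) (.node (.node (.leaf (59620, 60632)) (.leaf (21680, 39148))) (.node (.leaf (23753, 61597)) (.leaf (34944, 34944))))) (.node (.node (.node (.leaf (36049, 35068)) (.leaf (29913, 47284))) (.node (.leaf (43252, 44249)) (.leaf (34944, 34944)))) (.node (.node (.leaf (54429, 23756)) (.leaf (39068, 21745))) (.node (.leaf (52457, 59613)) (.leaf (34944, 34944)))))))) (.node (.node (.node (.node (.node (.node (.leaf (28892, 40121)) (.leaf (44172, 35989))) (.node (.leaf (22776, 61601)) (.leaf (34944, 34944)))) (.node (.node (.leaf (47357, 21673)) (.leaf (40185, 28860))) (.node (.leaf (52385, 51389)) (.leaf (34944, 34944))))) (.node (.node (.node (.leaf (54476, 23741)) (.leaf (47264, 20680)))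 (.node (.leaf (35033, 43249)) (.leaf (34944, 34944)))) (.node (.node (.leaf (59537, 51353)) (.leaf (61616, 22761))) (.node (.leaf (21648, 39116)) (.leaf (34944, 34944)))))) (.node (.node (.node (.node (.leaf (60545, 51349)) (.leaf (48377, 28852))) (.node (.leaf (62609, 22740)) (.leaf (34944, 34944)))) (.node (.node (.leaf (44273, 35028)) (.leaf (52432, 51436))) (.node (.leaf (43244, 36056)) (.leaf (34944, 34944))))) (.node (.node (.node (.leaf (48344, 28804)) (.leaf (51437, 52416))) (.node (.leaf (61664, 22664)) (.leaf (34944, 34944)))) (.node (.node (.leaf (23804, 54460)) (.leaf (20636, 40145))) (.node (.leaf (54408, 30925)) (.leaf (34944, 34944))))))) (.node (.node (.node (.node (.node (.leaf (28809, 47320)) (.leaf (21749, 48268))) (.node (.leaf (47341, 21672)) (.leaf (34944, 34944)))) (.node (.node (.leaf (20608, 39104)) (.leaf (43148, 35992))) (.node (.leaf (36048, 35052)) (.leaf (34944, 34944))))) (.node (.node (.node (.leaf (59645, 52425)) (.leaf (53396, 31953))) (.node (.leaf (60600, 59556)) (.leaf (34944, 34944)))) (.node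 (.node (.leaf (22741, 62593)) (.leaf (43245, 36040))) (.node (.leaf (35997, 35980)) (.leaf (34944, 34944)))))) (.node (.node (.node (.node (.leaf (53473, 22672)) (.leaf (21744, 39052))) (.node (.leaf (36060, 36092)) (.leaf (34944, 34944)))) (.node (.node (.leaf (61656, 30889)) (.leaf (39144, 28832))) (.node (.leaf (34973, 35969)) (.leaf (34944, 34944))))) (.node (.node (.node (.leaf (22701, 54464)) (.leaf (43144, 43144))) (.node (.leaf (59637, 60617)) (.leaf (34944, 34944)))) (.node (.node (.leaf (61625, 30969)) (.leaf (51344, 51329))) (.node (.leaf (22693, 62656)) (.leaf (34944, 34944))))))))))) (.node (.node (.node (.node (.node (.node (.node (.node (.node (.leaf (59520, 51336)) (.leaf (36089, 43228))) (.node (.leaf (52444, 52476)) (.leaf (34944, 34944)))) (.node (.node (.leaf (48336, 20612)) (.leaf (23777, 53437))) (.node (.leaf (47345, 20665)) (.leaf (34944, 34944))))) (.node (.node (.node (.leaf (28893, 40105)) (.leaf (44217, 43188))) (.node (.leaf (34988, 36016)) (.leaf (34944, 34944)))) (.node (.node (.leaf (34949, 44160))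 (.leaf (51441, 51409))) (.node (.leaf (60617, 59637)) (.leaf (34944, 34944)))))) (.node (.node (.node (.node (.leaf (44160, 34949)) (.leaf (51364, 60592))) (.node (.leaf (44253, 36068)) (.leaf (34944, 34944)))) (.node (.node (.leaf (23720, 61645)) (.leaf (28832, 39144))) (.node (.leaf (51416, 59617)) (.leaf (34944, 34944))))) (.node (.node (.node (.leaf (22757, 62624)) (.leaf (29904, 39076))) (.node (.leaf (59600, 51433)) (.leaf (34944, 34944)))) (.node (.node (.leaf (30884, 62680)) (.leaf (35988, 44188))) (.node (.leaf (48301, 21701)) (.leaf (34944, 34944))))))) (.node (.node (.node (.node (.node (.leaf (21688, 47340)) (.leaf (47317, 29833))) (.node (.leaf (30873, 61689)) (.leaf (34944, 34944)))) (.node (.node (.leaf (23780, 62653)) (.leaf (61613, 23784))) (.node (.leaf (61684, 31897)) (.leaf (34944, 34944))))) (.node (.node (.node (.leaf (53476, 31888)) (.leaf (44244, 44276))) (.node (.leaf (23732, 62684)) (.leaf (34944, 34944)))) (.node (.node (.leaf (40129, 20637)) (.leaf (43173, 44200))) (.node (.leaf (52408, 59564)) (.leaf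 (34944, 34944)))))) (.node (.node (.node (.node (.leaf (53389, 23744)) (.leaf (60549, 60549))) (.node (.leaf (54461, 23788)) (.leaf (34944, 34944)))) (.node (.node (.leaf (60588, 52405)) (.leaf (31896, 61668))) (.node (.leaf (53497, 30865)) (.leaf (34944, 34944))))) (.node (.node (.node (.leaf (30956, 54456)) (.leaf (23725, 54477))) (.node (.leaf (61629, 23785)) (.leaf (34944, 34944)))) (.node (.node (.leaf (29908, 48308)) (.leaf (31993, 61620))) (.node (.leaf (28917, 48265)) (.leaf (34944, 34944)))))))) (.node (.node (.node (.node (.node (.node (.leaf (22772, 62641)) (.leaf (52469, 60620))) (.node (.leaf (36005, 44205)) (.leaf (34944, 34944)))) (.node (.node (.leaf (28909, 40072)) (.leaf (40072, 28909))) (.node (.leaf (61609, 30968)) (.leaf (34944, 34944))))) (.node (.node (.node (.leaf (59640, 59593)) (.leaf (43196, 36025))) (.node (.leaf (31988, 62644)) (.leaf (34944, 34944)))) (.node (.node (.leaf (59593, 59640)) (.leaf (35973, 44173))) (.node (.leaf (52384, 51373)) (.leaf (34944, 34944)))))) (.node (.node (.node (.node (.leaf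 (40152, 28812)) (.leaf (31897, 61684))) (.node (.leaf (59632, 51401)) (.leaf (34944, 34944)))) (.node (.node (.leaf (54521, 30876)) (.leaf (23785, 61629))) (.node (.leaf (35972, 44189)) (.leaf (34944, 34944))))) (.node (.node (.node (.leaf (29889, 39093)) (.leaf (36077, 36045))) (.node (.leaf (40068, 29949)) (.leaf (34944, 34944)))) (.node (.node (.leaf (43224, 43241)) (.leaf (43164, 35993))) (.node (.leaf (21656, 47308)) (.leaf (34944, 34944))))))) (.node (.node (.node (.node (.node (.leaf (53461, 31905)) (.leaf (20689, 39089))) (.node (.leaf (44197, 44197)) (.leaf (34944, 34944)))) (.node (.node (.leaf (31925, 62660)) (.leaf (54496, 22669))) (.node (.leaf (48381, 21668)) (.leaf (34944, 34944))))) (.node (.node (.node (.leaf (22661, 62688)) (.leaf (22708, 62673))) (.node (.leaf (60660, 60628)) (.leaf (34944, 34944)))) (.node (.node (.leaf (60556, 52373)) (.leaf (44188, 35988))) (.node (.leaf (60621, 52453)) (.leaf (34944, 34944)))))) (.node (.node (.node (.node (.leaf (22673, 53489)) (.leaf (52393, 59581))) (.node (.leaf (48317,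 21700)) (.leaf (34944, 34944)))) (.node (.node (.leaf (40157, 21644)) (.leaf (20661, 48353))) (.node (.leaf (61604, 31992)) (.leaf (34944, 34944))))) (.node (.node (.node (.leaf (22728, 61568)) (.leaf (20652, 40176))) (.node (.leaf (21733, 48269)) (.leaf (34944, 34944)))) (.node (.node (.leaf (21725, 40108)) (.leaf (39072, 20672))) (.node (.leaf (52461, 52429)) (.leaf (34944, 34944))))))))) (.node (.node (.node (.node (.node (.node (.node (.leaf (59580, 52409)) (.leaf (52464, 51404))) (.node (.leaf (40184, 28844)) (.leaf (34944, 34944)))) (.node (.node (.leaf (29849, 47316)) (.leaf (31984, 53412))) (.node (.leaf (28817, 39129)) (.leaf (34944, 34944))))) (.node (.node (.node (.leaf (47241, 28920)) (.leaf (51396, 60656))) (.node (.leaf (62636, 23797)) (.leaf (34944, 34944)))) (.node (.node (.leaf (40120, 28876)) (.leaf (39124, 29841))) (.node (.leaf (52389, 60589)) (.leaf (34944, 34944)))))) (.node (.node (.node (.node (.leaf (59628, 52440)) (.leaf (23776, 53421))) (.node (.leaf (53477, 31872)) (.leaf (34944, 34944)))) (.node (.node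 (.leaf (39040, 20704)) (.leaf (52429, 52461))) (.node (.leaf (23741, 54476)) (.leaf (34944, 34944))))) (.node (.node (.node (.leaf (22753, 53424)) (.leaf (43181, 36008))) (.node (.leaf (31889, 53492)) (.leaf (34944, 34944)))) (.node (.node (.leaf (29905, 39092)) (.leaf (51429, 60608))) (.node (.leaf (48300, 21717)) (.leaf (34944, 34944))))))) (.node (.node (.node (.node (.node (.leaf (29824, 39109)) (.leaf (20696, 47265))) (.node (.leaf (54497, 22685)) (.leaf (34944, 34944)))) (.node (.node (.leaf (44177, 34964)) (.leaf (30925, 54408))) (.node (.leaf (54441, 30973)) (.leaf (34944, 34944))))) (.node (.node (.node (.leaf (59601, 51449)) (.leaf (52380, 52380))) (.node (.leaf (39164, 21681)) (.leaf (34944, 34944)))) (.node (.node (.leaf (61585, 22745)) (.leaf (43145, 43160))) (.node (.leaf (36045, 36077)) (.leaf (34944, 34944)))))) (.node (.node (.node (.node (.leaf (36068, 44253)) (.leaf (31985, 53428))) (.node (.leaf (44221, 36004)) (.leaf (34944, 34944)))) (.node (.node (.leaf (59629, 52424)) (.leaf (62672, 22692))) (.node (.leaf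 (23716, 62685)) (.leaf (34944, 34944))))) (.node (.node (.node (.leaf (36056, 43244)) (.leaf (60548, 60565))) (.node (.leaf (22724, 62608)) (.leaf (34944, 34944)))) (.node (.node (.leaf (36076, 36061)) (.leaf (39064, 28897))) (.node (.leaf (62713, 30868)) (.leaf (34944, 34944)))))))) (.node (.node (.node (.node (.node (.node (.leaf (28856, 47337)) (.leaf (62705, 22676))) (.node (.leaf (60565, 60548)) (.leaf (34944, 34944)))) (.node (.node (.leaf (44161, 34965)) (.leaf (30944, 53416))) (.node (.leaf (44237, 36069)) (.leaf (34944, 34944))))) (.node (.node (.node (.leaf (28860, 40185)) (.leaf (47337, 28856))) (.node (.leaf (47336, 28840)) (.leaf (34944, 34944)))) (.node (.node (.leaf (48372, 29876)) (.leaf (52372, 60572))) (.node (.leaf (30940, 54425)) (.leaf (34944, 34944)))))) (.node (.node (.node (.node (.leaf (21713, 39100)) (.leaf (60576, 51365))) (.node (.leaf (28880, 39081)) (.leaf (34944, 34944)))) (.node (.node (.leaf (44185, 43156)) (.leaf (39141, 29856))) (.node (.leaf (22696, 61632)) (.leaf (34944, 34944))))) (.node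 (.node (.node (.leaf (35981, 35981)) (.leaf (51377, 51377))) (.node (.leaf (21704, 47277)) (.leaf (34944, 34944)))) (.node (.node (.leaf (43180, 36024)) (.leaf (51376, 51361))) (.node (.leaf (44176, 34948)) (.leaf (34944, 34944))))))) (.node (.node (.node (.node (.node (.leaf (28908, 40088)) (.leaf (39084, 21712))) (.node (.leaf (54457, 30972)) (.leaf (34944, 34944)))) (.node (.node (.leaf (54413, 23757)) (.leaf (23717, 62669))) (.node (.leaf (36057, 43260)) (.leaf (34944, 34944))))) (.node (.node (.node (.leaf (35032, 43233)) (.leaf (61645, 23720))) (.node (.leaf (29868, 40181)) (.leaf (34944, 34944)))) (.node (.node (.leaf (60649, 59605)) (.leaf (51361, 51376))) (.node (.leaf (29845, 48324)) (.leaf (34944, 34944)))))) (.node (.node (.node (.node (.leaf (36004, 44221)) (.leaf (61661, 23721))) (.node (.leaf (23693, 54509)) (.leaf (34944, 34944)))) (.node (.node (.leaf (44236, 36085)) (.leaf (31936, 53381))) (.node (.leaf (20724, 48273)) (.leaf (34944, 34944))))) (.node (.node (.node (.leaf (22732, 54416)) (.leaf (20729, 47249)))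 (.node (.leaf (53441, 22704)) (.leaf (34944, 34944)))) (.node (.node (.leaf (52441, 59644)) (.leaf (51356, 52369))) (.node (.leaf (44272, 35012)) (.leaf (34944, 34944)))))))))) (.node (.node (.node (.node (.node (.node (.node (.node (.leaf (53460, 31921)) (.leaf (23792, 53420))) (.node (.leaf (22672, 53473)) (.leaf (34944, 34944)))) (.node (.node (.leaf (60584, 59557)) (.leaf (40096, 20685))) (.node (.leaf (31924, 62676)) (.leaf (34944, 34944))))) (.node (.node (.node (.leaf (47276, 21720)) (.leaf (59577, 59577))) (.node (.leaf (23793, 53436)) (.leaf (34944, 34944)))) (.node (.node (.leaf (44260, 44245)) (.leaf (31892, 62708))) (.node (.leaf (31945, 61589)) (.leaf (34944, 34944)))))) (.node (.node (.node (.node (.leaf (31980, 54453)) (.leaf (28816, 39113))) (.node (.leaf (31957, 62596)) (.leaf (34944, 34944)))) (.node (.node (.leaf (52456, 59597)) (.leaf (20693, 48289))) (.node (.leaf (54432, 22765)) (.leaf (34944, 34944))))) (.node (.node (.node (.leaf (52424, 59629)) (.leaf (43225, 43257))) (.node (.leaf (35028, 44273)) (.leaf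 (34944, 34944)))) (.node (.node (.leaf (54525, 23692)) (.leaf (51392, 51424))) (.node (.leaf (54433, 22781)) (.leaf (34944, 34944))))))) (.node (.node (.node (.node (.node (.leaf (53433, 30961)) (.leaf (31997, 54436))) (.node (.leaf (29832, 47301)) (.leaf (34944, 34944)))) (.node (.node (.leaf (54444, 23805)) (.leaf (29897, 47285))) (.node (.leaf (59553, 51384)) (.leaf (34944, 34944))))) (.node (.node (.node (.leaf (53416, 30944)) (.leaf (34989, 36000))) (.node (.leaf (52420, 60669)) (.leaf (34944, 34944)))) (.node (.node (.leaf (52468, 60636)) (.leaf (51368, 59552))) (.node (.leaf (61589, 31945)) (.leaf (34944, 34944)))))) (.node (.node (.node (.node (.leaf (36028, 36028)) (.leaf (28820, 48345))) (.node (.leaf (47333, 29864)) (.leaf (34944, 34944)))) (.node (.node (.leaf (60652, 52437)) (.leaf (39081, 28880))) (.node (.leaf (51372, 52400)) (.leaf (34944, 34944))))) (.node (.node (.node (.leaf (60596, 60596)) (.leaf (60661, 60612))) (.node (.leaf (40188, 21692)) (.leaf (34944, 34944)))) (.node (.node (.leaf (30968, 61609)) (.leaf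 (62612, 31956))) (.node (.leaf (20609, 39120)) (.leaf (34944, 34944)))))))) (.node (.node (.node (.node (.node (.node (.leaf (59521, 51352)) (.leaf (23773, 54412))) (.node (.leaf (29921, 39061)) (.leaf (34944, 34944)))) (.node (.node (.leaf (47285, 29897)) (.leaf (59568, 51369))) (.node (.leaf (61681, 22681)) (.leaf (34944, 34944))))) (.node (.node (.node (.leaf (31877, 62693)) (.leaf (51448, 59585))) (.node (.leaf (39116, 21648)) (.leaf (34944, 34944)))) (.node (.node (.leaf (28881, 39097)) (.leaf (31901, 54500))) (.node (.leaf (21657, 47324)) (.leaf (34944, 34944)))))) (.node (.node (.node (.node (.leaf (34980, 44208)) (.leaf (39089, 20689))) (.node (.leaf (62652, 23796)) (.leaf (34944, 34944)))) (.node (.node (.leaf (47249, 20729)) (.leaf (62637, 23781))) (.node (.leaf (59533, 52360)) (.leaf (34944, 34944))))) (.node (.node (.node (.leaf (54440, 30957)) (.leaf (60572, 52372))) (.node (.leaf (52473, 59612)) (.leaf (34944, 34944)))) (.node (.node (.leaf (43228, 36089)) (.leaf (61592, 30921))) (.node (.leaf (59597, 52456)) (.leaf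 (34944, 34944))))))) (.node (.node (.node (.node (.node (.leaf (59573, 60585)) (.leaf (20673, 39088))) (.node (.leaf (53384, 30912)) (.leaf (34944, 34944)))) (.node (.node (.leaf (28916, 48281)) (.leaf (43184, 34985))) (.node (.leaf (35976, 43149)) (.leaf (34944, 34944))))) (.node (.node (.node (.leaf (61624, 30953)) (.leaf (44201, 43189))) (.node (.leaf (53481, 30864)) (.leaf (34944, 34944)))) (.node (.node (.leaf (29917, 40100)) (.leaf (43177, 43192))) (.node (.leaf (48289, 20693)) (.leaf (34944, 34944)))))) (.node (.node (.node (.node (.leaf (60668, 52436)) (.leaf (40112, 20684))) (.node (.leaf (53412, 31984)) (.leaf (34944, 34944)))) (.node (.node (.leaf (61569, 22744)) (.leaf (62693, 31877))) (.node (.leaf (23736, 61644)) (.leaf (34944, 34944))))) (.node (.node (.node (.leaf (52388, 60605)) (.leaf (51393, 51440))) (.node (.leaf (61668, 31896)) (.leaf (34944, 34944)))) (.node (.node (.leaf (59621, 60616)) (.leaf (43152, 34953))) (.node (.leaf (31977, 61621)) (.leaf (34944, 34944))))))))) (.node (.node (.node (.node (.node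 (.node (.node (.leaf (53377, 22736)) (.leaf (39105, 20624))) (.node (.leaf (60669, 52420)) (.leaf (34944, 34944)))) (.node (.node (.leaf (60620, 52469)) (.leaf (31909, 62661))) (.node (.leaf (34969, 43153)) (.leaf (34944, 34944))))) (.node (.node (.node (.leaf (59604, 60665)) (.leaf (51400, 59616))) (.node (.leaf (44209, 34996)) (.leaf (34944, 34944)))) (.node (.node (.leaf (30888, 61640)) (.leaf (39085, 21696))) (.node (.leaf (52453, 60621)) (.leaf (34944, 34944)))))) (.node (.node (.node (.node (.leaf (21637, 48333)) (.leaf (62689, 22677))) (.node (.leaf (23729, 53468)) (.leaf (34944, 34944)))) (.node (.node (.leaf (44264, 43205)) (.leaf (54448, 22764))) (.node (.leaf (30901, 62665)) (.leaf (34944, 34944))))) (.node (.node (.node (.leaf (60605, 52388)) (.leaf (23797, 62636))) (.node (.leaf (53409, 22768)) (.leaf (34944, 34944)))) (.node (.node (.leaf (22705, 53457)) (.leaf (51365, 60576))) (.node (.leaf (23713, 53469)) (.leaf (34944, 34944))))))) (.node (.node (.node (.node (.node (.leaf (53428, 31985)) (.leaf (39132, 21649)))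 (.node (.leaf (47296, 20616)) (.leaf (34944, 34944)))) (.node (.node (.leaf (54409, 30941)) (.leaf (54424, 30924))) (.node (.leaf (22668, 54512)) (.leaf (34944, 34944))))) (.node (.node (.node (.leaf (52476, 52444)) (.leaf (40133, 29837))) (.node (.leaf (47265, 20696)) (.leaf (34944, 34944)))) (.node (.node (.leaf (34977, 34992)) (.leaf (44180, 44180))) (.node (.leaf (29848, 47300)) (.leaf (34944, 34944)))))) (.node (.node (.node (.node (.leaf (21753, 47260)) (.leaf (59541, 60553))) (.node (.leaf (22709, 62657)) (.leaf (34944, 34944)))) (.node (.node (.leaf (28821, 48329)) (.leaf (39077, 29888))) (.node (.leaf (23724, 54493)) (.leaf (34944, 34944))))) (.node (.node (.node (.leaf (22760, 61600)) (.leaf (51420, 52465))) (.node (.leaf (40077, 21741)) (.leaf (34944, 34944)))) (.node (.node (.leaf (35009, 35056)) (.leaf (51449, 59601))) (.node (.leaf (39041, 20720)) (.leaf (34944, 34944)))))))) (.node (.node (.node (.node (.node (.node (.leaf (35036, 36081)) (.leaf (39049, 28912))) (.node (.leaf (30924, 54424)) (.leaf (34944, 34944))))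 (.node (.node (.leaf (31981, 54437)) (.leaf (22676, 62705))) (.node (.leaf (30877, 54505)) (.leaf (34944, 34944))))) (.node (.node (.node (.leaf (31956, 62612)) (.leaf (59549, 52361))) (.node (.leaf (54464, 22701)) (.leaf (34944, 34944)))) (.node (.node (.leaf (59545, 59545)) (.leaf (30953, 61624))) (.node (.leaf (21652, 48348)) (.leaf (34944, 34944)))))) (.node (.node (.node (.node (.leaf (29944, 47236)) (.leaf (60640, 51397))) (.node (.leaf (62649, 30964)) (.leaf (34944, 34944)))) (.node (.node (.leaf (22721, 53392)) (.leaf (39165, 21665))) (.node (.leaf (43141, 44168)) (.leaf (34944, 34944))))) (.node (.node (.node (.leaf (43136, 34952)) (.leaf (53440, 22688))) (.node (.leaf (30865, 53497)) (.leaf (34944, 34944)))) (.node (.node (.leaf (60553, 59541)) (.leaf (31904, 53445))) (.node (.leaf (31920, 53444)) (.leaf (34944, 34944))))))) (.node (.node (.node (.node (.node (.leaf (47284, 29913)) (.leaf (39045, 29920))) (.node (.leaf (44249, 43252)) (.leaf (34944, 34944)))) (.node (.node (.leaf (47288, 28873)) (.leaf (23708, 54524)))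 (.node (.leaf (60577, 51381)) (.leaf (34944, 34944))))) (.node (.node (.node (.leaf (59636, 60633)) (.leaf (59548, 52377))) (.node (.leaf (48273, 20724)) (.leaf (34944, 34944)))) (.node (.node (.leaf (30961, 53433)) (.leaf (51373, 52384))) (.node (.leaf (22725, 62592)) (.leaf (34944, 34944)))))) (.node (.node (.node (.node (.leaf (59528, 59528)) (.leaf (51452, 52433))) (.node (.leaf (20664, 47329)) (.leaf (34944, 34944)))) (.node (.node (.leaf (61653, 31913)) (.leaf (39061, 29921))) (.node (.leaf (21728, 39053)) (.leaf (34944, 34944))))) (.node (.node (.node (.leaf (40140, 21661)) (.leaf (43232, 35016))) (.node (.leaf (28804, 48344)) (.leaf (34944, 34944)))) (.node (.node (.leaf (22768, 53409)) (.leaf (51360, 51360))) (.node (.leaf (31905, 53461)) (.leaf (34944, 34944)))))))))))))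

/-- table 3 -/
def tabPhi3 : Tree (ℕ × ℕ) :=
  (.node (.node (.node (.node (.node (.node (.node (.node (.node (.node (.node (.leaf (34944, 34944)) (.leaf (53489, 22673))) (.node (.leaf (52377, 59533)) (.leaf (34944, 34944)))) (.node (.node (.leaf (21653, 48349)) (.leaf (51425, 51393))) (.node (.leaf (28896, 39065)) (.leaf (34944, 34944))))) (.node (.node (.node (.leaf (47233, 20713)) (.leaf (43153, 34969))) (.node (.leaf (20712, 47249)) (.leaf (34944, 34944)))) (.node (.node (.leaf (52357, 60572)) (.leaf (20653, 40177))) (.node (.leaf (40189, 21693)) (.leaf (34944, 34944)))))) (.node (.node (.node (.node (.leaf (54400, 22733)) (.leaf (62673, 22708))) (.node (.leaf (31876, 62709)) (.leaf (34944, 34944)))) (.node (.node (.leaf (59589, 60665)) (.leaf (20641, 39137))) (.node (.leaf (53457, 22705)) (.leaf (34944, 34944))))) (.node (.node (.node (.leaf (53444, 31920)) (.leaf (48325, 29844))) (.node (.leaf (60616, 59636)) (.leaf (34944, 34944)))) (.node (.node (.leaf (43240, 43208)) (.leaf (43216, 35049))) (.node (.leaf (53436, 23793))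 (.leaf (34944, 34944))))))) (.node (.node (.node (.node (.node (.leaf (22657, 53488)) (.leaf (62685, 23716))) (.node (.leaf (30921, 61592)) (.leaf (34944, 34944)))) (.node (.node (.leaf (53469, 23713)) (.leaf (44216, 43172))) (.node (.leaf (61605, 31976)) (.leaf (34944, 34944))))) (.node (.node (.node (.leaf (44204, 36021)) (.leaf (44193, 34997))) (.node (.leaf (36012, 36029)) (.leaf (34944, 34944)))) (.node (.node (.leaf (21717, 48317)) (.leaf (43209, 43256))) (.node (.leaf (40101, 29916)) (.leaf (34944, 34944)))))) (.node (.node (.node (.node (.leaf (60644, 60612)) (.leaf (53488, 22657))) (.node (.leaf (52425, 59628)) (.leaf (34944, 34944)))) (.node (.node (.leaf (21708, 40108)) (.leaf (62616, 30916))) (.node (.leaf (51380, 60576)) (.leaf (34944, 34944))))) (.node (.node (.node (.leaf (30908, 54489)) (.leaf (43248, 35017))) (.node (.leaf (30965, 62633)) (.leaf (34944, 34944)))) (.node (.node (.leaf (23796, 62652)) (.leaf (20656, 39152))) (.node (.leaf (44168, 43141)) (.leaf (34944, 34944)))))))) (.node (.node (.node (.node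 (.node (.node (.leaf (48312, 28885)) (.leaf (62633, 30965))) (.node (.leaf (48361, 28836)) (.leaf (34944, 34944)))) (.node (.node (.leaf (36033, 35069)) (.leaf (53493, 31873))) (.node (.leaf (40181, 29885)) (.leaf (34944, 34944))))) (.node (.node (.node (.leaf (54452, 31996)) (.leaf (43172, 44216))) (.node (.leaf (47237, 29945)) (.leaf (34944, 34944)))) (.node (.node (.leaf (61649, 22713)) (.leaf (39048, 28913))) (.node (.leaf (44265, 43221)) (.leaf (34944, 34944)))))) (.node (.node (.node (.node (.leaf (52352, 51356)) (.leaf (62664, 30885))) (.node (.leaf (54472, 30893)) (.leaf (34944, 34944)))) (.node (.node (.leaf (52460, 52428)) (.leaf (52360, 59548))) (.node (.leaf (43149, 35976)) (.leaf (34944, 34944))))) (.node (.node (.node (.leaf (35969, 34973)) (.leaf (43237, 44232))) (.node (.leaf (52477, 52445)) (.leaf (34944, 34944)))) (.node (.node (.leaf (21645, 40156)) (.leaf (51336, 59537))) (.node (.leaf (54488, 30892)) (.leaf (34944, 34944))))))) (.node (.node (.node (.node (.node (.leaf (22729, 61584)) (.leaf (20613, 48337)))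 (.node (.leaf (54469, 31917)) (.leaf (34944, 34944)))) (.node (.node (.leaf (47313, 20616)) (.leaf (30896, 53449))) (.node (.leaf (30905, 61657)) (.leaf (34944, 34944))))) (.node (.node (.node (.leaf (40168, 28860)) (.leaf (61632, 22696))) (.node (.leaf (21745, 39053)) (.leaf (34944, 34944)))) (.node (.node (.leaf (29945, 47237)) (.leaf (59552, 51385))) (.node (.leaf (35992, 43148)) (.leaf (34944, 34944)))))) (.node (.node (.node (.node (.leaf (40164, 29868)) (.leaf (47236, 29929))) (.node (.leaf (21641, 47308)) (.leaf (34944, 34944)))) (.node (.node (.leaf (31916, 54485)) (.leaf (39052, 21729))) (.node (.leaf (60589, 52404)) (.leaf (34944, 34944))))) (.node (.node (.node (.leaf (21732, 48268)) (.leaf (51413, 60656))) (.node (.leaf (43256, 43209)) (.leaf (34944, 34944)))) (.node (.node (.leaf (34984, 43168)) (.leaf (39125, 29840))) (.node (.leaf (62677, 31908)) (.leaf (34944, 34944))))))))) (.node (.node (.node (.node (.node (.node (.node (.leaf (34945, 34960)) (.leaf (20732, 40064))) (.node (.leaf (21677, 40188)) (.leaf (34944,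 34944)))) (.node (.node (.leaf (53464, 30881)) (.leaf (22736, 53377))) (.node (.leaf (48321, 20612)) (.leaf (34944, 34944))))) (.node (.node (.node (.leaf (31964, 54420)) (.leaf (39148, 21665))) (.node (.leaf (47329, 20649)) (.leaf (34944, 34944)))) (.node (.node (.leaf (30932, 62617)) (.leaf (20612, 48321))) (.node (.leaf (28837, 48377)) (.leaf (34944, 34944)))))) (.node (.node (.node (.node (.leaf (53468, 23729)) (.leaf (31913, 61653))) (.node (.leaf (44205, 36005)) (.leaf (34944, 34944)))) (.node (.node (.leaf (44165, 44165)) (.leaf (35069, 36033))) (.node (.leaf (60624, 51445)) (.leaf (34944, 34944))))) (.node (.node (.node (.leaf (40093, 21757)) (.leaf (30852, 62712))) (.node (.leaf (47352, 28856)) (.leaf (34944, 34944)))) (.node (.node (.leaf (60653, 52436)) (.leaf (51401, 59617))) (.node (.leaf (48264, 28916)) (.leaf (34944, 34944))))))) (.node (.node (.node (.node (.node (.leaf (48257, 20708)) (.leaf (31992, 61604))) (.node (.leaf (30897, 53465)) (.leaf (34944, 34944)))) (.node (.node (.leaf (44284, 36052)) (.leaf (60564,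 60549))) (.node (.leaf (29888, 39092)) (.leaf (34944, 34944))))) (.node (.node (.node (.leaf (35037, 36065)) (.leaf (40128, 20636))) (.node (.leaf (44200, 43173)) (.leaf (34944, 34944)))) (.node (.node (.leaf (44280, 43204)) (.leaf (44173, 35973))) (.node (.leaf (34965, 44161)) (.leaf (34944, 34944)))))) (.node (.node (.node (.node (.leaf (36020, 44220)) (.leaf (31917, 54469))) (.node (.leaf (44241, 35060)) (.leaf (34944, 34944)))) (.node (.node (.leaf (48376, 28853)) (.leaf (20688, 39088))) (.node (.leaf (43249, 35033)) (.leaf (34944, 34944))))) (.node (.node (.node (.leaf (29901, 40116)) (.leaf (43221, 44265))) (.node (.leaf (22764, 54448)) (.leaf (34944, 34944)))) (.node (.node (.leaf (48328, 28820)) (.leaf (39120, 20624))) (.node (.leaf (35017, 43248)) (.leaf (34944, 34944)))))))) (.node (.node (.node (.node (.node (.node (.leaf (28884, 48296)) (.leaf (54404, 31965))) (.node (.leaf (36081, 35036)) (.leaf (34944, 34944)))) (.node (.node (.leaf (54401, 22749)) (.leaf (30876, 54521))) (.node (.leaf (40089, 28909)) (.leaf (34944,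 34944))))) (.node (.node (.node (.leaf (62592, 22725)) (.leaf (43157, 44169))) (.node (.leaf (62632, 30949)) (.leaf (34944, 34944)))) (.node (.node (.leaf (31960, 61572)) (.leaf (59561, 59561))) (.node (.leaf (30881, 53464)) (.leaf (34944, 34944)))))) (.node (.node (.node (.node (.leaf (22745, 61585)) (.leaf (62692, 31893))) (.node (.leaf (44233, 43253)) (.leaf (34944, 34944)))) (.node (.node (.leaf (44276, 44244)) (.leaf (62596, 31957))) (.node (.leaf (21681, 39149)) (.leaf (34944, 34944))))) (.node (.node (.node (.leaf (36061, 36076)) (.leaf (36001, 35005))) (.node (.leaf (40173, 21692)) (.leaf (34944, 34944)))) (.node (.node (.leaf (48329, 28804)) (.leaf (48288, 20692))) (.node (.leaf (47256, 28920)) (.leaf (34944, 34944))))))) (.node (.node (.node (.node (.node (.leaf (28801, 39113)) (.leaf (39153, 20640))) (.node (.leaf (59605, 60664)) (.leaf (34944, 34944)))) (.node (.node (.leaf (59624, 59609)) (.leaf (51417, 59616))) (.node (.leaf (54485, 31916)) (.leaf (34944, 34944))))) (.node (.node (.node (.leaf (52472, 59613)) (.leaf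 (43165, 35977))) (.node (.leaf (48333, 21652)) (.leaf (34944, 34944)))) (.node (.node (.leaf (36029, 36012)) (.leaf (51357, 52368))) (.node (.leaf (29912, 47285)) (.leaf (34944, 34944)))))) (.node (.node (.node (.node (.leaf (48360, 28852)) (.leaf (61572, 31960))) (.node (.leaf (36084, 44252)) (.leaf (34944, 34944)))) (.node (.node (.leaf (40153, 28813)) (.leaf (39149, 21681))) (.node (.leaf (54465, 22717)) (.leaf (34944, 34944))))) (.node (.node (.node (.leaf (40145, 20621)) (.leaf (20721, 39040))) (.node (.leaf (43208, 43240)) (.leaf (34944, 34944)))) (.node (.node (.leaf (21752, 47261)) (.leaf (39145, 28833))) (.node (.leaf (62669, 23717)) (.leaf (34944, 34944)))))))))) (.node (.node (.node (.node (.node (.node (.node (.node (.leaf (22656, 53472)) (.leaf (20713, 47233))) (.node (.leaf (40073, 28908)) (.leaf (34944, 34944)))) (.node (.node (.leaf (29884, 40165)) (.leaf (20680, 47281))) (.node (.leaf (31969, 53429)) (.leaf (34944, 34944))))) (.node (.node (.node (.leaf (35005, 36001)) (.leaf (61576, 30920))) (.node (.leaf (36040,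 43245)) (.leaf (34944, 34944)))) (.node (.node (.leaf (21724, 40109)) (.leaf (51381, 60592))) (.node (.leaf (48284, 21733)) (.leaf (34944, 34944)))))) (.node (.node (.node (.node (.leaf (31932, 54484)) (.leaf (39121, 20608))) (.node (.leaf (47304, 28825)) (.leaf (34944, 34944)))) (.node (.node (.leaf (54481, 22716)) (.leaf (35024, 35041))) (.node (.leaf (48368, 20661)) (.leaf (34944, 34944))))) (.node (.node (.node (.leaf (21737, 47244)) (.leaf (36016, 34988))) (.node (.leaf (28865, 39081)) (.leaf (34944, 34944)))) (.node (.node (.leaf (36064, 35021)) (.leaf (51332, 60545))) (.node (.leaf (53401, 30929)) (.leaf (34944, 34944))))))) (.node (.node (.node (.node (.node (.leaf (35064, 43201)) (.leaf (48260, 29924))) (.node (.leaf (54425, 30940)) (.leaf (34944, 34944)))) (.node (.node (.leaf (54524, 23708)) (.leaf (29828, 48324))) (.node (.leaf (30945, 53432)) (.leaf (34944, 34944))))) (.node (.node (.node (.leaf (48364, 21668)) (.leaf (59536, 51352))) (.node (.leaf (47300, 29833)) (.leaf (34944, 34944)))) (.node (.node (.leaf (61636,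 31928)) (.leaf (62681, 30900))) (.node (.leaf (61640, 30888)) (.leaf (34944, 34944)))))) (.node (.node (.node (.node (.leaf (29880, 47349)) (.leaf (36024, 43180))) (.node (.leaf (23689, 61693)) (.leaf (34944, 34944)))) (.node (.node (.leaf (48345, 28805)) (.leaf (31900, 54516))) (.node (.leaf (60612, 60644)) (.leaf (34944, 34944))))) (.node (.node (.node (.leaf (54492, 23740)) (.leaf (20669, 40176))) (.node (.leaf (53381, 31936)) (.leaf (34944, 34944)))) (.node (.node (.leaf (48365, 21684)) (.leaf (20697, 47264))) (.node (.leaf (35045, 44224)) (.leaf (34944, 34944)))))))) (.node (.node (.node (.node (.node (.node (.leaf (53484, 23696)) (.leaf (47260, 21736))) (.node (.leaf (60656, 51413)) (.leaf (34944, 34944)))) (.node (.node (.leaf (31973, 62629)) (.leaf (43257, 43225))) (.node (.leaf (40176, 20669)) (.leaf (34944, 34944))))) (.node (.node (.node (.leaf (47340, 21673)) (.leaf (30913, 53400))) (.node (.leaf (62700, 23701)) (.leaf (34944, 34944)))) (.node (.node (.leaf (28861, 40184)) (.leaf (47280, 20696))) (.node (.leaf (40149,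 29853)) (.leaf (34944, 34944)))))) (.node (.node (.node (.node (.leaf (22712, 61633)) (.leaf (62625, 22773))) (.node (.leaf (35068, 36049)) (.leaf (34944, 34944)))) (.node (.node (.leaf (23788, 54461)) (.leaf (20709, 48273))) (.node (.leaf (54489, 30908)) (.leaf (34944, 34944))))) (.node (.node (.node (.leaf (30920, 61576)) (.leaf (23749, 62605))) (.node (.leaf (22660, 62704)) (.leaf (34944, 34944)))) (.node (.node (.leaf (30853, 62696)) (.leaf (43168, 34984))) (.node (.leaf (59616, 51417)) (.leaf (34944, 34944))))))) (.node (.node (.node (.node (.node (.leaf (48348, 21637)) (.leaf (31996, 54452))) (.node (.leaf (47240, 28921)) (.leaf (34944, 34944)))) (.node (.node (.leaf (22665, 61680)) (.leaf (48276, 29925))) (.node (.leaf (29925, 48276)) (.leaf (34944, 34944))))) (.node (.node (.node (.leaf (52412, 52397)) (.leaf (62701, 23685))) (.node (.leaf (48352, 20660)) (.leaf (34944, 34944)))) (.node (.node (.leaf (53388, 23760)) (.leaf (61685, 31881))) (.node (.leaf (36032, 35053)) (.leaf (34944, 34944)))))) (.node (.node (.node (.node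 (.leaf (21676, 40172)) (.leaf (61657, 30905))) (.node (.leaf (28877, 40121)) (.leaf (34944, 34944)))) (.node (.node (.leaf (21636, 48332)) (.leaf (62629, 31973))) (.node (.leaf (43217, 35065)) (.leaf (34944, 34944))))) (.node (.node (.node (.leaf (21701, 48316)) (.leaf (51409, 51424))) (.node (.leaf (44277, 44228)) (.leaf (34944, 34944)))) (.node (.node (.leaf (53392, 22721)) (.leaf (51440, 51408))) (.node (.leaf (23789, 54445)) (.leaf (34944, 34944))))))))) (.node (.node (.node (.node (.node (.node (.node (.leaf (22716, 54481)) (.leaf (62656, 22693))) (.node (.leaf (61692, 23705)) (.leaf (34944, 34944)))) (.node (.node (.leaf (35993, 43164)) (.leaf (31989, 62628))) (.node (.leaf (59565, 52409)) (.leaf (34944, 34944))))) (.node (.node (.node (.leaf (28849, 39144)) (.leaf (43176, 43176))) (.node (.leaf (21672, 47356)) (.leaf (34944, 34944)))) (.node (.node (.leaf (52421, 60668)) (.leaf (62680, 30884))) (.node (.leaf (40144, 20637)) (.leaf (34944, 34944)))))) (.node (.node (.node (.node (.leaf (22717, 54465)) (.leaf (20705, 39041)))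 (.node (.leaf (28833, 39145)) (.leaf (34944, 34944)))) (.node (.node (.leaf (62676, 31924)) (.leaf (62608, 22724))) (.node (.leaf (47309, 21657)) (.leaf (34944, 34944))))) (.node (.node (.node (.leaf (60633, 59621)) (.leaf (30928, 53385))) (.node (.leaf (47281, 20680)) (.leaf (34944, 34944)))) (.node (.node (.leaf (36017, 35004)) (.leaf (51385, 59552))) (.node (.leaf (29909, 48309)) (.leaf (34944, 34944))))))) (.node (.node (.node (.node (.node (.leaf (60604, 52389)) (.leaf (39076, 29889))) (.node (.leaf (36085, 44236)) (.leaf (34944, 34944)))) (.node (.node (.leaf (44281, 43220)) (.leaf (48280, 28917))) (.node (.leaf (29836, 40132)) (.leaf (34944, 34944))))) (.node (.node (.node (.leaf (21693, 40189)) (.leaf (61596, 23769))) (.node (.leaf (62617, 30932)) (.leaf (34944, 34944)))) (.node (.node (.leaf (52401, 51373)) (.leaf (43233, 35032))) (.node (.leaf (60585, 59556)) (.leaf (34944, 34944)))))) (.node (.node (.node (.node (.leaf (22740, 62609)) (.leaf (28829, 40152))) (.node (.leaf (52361, 59532)) (.leaf (34944, 34944)))) (.node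 (.node (.leaf (28920, 47256)) (.leaf (39129, 28800))) (.node (.leaf (29833, 47300)) (.leaf (34944, 34944))))) (.node (.node (.node (.leaf (54436, 31997)) (.leaf (23801, 61628))) (.node (.leaf (62628, 31989)) (.leaf (34944, 34944)))) (.node (.node (.leaf (23748, 62621)) (.leaf (39088, 20688))) (.node (.leaf (44269, 36037)) (.leaf (34944, 34944)))))))) (.node (.node (.node (.node (.node (.node (.leaf (31872, 53477)) (.leaf (44261, 44229))) (.node (.leaf (36008, 43181)) (.leaf (34944, 34944)))) (.node (.node (.leaf (31933, 54468)) (.leaf (40080, 20733))) (.node (.leaf (21661, 40157)) (.leaf (34944, 34944))))) (.node (.node (.node (.leaf (47305, 28809)) (.leaf (54509, 23693))) (.node (.leaf (28841, 47337)) (.leaf (34944, 34944)))) (.node (.node (.leaf (34981, 44192)) (.leaf (30864, 53481))) (.node (.leaf (35057, 35025)) (.leaf (34944, 34944)))))) (.node (.node (.node (.node (.leaf (48313, 28869)) (.leaf (53456, 22689))) (.node (.leaf (39156, 29856)) (.leaf (34944, 34944)))) (.node (.node (.leaf (52396, 52396)) (.leaf (39117, 21649)))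 (.node (.leaf (61688, 30857)) (.leaf (34944, 34944))))) (.node (.node (.node (.leaf (22669, 54496)) (.leaf (61693, 23689))) (.node (.leaf (52373, 60573)) (.leaf (34944, 34944)))) (.node (.node (.leaf (30929, 53401)) (.leaf (51445, 60624))) (.node (.leaf (47292, 21704)) (.leaf (34944, 34944))))))) (.node (.node (.node (.node (.node (.leaf (31972, 62645)) (.leaf (40136, 28828))) (.node (.leaf (59641, 59592)) (.leaf (34944, 34944)))) (.node (.node (.leaf (23740, 54492)) (.leaf (20633, 47296))) (.node (.leaf (54437, 31981)) (.leaf (34944, 34944))))) (.node (.node (.node (.leaf (35065, 43217)) (.leaf (43169, 35000))) (.node (.leaf (60625, 51429)) (.leaf (34944, 34944)))) (.node (.node (.leaf (36069, 44237)) (.leaf (23696, 53484))) (.node (.leaf (35989, 44172)) (.leaf (34944, 34944)))))) (.node (.node (.node (.node (.leaf (60657, 51397)) (.leaf (30889, 61656))) (.node (.leaf (47245, 21753)) (.leaf (34944, 34944)))) (.node (.node (.leaf (52392, 59580)) (.leaf (20704, 39057))) (.node (.leaf (23709, 54508)) (.leaf (34944, 34944))))) (.node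 (.node (.node (.leaf (59644, 52424)) (.leaf (60560, 51349))) (.node (.leaf (53420, 23792)) (.leaf (34944, 34944)))) (.node (.node (.leaf (40076, 21740)) (.leaf (51352, 59536))) (.node (.leaf (22720, 53376)) (.leaf (34944, 34944))))))))))) (.node (.node (.node (.node (.node (.node (.node (.node (.node (.leaf (34996, 44209)) (.leaf (20657, 39136))) (.node (.leaf (61665, 22680)) (.leaf (34944, 34944)))) (.node (.node (.leaf (60581, 60596)) (.leaf (23685, 62701))) (.node (.leaf (47261, 21752)) (.leaf (34944, 34944))))) (.node (.node (.node (.leaf (31873, 53493)) (.leaf (21721, 47277))) (.node (.leaf (28876, 40105)) (.leaf (34944, 34944)))) (.node (.node (.leaf (61573, 31944)) (.leaf (51404, 52449))) (.node (.leaf (48272, 20725)) (.leaf (34944, 34944)))))) (.node (.node (.node (.node (.leaf (31928, 61636)) (.leaf (39053, 21745))) (.node (.leaf (44213, 44196)) (.leaf (34944, 34944)))) (.node (.node (.leaf (59564, 52393)) (.leaf (22680, 61665))) (.node (.leaf (43229, 36073)) (.leaf (34944, 34944))))) (.node (.node (.node (.leaf (59556,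 60585)) (.leaf (54416, 22732))) (.node (.leaf (28845, 40185)) (.leaf (34944, 34944)))) (.node (.node (.leaf (29853, 40149)) (.leaf (35996, 35996))) (.node (.leaf (43241, 43224)) (.leaf (34944, 34944))))))) (.node (.node (.node (.node (.node (.leaf (40064, 20732)) (.leaf (44257, 35029))) (.node (.leaf (29857, 39140)) (.leaf (34944, 34944)))) (.node (.node (.leaf (54513, 22684)) (.leaf (61601, 22776))) (.node (.leaf (52452, 60620)) (.leaf (34944, 34944))))) (.node (.node (.node (.leaf (22780, 54449)) (.leaf (31885, 54501))) (.node (.leaf (20700, 40096)) (.leaf (34944, 34944)))) (.node (.node (.leaf (21712, 39101)) (.leaf (43200, 35048))) (.node (.leaf (22697, 61648)) (.leaf (34944, 34944)))))) (.node (.node (.node (.node (.leaf (60557, 52372)) (.leaf (36065, 35037))) (.node (.leaf (59613, 52472)) (.leaf (34944, 34944)))) (.node (.node (.leaf (48340, 29829)) (.leaf (44229, 44261))) (.node (.leaf (51436, 52417)) (.leaf (34944, 34944))))) (.node (.node (.node (.leaf (29924, 48260)) (.leaf (23744, 53389))) (.node (.leaf (61617, 22777))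 (.leaf (34944, 34944)))) (.node (.node (.leaf (47332, 29865)) (.leaf (39056, 20720))) (.node (.leaf (53424, 22753)) (.leaf (34944, 34944)))))))) (.node (.node (.node (.node (.node (.node (.leaf (48308, 29893)) (.leaf (39097, 28864))) (.node (.leaf (60568, 59541)) (.leaf (34944, 34944)))) (.node (.node (.leaf (47349, 29880)) (.leaf (52445, 52477))) (.node (.leaf (40092, 21741)) (.leaf (34944, 34944))))) (.node (.node (.node (.leaf (54456, 30956)) (.leaf (44224, 35045))) (.node (.leaf (39092, 29888)) (.leaf (34944, 34944)))) (.node (.node (.leaf (35052, 36048)) (.leaf (53449, 30896))) (.node (.leaf (30937, 61593)) (.leaf (34944, 34944)))))) (.node (.node (.node (.node (.leaf (61568, 22728)) (.leaf (39113, 28801))) (.node (.leaf (20692, 48288)) (.leaf (34944, 34944)))) (.node (.node (.leaf (59625, 59593)) (.leaf (53413, 31968))) (.node (.leaf (29929, 47236)) (.leaf (34944, 34944))))) (.node (.node (.node (.leaf (53429, 31969)) (.leaf (29840, 39125))) (.node (.leaf (61677, 23688)) (.leaf (34944, 34944)))) (.node (.node (.leaf (53480,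 30848)) (.leaf (20645, 48369))) (.node (.leaf (21660, 40141)) (.leaf (34944, 34944))))))) (.node (.node (.node (.node (.node (.leaf (22700, 54480)) (.leaf (39080, 28881))) (.node (.leaf (31965, 54404)) (.leaf (34944, 34944)))) (.node (.node (.leaf (44169, 43157)) (.leaf (36093, 36044))) (.node (.leaf (30909, 54473)) (.leaf (34944, 34944))))) (.node (.node (.node (.leaf (40069, 29948)) (.leaf (61593, 30937))) (.node (.leaf (21668, 48364)) (.leaf (34944, 34944)))) (.node (.node (.leaf (36073, 43229)) (.leaf (34968, 43137))) (.node (.leaf (29872, 39157)) (.leaf (34944, 34944)))))) (.node (.node (.node (.node (.leaf (35020, 36080)) (.leaf (52416, 51452))) (.node (.leaf (48305, 20677)) (.leaf (34944, 34944)))) (.node (.node (.leaf (35041, 35024)) (.leaf (20717, 40081))) (.node (.leaf (30912, 53384)) (.leaf (34944, 34944))))) (.node (.node (.node (.leaf (59609, 59624)) (.leaf (51337, 59521))) (.node (.leaf (29928, 47252)) (.leaf (34944, 34944)))) (.node (.node (.leaf (40100, 29900)) (.leaf (51421, 52464))) (.node (.leaf (62717, 23684))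 (.leaf (34944, 34944))))))))) (.node (.node (.node (.node (.node (.node (.node (.leaf (28800, 39129)) (.leaf (62697, 30869))) (.node (.leaf (21673, 47340)) (.leaf (34944, 34944)))) (.node (.node (.leaf (30964, 62649)) (.leaf (47244, 21737))) (.node (.leaf (59557, 60601)) (.leaf (34944, 34944))))) (.node (.node (.node (.leaf (31961, 61588)) (.leaf (43201, 35064))) (.node (.leaf (39112, 28817)) (.leaf (34944, 34944)))) (.node (.node (.leaf (30936, 61577)) (.leaf (39073, 20673))) (.node (.leaf (21697, 39084)) (.leaf (34944, 34944)))))) (.node (.node (.node (.node (.leaf (35048, 43200)) (.leaf (20665, 47328))) (.node (.leaf (22781, 54433)) (.leaf (34944, 34944)))) (.node (.node (.leaf (62648, 30948)) (.leaf (54420, 31964))) (.node (.leaf (23697, 53500)) (.leaf (34944, 34944))))) (.node (.node (.node (.leaf (40177, 20653)) (.leaf (53453, 23712))) (.node (.leaf (31893, 62692)) (.leaf (34944, 34944)))) (.node (.node (.leaf (30861, 54504)) (.leaf (36037, 44269))) (.node (.leaf (30860, 54520)) (.leaf (34944, 34944))))))) (.node (.node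 (.node (.node (.node (.leaf (48269, 21748)) (.leaf (53405, 23745))) (.node (.leaf (36092, 36060)) (.leaf (34944, 34944)))) (.node (.node (.leaf (62660, 31925)) (.leaf (22777, 61617))) (.node (.leaf (36053, 44268)) (.leaf (34944, 34944))))) (.node (.node (.node (.leaf (28844, 40169)) (.leaf (22749, 54401))) (.node (.leaf (62708, 31892)) (.leaf (34944, 34944)))) (.node (.node (.leaf (61597, 23753)) (.leaf (62688, 22661))) (.node (.leaf (60608, 51444)) (.leaf (34944, 34944)))))) (.node (.node (.node (.node (.leaf (60648, 59604)) (.leaf (35040, 35008))) (.node (.leaf (62601, 30933)) (.leaf (34944, 34944)))) (.node (.node (.leaf (48296, 28884)) (.leaf (20677, 48305))) (.node (.leaf (20684, 40097)) (.leaf (34944, 34944))))) (.node (.node (.node (.leaf (29864, 47348)) (.leaf (51341, 52369))) (.node (.leaf (21709, 40124)) (.leaf (34944, 34944)))) (.node (.node (.leaf (54520, 30860)) (.leaf (62624, 22757))) (.node (.leaf (54480, 22700)) (.leaf (34944, 34944)))))))) (.node (.node (.node (.node (.node (.node (.leaf (47232, 20729)) (.leaf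 (20617, 47297))) (.node (.leaf (29896, 47284)) (.leaf (34944, 34944)))) (.node (.node (.leaf (31929, 61652)) (.leaf (44240, 35044))) (.node (.leaf (21684, 48365)) (.leaf (34944, 34944))))) (.node (.node (.node (.leaf (44252, 36084)) (.leaf (35013, 44256))) (.node (.leaf (52433, 51437)) (.leaf (34944, 34944)))) (.node (.node (.leaf (35012, 44272)) (.leaf (21705, 47276))) (.node (.leaf (61577, 30936)) (.leaf (34944, 34944)))))) (.node (.node (.node (.node (.leaf (40104, 28892)) (.leaf (29876, 48357))) (.node (.leaf (44192, 34981)) (.leaf (34944, 34944)))) (.node (.node (.leaf (62668, 23733)) (.leaf (39093, 29904))) (.node (.leaf (60613, 60660)) (.leaf (34944, 34944))))) (.node (.node (.node (.leaf (60593, 51365)) (.leaf (43140, 44184))) (.node (.leaf (21729, 39052)) (.leaf (34944, 34944)))) (.node (.node (.leaf (48292, 29892)) (.leaf (23712, 53453))) (.node (.leaf (44285, 36036)) (.leaf (34944, 34944))))))) (.node (.node (.node (.node (.node (.leaf (47348, 29864)) (.leaf (62613, 31940))) (.node (.leaf (23681, 53501)) (.leaf (34944,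 34944)))) (.node (.node (.leaf (23764, 62620)) (.leaf (43205, 44264))) (.node (.leaf (29865, 47332)) (.leaf (34944, 34944))))) (.node (.node (.node (.leaf (61672, 30856)) (.leaf (30900, 62681))) (.node (.leaf (48320, 20628)) (.leaf (34944, 34944)))) (.node (.node (.leaf (29941, 48277)) (.leaf (43156, 44185))) (.node (.leaf (29936, 39061)) (.leaf (34944, 34944)))))) (.node (.node (.node (.node (.leaf (60569, 59525)) (.leaf (30933, 62601))) (.node (.leaf (20708, 48257)) (.leaf (34944, 34944)))) (.node (.node (.leaf (52417, 51436)) (.leaf (53380, 31952))) (.node (.leaf (23800, 61612)) (.leaf (34944, 34944))))) (.node (.node (.node (.leaf (40124, 21709)) (.leaf (30857, 61688))) (.node (.leaf (40161, 20652)) (.leaf (34944, 34944)))) (.node (.node (.leaf (21757, 40093)) (.leaf (51348, 60544))) (.node (.leaf (52397, 52412)) (.leaf (34944, 34944)))))))))) (.node (.node (.node (.node (.node (.node (.node (.node (.leaf (48256, 20724)) (.leaf (35008, 35040))) (.node (.leaf (59585, 51433)) (.leaf (34944, 34944)))) (.node (.node (.leaf (36044,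 36093)) (.leaf (20637, 40144))) (.node (.leaf (28813, 40153)) (.leaf (34944, 34944))))) (.node (.node (.node (.leaf (54468, 31933)) (.leaf (59569, 51368))) (.node (.leaf (20648, 47345)) (.leaf (34944, 34944)))) (.node (.node (.leaf (21748, 48269)) (.leaf (31888, 53476))) (.node (.leaf (28864, 39097)) (.leaf (34944, 34944)))))) (.node (.node (.node (.node (.leaf (28900, 48265)) (.leaf (39160, 28848))) (.node (.leaf (47269, 29913)) (.leaf (34944, 34944)))) (.node (.node (.leaf (44268, 36053)) (.leaf (54473, 30909))) (.node (.leaf (43204, 44280)) (.leaf (34944, 34944))))) (.node (.node (.node (.leaf (21740, 40076)) (.leaf (22704, 53441))) (.node (.leaf (28836, 48361)) (.leaf (34944, 34944)))) (.node (.node (.leaf (54417, 22748)) (.leaf (51408, 51440))) (.node (.leaf (23705, 61692)) (.leaf (34944, 34944))))))) (.node (.node (.node (.node (.node (.leaf (21736, 47260)) (.leaf (53437, 23777))) (.node (.leaf (60561, 51333)) (.leaf (34944, 34944)))) (.node (.node (.leaf (47257, 28904)) (.leaf (36080, 35020))) (.node (.leaf (34964, 44177))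 (.leaf (34944, 34944))))) (.node (.node (.node (.leaf (48332, 21636)) (.leaf (59544, 59544))) (.node (.leaf (44225, 35061)) (.leaf (34944, 34944)))) (.node (.node (.leaf (22748, 54417)) (.leaf (59532, 52361))) (.node (.leaf (40097, 20684)) (.leaf (34944, 34944)))))) (.node (.node (.node (.node (.leaf (29916, 40101)) (.leaf (60573, 52373))) (.node (.leaf (59633, 51400)) (.leaf (34944, 34944)))) (.node (.node (.leaf (48373, 29877)) (.leaf (20616, 47313))) (.node (.leaf (43161, 43161)) (.leaf (34944, 34944))))) (.node (.node (.node (.leaf (54484, 31932)) (.leaf (29844, 48325))) (.node (.leaf (59525, 60569)) (.leaf (34944, 34944)))) (.node (.node (.leaf (43236, 44248)) (.leaf (20624, 39120))) (.node (.leaf (54412, 23773)) (.leaf (34944, 34944)))))))) (.node (.node (.node (.node (.node (.node (.leaf (34997, 44193)) (.leaf (35053, 36032))) (.node (.leaf (29829, 48340)) (.leaf (34944, 34944)))) (.node (.node (.leaf (34952, 43136)) (.leaf (61669, 31880))) (.node (.leaf (52449, 51404)) (.leaf (34944, 34944))))) (.node (.node (.node (.leaf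 (44248, 43236)) (.leaf (43260, 36057))) (.node (.leaf (62661, 31909)) (.leaf (34944, 34944)))) (.node (.node (.leaf (47272, 28889)) (.leaf (53408, 22752))) (.node (.leaf (34992, 34977)) (.leaf (34944, 34944)))))) (.node (.node (.node (.node (.leaf (59592, 59641)) (.leaf (62600, 30917))) (.node (.leaf (54421, 31948)) (.leaf (34944, 34944)))) (.node (.node (.leaf (59588, 60649)) (.leaf (20649, 47329))) (.node (.leaf (35001, 43185)) (.leaf (34944, 34944))))) (.node (.node (.node (.leaf (36052, 44284)) (.leaf (34985, 43184))) (.node (.leaf (61621, 31977)) (.leaf (34944, 34944)))) (.node (.node (.leaf (51328, 51345)) (.leaf (61588, 31961))) (.node (.leaf (23781, 62637)) (.leaf (34944, 34944))))))) (.node (.node (.node (.node (.node (.leaf (48337, 20613)) (.leaf (20625, 39104))) (.node (.leaf (31880, 61669)) (.leaf (34944, 34944)))) (.node (.node (.leaf (48265, 28900)) (.leaf (48277, 29941))) (.node (.leaf (54493, 23724)) (.leaf (34944, 34944))))) (.node (.node (.node (.leaf (61620, 31993)) (.leaf (22685, 54497))) (.node (.leaf (60665,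 59589)) (.leaf (34944, 34944)))) (.node (.node (.leaf (30849, 53496)) (.leaf (62665, 30901))) (.node (.leaf (48261, 29940)) (.leaf (34944, 34944)))))) (.node (.node (.node (.node (.leaf (48357, 29876)) (.leaf (52356, 60556))) (.node (.leaf (28840, 47353)) (.leaf (34944, 34944)))) (.node (.node (.leaf (40117, 29917)) (.leaf (39101, 21712))) (.node (.leaf (43192, 43177)) (.leaf (34944, 34944))))) (.node (.node (.node (.leaf (21696, 39100)) (.leaf (51345, 51328))) (.node (.leaf (30972, 54457)) (.leaf (34944, 34944)))) (.node (.node (.leaf (28921, 47240)) (.leaf (51405, 52465))) (.node (.leaf (47248, 20728)) (.leaf (34944, 34944))))))))) (.node (.node (.node (.node (.node (.node (.node (.leaf (22744, 61569)) (.leaf (47344, 20664))) (.node (.leaf (22677, 62689)) (.leaf (34944, 34944)))) (.node (.node (.leaf (29873, 39141)) (.leaf (28828, 40136))) (.node (.leaf (28825, 47304)) (.leaf (34944, 34944))))) (.node (.node (.node (.leaf (53385, 30928)) (.leaf (43213, 36072))) (.node (.leaf (62597, 31941)) (.leaf (34944, 34944)))) (.node (.node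 (.leaf (61660, 23737)) (.leaf (51433, 59585))) (.node (.leaf (22733, 54400)) (.leaf (34944, 34944)))))) (.node (.node (.node (.node (.leaf (40156, 21645)) (.leaf (62605, 23749))) (.node (.leaf (35025, 35057)) (.leaf (34944, 34944)))) (.node (.node (.leaf (62716, 23700)) (.leaf (23688, 61677))) (.node (.leaf (48341, 29845)) (.leaf (34944, 34944))))) (.node (.node (.node (.leaf (29825, 39108)) (.leaf (54501, 31885))) (.node (.leaf (31937, 53397)) (.leaf (34944, 34944)))) (.node (.node (.leaf (34957, 35968)) (.leaf (51424, 51409))) (.node (.leaf (36041, 43261)) (.leaf (34944, 34944))))))) (.node (.node (.node (.node (.node (.leaf (60628, 60645)) (.leaf (20621, 40145))) (.node (.leaf (21665, 39148)) (.leaf (34944, 34944)))) (.node (.node (.leaf (47293, 21720)) (.leaf (30872, 61673))) (.node (.leaf (35980, 35997)) (.leaf (34944, 34944))))) (.node (.node (.node (.leaf (21689, 47341)) (.leaf (52400, 51389))) (.node (.leaf (44228, 44277)) (.leaf (34944, 34944)))) (.node (.node (.leaf (61633, 22712)) (.leaf (51349, 60560))) (.node (.leaf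 (29949, 40085)) (.leaf (34944, 34944)))))) (.node (.node (.node (.node (.leaf (22773, 62625)) (.leaf (59576, 59576))) (.node (.leaf (28853, 48376)) (.leaf (34944, 34944)))) (.node (.node (.leaf (47308, 21641)) (.leaf (39152, 20656))) (.node (.leaf (20676, 48289)) (.leaf (34944, 34944))))) (.node (.node (.node (.leaf (35060, 44241)) (.leaf (21640, 47324))) (.node (.leaf (30952, 61608)) (.leaf (34944, 34944)))) (.node (.node (.leaf (60641, 51396)) (.leaf (39136, 20657))) (.node (.leaf (44164, 44181)) (.leaf (34944, 34944)))))))) (.node (.node (.node (.node (.node (.node (.leaf (35004, 36017)) (.leaf (28812, 40137))) (.node (.leaf (48316, 21701)) (.leaf (34944, 34944)))) (.node (.node (.leaf (28901, 48281)) (.leaf (40084, 29933))) (.node (.leaf (44189, 35972)) (.leaf (34944, 34944))))) (.node (.node (.node (.leaf (47268, 29897)) (.leaf (28889, 47272))) (.node (.leaf (23737, 61660)) (.leaf (34944, 34944)))) (.node (.node (.leaf (28868, 48297)) (.leaf (43253, 44233))) (.node (.leaf (40141, 21660)) (.leaf (34944, 34944)))))) (.node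 (.node (.node (.node (.leaf (48309, 29909)) (.leaf (60552, 59540))) (.node (.leaf (52369, 51341)) (.leaf (34944, 34944)))) (.node (.node (.leaf (28897, 39049)) (.leaf (23760, 53388))) (.node (.leaf (51432, 59601)) (.leaf (34944, 34944))))) (.node (.node (.node (.leaf (30904, 61641)) (.leaf (51428, 60609))) (.node (.leaf (43212, 36088)) (.leaf (34944, 34944)))) (.node (.node (.leaf (54500, 31901)) (.leaf (20632, 47312))) (.node (.leaf (47312, 20632)) (.leaf (34944, 34944))))))) (.node (.node (.node (.node (.node (.leaf (34953, 43152)) (.leaf (62653, 23780))) (.node (.leaf (54505, 30877)) (.leaf (34944, 34944)))) (.node (.node (.leaf (23768, 61580)) (.leaf (23772, 54428))) (.node (.leaf (22761, 61616)) (.leaf (34944, 34944))))) (.node (.node (.node (.leaf (28904, 47257)) (.leaf (59540, 60552))) (.node (.leaf (53448, 30880)) (.leaf (34944, 34944)))) (.node (.node (.leaf (48353, 20644)) (.leaf (43160, 43145))) (.node (.leaf (35000, 43169)) (.leaf (34944, 34944)))))) (.node (.node (.node (.node (.leaf (28885, 48312)) (.leaf (30880,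 53448))) (.node (.leaf (20668, 40160)) (.leaf (34944, 34944)))) (.node (.node (.leaf (30892, 54488)) (.leaf (39069, 21744))) (.node (.leaf (59560, 59577)) (.leaf (34944, 34944))))) (.node (.node (.node (.leaf (21649, 39117)) (.leaf (51389, 52400))) (.node (.leaf (47325, 21656)) (.leaf (34944, 34944)))) (.node (.node (.leaf (40160, 20668)) (.leaf (20640, 39153))) (.node (.leaf (28824, 47320)) (.leaf (34944, 34944)))))))))))) (.node (.node (.node (.node (.node (.node (.node (.node (.node (.node (.leaf (53376, 22720)) (.leaf (23692, 54525))) (.node (.leaf (52465, 51405)) (.leaf (34944, 34944)))) (.node (.node (.leaf (48349, 21653)) (.leaf (51384, 59568))) (.node (.leaf (35056, 35009)) (.leaf (34944, 34944))))) (.node (.node (.node (.leaf (28857, 47336)) (.leaf (43189, 44201))) (.node (.leaf (35061, 44225)) (.leaf (34944, 34944)))) (.node (.node (.leaf (40113, 20685)) (.leaf (39137, 20641))) (.node (.leaf (22765, 54432)) (.leaf (34944, 34944)))))) (.node (.node (.node (.node (.leaf (47320, 28824)) (.leaf (54405, 31949))) (.node (.leaf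 (62593, 22741)) (.leaf (34944, 34944)))) (.node (.node (.leaf (35016, 43232)) (.leaf (40088, 28925))) (.node (.leaf (43185, 35001)) (.leaf (34944, 34944))))) (.node (.node (.node (.leaf (34961, 34961)) (.leaf (29852, 40133))) (.node (.leaf (48285, 21749)) (.leaf (34944, 34944)))) (.node (.node (.leaf (48324, 29828)) (.leaf (20725, 48272))) (.node (.leaf (30960, 53417)) (.leaf (34944, 34944))))))) (.node (.node (.node (.node (.node (.leaf (21692, 40173)) (.leaf (62709, 31876))) (.node (.leaf (48281, 28901)) (.leaf (34944, 34944)))) (.node (.node (.leaf (59617, 51401)) (.leaf (61680, 22665))) (.node (.leaf (52364, 52364)) (.leaf (34944, 34944))))) (.node (.node (.node (.leaf (31953, 53396)) (.leaf (47328, 20665))) (.node (.leaf (23761, 53404)) (.leaf (34944, 34944)))) (.node (.node (.leaf (40105, 28876)) (.leaf (30868, 62713))) (.node (.leaf (40137, 28812)) (.leaf (34944, 34944)))))) (.node (.node (.node (.node (.leaf (36072, 43213)) (.leaf (29937, 39045))) (.node (.leaf (47273, 28873)) (.leaf (34944, 34944)))) (.node (.node (.leaf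 (22692, 62672)) (.leaf (62640, 22756))) (.node (.leaf (51388, 52384)) (.leaf (34944, 34944))))) (.node (.node (.node (.leaf (48380, 21669)) (.leaf (51444, 60608))) (.node (.leaf (52409, 59565)) (.leaf (34944, 34944)))) (.node (.node (.leaf (54508, 23709)) (.leaf (20733, 40080))) (.node (.leaf (22664, 61664)) (.leaf (34944, 34944)))))))) (.node (.node (.node (.node (.node (.node (.leaf (60544, 51348)) (.leaf (39057, 20704))) (.node (.leaf (29893, 48308)) (.leaf (34944, 34944)))) (.node (.node (.leaf (22689, 53456)) (.leaf (52376, 59549))) (.node (.leaf (21741, 40092)) (.leaf (34944, 34944))))) (.node (.node (.node (.leaf (23680, 53485)) (.leaf (62645, 31972))) (.node (.leaf (39096, 28880)) (.leaf (34944, 34944)))) (.node (.node (.leaf (53496, 30849)) (.leaf (39044, 29921))) (.node (.leaf (61580, 23768)) (.leaf (34944, 34944)))))) (.node (.node (.node (.node (.leaf (40116, 29901)) (.leaf (39108, 29825))) (.node (.leaf (23769, 61596)) (.leaf (34944, 34944)))) (.node (.node (.leaf (47324, 21640)) (.leaf (31941, 62597))) (.node (.leaf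 (48369, 20645)) (.leaf (34944, 34944))))) (.node (.node (.node (.leaf (60629, 60661)) (.leaf (30969, 61625))) (.node (.leaf (40169, 28844)) (.leaf (34944, 34944)))) (.node (.node (.leaf (60664, 59605)) (.leaf (61600, 22760))) (.node (.leaf (34972, 35985)) (.leaf (34944, 34944))))))) (.node (.node (.node (.node (.node (.leaf (21700, 48300)) (.leaf (39128, 28816))) (.node (.leaf (47277, 21721)) (.leaf (34944, 34944)))) (.node (.node (.leaf (31921, 53460)) (.leaf (29933, 40084))) (.node (.leaf (43137, 34968)) (.leaf (34944, 34944))))) (.node (.node (.node (.leaf (61676, 23704)) (.leaf (34976, 34976))) (.node (.leaf (22681, 61681)) (.leaf (34944, 34944)))) (.node (.node (.leaf (60645, 60628)) (.leaf (44256, 35013))) (.node (.leaf (35984, 34956)) (.leaf (34944, 34944)))))) (.node (.node (.node (.node (.leaf (21756, 40077)) (.leaf (53400, 30913))) (.node (.leaf (22737, 53393)) (.leaf (34944, 34944)))) (.node (.node (.leaf (28913, 39048)) (.leaf (31949, 54405))) (.node (.leaf (43197, 36009)) (.leaf (34944, 34944))))) (.node (.node (.node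 (.leaf (53417, 30960)) (.leaf (51333, 60561))) (.node (.leaf (30948, 62648)) (.leaf (34944, 34944)))) (.node (.node (.leaf (21720, 47293)) (.leaf (62620, 23764))) (.node (.leaf (52405, 60605)) (.leaf (34944, 34944))))))))) (.node (.node (.node (.node (.node (.node (.node (.leaf (59572, 60584)) (.leaf (39100, 21696))) (.node (.leaf (40081, 20717)) (.leaf (34944, 34944)))) (.node (.node (.leaf (29948, 40069)) (.leaf (53404, 23761))) (.node (.leaf (34960, 34945)) (.leaf (34944, 34944))))) (.node (.node (.node (.leaf (44196, 44213)) (.leaf (62621, 23748))) (.node (.leaf (62657, 22709)) (.leaf (34944, 34944)))) (.node (.node (.leaf (61581, 23752)) (.leaf (36000, 34989))) (.node (.leaf (35029, 44257)) (.leaf (34944, 34944)))))) (.node (.node (.node (.node (.leaf (53500, 23697)) (.leaf (23684, 62717))) (.node (.leaf (31952, 53380)) (.leaf (34944, 34944)))) (.node (.node (.leaf (28805, 48345)) (.leaf (23757, 54413))) (.node (.leaf (20728, 47248)) (.leaf (34944, 34944))))) (.node (.node (.node (.leaf (61608, 30952)) (.leaf (51329, 51329)))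 (.node (.leaf (47253, 29944)) (.leaf (34944, 34944)))) (.node (.node (.leaf (29877, 48373)) (.leaf (20720, 39056))) (.node (.leaf (30856, 61672)) (.leaf (34944, 34944))))))) (.node (.node (.node (.node (.node (.leaf (60632, 59637)) (.leaf (31912, 61637))) (.node (.leaf (29932, 40068)) (.leaf (34944, 34944)))) (.node (.node (.leaf (31968, 53413)) (.leaf (36009, 43197))) (.node (.leaf (29861, 48372)) (.leaf (34944, 34944))))) (.node (.node (.node (.leaf (59608, 59640)) (.leaf (40109, 21724))) (.node (.leaf (28888, 47288)) (.leaf (34944, 34944)))) (.node (.node (.leaf (52381, 52381)) (.leaf (51453, 52432))) (.node (.leaf (29885, 40181)) (.leaf (34944, 34944)))))) (.node (.node (.node (.node (.leaf (29940, 48261)) (.leaf (28912, 39064))) (.node (.leaf (31884, 54517)) (.leaf (34944, 34944)))) (.node (.node (.leaf (53393, 22737)) (.leaf (20672, 39089))) (.node (.leaf (23745, 53405)) (.leaf (34944, 34944))))) (.node (.node (.node (.leaf (30916, 62616)) (.leaf (43193, 43193))) (.node (.leaf (62684, 23732)) (.leaf (34944, 34944)))) (.node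 (.node (.leaf (29841, 39109)) (.leaf (39161, 28832))) (.node (.leaf (23721, 61661)) (.leaf (34944, 34944)))))))) (.node (.node (.node (.node (.node (.node (.leaf (59529, 59529)) (.leaf (23733, 62668))) (.node (.leaf (36088, 43212)) (.leaf (34944, 34944)))) (.node (.node (.leaf (47321, 28808)) (.leaf (21664, 39164))) (.node (.leaf (61612, 23800)) (.leaf (34944, 34944))))) (.node (.node (.node (.leaf (44212, 44212)) (.leaf (53397, 31937))) (.node (.leaf (52440, 59645)) (.leaf (34944, 34944)))) (.node (.node (.leaf (28852, 48360)) (.leaf (59524, 60553))) (.node (.leaf (52448, 51420)) (.leaf (34944, 34944)))))) (.node (.node (.node (.node (.leaf (21716, 48301)) (.leaf (47252, 29928))) (.node (.leaf (52428, 52460)) (.leaf (34944, 34944)))) (.node (.node (.leaf (31976, 61605)) (.leaf (44208, 34980))) (.node (.leaf (21685, 48381)) (.leaf (34944, 34944))))) (.node (.node (.node (.leaf (29837, 40148)) (.leaf (22769, 53425))) (.node (.leaf (61673, 30872)) (.leaf (34944, 34944)))) (.node (.node (.leaf (53452, 23728)) (.leaf (23704, 61676)))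 (.node (.leaf (54445, 23789)) (.leaf (34944, 34944))))))) (.node (.node (.node (.node (.node (.leaf (59581, 52408)) (.leaf (31948, 54421))) (.node (.leaf (54453, 31980)) (.leaf (34944, 34944)))) (.node (.node (.leaf (35044, 44240)) (.leaf (53421, 23776))) (.node (.leaf (30917, 62600)) (.leaf (34944, 34944))))) (.node (.node (.node (.leaf (40172, 21676)) (.leaf (21644, 40140))) (.node (.leaf (60597, 60597)) (.leaf (34944, 34944)))) (.node (.node (.leaf (36021, 44204)) (.leaf (43220, 44281))) (.node (.leaf (36036, 44285)) (.leaf (34944, 34944)))))) (.node (.node (.node (.node (.leaf (29892, 48292)) (.leaf (34948, 44176))) (.node (.leaf (23784, 61613)) (.leaf (34944, 34944)))) (.node (.node (.leaf (22713, 61649)) (.leaf (39109, 29841))) (.node (.leaf (60636, 52453)) (.leaf (34944, 34944))))) (.node (.node (.node (.leaf (61652, 31929)) (.leaf (20644, 48353))) (.node (.leaf (30869, 62697)) (.leaf (34944, 34944)))) (.node (.node (.leaf (40165, 29884)) (.leaf (51369, 59553))) (.node (.leaf (44184, 43140)) (.leaf (34944, 34944))))))))))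 (.node (.node (.node (.node (.node (.node (.node (.node (.leaf (53432, 30945)) (.leaf (20716, 40065))) (.node (.leaf (61628, 23801)) (.leaf (34944, 34944)))) (.node (.node (.leaf (60609, 51428)) (.leaf (20685, 40113))) (.node (.leaf (47316, 29832)) (.leaf (34944, 34944))))) (.node (.node (.node (.leaf (47297, 20617)) (.leaf (30941, 54409))) (.node (.leaf (23701, 62700)) (.leaf (34944, 34944)))) (.node (.node (.leaf (44220, 36020)) (.leaf (39104, 20625))) (.node (.leaf (47289, 28872)) (.leaf (34944, 34944)))))) (.node (.node (.node (.node (.leaf (47356, 21672)) (.leaf (39157, 29872))) (.node (.leaf (54477, 23725)) (.leaf (34944, 34944)))) (.node (.node (.leaf (62712, 30852)) (.leaf (23728, 53452))) (.node (.leaf (53492, 31889)) (.leaf (34944, 34944))))) (.node (.node (.node (.leaf (40180, 29869)) (.leaf (34956, 35984))) (.node (.leaf (31944, 61573)) (.leaf (34944, 34944)))) (.node (.node (.leaf (23752, 61581)) (.leaf (51340, 52353))) (.node (.leaf (30885, 62664)) (.leaf (34944, 34944))))))) (.node (.node (.node (.node (.node (.leaf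 (22756, 62640)) (.leaf (60637, 52469))) (.node (.leaf (36013, 36013)) (.leaf (34944, 34944)))) (.node (.node (.leaf (59596, 52457)) (.leaf (29920, 39060))) (.node (.leaf (61689, 30873)) (.leaf (34944, 34944))))) (.node (.node (.node (.leaf (53445, 31904)) (.leaf (28869, 48313))) (.node (.leaf (62644, 31988)) (.leaf (34944, 34944)))) (.node (.node (.leaf (40108, 21708)) (.leaf (43261, 36041))) (.node (.leaf (61637, 31912)) (.leaf (34944, 34944)))))) (.node (.node (.node (.node (.leaf (30848, 53480)) (.leaf (48293, 29908))) (.node (.leaf (54449, 22780)) (.leaf (34944, 34944)))) (.node (.node (.leaf (53501, 23681)) (.leaf (20620, 40129))) (.node (.leaf (61644, 23736)) (.leaf (34944, 34944))))) (.node (.node (.node (.leaf (35977, 43165)) (.leaf (47353, 28840))) (.node (.leaf (34993, 34993)) (.leaf (34944, 34944)))) (.node (.node (.leaf (30973, 54441)) (.leaf (20628, 48320))) (.node (.leaf (23765, 62604)) (.leaf (34944, 34944)))))))) (.node (.node (.node (.node (.node (.node (.leaf (48356, 29860)) (.leaf (28925, 40088))) (.node (.leaf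 (53472, 22656)) (.leaf (34944, 34944)))) (.node (.node (.leaf (28808, 47321)) (.leaf (30949, 62632))) (.node (.leaf (22752, 53408)) (.leaf (34944, 34944))))) (.node (.node (.node (.leaf (54504, 30861)) (.leaf (40148, 29837))) (.node (.leaf (39140, 29857)) (.leaf (34944, 34944)))) (.node (.node (.leaf (59584, 51449)) (.leaf (28873, 47273))) (.node (.leaf (61648, 22697)) (.leaf (34944, 34944)))))) (.node (.node (.node (.node (.leaf (35021, 36064)) (.leaf (39065, 28896))) (.node (.leaf (23756, 54429)) (.leaf (34944, 34944)))) (.node (.node (.leaf (54516, 31900)) (.leaf (23700, 62716))) (.node (.leaf (60601, 59557)) (.leaf (34944, 34944))))) (.node (.node (.node (.leaf (29860, 48356)) (.leaf (54428, 23772))) (.node (.leaf (52413, 52413)) (.leaf (34944, 34944)))) (.node (.node (.leaf (43188, 44217)) (.leaf (61641, 30904))) (.node (.leaf (54512, 22668)) (.leaf (34944, 34944))))))) (.node (.node (.node (.node (.node (.leaf (60580, 60580)) (.leaf (20629, 48336))) (.node (.leaf (28848, 39160)) (.leaf (34944, 34944)))) (.node (.node (.leaf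 (53425, 22769)) (.leaf (48304, 20693))) (.node (.leaf (30957, 54440)) (.leaf (34944, 34944))))) (.node (.node (.node (.leaf (52436, 60653)) (.leaf (21669, 48380))) (.node (.leaf (29900, 40100)) (.leaf (34944, 34944)))) (.node (.node (.leaf (29881, 47333)) (.leaf (39133, 21648))) (.node (.leaf (22688, 53440)) (.leaf (34944, 34944)))))) (.node (.node (.node (.node (.leaf (53485, 23680)) (.leaf (30893, 54472))) (.node (.leaf (31940, 62613)) (.leaf (34944, 34944)))) (.node (.node (.leaf (52353, 51340)) (.leaf (62604, 23765))) (.node (.leaf (51412, 60640)) (.leaf (34944, 34944))))) (.node (.node (.node (.leaf (40121, 28877)) (.leaf (51353, 59520))) (.node (.leaf (62696, 30853)) (.leaf (34944, 34944)))) (.node (.node (.leaf (48297, 28868)) (.leaf (39060, 29920))) (.node (.leaf (54517, 31884)) (.leaf (34944, 34944))))))))) (.node (.node (.node (.node (.node (.node (.node (.leaf (21632, 39132)) (.leaf (44181, 44164))) (.node (.leaf (40085, 29949)) (.leaf (34944, 34944)))) (.node (.node (.leaf (35985, 34972)) (.leaf (47301, 29849))) (.node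 (.leaf (28924, 40072)) (.leaf (34944, 34944))))) (.node (.node (.node (.leaf (31881, 61685)) (.leaf (52365, 52380))) (.node (.leaf (52437, 60669)) (.leaf (34944, 34944)))) (.node (.node (.leaf (44232, 43237)) (.leaf (62704, 22660))) (.node (.leaf (40125, 21725)) (.leaf (34944, 34944)))))) (.node (.node (.node (.node (.leaf (21633, 39116)) (.leaf (20660, 48352))) (.node (.leaf (59612, 52456)) (.leaf (34944, 34944)))) (.node (.node (.leaf (52404, 60589)) (.leaf (52368, 51357))) (.node (.leaf (29869, 40180)) (.leaf (34944, 34944))))) (.node (.node (.node (.leaf (48268, 21732)) (.leaf (23805, 54444))) (.node (.leaf (28872, 47289)) (.leaf (34944, 34944)))) (.node (.node (.leaf (36025, 43196)) (.leaf (20681, 47265))) (.node (.leaf (54460, 23804)) (.leaf (34944, 34944))))))) (.node (.node (.node (.node (.node (.leaf (35968, 34957)) (.leaf (20701, 40112))) (.node (.leaf (22684, 54513)) (.leaf (34944, 34944)))) (.node (.node (.leaf (28905, 47241)) (.leaf (29856, 39156))) (.node (.leaf (60592, 51381)) (.leaf (34944, 34944))))) (.node (.node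 (.node (.leaf (40065, 20716)) (.leaf (61584, 22729))) (.node (.leaf (62641, 22772)) (.leaf (34944, 34944)))) (.node (.node (.leaf (40132, 29836)) (.leaf (51397, 60657))) (.node (.leaf (53465, 30897)) (.leaf (34944, 34944)))))) (.node (.node (.node (.node (.leaf (35049, 43216)) (.leaf (31908, 62677))) (.node (.leaf (44245, 44260)) (.leaf (34944, 34944)))) (.node (.node (.leaf (59620, 60617)) (.leaf (21680, 39165))) (.node (.leaf (23753, 61597)) (.leaf (34944, 34944))))) (.node (.node (.node (.leaf (36049, 35068)) (.leaf (29913, 47269))) (.node (.leaf (43252, 44249)) (.leaf (34944, 34944)))) (.node (.node (.leaf (54429, 23756)) (.leaf (39068, 21728))) (.node (.leaf (52457, 59596)) (.leaf (34944, 34944)))))))) (.node (.node (.node (.node (.node (.node (.leaf (28892, 40104)) (.leaf (44172, 35989))) (.node (.leaf (22776, 61601)) (.leaf (34944, 34944)))) (.node (.node (.leaf (47357, 21688)) (.leaf (40185, 28845))) (.node (.leaf (52385, 51372)) (.leaf (34944, 34944))))) (.node (.node (.node (.leaf (54476, 23741)) (.leaf (47264, 20697)))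 (.node (.leaf (35033, 43249)) (.leaf (34944, 34944)))) (.node (.node (.leaf (59537, 51336)) (.leaf (61616, 22761))) (.node (.leaf (21648, 39133)) (.leaf (34944, 34944)))))) (.node (.node (.node (.node (.leaf (60545, 51332)) (.leaf (48377, 28837))) (.node (.leaf (62609, 22740)) (.leaf (34944, 34944)))) (.node (.node (.leaf (44273, 35028)) (.leaf (52432, 51453))) (.node (.leaf (43244, 36056)) (.leaf (34944, 34944))))) (.node (.node (.node (.leaf (48344, 28821)) (.leaf (51437, 52433))) (.node (.leaf (61664, 22664)) (.leaf (34944, 34944)))) (.node (.node (.leaf (23804, 54460)) (.leaf (20636, 40128))) (.node (.leaf (54408, 30925)) (.leaf (34944, 34944))))))) (.node (.node (.node (.node (.node (.leaf (28809, 47305)) (.leaf (21749, 48285))) (.node (.leaf (47341, 21689)) (.leaf (34944, 34944)))) (.node (.node (.leaf (20608, 39121)) (.leaf (43148, 35992))) (.node (.leaf (36048, 35052)) (.leaf (34944, 34944))))) (.node (.node (.node (.leaf (59645, 52440)) (.leaf (53396, 31953))) (.node (.leaf (60600, 59573)) (.leaf (34944, 34944)))) (.node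 (.node (.leaf (22741, 62593)) (.leaf (43245, 36040))) (.node (.leaf (35997, 35980)) (.leaf (34944, 34944)))))) (.node (.node (.node (.node (.leaf (53473, 22672)) (.leaf (21744, 39069))) (.node (.leaf (36060, 36092)) (.leaf (34944, 34944)))) (.node (.node (.leaf (61656, 30889)) (.leaf (39144, 28849))) (.node (.leaf (34973, 35969)) (.leaf (34944, 34944))))) (.node (.node (.node (.leaf (22701, 54464)) (.leaf (43144, 43144))) (.node (.leaf (59637, 60632)) (.leaf (34944, 34944)))) (.node (.node (.leaf (61625, 30969)) (.leaf (51344, 51344))) (.node (.leaf (22693, 62656)) (.leaf (34944, 34944))))))))))) (.node (.node (.node (.node (.node (.node (.node (.node (.node (.leaf (59520, 51353)) (.leaf (36089, 43228))) (.node (.leaf (52444, 52461)) (.leaf (34944, 34944)))) (.node (.node (.leaf (48336, 20629)) (.leaf (23777, 53437))) (.node (.leaf (47345, 20648)) (.leaf (34944, 34944))))) (.node (.node (.node (.leaf (28893, 40120)) (.leaf (44217, 43188))) (.node (.leaf (34988, 36016)) (.leaf (34944, 34944)))) (.node (.node (.leaf (34949, 44160))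 (.leaf (51441, 51392))) (.node (.leaf (60617, 59620)) (.leaf (34944, 34944)))))) (.node (.node (.node (.node (.leaf (44160, 34949)) (.leaf (51364, 60577))) (.node (.leaf (44253, 36068)) (.leaf (34944, 34944)))) (.node (.node (.leaf (23720, 61645)) (.leaf (28832, 39161))) (.node (.leaf (51416, 59632)) (.leaf (34944, 34944))))) (.node (.node (.node (.leaf (22757, 62624)) (.leaf (29904, 39093))) (.node (.leaf (59600, 51448)) (.leaf (34944, 34944)))) (.node (.node (.leaf (30884, 62680)) (.leaf (35988, 44188))) (.node (.leaf (48301, 21716)) (.leaf (34944, 34944))))))) (.node (.node (.node (.node (.node (.leaf (21688, 47357)) (.leaf (47317, 29848))) (.node (.leaf (30873, 61689)) (.leaf (34944, 34944)))) (.node (.node (.leaf (23780, 62653)) (.leaf (61613, 23784))) (.node (.leaf (61684, 31897)) (.leaf (34944, 34944))))) (.node (.node (.node (.leaf (53476, 31888)) (.leaf (44244, 44276))) (.node (.leaf (23732, 62684)) (.leaf (34944, 34944)))) (.node (.node (.leaf (40129, 20620)) (.leaf (43173, 44200))) (.node (.leaf (52408, 59581)) (.leaf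 (34944, 34944)))))) (.node (.node (.node (.node (.leaf (53389, 23744)) (.leaf (60549, 60564))) (.node (.leaf (54461, 23788)) (.leaf (34944, 34944)))) (.node (.node (.leaf (60588, 52388)) (.leaf (31896, 61668))) (.node (.leaf (53497, 30865)) (.leaf (34944, 34944))))) (.node (.node (.node (.leaf (30956, 54456)) (.leaf (23725, 54477))) (.node (.leaf (61629, 23785)) (.leaf (34944, 34944)))) (.node (.node (.leaf (29908, 48293)) (.leaf (31993, 61620))) (.node (.leaf (28917, 48280)) (.leaf (34944, 34944)))))))) (.node (.node (.node (.node (.node (.node (.leaf (22772, 62641)) (.leaf (52469, 60637))) (.node (.leaf (36005, 44205)) (.leaf (34944, 34944)))) (.node (.node (.leaf (28909, 40089)) (.leaf (40072, 28924))) (.node (.leaf (61609, 30968)) (.leaf (34944, 34944))))) (.node (.node (.node (.leaf (59640, 59608)) (.leaf (43196, 36025))) (.node (.leaf (31988, 62644)) (.leaf (34944, 34944)))) (.node (.node (.leaf (59593, 59625)) (.leaf (35973, 44173))) (.node (.leaf (52384, 51388)) (.leaf (34944, 34944)))))) (.node (.node (.node (.node (.leaf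 (40152, 28829)) (.leaf (31897, 61684))) (.node (.leaf (59632, 51416)) (.leaf (34944, 34944)))) (.node (.node (.leaf (54521, 30876)) (.leaf (23785, 61629))) (.node (.leaf (35972, 44189)) (.leaf (34944, 34944))))) (.node (.node (.node (.leaf (29889, 39076)) (.leaf (36077, 36045))) (.node (.leaf (40068, 29932)) (.leaf (34944, 34944)))) (.node (.node (.leaf (43224, 43241)) (.leaf (43164, 35993))) (.node (.leaf (21656, 47325)) (.leaf (34944, 34944))))))) (.node (.node (.node (.node (.node (.leaf (53461, 31905)) (.leaf (20689, 39072))) (.node (.leaf (44197, 44197)) (.leaf (34944, 34944)))) (.node (.node (.leaf (31925, 62660)) (.leaf (54496, 22669))) (.node (.leaf (48381, 21685)) (.leaf (34944, 34944))))) (.node (.node (.node (.leaf (22661, 62688)) (.leaf (22708, 62673))) (.node (.leaf (60660, 60613)) (.leaf (34944, 34944)))) (.node (.node (.leaf (60556, 52356)) (.leaf (44188, 35988))) (.node (.leaf (60621, 52468)) (.leaf (34944, 34944)))))) (.node (.node (.node (.node (.leaf (22673, 53489)) (.leaf (52393, 59564))) (.node (.leaf (48317,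 21717)) (.leaf (34944, 34944)))) (.node (.node (.leaf (40157, 21661)) (.leaf (20661, 48368))) (.node (.leaf (61604, 31992)) (.leaf (34944, 34944))))) (.node (.node (.node (.leaf (22728, 61568)) (.leaf (20652, 40161))) (.node (.leaf (21733, 48284)) (.leaf (34944, 34944)))) (.node (.node (.leaf (21725, 40125)) (.leaf (39072, 20689))) (.node (.leaf (52461, 52444)) (.leaf (34944, 34944))))))))) (.node (.node (.node (.node (.node (.node (.node (.leaf (59580, 52392)) (.leaf (52464, 51421))) (.node (.leaf (40184, 28861)) (.leaf (34944, 34944)))) (.node (.node (.leaf (29849, 47301)) (.leaf (31984, 53412))) (.node (.leaf (28817, 39112)) (.leaf (34944, 34944))))) (.node (.node (.node (.leaf (47241, 28905)) (.leaf (51396, 60641))) (.node (.leaf (62636, 23797)) (.leaf (34944, 34944)))) (.node (.node (.leaf (40120, 28893)) (.leaf (39124, 29824))) (.node (.leaf (52389, 60604)) (.leaf (34944, 34944)))))) (.node (.node (.node (.node (.leaf (59628, 52425)) (.leaf (23776, 53421))) (.node (.leaf (53477, 31872)) (.leaf (34944, 34944)))) (.node (.node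 (.leaf (39040, 20721)) (.leaf (52429, 52476))) (.node (.leaf (23741, 54476)) (.leaf (34944, 34944))))) (.node (.node (.node (.leaf (22753, 53424)) (.leaf (43181, 36008))) (.node (.leaf (31889, 53492)) (.leaf (34944, 34944)))) (.node (.node (.leaf (29905, 39077)) (.leaf (51429, 60625))) (.node (.leaf (48300, 21700)) (.leaf (34944, 34944))))))) (.node (.node (.node (.node (.node (.leaf (29824, 39124)) (.leaf (20696, 47280))) (.node (.leaf (54497, 22685)) (.leaf (34944, 34944)))) (.node (.node (.leaf (44177, 34964)) (.leaf (30925, 54408))) (.node (.leaf (54441, 30973)) (.leaf (34944, 34944))))) (.node (.node (.node (.leaf (59601, 51432)) (.leaf (52380, 52365))) (.node (.leaf (39164, 21664)) (.leaf (34944, 34944)))) (.node (.node (.leaf (61585, 22745)) (.leaf (43145, 43160))) (.node (.leaf (36045, 36077)) (.leaf (34944, 34944)))))) (.node (.node (.node (.node (.leaf (36068, 44253)) (.leaf (31985, 53428))) (.node (.leaf (44221, 36004)) (.leaf (34944, 34944)))) (.node (.node (.leaf (59629, 52441)) (.leaf (62672, 22692))) (.node (.leaf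 (23716, 62685)) (.leaf (34944, 34944))))) (.node (.node (.node (.leaf (36056, 43244)) (.leaf (60548, 60548))) (.node (.leaf (22724, 62608)) (.leaf (34944, 34944)))) (.node (.node (.leaf (36076, 36061)) (.leaf (39064, 28912))) (.node (.leaf (62713, 30868)) (.leaf (34944, 34944)))))))) (.node (.node (.node (.node (.node (.node (.leaf (28856, 47352)) (.leaf (62705, 22676))) (.node (.leaf (60565, 60565)) (.leaf (34944, 34944)))) (.node (.node (.leaf (44161, 34965)) (.leaf (30944, 53416))) (.node (.leaf (44237, 36069)) (.leaf (34944, 34944))))) (.node (.node (.node (.leaf (28860, 40168)) (.leaf (47337, 28841))) (.node (.leaf (47336, 28857)) (.leaf (34944, 34944)))) (.node (.node (.leaf (48372, 29861)) (.leaf (52372, 60557))) (.node (.leaf (30940, 54425)) (.leaf (34944, 34944)))))) (.node (.node (.node (.node (.leaf (21713, 39085)) (.leaf (60576, 51380))) (.node (.leaf (28880, 39096)) (.leaf (34944, 34944)))) (.node (.node (.leaf (44185, 43156)) (.leaf (39141, 29873))) (.node (.leaf (22696, 61632)) (.leaf (34944, 34944))))) (.node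 (.node (.node (.leaf (35981, 35981)) (.leaf (51377, 51360))) (.node (.leaf (21704, 47292)) (.leaf (34944, 34944)))) (.node (.node (.leaf (43180, 36024)) (.leaf (51376, 51376))) (.node (.leaf (44176, 34948)) (.leaf (34944, 34944))))))) (.node (.node (.node (.node (.node (.leaf (28908, 40073)) (.leaf (39084, 21697))) (.node (.leaf (54457, 30972)) (.leaf (34944, 34944)))) (.node (.node (.leaf (54413, 23757)) (.leaf (23717, 62669))) (.node (.leaf (36057, 43260)) (.leaf (34944, 34944))))) (.node (.node (.node (.leaf (35032, 43233)) (.leaf (61645, 23720))) (.node (.leaf (29868, 40164)) (.leaf (34944, 34944)))) (.node (.node (.leaf (60649, 59588)) (.leaf (51361, 51361))) (.node (.leaf (29845, 48341)) (.leaf (34944, 34944)))))) (.node (.node (.node (.node (.leaf (36004, 44221)) (.leaf (61661, 23721))) (.node (.leaf (23693, 54509)) (.leaf (34944, 34944)))) (.node (.node (.leaf (44236, 36085)) (.leaf (31936, 53381))) (.node (.leaf (20724, 48256)) (.leaf (34944, 34944))))) (.node (.node (.node (.leaf (22732, 54416)) (.leaf (20729, 47232)))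 (.node (.leaf (53441, 22704)) (.leaf (34944, 34944)))) (.node (.node (.leaf (52441, 59629)) (.leaf (51356, 52352))) (.node (.leaf (44272, 35012)) (.leaf (34944, 34944)))))))))) (.node (.node (.node (.node (.node (.node (.node (.node (.leaf (53460, 31921)) (.leaf (23792, 53420))) (.node (.leaf (22672, 53473)) (.leaf (34944, 34944)))) (.node (.node (.leaf (60584, 59572)) (.leaf (40096, 20700))) (.node (.leaf (31924, 62676)) (.leaf (34944, 34944))))) (.node (.node (.node (.leaf (47276, 21705)) (.leaf (59577, 59560))) (.node (.leaf (23793, 53436)) (.leaf (34944, 34944)))) (.node (.node (.leaf (44260, 44245)) (.leaf (31892, 62708))) (.node (.leaf (31945, 61589)) (.leaf (34944, 34944)))))) (.node (.node (.node (.node (.leaf (31980, 54453)) (.leaf (28816, 39128))) (.node (.leaf (31957, 62596)) (.leaf (34944, 34944)))) (.node (.node (.leaf (52456, 59612)) (.leaf (20693, 48304))) (.node (.leaf (54432, 22765)) (.leaf (34944, 34944))))) (.node (.node (.node (.leaf (52424, 59644)) (.leaf (43225, 43257))) (.node (.leaf (35028, 44273)) (.leaf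 (34944, 34944)))) (.node (.node (.leaf (54525, 23692)) (.leaf (51392, 51441))) (.node (.leaf (54433, 22781)) (.leaf (34944, 34944))))))) (.node (.node (.node (.node (.node (.leaf (53433, 30961)) (.leaf (31997, 54436))) (.node (.leaf (29832, 47316)) (.leaf (34944, 34944)))) (.node (.node (.leaf (54444, 23805)) (.leaf (29897, 47268))) (.node (.leaf (59553, 51369)) (.leaf (34944, 34944))))) (.node (.node (.node (.leaf (53416, 30944)) (.leaf (34989, 36000))) (.node (.leaf (52420, 60652)) (.leaf (34944, 34944)))) (.node (.node (.leaf (52468, 60621)) (.leaf (51368, 59569))) (.node (.leaf (61589, 31945)) (.leaf (34944, 34944)))))) (.node (.node (.node (.node (.leaf (36028, 36028)) (.leaf (28820, 48328))) (.node (.leaf (47333, 29881)) (.leaf (34944, 34944)))) (.node (.node (.leaf (60652, 52420)) (.leaf (39081, 28865))) (.node (.leaf (51372, 52385)) (.leaf (34944, 34944))))) (.node (.node (.node (.leaf (60596, 60581)) (.leaf (60661, 60629))) (.node (.leaf (40188, 21677)) (.leaf (34944, 34944)))) (.node (.node (.leaf (30968, 61609)) (.leaf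 (62612, 31956))) (.node (.leaf (20609, 39105)) (.leaf (34944, 34944)))))))) (.node (.node (.node (.node (.node (.node (.leaf (59521, 51337)) (.leaf (23773, 54412))) (.node (.leaf (29921, 39044)) (.leaf (34944, 34944)))) (.node (.node (.leaf (47285, 29912)) (.leaf (59568, 51384))) (.node (.leaf (61681, 22681)) (.leaf (34944, 34944))))) (.node (.node (.node (.leaf (31877, 62693)) (.leaf (51448, 59600))) (.node (.leaf (39116, 21633)) (.leaf (34944, 34944)))) (.node (.node (.leaf (28881, 39080)) (.leaf (31901, 54500))) (.node (.leaf (21657, 47309)) (.leaf (34944, 34944)))))) (.node (.node (.node (.node (.leaf (34980, 44208)) (.leaf (39089, 20672))) (.node (.leaf (62652, 23796)) (.leaf (34944, 34944)))) (.node (.node (.leaf (47249, 20712)) (.leaf (62637, 23781))) (.node (.leaf (59533, 52377)) (.leaf (34944, 34944))))) (.node (.node (.node (.leaf (54440, 30957)) (.leaf (60572, 52357))) (.node (.leaf (52473, 59597)) (.leaf (34944, 34944)))) (.node (.node (.leaf (43228, 36089)) (.leaf (61592, 30921))) (.node (.leaf (59597, 52473)) (.leaf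 (34944, 34944))))))) (.node (.node (.node (.node (.node (.leaf (59573, 60600)) (.leaf (20673, 39073))) (.node (.leaf (53384, 30912)) (.leaf (34944, 34944)))) (.node (.node (.leaf (28916, 48264)) (.leaf (43184, 34985))) (.node (.leaf (35976, 43149)) (.leaf (34944, 34944))))) (.node (.node (.node (.leaf (61624, 30953)) (.leaf (44201, 43189))) (.node (.leaf (53481, 30864)) (.leaf (34944, 34944)))) (.node (.node (.leaf (29917, 40117)) (.leaf (43177, 43192))) (.node (.leaf (48289, 20676)) (.leaf (34944, 34944)))))) (.node (.node (.node (.node (.leaf (60668, 52421)) (.leaf (40112, 20701))) (.node (.leaf (53412, 31984)) (.leaf (34944, 34944)))) (.node (.node (.leaf (61569, 22744)) (.leaf (62693, 31877))) (.node (.leaf (23736, 61644)) (.leaf (34944, 34944))))) (.node (.node (.node (.leaf (52388, 60588)) (.leaf (51393, 51425))) (.node (.leaf (61668, 31896)) (.leaf (34944, 34944)))) (.node (.node (.leaf (59621, 60633)) (.leaf (43152, 34953))) (.node (.leaf (31977, 61621)) (.leaf (34944, 34944))))))))) (.node (.node (.node (.node (.node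 (.node (.node (.leaf (53377, 22736)) (.leaf (39105, 20609))) (.node (.leaf (60669, 52437)) (.leaf (34944, 34944)))) (.node (.node (.leaf (60620, 52452)) (.leaf (31909, 62661))) (.node (.leaf (34969, 43153)) (.leaf (34944, 34944))))) (.node (.node (.node (.leaf (59604, 60648)) (.leaf (51400, 59633))) (.node (.leaf (44209, 34996)) (.leaf (34944, 34944)))) (.node (.node (.leaf (30888, 61640)) (.leaf (39085, 21713))) (.node (.leaf (52453, 60636)) (.leaf (34944, 34944)))))) (.node (.node (.node (.node (.leaf (21637, 48348)) (.leaf (62689, 22677))) (.node (.leaf (23729, 53468)) (.leaf (34944, 34944)))) (.node (.node (.leaf (44264, 43205)) (.leaf (54448, 22764))) (.node (.leaf (30901, 62665)) (.leaf (34944, 34944))))) (.node (.node (.node (.leaf (60605, 52405)) (.leaf (23797, 62636))) (.node (.leaf (53409, 22768)) (.leaf (34944, 34944)))) (.node (.node (.leaf (22705, 53457)) (.leaf (51365, 60593))) (.node (.leaf (23713, 53469)) (.leaf (34944, 34944))))))) (.node (.node (.node (.node (.node (.leaf (53428, 31985)) (.leaf (39132, 21632)))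 (.node (.leaf (47296, 20633)) (.leaf (34944, 34944)))) (.node (.node (.leaf (54409, 30941)) (.leaf (54424, 30924))) (.node (.leaf (22668, 54512)) (.leaf (34944, 34944))))) (.node (.node (.node (.leaf (52476, 52429)) (.leaf (40133, 29852))) (.node (.leaf (47265, 20681)) (.leaf (34944, 34944)))) (.node (.node (.leaf (34977, 34992)) (.leaf (44180, 44180))) (.node (.leaf (29848, 47317)) (.leaf (34944, 34944)))))) (.node (.node (.node (.node (.leaf (21753, 47245)) (.leaf (59541, 60568))) (.node (.leaf (22709, 62657)) (.leaf (34944, 34944)))) (.node (.node (.leaf (28821, 48344)) (.leaf (39077, 29905))) (.node (.leaf (23724, 54493)) (.leaf (34944, 34944))))) (.node (.node (.node (.leaf (22760, 61600)) (.leaf (51420, 52448))) (.node (.leaf (40077, 21756)) (.leaf (34944, 34944)))) (.node (.node (.leaf (35009, 35056)) (.leaf (51449, 59584))) (.node (.leaf (39041, 20705)) (.leaf (34944, 34944)))))))) (.node (.node (.node (.node (.node (.node (.leaf (35036, 36081)) (.leaf (39049, 28897))) (.node (.leaf (30924, 54424)) (.leaf (34944, 34944))))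 (.node (.node (.leaf (31981, 54437)) (.leaf (22676, 62705))) (.node (.leaf (30877, 54505)) (.leaf (34944, 34944))))) (.node (.node (.node (.leaf (31956, 62612)) (.leaf (59549, 52376))) (.node (.leaf (54464, 22701)) (.leaf (34944, 34944)))) (.node (.node (.leaf (59545, 59528)) (.leaf (30953, 61624))) (.node (.leaf (21652, 48333)) (.leaf (34944, 34944)))))) (.node (.node (.node (.node (.leaf (29944, 47253)) (.leaf (60640, 51412))) (.node (.leaf (62649, 30964)) (.leaf (34944, 34944)))) (.node (.node (.leaf (22721, 53392)) (.leaf (39165, 21680))) (.node (.leaf (43141, 44168)) (.leaf (34944, 34944))))) (.node (.node (.node (.leaf (43136, 34952)) (.leaf (53440, 22688))) (.node (.leaf (30865, 53497)) (.leaf (34944, 34944)))) (.node (.node (.leaf (60553, 59524)) (.leaf (31904, 53445))) (.node (.leaf (31920, 53444)) (.leaf (34944, 34944))))))) (.node (.node (.node (.node (.node (.leaf (47284, 29896)) (.leaf (39045, 29937))) (.node (.leaf (44249, 43252)) (.leaf (34944, 34944)))) (.node (.node (.leaf (47288, 28888)) (.leaf (23708, 54524)))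 (.node (.leaf (60577, 51364)) (.leaf (34944, 34944))))) (.node (.node (.node (.leaf (59636, 60616)) (.leaf (59548, 52360))) (.node (.leaf (48273, 20709)) (.leaf (34944, 34944)))) (.node (.node (.leaf (30961, 53433)) (.leaf (51373, 52401))) (.node (.leaf (22725, 62592)) (.leaf (34944, 34944)))))) (.node (.node (.node (.node (.leaf (59528, 59545)) (.leaf (51452, 52416))) (.node (.leaf (20664, 47344)) (.leaf (34944, 34944)))) (.node (.node (.leaf (61653, 31913)) (.leaf (39061, 29936))) (.node (.leaf (21728, 39068)) (.leaf (34944, 34944))))) (.node (.node (.node (.leaf (40140, 21644)) (.leaf (43232, 35016))) (.node (.leaf (28804, 48329)) (.leaf (34944, 34944)))) (.node (.node (.leaf (22768, 53409)) (.leaf (51360, 51377))) (.node (.leaf (31905, 53461)) (.leaf (34944, 34944)))))))))))))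

/-- the cubes -/
def cubeList : List ℕ := [20621, 51369, 51360, 51361]

/-- generators -/
def gensK : List ℕ := [53376, 34996, 59520]

/-- images of the generators -/
def phiGens : List (List ℕ) := [[31880, 44228, 40085], [31952, 36008, 51336], [22720, 44209, 51336], [22720, 44209, 51353]]

/-- conjugators of elements of order three -/
def conjThree : Tree ℕ :=
  (.node (.node (.node (.node (.node (.node (.node (.node (.node (.node (.node (.leaf 0) (.leaf 0)) (.node (.leaf 0) (.leaf 0))) (.node (.node (.leaf 0) (.leaf 0)) (.node (.leaf 0) (.leaf 0)))) (.node (.node (.node (.leaf 0) (.leaf 0)) (.node (.leaf 0) (.leaf 0))) (.node (.node (.leaf 0) (.leaf 0)) (.node (.leaf 0) (.leaf 0))))) (.node (.node (.node (.node (.leaf 145) (.leaf 0)) (.node (.leaf 310) (.leaf 0))) (.node (.node (.leaf 0) (.leaf 0)) (.node (.leaf 0) (.leaf 0)))) (.node (.node (.node (.leaf 0) (.leaf 0)) (.node (.leaf 0) (.leaf 0))) (.node (.node (.leaf 0) (.leaf 0)) (.node (.leaf 0) (.leaf 0)))))) (.node (.node (.node (.node (.node (.leaf 0) (.leaf 0)) (.node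 (.leaf 0) (.leaf 0))) (.node (.node (.leaf 0) (.leaf 0)) (.node (.leaf 0) (.leaf 0)))) (.node (.node (.node (.leaf 0) (.leaf 0)) (.node (.leaf 0) (.leaf 0))) (.node (.node (.leaf 0) (.leaf 0)) (.node (.leaf 0) (.leaf 0))))) (.node (.node (.node (.node (.leaf 0) (.leaf 0)) (.node (.leaf 0) (.leaf 0))) (.node (.node (.leaf 0) (.leaf 0)) (.node (.leaf 0) (.leaf 0)))) (.node (.node (.node (.leaf 70) (.leaf 0)) (.node (.leaf 0) (.leaf 0))) (.node (.node (.leaf 0) (.leaf 0)) (.node (.leaf 0) (.leaf 0))))))) (.node (.node (.node (.node (.node (.node (.leaf 0) (.leaf 0)) (.node (.leaf 0) (.leaf 0))) (.node (.node (.leaf 0) (.leaf 0)) (.node (.leaf 0) (.leaf 0)))) (.node (.node (.node (.leaf 0) (.leaf 0)) (.node (.leaf 0) (.leaf 0))) (.node (.node (.leaf 0) (.leaf 0)) (.node (.leaf 0) (.leaf 0))))) (.node (.node (.node (.node (.leaf 0) (.leaf 0)) (.node (.leaf 0) (.leaf 0))) (.node (.node (.leaf 0) (.leaf 0)) (.node (.leaf 0) (.leaf 0)))) (.node (.node (.node (.leaf 0) (.leaf 0)) (.node (.leaf 0) (.leaf 0))) (.node (.node (.leaf 0) (.leaf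 0)) (.node (.leaf 0) (.leaf 0)))))) (.node (.node (.node (.node (.node (.leaf 0) (.leaf 0)) (.node (.leaf 0) (.leaf 0))) (.node (.node (.leaf 0) (.leaf 124)) (.node (.leaf 112) (.leaf 0)))) (.node (.node (.node (.leaf 0) (.leaf 0)) (.node (.leaf 0) (.leaf 0))) (.node (.node (.leaf 0) (.leaf 0)) (.node (.leaf 0) (.leaf 0))))) (.node (.node (.node (.node (.leaf 0) (.leaf 0)) (.node (.leaf 0) (.leaf 0))) (.node (.node (.leaf 147) (.leaf 0)) (.node (.leaf 0) (.leaf 0)))) (.node (.node (.node (.leaf 0) (.leaf 0)) (.node (.leaf 0) (.leaf 0))) (.node (.node (.leaf 0) (.leaf 0)) (.node (.leaf 0) (.leaf 0)))))))) (.node (.node (.node (.node (.node (.node (.node (.leaf 0) (.leaf 0)) (.node (.leaf 0) (.leaf 0))) (.node (.node (.leaf 0) (.leaf 0)) (.node (.leaf 0) (.leaf 0)))) (.node (.node (.node (.leaf 0) (.leaf 0)) (.node (.leaf 0) (.leaf 0))) (.node (.node (.leaf 0) (.leaf 0)) (.node (.leaf 0) (.leaf 0))))) (.node (.node (.node (.node (.leaf 0) (.leaf 21)) (.node (.leaf 0) (.leaf 0))) (.node (.node (.leaf 0) (.leaf 0)) (.node (.leaf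 0) (.leaf 0)))) (.node (.node (.node (.leaf 0) (.leaf 516)) (.node (.leaf 0) (.leaf 0))) (.node (.node (.leaf 0) (.leaf 0)) (.node (.leaf 0) (.leaf 0)))))) (.node (.node (.node (.node (.node (.leaf 0) (.leaf 0)) (.node (.leaf 0) (.leaf 0))) (.node (.node (.leaf 0) (.leaf 0)) (.node (.leaf 0) (.leaf 0)))) (.node (.node (.node (.leaf 0) (.leaf 0)) (.node (.leaf 0) (.leaf 0))) (.node (.node (.leaf 0) (.leaf 0)) (.node (.leaf 0) (.leaf 0))))) (.node (.node (.node (.node (.leaf 0) (.leaf 0)) (.node (.leaf 0) (.leaf 0))) (.node (.node (.leaf 0) (.leaf 0)) (.node (.leaf 0) (.leaf 0)))) (.node (.node (.node (.leaf 0) (.leaf 0)) (.node (.leaf 0) (.leaf 0))) (.node (.node (.leaf 0) (.leaf 0)) (.node (.leaf 0) (.leaf 0))))))) (.node (.node (.node (.node (.node (.node (.leaf 0) (.leaf 645)) (.node (.leaf 0) (.leaf 0))) (.node (.node (.leaf 0) (.leaf 0)) (.node (.leaf 0) (.leaf 0)))) (.node (.node (.node (.leaf 28) (.leaf 0)) (.node (.leaf 0) (.leaf 0))) (.node (.node (.leaf 11) (.leaf 0)) (.node (.leaf 0) (.leaf 0))))) (.node (.node (.node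 (.node (.leaf 0) (.leaf 0)) (.node (.leaf 0) (.leaf 0))) (.node (.node (.leaf 0) (.leaf 151)) (.node (.leaf 0) (.leaf 0)))) (.node (.node (.node (.leaf 0) (.leaf 0)) (.node (.leaf 0) (.leaf 0))) (.node (.node (.leaf 0) (.leaf 0)) (.node (.leaf 0) (.leaf 0)))))) (.node (.node (.node (.node (.node (.leaf 0) (.leaf 0)) (.node (.leaf 0) (.leaf 0))) (.node (.node (.leaf 0) (.leaf 0)) (.node (.leaf 291) (.leaf 0)))) (.node (.node (.node (.leaf 0) (.leaf 0)) (.node (.leaf 0) (.leaf 0))) (.node (.node (.leaf 0) (.leaf 0)) (.node (.leaf 0) (.leaf 0))))) (.node (.node (.node (.node (.leaf 0) (.leaf 306)) (.node (.leaf 0) (.leaf 0))) (.node (.node (.leaf 0) (.leaf 0)) (.node (.leaf 0) (.leaf 0)))) (.node (.node (.node (.leaf 0) (.leaf 0)) (.node (.leaf 0) (.leaf 0))) (.node (.node (.leaf 0) (.leaf 0)) (.node (.leaf 0) (.leaf 0))))))))) (.node (.node (.node (.node (.node (.node (.node (.node (.leaf 317) (.leaf 0)) (.node (.leaf 0) (.leaf 0))) (.node (.node (.leaf 0) (.leaf 0)) (.node (.leaf 0) (.leaf 0)))) (.node (.node (.node (.leaf 0)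 (.leaf 547)) (.node (.leaf 0) (.leaf 0))) (.node (.node (.leaf 0) (.leaf 0)) (.node (.leaf 0) (.leaf 0))))) (.node (.node (.node (.node (.leaf 0) (.leaf 0)) (.node (.leaf 0) (.leaf 0))) (.node (.node (.leaf 0) (.leaf 0)) (.node (.leaf 0) (.leaf 0)))) (.node (.node (.node (.leaf 0) (.leaf 0)) (.node (.leaf 0) (.leaf 0))) (.node (.node (.leaf 0) (.leaf 0)) (.node (.leaf 0) (.leaf 0)))))) (.node (.node (.node (.node (.node (.leaf 0) (.leaf 0)) (.node (.leaf 0) (.leaf 0))) (.node (.node (.leaf 0) (.leaf 0)) (.node (.leaf 0) (.leaf 0)))) (.node (.node (.node (.leaf 0) (.leaf 0)) (.node (.leaf 0) (.leaf 0))) (.node (.node (.leaf 0) (.leaf 0)) (.node (.leaf 0) (.leaf 0))))) (.node (.node (.node (.node (.leaf 0) (.leaf 0)) (.node (.leaf 0) (.leaf 0))) (.node (.node (.leaf 0) (.leaf 0)) (.node (.leaf 0) (.leaf 0)))) (.node (.node (.node (.leaf 325) (.leaf 0)) (.node (.leaf 0) (.leaf 0))) (.node (.node (.leaf 0) (.leaf 0)) (.node (.leaf 0) (.leaf 0))))))) (.node (.node (.node (.node (.node (.node (.leaf 0) (.leaf 0)) (.node (.leaf 0) (.leaf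 0))) (.node (.node (.leaf 0) (.leaf 0)) (.node (.leaf 0) (.leaf 0)))) (.node (.node (.node (.leaf 0) (.leaf 0)) (.node (.leaf 0) (.leaf 0))) (.node (.node (.leaf 0) (.leaf 0)) (.node (.leaf 0) (.leaf 0))))) (.node (.node (.node (.node (.leaf 0) (.leaf 0)) (.node (.leaf 0) (.leaf 0))) (.node (.node (.leaf 0) (.leaf 0)) (.node (.leaf 633) (.leaf 0)))) (.node (.node (.node (.leaf 27) (.leaf 0)) (.node (.leaf 1055) (.leaf 0))) (.node (.node (.leaf 0) (.leaf 0)) (.node (.leaf 0) (.leaf 0)))))) (.node (.node (.node (.node (.node (.leaf 0) (.leaf 0)) (.node (.leaf 0) (.leaf 0))) (.node (.node (.leaf 0) (.leaf 0)) (.node (.leaf 0) (.leaf 0)))) (.node (.node (.node (.leaf 0) (.leaf 0)) (.node (.leaf 0) (.leaf 0))) (.node (.node (.leaf 142) (.leaf 0)) (.node (.leaf 0) (.leaf 0))))) (.node (.node (.node (.node (.leaf 0) (.leaf 296)) (.node (.leaf 0) (.leaf 0))) (.node (.node (.leaf 0) (.leaf 0)) (.node (.leaf 0) (.leaf 0)))) (.node (.node (.node (.leaf 0) (.leaf 0)) (.node (.leaf 0) (.leaf 0))) (.node (.node (.leaf 0) (.leaf 0)) (.node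 (.leaf 121) (.leaf 0)))))))) (.node (.node (.node (.node (.node (.node (.node (.leaf 0) (.leaf 297)) (.node (.leaf 0) (.leaf 0))) (.node (.node (.leaf 0) (.leaf 0)) (.node (.leaf 0) (.leaf 0)))) (.node (.node (.node (.leaf 0) (.leaf 0)) (.node (.leaf 0) (.leaf 0))) (.node (.node (.leaf 0) (.leaf 0)) (.node (.leaf 0) (.leaf 0))))) (.node (.node (.node (.node (.leaf 0) (.leaf 0)) (.node (.leaf 0) (.leaf 0))) (.node (.node (.leaf 0) (.leaf 0)) (.node (.leaf 0) (.leaf 0)))) (.node (.node (.node (.leaf 0) (.leaf 0)) (.node (.leaf 0) (.leaf 0))) (.node (.node (.leaf 0) (.leaf 0)) (.node (.leaf 0) (.leaf 0)))))) (.node (.node (.node (.node (.node (.leaf 0) (.leaf 0)) (.node (.leaf 0) (.leaf 0))) (.node (.node (.leaf 0) (.leaf 0)) (.node (.leaf 0) (.leaf 0)))) (.node (.node (.node (.leaf 0) (.leaf 0)) (.node (.leaf 0) (.leaf 0))) (.node (.node (.leaf 0) (.leaf 0)) (.node (.leaf 0) (.leaf 0))))) (.node (.node (.node (.node (.leaf 0) (.leaf 0)) (.node (.leaf 0) (.leaf 0))) (.node (.node (.leaf 0) (.leaf 0)) (.node (.leaf 0) (.leaf 0))))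 (.node (.node (.node (.leaf 314) (.leaf 0)) (.node (.leaf 0) (.leaf 0))) (.node (.node (.leaf 0) (.leaf 0)) (.node (.leaf 0) (.leaf 0))))))) (.node (.node (.node (.node (.node (.node (.leaf 3) (.leaf 0)) (.node (.leaf 0) (.leaf 0))) (.node (.node (.leaf 0) (.leaf 0)) (.node (.leaf 0) (.leaf 0)))) (.node (.node (.node (.leaf 0) (.leaf 0)) (.node (.leaf 0) (.leaf 0))) (.node (.node (.leaf 0) (.leaf 0)) (.node (.leaf 0) (.leaf 0))))) (.node (.node (.node (.node (.leaf 0) (.leaf 0)) (.node (.leaf 0) (.leaf 0))) (.node (.node (.leaf 0) (.leaf 0)) (.node (.leaf 0) (.leaf 0)))) (.node (.node (.node (.leaf 0) (.leaf 0)) (.node (.leaf 0) (.leaf 0))) (.node (.node (.leaf 0) (.leaf 0)) (.node (.leaf 0) (.leaf 0)))))) (.node (.node (.node (.node (.node (.leaf 0) (.leaf 0)) (.node (.leaf 0) (.leaf 0))) (.node (.node (.leaf 69) (.leaf 0)) (.node (.leaf 0) (.leaf 0)))) (.node (.node (.node (.leaf 0) (.leaf 0)) (.node (.leaf 0) (.leaf 0))) (.node (.node (.leaf 0) (.leaf 0)) (.node (.leaf 0) (.leaf 0))))) (.node (.node (.node (.node (.leaf 0)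 (.leaf 0)) (.node (.leaf 0) (.leaf 0))) (.node (.node (.leaf 0) (.leaf 0)) (.node (.leaf 0) (.leaf 0)))) (.node (.node (.node (.leaf 0) (.leaf 0)) (.node (.leaf 0) (.leaf 0))) (.node (.node (.leaf 0) (.leaf 0)) (.node (.leaf 1026) (.leaf 0)))))))))) (.node (.node (.node (.node (.node (.node (.node (.node (.node (.leaf 0) (.leaf 0)) (.node (.leaf 0) (.leaf 0))) (.node (.node (.leaf 0) (.leaf 0)) (.node (.leaf 0) (.leaf 0)))) (.node (.node (.node (.leaf 0) (.leaf 0)) (.node (.leaf 0) (.leaf 0))) (.node (.node (.leaf 0) (.leaf 0)) (.node (.leaf 0) (.leaf 0))))) (.node (.node (.node (.node (.leaf 0) (.leaf 0)) (.node (.leaf 0) (.leaf 0))) (.node (.node (.leaf 0) (.leaf 0)) (.node (.leaf 0) (.leaf 0)))) (.node (.node (.node (.leaf 0) (.leaf 0)) (.node (.leaf 0) (.leaf 0))) (.node (.node (.leaf 0) (.leaf 0)) (.node (.leaf 0) (.leaf 0)))))) (.node (.node (.node (.node (.node (.leaf 0) (.leaf 0)) (.node (.leaf 0) (.leaf 0))) (.node (.node (.leaf 0) (.leaf 0)) (.node (.leaf 0) (.leaf 0)))) (.node (.node (.node (.leaf 0) (.leaf 0)) (.node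 (.leaf 0) (.leaf 0))) (.node (.node (.leaf 0) (.leaf 0)) (.node (.leaf 604) (.leaf 0))))) (.node (.node (.node (.node (.leaf 0) (.leaf 0)) (.node (.leaf 0) (.leaf 0))) (.node (.node (.leaf 0) (.leaf 0)) (.node (.leaf 0) (.leaf 0)))) (.node (.node (.node (.leaf 0) (.leaf 0)) (.node (.leaf 0) (.leaf 0))) (.node (.node (.leaf 0) (.leaf 0)) (.node (.leaf 0) (.leaf 0))))))) (.node (.node (.node (.node (.node (.node (.leaf 0) (.leaf 0)) (.node (.leaf 0) (.leaf 0))) (.node (.node (.leaf 0) (.leaf 0)) (.node (.leaf 0) (.leaf 0)))) (.node (.node (.node (.leaf 0) (.leaf 0)) (.node (.leaf 0) (.leaf 0))) (.node (.node (.leaf 0) (.leaf 163)) (.node (.leaf 0) (.leaf 0))))) (.node (.node (.node (.node (.leaf 64) (.leaf 0)) (.node (.leaf 0) (.leaf 0))) (.node (.node (.leaf 0) (.leaf 0)) (.node (.leaf 0) (.leaf 0)))) (.node (.node (.node (.leaf 0) (.leaf 0)) (.node (.leaf 137) (.leaf 0))) (.node (.node (.leaf 30) (.leaf 0)) (.node (.leaf 0) (.leaf 0)))))) (.node (.node (.node (.node (.node (.leaf 634) (.leaf 0)) (.node (.leaf 542) (.leaf 0)))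 (.node (.node (.leaf 0) (.leaf 0)) (.node (.leaf 0) (.leaf 0)))) (.node (.node (.node (.leaf 0) (.leaf 0)) (.node (.leaf 0) (.leaf 0))) (.node (.node (.leaf 0) (.leaf 0)) (.node (.leaf 0) (.leaf 0))))) (.node (.node (.node (.node (.leaf 0) (.leaf 0)) (.node (.leaf 0) (.leaf 0))) (.node (.node (.leaf 0) (.leaf 0)) (.node (.leaf 140) (.leaf 0)))) (.node (.node (.node (.leaf 0) (.leaf 0)) (.node (.leaf 0) (.leaf 0))) (.node (.node (.leaf 0) (.leaf 0)) (.node (.leaf 68) (.leaf 0)))))))) (.node (.node (.node (.node (.node (.node (.node (.leaf 0) (.leaf 0)) (.node (.leaf 0) (.leaf 0))) (.node (.node (.leaf 29) (.leaf 0)) (.node (.leaf 0) (.leaf 0)))) (.node (.node (.node (.leaf 0) (.leaf 0)) (.node (.leaf 0) (.leaf 0))) (.node (.node (.leaf 0) (.leaf 0)) (.node (.leaf 0) (.leaf 0))))) (.node (.node (.node (.node (.leaf 0) (.leaf 0)) (.node (.leaf 0) (.leaf 0))) (.node (.node (.leaf 0) (.leaf 0)) (.node (.leaf 0) (.leaf 0)))) (.node (.node (.node (.leaf 0) (.leaf 0)) (.node (.leaf 0) (.leaf 0))) (.node (.node (.leaf 0) (.leaf 0)) (.node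 (.leaf 122) (.leaf 0)))))) (.node (.node (.node (.node (.node (.leaf 0) (.leaf 0)) (.node (.leaf 0) (.leaf 0))) (.node (.node (.leaf 0) (.leaf 0)) (.node (.leaf 0) (.leaf 0)))) (.node (.node (.node (.leaf 0) (.leaf 0)) (.node (.leaf 0) (.leaf 0))) (.node (.node (.leaf 0) (.leaf 0)) (.node (.leaf 0) (.leaf 0))))) (.node (.node (.node (.node (.leaf 0) (.leaf 0)) (.node (.leaf 0) (.leaf 0))) (.node (.node (.leaf 0) (.leaf 0)) (.node (.leaf 0) (.leaf 0)))) (.node (.node (.node (.leaf 0) (.leaf 0)) (.node (.leaf 0) (.leaf 0))) (.node (.node (.leaf 323) (.leaf 0)) (.node (.leaf 647) (.leaf 0))))))) (.node (.node (.node (.node (.node (.node (.leaf 0) (.leaf 0)) (.node (.leaf 0) (.leaf 0))) (.node (.node (.leaf 0) (.leaf 0)) (.node (.leaf 0) (.leaf 0)))) (.node (.node (.node (.leaf 0) (.leaf 0)) (.node (.leaf 0) (.leaf 0))) (.node (.node (.leaf 0) (.leaf 0)) (.node (.leaf 0) (.leaf 0))))) (.node (.node (.node (.node (.leaf 0) (.leaf 0)) (.node (.leaf 0) (.leaf 0))) (.node (.node (.leaf 71) (.leaf 0)) (.node (.leaf 0) (.leaf 0)))) (.node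 (.node (.node (.leaf 0) (.leaf 0)) (.node (.leaf 0) (.leaf 0))) (.node (.node (.leaf 0) (.leaf 0)) (.node (.leaf 0) (.leaf 0)))))) (.node (.node (.node (.node (.node (.leaf 0) (.leaf 0)) (.node (.leaf 0) (.leaf 0))) (.node (.node (.leaf 0) (.leaf 0)) (.node (.leaf 0) (.leaf 0)))) (.node (.node (.node (.leaf 144) (.leaf 0)) (.node (.leaf 0) (.leaf 0))) (.node (.node (.leaf 0) (.leaf 0)) (.node (.leaf 0) (.leaf 0))))) (.node (.node (.node (.node (.leaf 0) (.leaf 0)) (.node (.leaf 0) (.leaf 0))) (.node (.node (.leaf 0) (.leaf 62)) (.node (.leaf 0) (.leaf 0)))) (.node (.node (.node (.leaf 0) (.leaf 0)) (.node (.leaf 0) (.leaf 0))) (.node (.node (.leaf 0) (.leaf 0)) (.node (.leaf 0) (.leaf 0))))))))) (.node (.node (.node (.node (.node (.node (.node (.node (.leaf 0) (.leaf 0)) (.node (.leaf 0) (.leaf 0))) (.node (.node (.leaf 0) (.leaf 0)) (.node (.leaf 0) (.leaf 0)))) (.node (.node (.node (.leaf 0) (.leaf 0)) (.node (.leaf 0) (.leaf 0))) (.node (.node (.leaf 0) (.leaf 0)) (.node (.leaf 0) (.leaf 0))))) (.node (.node (.node (.node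 (.leaf 0) (.leaf 0)) (.node (.leaf 0) (.leaf 0))) (.node (.node (.leaf 0) (.leaf 0)) (.node (.leaf 0) (.leaf 0)))) (.node (.node (.node (.leaf 0) (.leaf 0)) (.node (.leaf 0) (.leaf 0))) (.node (.node (.leaf 0) (.leaf 0)) (.node (.leaf 0) (.leaf 0)))))) (.node (.node (.node (.node (.node (.leaf 0) (.leaf 0)) (.node (.leaf 0) (.leaf 0))) (.node (.node (.leaf 0) (.leaf 0)) (.node (.leaf 0) (.leaf 0)))) (.node (.node (.node (.leaf 0) (.leaf 0)) (.node (.leaf 0) (.leaf 0))) (.node (.node (.leaf 0) (.leaf 0)) (.node (.leaf 0) (.leaf 0))))) (.node (.node (.node (.node (.leaf 0) (.leaf 0)) (.node (.leaf 0) (.leaf 0))) (.node (.node (.leaf 0) (.leaf 0)) (.node (.leaf 0) (.leaf 0)))) (.node (.node (.node (.leaf 0) (.leaf 0)) (.node (.leaf 0) (.leaf 0))) (.node (.node (.leaf 0) (.leaf 0)) (.node (.leaf 618) (.leaf 0))))))) (.node (.node (.node (.node (.node (.node (.leaf 0) (.leaf 0)) (.node (.leaf 0) (.leaf 0))) (.node (.node (.leaf 0) (.leaf 295)) (.node (.leaf 0) (.leaf 0)))) (.node (.node (.node (.leaf 0) (.leaf 0)) (.node (.leaf 60)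 (.leaf 0))) (.node (.node (.leaf 0) (.leaf 351)) (.node (.leaf 0) (.leaf 0))))) (.node (.node (.node (.node (.leaf 0) (.leaf 141)) (.node (.leaf 0) (.leaf 0))) (.node (.node (.leaf 0) (.leaf 0)) (.node (.leaf 0) (.leaf 0)))) (.node (.node (.node (.leaf 0) (.leaf 0)) (.node (.leaf 0) (.leaf 0))) (.node (.node (.leaf 0) (.leaf 0)) (.node (.leaf 0) (.leaf 0)))))) (.node (.node (.node (.node (.node (.leaf 0) (.leaf 0)) (.node (.leaf 624) (.leaf 0))) (.node (.node (.leaf 0) (.leaf 0)) (.node (.leaf 0) (.leaf 0)))) (.node (.node (.node (.leaf 150) (.leaf 0)) (.node (.leaf 0) (.leaf 0))) (.node (.node (.leaf 0) (.leaf 345)) (.node (.leaf 0) (.leaf 0))))) (.node (.node (.node (.node (.leaf 0) (.leaf 0)) (.node (.leaf 0) (.leaf 0))) (.node (.node (.leaf 0) (.leaf 0)) (.node (.leaf 0) (.leaf 0)))) (.node (.node (.node (.leaf 0) (.leaf 0)) (.node (.leaf 0) (.leaf 0))) (.node (.node (.leaf 0) (.leaf 0)) (.node (.leaf 0) (.leaf 0)))))))) (.node (.node (.node (.node (.node (.node (.node (.leaf 0) (.leaf 0)) (.node (.leaf 0) (.leaf 0))) (.node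 (.node (.leaf 0) (.leaf 0)) (.node (.leaf 0) (.leaf 0)))) (.node (.node (.node (.leaf 0) (.leaf 0)) (.node (.leaf 0) (.leaf 0))) (.node (.node (.leaf 149) (.leaf 0)) (.node (.leaf 1033) (.leaf 0))))) (.node (.node (.node (.node (.leaf 0) (.leaf 0)) (.node (.leaf 0) (.leaf 0))) (.node (.node (.leaf 0) (.leaf 267)) (.node (.leaf 0) (.leaf 0)))) (.node (.node (.node (.leaf 0) (.leaf 0)) (.node (.leaf 0) (.leaf 0))) (.node (.node (.leaf 0) (.leaf 0)) (.node (.leaf 0) (.leaf 0)))))) (.node (.node (.node (.node (.node (.leaf 0) (.leaf 0)) (.node (.leaf 0) (.leaf 0))) (.node (.node (.leaf 0) (.leaf 0)) (.node (.leaf 0) (.leaf 0)))) (.node (.node (.node (.leaf 0) (.leaf 0)) (.node (.leaf 0) (.leaf 0))) (.node (.node (.leaf 0) (.leaf 0)) (.node (.leaf 0) (.leaf 0))))) (.node (.node (.node (.node (.leaf 0) (.leaf 0)) (.node (.leaf 0) (.leaf 0))) (.node (.node (.leaf 0) (.leaf 0)) (.node (.leaf 0) (.leaf 0)))) (.node (.node (.node (.leaf 0) (.leaf 0)) (.node (.leaf 0) (.leaf 0))) (.node (.node (.leaf 0) (.leaf 0)) (.node (.leaf 0) (.leaf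 0))))))) (.node (.node (.node (.node (.node (.node (.leaf 0) (.leaf 0)) (.node (.leaf 0) (.leaf 0))) (.node (.node (.leaf 0) (.leaf 0)) (.node (.leaf 0) (.leaf 0)))) (.node (.node (.node (.leaf 0) (.leaf 0)) (.node (.leaf 58) (.leaf 0))) (.node (.node (.leaf 0) (.leaf 0)) (.node (.leaf 0) (.leaf 0))))) (.node (.node (.node (.node (.leaf 0) (.leaf 0)) (.node (.leaf 0) (.leaf 0))) (.node (.node (.leaf 0) (.leaf 270)) (.node (.leaf 0) (.leaf 0)))) (.node (.node (.node (.leaf 0) (.leaf 0)) (.node (.leaf 0) (.leaf 0))) (.node (.node (.leaf 0) (.leaf 0)) (.node (.leaf 0) (.leaf 0)))))) (.node (.node (.node (.node (.node (.leaf 0) (.leaf 136)) (.node (.leaf 0) (.leaf 0))) (.node (.node (.leaf 63) (.leaf 0)) (.node (.leaf 1067) (.leaf 0)))) (.node (.node (.node (.leaf 0) (.leaf 0)) (.node (.leaf 0) (.leaf 0))) (.node (.node (.leaf 0) (.leaf 0)) (.node (.leaf 0) (.leaf 0))))) (.node (.node (.node (.node (.leaf 0) (.leaf 0)) (.node (.leaf 0) (.leaf 0))) (.node (.node (.leaf 0) (.leaf 0)) (.node (.leaf 0) (.leaf 0)))) (.node (.node (.node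 (.leaf 0) (.leaf 0)) (.node (.leaf 0) (.leaf 0))) (.node (.node (.leaf 0) (.leaf 0)) (.node (.leaf 0) (.leaf 0))))))))))) (.node (.node (.node (.node (.node (.node (.node (.node (.node (.node (.leaf 0) (.leaf 512)) (.node (.leaf 0) (.leaf 0))) (.node (.node (.leaf 0) (.leaf 0)) (.node (.leaf 0) (.leaf 0)))) (.node (.node (.node (.leaf 0) (.leaf 0)) (.node (.leaf 0) (.leaf 0))) (.node (.node (.leaf 0) (.leaf 0)) (.node (.leaf 594) (.leaf 0))))) (.node (.node (.node (.node (.leaf 0) (.leaf 0)) (.node (.leaf 0) (.leaf 0))) (.node (.node (.leaf 0) (.leaf 0)) (.node (.leaf 0) (.leaf 0)))) (.node (.node (.node (.leaf 0) (.leaf 0)) (.node (.leaf 0) (.leaf 0))) (.node (.node (.leaf 0) (.leaf 0)) (.node (.leaf 248) (.leaf 0)))))) (.node (.node (.node (.node (.node (.leaf 0) (.leaf 307)) (.node (.leaf 0) (.leaf 0))) (.node (.node (.leaf 0) (.leaf 0)) (.node (.leaf 0) (.leaf 0)))) (.node (.node (.node (.leaf 0) (.leaf 0)) (.node (.leaf 0) (.leaf 0))) (.node (.node (.leaf 0) (.leaf 0)) (.node (.leaf 0) (.leaf 0))))) (.node (.node (.node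 (.node (.leaf 0) (.leaf 0)) (.node (.leaf 0) (.leaf 0))) (.node (.node (.leaf 0) (.leaf 161)) (.node (.leaf 0) (.leaf 0)))) (.node (.node (.node (.leaf 0) (.leaf 0)) (.node (.leaf 0) (.leaf 0))) (.node (.node (.leaf 0) (.leaf 0)) (.node (.leaf 1050) (.leaf 0))))))) (.node (.node (.node (.node (.node (.node (.leaf 0) (.leaf 0)) (.node (.leaf 0) (.leaf 0))) (.node (.node (.leaf 0) (.leaf 0)) (.node (.leaf 0) (.leaf 0)))) (.node (.node (.node (.leaf 26) (.leaf 0)) (.node (.leaf 0) (.leaf 0))) (.node (.node (.leaf 0) (.leaf 0)) (.node (.leaf 303) (.leaf 0))))) (.node (.node (.node (.node (.leaf 0) (.leaf 0)) (.node (.leaf 0) (.leaf 0))) (.node (.node (.leaf 0) (.leaf 0)) (.node (.leaf 0) (.leaf 0)))) (.node (.node (.node (.leaf 0) (.leaf 271)) (.node (.leaf 0) (.leaf 0))) (.node (.node (.leaf 0) (.leaf 0)) (.node (.leaf 0) (.leaf 0)))))) (.node (.node (.node (.node (.node (.leaf 0) (.leaf 0)) (.node (.leaf 0) (.leaf 0))) (.node (.node (.leaf 0) (.leaf 0)) (.node (.leaf 0) (.leaf 0)))) (.node (.node (.node (.leaf 0) (.leaf 0)) (.node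 (.leaf 0) (.leaf 0))) (.node (.node (.leaf 0) (.leaf 0)) (.node (.leaf 0) (.leaf 0))))) (.node (.node (.node (.node (.leaf 0) (.leaf 0)) (.node (.leaf 0) (.leaf 0))) (.node (.node (.leaf 0) (.leaf 0)) (.node (.leaf 0) (.leaf 0)))) (.node (.node (.node (.leaf 7) (.leaf 0)) (.node (.leaf 0) (.leaf 0))) (.node (.node (.leaf 0) (.leaf 0)) (.node (.leaf 0) (.leaf 0)))))))) (.node (.node (.node (.node (.node (.node (.node (.leaf 0) (.leaf 0)) (.node (.leaf 0) (.leaf 0))) (.node (.node (.leaf 0) (.leaf 0)) (.node (.leaf 0) (.leaf 0)))) (.node (.node (.node (.leaf 0) (.leaf 0)) (.node (.leaf 0) (.leaf 0))) (.node (.node (.leaf 0) (.leaf 0)) (.node (.leaf 0) (.leaf 0))))) (.node (.node (.node (.node (.leaf 0) (.leaf 139)) (.node (.leaf 558) (.leaf 0))) (.node (.node (.leaf 0) (.leaf 0)) (.node (.leaf 0) (.leaf 0)))) (.node (.node (.node (.leaf 0) (.leaf 0)) (.node (.leaf 0) (.leaf 0))) (.node (.node (.leaf 0) (.leaf 0)) (.node (.leaf 61) (.leaf 0)))))) (.node (.node (.node (.node (.node (.leaf 0) (.leaf 0)) (.node (.leaf 0) (.leaf 0)))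 (.node (.node (.leaf 0) (.leaf 0)) (.node (.leaf 0) (.leaf 0)))) (.node (.node (.node (.leaf 0) (.leaf 0)) (.node (.leaf 0) (.leaf 0))) (.node (.node (.leaf 0) (.leaf 0)) (.node (.leaf 0) (.leaf 0))))) (.node (.node (.node (.node (.leaf 0) (.leaf 0)) (.node (.leaf 25) (.leaf 0))) (.node (.node (.leaf 0) (.leaf 0)) (.node (.leaf 0) (.leaf 0)))) (.node (.node (.node (.leaf 0) (.leaf 0)) (.node (.leaf 0) (.leaf 0))) (.node (.node (.leaf 0) (.leaf 0)) (.node (.leaf 0) (.leaf 0))))))) (.node (.node (.node (.node (.node (.node (.leaf 0) (.leaf 265)) (.node (.leaf 0) (.leaf 0))) (.node (.node (.leaf 0) (.leaf 0)) (.node (.leaf 0) (.leaf 0)))) (.node (.node (.node (.leaf 0) (.leaf 0)) (.node (.leaf 0) (.leaf 0))) (.node (.node (.leaf 0) (.leaf 0)) (.node (.leaf 0) (.leaf 0))))) (.node (.node (.node (.node (.leaf 0) (.leaf 0)) (.node (.leaf 0) (.leaf 0))) (.node (.node (.leaf 0) (.leaf 0)) (.node (.leaf 0) (.leaf 0)))) (.node (.node (.node (.leaf 0) (.leaf 0)) (.node (.leaf 0) (.leaf 0))) (.node (.node (.leaf 162) (.leaf 0)) (.node (.leaf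 597) (.leaf 0)))))) (.node (.node (.node (.node (.node (.leaf 0) (.leaf 0)) (.node (.leaf 0) (.leaf 0))) (.node (.node (.leaf 0) (.leaf 251)) (.node (.leaf 53) (.leaf 0)))) (.node (.node (.node (.leaf 0) (.leaf 0)) (.node (.leaf 0) (.leaf 0))) (.node (.node (.leaf 0) (.leaf 0)) (.node (.leaf 0) (.leaf 0))))) (.node (.node (.node (.node (.leaf 0) (.leaf 0)) (.node (.leaf 0) (.leaf 0))) (.node (.node (.leaf 0) (.leaf 0)) (.node (.leaf 0) (.leaf 0)))) (.node (.node (.node (.leaf 0) (.leaf 0)) (.node (.leaf 0) (.leaf 0))) (.node (.node (.leaf 0) (.leaf 0)) (.node (.leaf 0) (.leaf 0))))))))) (.node (.node (.node (.node (.node (.node (.node (.node (.leaf 0) (.leaf 0)) (.node (.leaf 0) (.leaf 0))) (.node (.node (.leaf 0) (.leaf 0)) (.node (.leaf 0) (.leaf 0)))) (.node (.node (.node (.leaf 0) (.leaf 0)) (.node (.leaf 0) (.leaf 0))) (.node (.node (.leaf 0) (.leaf 0)) (.node (.leaf 0) (.leaf 0))))) (.node (.node (.node (.node (.leaf 0) (.leaf 0)) (.node (.leaf 0) (.leaf 0))) (.node (.node (.leaf 66) (.leaf 513)) (.node (.leaf 0) (.leaf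 0)))) (.node (.node (.node (.leaf 0) (.leaf 0)) (.node (.leaf 0) (.leaf 0))) (.node (.node (.leaf 0) (.leaf 0)) (.node (.leaf 0) (.leaf 0)))))) (.node (.node (.node (.node (.node (.leaf 650) (.leaf 0)) (.node (.leaf 0) (.leaf 0))) (.node (.node (.leaf 0) (.leaf 0)) (.node (.leaf 0) (.leaf 0)))) (.node (.node (.node (.leaf 19) (.leaf 0)) (.node (.leaf 159) (.leaf 0))) (.node (.node (.leaf 0) (.leaf 0)) (.node (.leaf 0) (.leaf 0))))) (.node (.node (.node (.node (.leaf 10) (.leaf 0)) (.node (.leaf 0) (.leaf 0))) (.node (.node (.leaf 0) (.leaf 0)) (.node (.leaf 0) (.leaf 0)))) (.node (.node (.node (.leaf 0) (.leaf 0)) (.node (.leaf 0) (.leaf 0))) (.node (.node (.leaf 24) (.leaf 0)) (.node (.leaf 247) (.leaf 0))))))) (.node (.node (.node (.node (.node (.node (.leaf 0) (.leaf 0)) (.node (.leaf 273) (.leaf 0))) (.node (.node (.leaf 0) (.leaf 0)) (.node (.leaf 1039) (.leaf 0)))) (.node (.node (.node (.leaf 0) (.leaf 0)) (.node (.leaf 0) (.leaf 0))) (.node (.node (.leaf 0) (.leaf 0)) (.node (.leaf 290) (.leaf 0))))) (.node (.node (.node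 (.node (.leaf 0) (.leaf 0)) (.node (.leaf 0) (.leaf 0))) (.node (.node (.leaf 0) (.leaf 0)) (.node (.leaf 0) (.leaf 0)))) (.node (.node (.node (.leaf 0) (.leaf 0)) (.node (.leaf 0) (.leaf 0))) (.node (.node (.leaf 0) (.leaf 0)) (.node (.leaf 591) (.leaf 0)))))) (.node (.node (.node (.node (.node (.leaf 0) (.leaf 0)) (.node (.leaf 0) (.leaf 0))) (.node (.node (.leaf 0) (.leaf 0)) (.node (.leaf 0) (.leaf 0)))) (.node (.node (.node (.leaf 0) (.leaf 0)) (.node (.leaf 0) (.leaf 0))) (.node (.node (.leaf 0) (.leaf 0)) (.node (.leaf 1080) (.leaf 0))))) (.node (.node (.node (.node (.leaf 2) (.leaf 0)) (.node (.leaf 0) (.leaf 0))) (.node (.node (.leaf 0) (.leaf 617)) (.node (.leaf 0) (.leaf 0)))) (.node (.node (.node (.leaf 0) (.leaf 0)) (.node (.leaf 0) (.leaf 0))) (.node (.node (.leaf 0) (.leaf 0)) (.node (.leaf 599) (.leaf 0)))))))) (.node (.node (.node (.node (.node (.node (.node (.leaf 0) (.leaf 0)) (.node (.leaf 0) (.leaf 0))) (.node (.node (.leaf 0) (.leaf 0)) (.node (.leaf 0) (.leaf 0)))) (.node (.node (.node (.leaf 0) (.leaf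 0)) (.node (.leaf 0) (.leaf 0))) (.node (.node (.leaf 0) (.leaf 305)) (.node (.leaf 0) (.leaf 0))))) (.node (.node (.node (.node (.leaf 0) (.leaf 0)) (.node (.leaf 0) (.leaf 0))) (.node (.node (.leaf 0) (.leaf 0)) (.node (.leaf 0) (.leaf 0)))) (.node (.node (.node (.leaf 0) (.leaf 0)) (.node (.leaf 0) (.leaf 0))) (.node (.node (.leaf 0) (.leaf 0)) (.node (.leaf 0) (.leaf 0)))))) (.node (.node (.node (.node (.node (.leaf 0) (.leaf 0)) (.node (.leaf 0) (.leaf 0))) (.node (.node (.leaf 0) (.leaf 0)) (.node (.leaf 0) (.leaf 0)))) (.node (.node (.node (.leaf 0) (.leaf 0)) (.node (.leaf 0) (.leaf 0))) (.node (.node (.leaf 0) (.leaf 0)) (.node (.leaf 0) (.leaf 0))))) (.node (.node (.node (.node (.leaf 0) (.leaf 0)) (.node (.leaf 0) (.leaf 0))) (.node (.node (.leaf 0) (.leaf 0)) (.node (.leaf 0) (.leaf 0)))) (.node (.node (.node (.leaf 0) (.leaf 0)) (.node (.leaf 0) (.leaf 0))) (.node (.node (.leaf 0) (.leaf 0)) (.node (.leaf 0) (.leaf 0))))))) (.node (.node (.node (.node (.node (.node (.leaf 0) (.leaf 0)) (.node (.leaf 0) (.leaf 0)))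 (.node (.node (.leaf 0) (.leaf 0)) (.node (.leaf 0) (.leaf 0)))) (.node (.node (.node (.leaf 0) (.leaf 0)) (.node (.leaf 0) (.leaf 0))) (.node (.node (.leaf 0) (.leaf 324)) (.node (.leaf 0) (.leaf 0))))) (.node (.node (.node (.node (.leaf 0) (.leaf 0)) (.node (.leaf 0) (.leaf 0))) (.node (.node (.leaf 0) (.leaf 0)) (.node (.leaf 0) (.leaf 0)))) (.node (.node (.node (.leaf 0) (.leaf 0)) (.node (.leaf 552) (.leaf 0))) (.node (.node (.leaf 0) (.leaf 0)) (.node (.leaf 612) (.leaf 0)))))) (.node (.node (.node (.node (.node (.leaf 0) (.leaf 0)) (.node (.leaf 0) (.leaf 0))) (.node (.node (.leaf 0) (.leaf 0)) (.node (.leaf 0) (.leaf 0)))) (.node (.node (.node (.leaf 0) (.leaf 0)) (.node (.leaf 0) (.leaf 0))) (.node (.node (.leaf 0) (.leaf 0)) (.node (.leaf 0) (.leaf 0))))) (.node (.node (.node (.node (.leaf 0) (.leaf 0)) (.node (.leaf 0) (.leaf 0))) (.node (.node (.leaf 0) (.leaf 0)) (.node (.leaf 0) (.leaf 0)))) (.node (.node (.node (.leaf 0) (.leaf 0)) (.node (.leaf 0) (.leaf 0))) (.node (.node (.leaf 134) (.leaf 0)) (.node (.leaf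 1029) (.leaf 0)))))))))) (.node (.node (.node (.node (.node (.node (.node (.node (.node (.leaf 0) (.leaf 0)) (.node (.leaf 0) (.leaf 0))) (.node (.node (.leaf 0) (.leaf 0)) (.node (.leaf 0) (.leaf 0)))) (.node (.node (.node (.leaf 0) (.leaf 0)) (.node (.leaf 0) (.leaf 0))) (.node (.node (.leaf 0) (.leaf 0)) (.node (.leaf 0) (.leaf 0))))) (.node (.node (.node (.node (.leaf 0) (.leaf 0)) (.node (.leaf 0) (.leaf 0))) (.node (.node (.leaf 0) (.leaf 0)) (.node (.leaf 0) (.leaf 0)))) (.node (.node (.node (.leaf 0) (.leaf 0)) (.node (.leaf 0) (.leaf 0))) (.node (.node (.leaf 0) (.leaf 0)) (.node (.leaf 0) (.leaf 0)))))) (.node (.node (.node (.node (.node (.leaf 0) (.leaf 0)) (.node (.leaf 0) (.leaf 0))) (.node (.node (.leaf 65) (.leaf 0)) (.node (.leaf 0) (.leaf 0)))) (.node (.node (.node (.leaf 0) (.leaf 0)) (.node (.leaf 0) (.leaf 0))) (.node (.node (.leaf 0) (.leaf 0)) (.node (.leaf 0) (.leaf 0))))) (.node (.node (.node (.node (.leaf 0) (.leaf 0)) (.node (.leaf 0) (.leaf 0))) (.node (.node (.leaf 0) (.leaf 0)) (.node (.leaf 0) (.leaf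 0)))) (.node (.node (.node (.leaf 0) (.leaf 0)) (.node (.leaf 543) (.leaf 0))) (.node (.node (.leaf 0) (.leaf 293)) (.node (.leaf 0) (.leaf 0))))))) (.node (.node (.node (.node (.node (.node (.leaf 0) (.leaf 0)) (.node (.leaf 0) (.leaf 0))) (.node (.node (.leaf 0) (.leaf 0)) (.node (.leaf 0) (.leaf 0)))) (.node (.node (.node (.leaf 0) (.leaf 0)) (.node (.leaf 143) (.leaf 0))) (.node (.node (.leaf 0) (.leaf 0)) (.node (.leaf 0) (.leaf 0))))) (.node (.node (.node (.node (.leaf 0) (.leaf 0)) (.node (.leaf 0) (.leaf 0))) (.node (.node (.leaf 0) (.leaf 515)) (.node (.leaf 0) (.leaf 0)))) (.node (.node (.node (.leaf 0) (.leaf 0)) (.node (.leaf 0) (.leaf 0))) (.node (.node (.leaf 0) (.leaf 0)) (.node (.leaf 0) (.leaf 0)))))) (.node (.node (.node (.node (.node (.leaf 0) (.leaf 0)) (.node (.leaf 0) (.leaf 0))) (.node (.node (.leaf 0) (.leaf 0)) (.node (.leaf 0) (.leaf 0)))) (.node (.node (.node (.leaf 0) (.leaf 0)) (.node (.leaf 0) (.leaf 0))) (.node (.node (.leaf 0) (.leaf 0)) (.node (.leaf 0) (.leaf 0))))) (.node (.node (.node (.node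 (.leaf 0) (.leaf 0)) (.node (.leaf 0) (.leaf 0))) (.node (.node (.leaf 0) (.leaf 0)) (.node (.leaf 0) (.leaf 0)))) (.node (.node (.node (.leaf 639) (.leaf 0)) (.node (.leaf 0) (.leaf 0))) (.node (.node (.leaf 0) (.leaf 0)) (.node (.leaf 0) (.leaf 0)))))))) (.node (.node (.node (.node (.node (.node (.node (.leaf 0) (.leaf 0)) (.node (.leaf 0) (.leaf 0))) (.node (.node (.leaf 0) (.leaf 54)) (.node (.leaf 0) (.leaf 0)))) (.node (.node (.node (.leaf 0) (.leaf 0)) (.node (.leaf 0) (.leaf 0))) (.node (.node (.leaf 0) (.leaf 0)) (.node (.leaf 0) (.leaf 0))))) (.node (.node (.node (.node (.leaf 0) (.leaf 133)) (.node (.leaf 353) (.leaf 0))) (.node (.node (.leaf 0) (.leaf 0)) (.node (.leaf 0) (.leaf 0)))) (.node (.node (.node (.leaf 0) (.leaf 0)) (.node (.leaf 0) (.leaf 0))) (.node (.node (.leaf 0) (.leaf 0)) (.node (.leaf 0) (.leaf 0)))))) (.node (.node (.node (.node (.node (.leaf 0) (.leaf 0)) (.node (.leaf 0) (.leaf 0))) (.node (.node (.leaf 0) (.leaf 250)) (.node (.leaf 298) (.leaf 0)))) (.node (.node (.node (.leaf 0) (.leaf 0)) (.node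 (.leaf 0) (.leaf 0))) (.node (.node (.leaf 0) (.leaf 0)) (.node (.leaf 0) (.leaf 0))))) (.node (.node (.node (.node (.leaf 0) (.leaf 0)) (.node (.leaf 0) (.leaf 0))) (.node (.node (.leaf 0) (.leaf 0)) (.node (.leaf 0) (.leaf 0)))) (.node (.node (.node (.leaf 0) (.leaf 0)) (.node (.leaf 0) (.leaf 0))) (.node (.node (.leaf 0) (.leaf 0)) (.node (.leaf 0) (.leaf 0))))))) (.node (.node (.node (.node (.node (.node (.leaf 0) (.leaf 0)) (.node (.leaf 0) (.leaf 0))) (.node (.node (.leaf 0) (.leaf 0)) (.node (.leaf 0) (.leaf 0)))) (.node (.node (.node (.leaf 0) (.leaf 0)) (.node (.leaf 0) (.leaf 0))) (.node (.node (.leaf 0) (.leaf 0)) (.node (.leaf 0) (.leaf 0))))) (.node (.node (.node (.node (.leaf 0) (.leaf 0)) (.node (.leaf 0) (.leaf 0))) (.node (.node (.leaf 0) (.leaf 0)) (.node (.leaf 0) (.leaf 0)))) (.node (.node (.node (.leaf 0) (.leaf 0)) (.node (.leaf 0) (.leaf 0))) (.node (.node (.leaf 0) (.leaf 0)) (.node (.leaf 0) (.leaf 0)))))) (.node (.node (.node (.node (.node (.leaf 0) (.leaf 0)) (.node (.leaf 0) (.leaf 0))) (.node (.node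 (.leaf 0) (.leaf 0)) (.node (.leaf 0) (.leaf 0)))) (.node (.node (.node (.leaf 0) (.leaf 0)) (.node (.leaf 0) (.leaf 0))) (.node (.node (.leaf 0) (.leaf 0)) (.node (.leaf 0) (.leaf 0))))) (.node (.node (.node (.node (.leaf 0) (.leaf 0)) (.node (.leaf 0) (.leaf 0))) (.node (.node (.leaf 0) (.leaf 0)) (.node (.leaf 0) (.leaf 0)))) (.node (.node (.node (.leaf 0) (.leaf 0)) (.node (.leaf 0) (.leaf 0))) (.node (.node (.leaf 0) (.leaf 0)) (.node (.leaf 0) (.leaf 0))))))))) (.node (.node (.node (.node (.node (.node (.node (.node (.leaf 0) (.leaf 0)) (.node (.leaf 0) (.leaf 0))) (.node (.node (.leaf 0) (.leaf 0)) (.node (.leaf 0) (.leaf 0)))) (.node (.node (.node (.leaf 0) (.leaf 0)) (.node (.leaf 0) (.leaf 0))) (.node (.node (.leaf 0) (.leaf 0)) (.node (.leaf 0) (.leaf 0))))) (.node (.node (.node (.node (.leaf 0) (.leaf 0)) (.node (.leaf 9) (.leaf 0))) (.node (.node (.leaf 0) (.leaf 0)) (.node (.leaf 649) (.leaf 0)))) (.node (.node (.node (.leaf 0) (.leaf 0)) (.node (.leaf 0) (.leaf 0))) (.node (.node (.leaf 316) (.leaf 0)) (.node (.leaf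 0) (.leaf 0)))))) (.node (.node (.node (.node (.node (.leaf 0) (.leaf 49)) (.node (.leaf 0) (.leaf 0))) (.node (.node (.leaf 0) (.leaf 0)) (.node (.leaf 0) (.leaf 0)))) (.node (.node (.node (.leaf 0) (.leaf 0)) (.node (.leaf 0) (.leaf 0))) (.node (.node (.leaf 0) (.leaf 0)) (.node (.leaf 0) (.leaf 0))))) (.node (.node (.node (.node (.leaf 0) (.leaf 0)) (.node (.leaf 0) (.leaf 0))) (.node (.node (.leaf 0) (.leaf 0)) (.node (.leaf 0) (.leaf 0)))) (.node (.node (.node (.leaf 0) (.leaf 0)) (.node (.leaf 0) (.leaf 0))) (.node (.node (.leaf 0) (.leaf 0)) (.node (.leaf 0) (.leaf 0))))))) (.node (.node (.node (.node (.node (.node (.leaf 0) (.leaf 135)) (.node (.leaf 0) (.leaf 0))) (.node (.node (.leaf 0) (.leaf 0)) (.node (.leaf 0) (.leaf 0)))) (.node (.node (.node (.leaf 0) (.leaf 0)) (.node (.leaf 0) (.leaf 0))) (.node (.node (.leaf 0) (.leaf 0)) (.node (.leaf 0) (.leaf 0))))) (.node (.node (.node (.node (.leaf 0) (.leaf 0)) (.node (.leaf 0) (.leaf 0))) (.node (.node (.leaf 0) (.leaf 0)) (.node (.leaf 0) (.leaf 0)))) (.node (.node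 (.node (.leaf 0) (.leaf 0)) (.node (.leaf 0) (.leaf 0))) (.node (.node (.leaf 0) (.leaf 0)) (.node (.leaf 0) (.leaf 0)))))) (.node (.node (.node (.node (.node (.leaf 0) (.leaf 0)) (.node (.leaf 308) (.leaf 0))) (.node (.node (.leaf 0) (.leaf 0)) (.node (.leaf 0) (.leaf 0)))) (.node (.node (.node (.leaf 0) (.leaf 0)) (.node (.leaf 0) (.leaf 0))) (.node (.node (.leaf 0) (.leaf 0)) (.node (.leaf 0) (.leaf 0))))) (.node (.node (.node (.node (.leaf 0) (.leaf 0)) (.node (.leaf 72) (.leaf 0))) (.node (.node (.leaf 0) (.leaf 0)) (.node (.leaf 0) (.leaf 0)))) (.node (.node (.node (.leaf 0) (.leaf 0)) (.node (.leaf 0) (.leaf 0))) (.node (.node (.leaf 0) (.leaf 0)) (.node (.leaf 0) (.leaf 0)))))))) (.node (.node (.node (.node (.node (.node (.node (.leaf 0) (.leaf 0)) (.node (.leaf 0) (.leaf 0))) (.node (.node (.leaf 0) (.leaf 113)) (.node (.leaf 0) (.leaf 0)))) (.node (.node (.node (.leaf 0) (.leaf 0)) (.node (.leaf 0) (.leaf 0))) (.node (.node (.leaf 0) (.leaf 0)) (.node (.leaf 0) (.leaf 0))))) (.node (.node (.node (.node (.leaf 0) (.leaf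 0)) (.node (.leaf 0) (.leaf 0))) (.node (.node (.leaf 0) (.leaf 0)) (.node (.leaf 59) (.leaf 0)))) (.node (.node (.node (.leaf 0) (.leaf 0)) (.node (.leaf 0) (.leaf 0))) (.node (.node (.leaf 0) (.leaf 0)) (.node (.leaf 0) (.leaf 0)))))) (.node (.node (.node (.node (.node (.leaf 0) (.leaf 0)) (.node (.leaf 0) (.leaf 0))) (.node (.node (.leaf 0) (.leaf 0)) (.node (.leaf 1072) (.leaf 0)))) (.node (.node (.node (.leaf 0) (.leaf 0)) (.node (.leaf 0) (.leaf 0))) (.node (.node (.leaf 0) (.leaf 0)) (.node (.leaf 0) (.leaf 0))))) (.node (.node (.node (.node (.leaf 0) (.leaf 0)) (.node (.leaf 0) (.leaf 0))) (.node (.node (.leaf 0) (.leaf 0)) (.node (.leaf 0) (.leaf 0)))) (.node (.node (.node (.leaf 0) (.leaf 0)) (.node (.leaf 0) (.leaf 0))) (.node (.node (.leaf 0) (.leaf 0)) (.node (.leaf 0) (.leaf 0))))))) (.node (.node (.node (.node (.node (.node (.leaf 0) (.leaf 0)) (.node (.leaf 0) (.leaf 0))) (.node (.node (.leaf 0) (.leaf 0)) (.node (.leaf 0) (.leaf 0)))) (.node (.node (.node (.leaf 0) (.leaf 0)) (.node (.leaf 0) (.leaf 0))) (.node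 (.node (.leaf 0) (.leaf 0)) (.node (.leaf 0) (.leaf 0))))) (.node (.node (.node (.node (.leaf 0) (.leaf 0)) (.node (.leaf 138) (.leaf 0))) (.node (.node (.leaf 0) (.leaf 0)) (.node (.leaf 0) (.leaf 0)))) (.node (.node (.node (.leaf 0) (.leaf 125)) (.node (.leaf 0) (.leaf 0))) (.node (.node (.leaf 0) (.leaf 289)) (.node (.leaf 0) (.leaf 0)))))) (.node (.node (.node (.node (.node (.leaf 0) (.leaf 0)) (.node (.leaf 0) (.leaf 0))) (.node (.node (.leaf 0) (.leaf 0)) (.node (.leaf 0) (.leaf 0)))) (.node (.node (.node (.leaf 0) (.leaf 0)) (.node (.leaf 0) (.leaf 0))) (.node (.node (.leaf 0) (.leaf 0)) (.node (.leaf 638) (.leaf 0))))) (.node (.node (.node (.node (.leaf 0) (.leaf 0)) (.node (.leaf 0) (.leaf 0))) (.node (.node (.leaf 266) (.leaf 0)) (.node (.leaf 0) (.leaf 0)))) (.node (.node (.node (.leaf 0) (.leaf 0)) (.node (.leaf 0) (.leaf 0))) (.node (.node (.leaf 0) (.leaf 0)) (.node (.leaf 0) (.leaf 0))))))))))))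

/-- relators of two generators -/
def relsTwo : List (List ℕ × List ℕ) := [([1, 1, 1, 1], []), ([1, 1, 0], [0, 1, 1]), ([1, 0, 0, 1, 0, 1], [0, 0, 1, 0])]

/-- relators of three generators -/
def relsThree : List (List ℕ × List ℕ) := [([2, 2], []), ([0, 2, 0, 2, 0], [2, 0, 0, 2]), ([2, 0, 1, 0, 1, 2], [0, 2, 0, 1, 2, 0]), ([0, 2, 1, 0, 2, 0, 2], [2, 1, 0, 1, 0])]

/-- words for the two involutions -/
def zWord : List ℕ := [1, 1]

/-- the other -/
def aWord : List ℕ := [0, 1, 0, 1, 0, 1, 1, 1]

/-- possible second images -/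
def pairCands : List ℕ := [43217, 43220, 43233, 43244, 36001, 36008, 36081, 36092, 44209, 44216, 44225, 44228]

/-- possible images: second, third, candidate, conjugator, words -/
def tripleCands : List (ℕ × ℕ × ℕ × ℕ × List ℕ × List ℕ) := [
  (43217, 39044, 4, 0, [0, 2, 1, 0, 0, 2, 0, 1], [2, 1, 0, 2, 1, 0, 0, 2, 1]),
  (43217, 39045, 4, 0, [0, 2, 1, 0, 0, 2, 0, 1], [2, 0, 1, 2, 1, 0, 0, 2]),
  (43217, 39060, 4, 0, [0, 2, 1, 0, 0, 2, 0, 1], [2, 1, 0, 0, 2, 0, 1, 2, 0, 1]),
  (43217, 39061, 4, 0, [0, 2, 1, 0, 0, 2, 0, 1], [2, 0, 1, 0, 2, 0, 1, 2, 0]),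
  (43220, 39044, 1, 558, [], []),
  (43220, 39045, 4, 0, [0, 1, 0, 2, 1, 0, 1, 2, 0, 0], [2, 0, 1, 2, 1, 0, 0, 2]),
  (43220, 39060, 4, 0, [0, 1, 0, 2, 1, 0, 1, 2, 0, 0], [2, 1, 0, 0, 2, 0, 1, 2, 0, 1]),
  (43220, 39061, 0, 950, [], []),
  (43233, 20620, 2, 1111, [], []),
  (43233, 20621, 4, 0, [0, 0, 2, 1, 0, 1, 2, 0, 1, 0], [2, 0, 0, 1, 2, 1, 0, 2]),
  (43233, 20636, 4, 0, [0, 0, 2, 1, 0, 1, 2, 0, 1, 0], [1, 0, 2, 1, 0, 2, 0, 0, 1, 2]),
  (43233, 20637, 3, 1111, [], []),
  (43244, 20620, 4, 0, [0, 2, 0, 0, 1, 2, 0, 1], [1, 2, 0, 0, 1, 2, 0, 1, 2]),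
  (43244, 20621, 4, 0, [0, 2, 0, 0, 1, 2, 0, 1], [2, 0, 0, 1, 2, 1, 0, 2]),
  (43244, 20636, 4, 0, [0, 2, 0, 0, 1, 2, 0, 1], [1, 0, 2, 1, 0, 2, 0, 0, 1, 2]),
  (43244, 20637, 4, 0, [0, 2, 0, 0, 1, 2, 0, 1], [0, 2, 1, 0, 2, 0, 1, 0, 2]),
  (36001, 51336, 2, 1243, [], []),
  (36001, 51337, 4, 0, [0, 1, 2, 0, 0, 1, 0, 0, 2], [0, 2, 0, 0, 2, 0, 1, 2, 1]),
  (36001, 51352, 4, 0, [0, 1, 2, 0, 0, 1, 0, 0, 2], [0, 1, 1, 2, 0, 1, 0, 2, 0, 1, 2]),
  (36001, 51353, 3, 1243, [], []),
  (36008, 51336, 4, 0, [1, 0, 1, 2, 1, 0, 2], [0, 2, 1, 0, 0, 1, 2, 0, 1, 2]),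
  (36008, 51337, 4, 0, [1, 0, 1, 2, 1, 0, 2], [0, 2, 0, 0, 2, 0, 1, 2, 1]),
  (36008, 51352, 4, 0, [1, 0, 1, 2, 1, 0, 2], [0, 1, 1, 2, 0, 1, 0, 2, 0, 1, 2]),
  (36008, 51353, 4, 0, [1, 0, 1, 2, 1, 0, 2], [0, 2, 0, 1, 0, 2, 0, 1, 2]),
  (36081, 20620, 4, 0, [1, 0, 1, 2, 0, 1, 2], [1, 2, 0, 0, 1, 2, 0, 1, 2]),
  (36081, 20621, 4, 0, [1, 0, 1, 2, 0, 1, 2], [2, 0, 0, 1, 2, 1, 0, 2]),
  (36081, 20636, 4, 0, [1, 0, 1, 2, 0, 1, 2], [1, 0, 2, 1, 0, 2, 0, 0, 1, 2]),
  (36081, 20637, 4, 0, [1, 0, 1, 2, 0, 1, 2], [0, 2, 1, 0, 2, 0, 1, 0, 2]),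
  (36092, 20620, 1, 626, [], []),
  (36092, 20621, 4, 0, [1, 0, 2, 1, 0, 1, 2], [2, 0, 0, 1, 2, 1, 0, 2]),
  (36092, 20636, 4, 0, [1, 0, 2, 1, 0, 1, 2], [1, 0, 2, 1, 0, 2, 0, 0, 1, 2]),
  (36092, 20637, 0, 855, [], []),
  (44209, 51336, 4, 0, [2, 0, 1, 2, 1, 0, 1], [0, 2, 1, 0, 0, 1, 2, 0, 1, 2]),
  (44209, 51337, 4, 0, [2, 0, 1, 2, 1, 0, 1], [0, 2, 0, 0, 2, 0, 1, 2, 1]),
  (44209, 51352, 4, 0, [2, 0, 1, 2, 1, 0, 1], [0, 1, 1, 2, 0, 1, 0, 2, 0, 1, 2]),
  (44209, 51353, 4, 0, [2, 0, 1, 2, 1, 0, 1], [0, 2, 0, 1, 0, 2, 0, 1, 2]),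
  (44216, 51336, 1, 807, [], []),
  (44216, 51337, 4, 0, [1, 0, 1, 0, 2, 0, 1, 0, 2], [0, 2, 0, 0, 2, 0, 1, 2, 1]),
  (44216, 51352, 4, 0, [1, 0, 1, 0, 2, 0, 1, 0, 2], [0, 1, 1, 2, 0, 1, 0, 2, 0, 1, 2]),
  (44216, 51353, 0, 624, [], []),
  (44225, 39044, 2, 1026, [], []),
  (44225, 39045, 4, 0, [2, 1, 0, 1, 2, 0, 1], [2, 0, 1, 2, 1, 0, 0, 2]),
  (44225, 39060, 4, 0, [2, 1, 0, 1, 2, 0, 1], [2, 1, 0, 0, 2, 0, 1, 2, 0, 1]),
  (44225, 39061, 3, 1026, [], []),
  (44228, 39044, 4, 0, [2, 1, 0, 2, 1, 0, 1], [2, 1, 0, 2, 1, 0, 0, 2, 1]),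
  (44228, 39045, 4, 0, [2, 1, 0, 2, 1, 0, 1], [2, 0, 1, 2, 1, 0, 0, 2]),
  (44228, 39060, 4, 0, [2, 1, 0, 2, 1, 0, 1], [2, 1, 0, 0, 2, 0, 1, 2, 0, 1]),
  (44228, 39061, 4, 0, [2, 1, 0, 2, 1, 0, 1], [2, 0, 1, 0, 2, 0, 1, 2, 0])]

/-- paths from the first representative to the third class -/
def chains : List (ℕ × List (ℕ × ℕ) × ℕ) := [(1, [(27399, 370), (22044, 1188), (29954, 208)], 54427)]

/-- a word returning to the centre, for the last candidate -/
def loopThree : List ℕ := [65536, 38164, 65536, 34659, 65536]

/-- its action: element, image, witnesses -/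
def trackThree : List (ℕ × ℕ × List ℕ) := [(34945, 34945, [8, 1201, 777]), (34948, 35012, [1145, 1535, 1019]), (34960, 35024, [777, 8, 370]), (34976, 34977, [1201, 590, 918]), (35008, 35008, [1030, 193, 1130]), (35968, 40081, [45, 62, 1394]), (39040, 39104, [331, 886, 1078])]

/-- witnesses for the centre -/
def centreThree : List ℕ := [8, 1201, 777]

end CfsgLib.HeUnique
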