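import Cfsg.Agent.Lib.HeUnique.Cert

/-!
Derivations for one of the configurations.
-/

set_option autoImplicit false
set_option linter.style.longLine false
set_option maxRecDepth 100000

namespace CfsgLib.HeUnique

/-- loop words -/
def wordsStab : List (List ℕ) := [[34944, 65536, 14181, 65536, 13813, 65536, 34944]]

/-- witnesses for the centre -/
def centreStab : List (List ℕ) := [[8, 1030, 777]]

/-- tracked elements -/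
def actsStab : List (List (ℕ × ℕ × List ℕ)) := [[(34945, 34945, [8, 1030, 777]), (34952, 34957, [278, 1413, 45]), (34960, 35040, [777, 8, 1030]), (34976, 34961, [1201, 1348, 193]), (35008, 34977, [1030, 741, 918]), (43136, 20704, [223, 387, 331]), (51328, 44189, [470, 908, 851])]]

/-- the orbits -/
def orbStab : List (List ℕ) := [[34960, 34961, 34976, 34977, 34992, 34993, 35008, 35009, 35024, 35025, 35040, 35041, 35056, 35057]]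

/-- the facts -/
def factsStab0 : Tree (Fct × Why) :=
  (.node (.node (.node (.node (.node (.node (.node (.leaf (⟨0, 0, 34944, 0, 34944, 1, 34944⟩, .dfn)) (.leaf (⟨1, 1, 59616, 0, 51400, 1, 34944⟩, .mul 63 7))) (.node (.leaf (⟨1, 1, 28824, 0, 47305, 1, 34944⟩, .mul 31 5)) (.leaf (⟨0, 0, 34944, 0, 34944, 1, 34944⟩, .dfn)))) (.node (.node (.leaf (⟨1, 1, 30932, 0, 62617, 1, 34944⟩, .mul 13 3)) (.leaf (⟨0, 0, 34944, 0, 34944, 1, 34944⟩, .dfn))) (.node (.leaf (⟨1, 0, 54904, 0, 54904, 0, 34944⟩, .base)) (.leaf (⟨0, 0, 34944, 0, 34944, 1, 34944⟩, .dfn))))) (.node (.node (.node (.leaf (⟨1, 1, 36037, 0, 44269, 1, 34944⟩, .mul 3 3)) (.leaf (⟨1, 0, 35266, 0, 35266, 0, 34944⟩, .base))) (.node (.leaf (⟨1, 0, 13813, 0, 13813, 0, 34944⟩, .base)) (.leaf (⟨0, 0, 34944, 0, 34944, 1, 34944⟩, .dfn)))) (.node (.node (.leaf (⟨1,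 0, 56861, 0, 56861, 0, 34944⟩, .base)) (.leaf (⟨0, 0, 34944, 0, 34944, 1, 34944⟩, .dfn))) (.node (.leaf (⟨1, 1, 44224, 0, 35045, 1, 34944⟩, .mul 55 3)) (.leaf (⟨0, 0, 34944, 0, 34944, 1, 34944⟩, .dfn)))))) (.node (.node (.node (.node (.leaf (⟨1, 0, 30869, 0, 30869, 0, 34944⟩, .base)) (.leaf (⟨1, 1, 48377, 0, 28852, 1, 34944⟩, .mul 67 5))) (.node (.leaf (⟨1, 1, 21705, 0, 47293, 1, 34944⟩, .mul 35 3)) (.leaf (⟨0, 0, 34944, 0, 34944, 1, 34944⟩, .dfn)))) (.node (.node (.leaf (⟨1, 0, 34944, 0, 34944, 0, 34944⟩, .base)) (.leaf (⟨0, 0, 34944, 0, 34944, 1, 34944⟩, .dfn))) (.node (.leaf (⟨1, 1, 62668, 0, 23733, 1, 34944⟩, .mul 51 3)) (.leaf (⟨0, 0, 34944, 0, 34944, 1, 34944⟩, .dfn))))) (.node (.node (.node (.leaf (⟨1, 1, 59557, 0, 60584, 1, 34944⟩, .mul 11 5)) (.leaf (⟨1, 0, 27399, 0, 27399, 0, 34944⟩, .base))) (.node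 (.leaf (⟨1, 1, 23761, 0, 53404, 1, 34944⟩, .mul 43 3)) (.leaf (⟨0, 0, 34944, 0, 34944, 1, 34944⟩, .dfn)))) (.node (.node (.leaf (⟨1, 1, 62645, 0, 31972, 1, 34944⟩, .mul 27 3)) (.leaf (⟨0, 0, 34944, 0, 34944, 1, 34944⟩, .dfn))) (.node (.leaf (⟨1, 1, 61624, 0, 30953, 1, 34944⟩, .mul 59 3)) (.leaf (⟨0, 0, 34944, 0, 34944, 1, 34944⟩, .dfn))))))) (.node (.node (.node (.node (.node (.leaf (⟨1, 0, 21721, 0, 21721, 0, 34944⟩, .base)) (.leaf (⟨1, 1, 52420, 0, 60669, 1, 34944⟩, .mul 9 5))) (.node (.leaf (⟨1, 1, 20689, 0, 39089, 1, 34944⟩, .mul 33 3)) (.leaf (⟨0, 0, 34944, 0, 34944, 1, 34944⟩, .dfn)))) (.node (.node (.leaf (⟨1, 1, 22729, 0, 61584, 1, 34944⟩, .mul 17 7)) (.leaf (⟨0, 0, 34944, 0, 34944, 1, 34944⟩, .dfn))) (.node (.leaf (⟨1, 1, 53460, 0, 31921, 1, 34944⟩, .mul 49 3)) (.leaf (⟨0, 0, 34944, 0, 34944, 1, 34944⟩,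 .dfn))))) (.node (.node (.node (.leaf (⟨1, 1, 43140, 0, 44184, 1, 34944⟩, .mul 7 3)) (.leaf (⟨1, 0, 52187, 0, 52187, 0, 34944⟩, .base))) (.node (.leaf (⟨1, 1, 40121, 0, 28892, 1, 34944⟩, .mul 19 3)) (.leaf (⟨0, 0, 34944, 0, 34944, 1, 34944⟩, .dfn)))) (.node (.node (.leaf (⟨1, 1, 54509, 0, 23693, 1, 34944⟩, .mul 10 5)) (.leaf (⟨0, 0, 34944, 0, 34944, 1, 34944⟩, .dfn))) (.node (.leaf (⟨1, 1, 54449, 0, 22780, 1, 34944⟩, .mul 57 3)) (.leaf (⟨0, 0, 34944, 0, 34944, 1, 34944⟩, .dfn)))))) (.node (.node (.node (.node (.leaf (⟨1, 0, 21693, 0, 21693, 0, 34944⟩, .base)) (.leaf (⟨1, 1, 48300, 0, 21717, 1, 34944⟩, .mul 69 7))) (.node (.leaf (⟨1, 1, 52473, 0, 59612, 1, 34944⟩, .mul 37 3)) (.leaf (⟨0, 0, 34944, 0, 34944, 1, 34944⟩, .dfn)))) (.node (.node (.leaf (⟨0, 1, 34946, 0, 31898, 1, 21723⟩, .fill 0 0 2 [51360, 34946,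 65536, 34946] 0 34944 [⟨20, 0, 0⟩] [⟨21, 0, 250⟩])) (.leaf (⟨0, 0, 34944, 0, 34944, 1, 34944⟩, .dfn))) (.node (.leaf (⟨1, 1, 36052, 0, 44284, 1, 34944⟩, .mul 15 5)) (.leaf (⟨0, 0, 34944, 0, 34944, 1, 34944⟩, .dfn))))) (.node (.node (.node (.leaf (⟨1, 1, 61597, 0, 23753, 1, 34944⟩, .mul 8 5)) (.leaf (⟨1, 0, 51896, 0, 51896, 0, 34944⟩, .base))) (.node (.leaf (⟨1, 1, 31948, 0, 54421, 1, 34944⟩, .mul 45 7)) (.leaf (⟨0, 0, 34944, 0, 34944, 1, 34944⟩, .dfn)))) (.node (.node (.leaf (⟨1, 1, 53436, 0, 23793, 1, 34944⟩, .mul 29 3)) (.leaf (⟨0, 0, 34944, 0, 34944, 1, 34944⟩, .dfn))) (.node (.leaf (⟨1, 1, 60652, 0, 52437, 1, 34944⟩, .mul 61 3)) (.leaf (⟨0, 0, 34944, 0, 34944, 1, 34944⟩, .dfn)))))))) (.node (.node (.node (.node (.node (.node (.leaf (⟨0, 1, 34944, 0, 34944, 0, 34944⟩, .inv 0)) (.leaf (⟨1, 1, 22660, 0, 62704,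 1, 34944⟩, .mul 64 3))) (.node (.leaf (⟨1, 1, 62628, 0, 31989, 1, 34944⟩, .mul 32 3)) (.leaf (⟨0, 0, 34944, 0, 34944, 1, 34944⟩, .dfn)))) (.node (.node (.leaf (⟨1, 1, 60669, 0, 52420, 1, 34944⟩, .mul 16 3)) (.leaf (⟨0, 0, 34944, 0, 34944, 1, 34944⟩, .dfn))) (.node (.leaf (⟨1, 1, 21673, 0, 47357, 1, 34944⟩, .mul 14 3)) (.leaf (⟨0, 0, 34944, 0, 34944, 1, 34944⟩, .dfn))))) (.node (.node (.node (.leaf (⟨1, 1, 48360, 0, 28837, 1, 34944⟩, .mul 8 3)) (.leaf (⟨1, 0, 11087, 0, 11087, 0, 34944⟩, .base))) (.node (.leaf (⟨1, 0, 59118, 0, 59118, 0, 34944⟩, .base)) (.leaf (⟨0, 0, 34944, 0, 34944, 1, 34944⟩, .dfn)))) (.node (.node (.leaf (⟨0, 1, 14181, 0, 56861, 1, 27232⟩, .fill 2 1 2 [34944, 45423, 34944, 65536, 54904] 0 34944 [⟨20, 0, 0⟩] [⟨24, 0, 477⟩])) (.leaf (⟨0, 0, 34944, 0, 34944, 1, 34944⟩, .dfn))) (.node (.leaf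 (⟨1, 1, 20621, 0, 40128, 1, 34944⟩, .mul 5 3)) (.leaf (⟨0, 0, 34944, 0, 34944, 1, 34944⟩, .dfn)))))) (.node (.node (.node (.node (.leaf (⟨1, 1, 62697, 0, 30869, 1, 34944⟩, .sync ⟨4, 0, 761⟩)) (.leaf (⟨1, 1, 43201, 0, 35064, 1, 34944⟩, .mul 68 7))) (.node (.leaf (⟨1, 1, 22736, 0, 53377, 1, 34944⟩, .mul 12 3)) (.leaf (⟨0, 0, 34944, 0, 34944, 1, 34944⟩, .dfn)))) (.node (.node (.leaf (⟨1, 0, 31898, 0, 31898, 0, 34944⟩, .base)) (.leaf (⟨0, 0, 34944, 0, 34944, 1, 34944⟩, .dfn))) (.node (.leaf (⟨1, 1, 52448, 0, 51405, 1, 34944⟩, .mul 18 3)) (.leaf (⟨0, 0, 34944, 0, 34944, 1, 34944⟩, .dfn))))) (.node (.node (.node (.leaf (⟨1, 1, 51361, 0, 51376, 1, 34944⟩, .mul 3 5)) (.leaf (⟨1, 0, 30672, 0, 30672, 0, 34944⟩, .base))) (.node (.leaf (⟨1, 1, 51448, 0, 59585, 1, 34944⟩, .mul 44 3)) (.leaf (⟨0, 0, 34944, 0, 34944, 1, 34944⟩,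 .dfn)))) (.node (.node (.leaf (⟨1, 1, 21632, 0, 39117, 1, 34944⟩, .mul 28 7)) (.leaf (⟨0, 0, 34944, 0, 34944, 1, 34944⟩, .dfn))) (.node (.leaf (⟨1, 1, 30917, 0, 62600, 1, 34944⟩, .mul 5 5)) (.leaf (⟨0, 0, 34944, 0, 34944, 1, 34944⟩, .dfn))))))) (.node (.node (.node (.node (.node (.leaf (⟨1, 1, 47292, 0, 21721, 1, 34944⟩, .sync ⟨2, 0, 1154⟩)) (.leaf (⟨1, 1, 20636, 0, 40145, 1, 34944⟩, .mul 66 5))) (.node (.leaf (⟨1, 1, 61628, 0, 23801, 1, 34944⟩, .mul 34 7)) (.leaf (⟨0, 0, 34944, 0, 34944, 1, 34944⟩, .dfn)))) (.node (.node (.leaf (⟨1, 1, 44165, 0, 44165, 1, 34944⟩, .mul 3 7)) (.leaf (⟨0, 0, 34944, 0, 34944, 1, 34944⟩, .dfn))) (.node (.leaf (⟨1, 1, 28849, 0, 39161, 1, 34944⟩, .mul 50 7)) (.leaf (⟨0, 0, 34944, 0, 34944, 1, 34944⟩, .dfn))))) (.node (.node (.node (.leaf (⟨1, 1, 39096, 0, 28865, 1, 34944⟩, .mul 10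 3)) (.leaf (⟨1, 0, 43612, 0, 43612, 0, 34944⟩, .base))) (.node (.leaf (⟨1, 1, 60580, 0, 60597, 1, 34944⟩, .mul 42 5)) (.leaf (⟨0, 0, 34944, 0, 34944, 1, 34944⟩, .dfn)))) (.node (.node (.leaf (⟨1, 1, 28809, 0, 47320, 1, 34944⟩, .mul 26 3)) (.leaf (⟨0, 0, 34944, 0, 34944, 1, 34944⟩, .dfn))) (.node (.leaf (⟨1, 1, 29828, 0, 48341, 1, 34944⟩, .mul 58 7)) (.leaf (⟨0, 0, 34944, 0, 34944, 1, 34944⟩, .dfn)))))) (.node (.node (.node (.node (.leaf (⟨1, 1, 40172, 0, 21693, 1, 34944⟩, .sync ⟨6, 0, 172⟩)) (.leaf (⟨1, 0, 34659, 0, 34659, 0, 34944⟩, .base))) (.node (.leaf (⟨1, 1, 31901, 0, 54500, 1, 34944⟩, .mul 38 3)) (.leaf (⟨0, 0, 34944, 0, 34944, 1, 34944⟩, .dfn)))) (.node (.node (.leaf (⟨1, 1, 34944, 0, 34944, 1, 34944⟩, .unit)) (.leaf (⟨0, 0, 34944, 0, 34944, 1, 34944⟩, .dfn))) (.node (.leaf (⟨1, 1, 39097, 0, 28881,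 1, 34944⟩, .mul 54 7)) (.leaf (⟨0, 0, 34944, 0, 34944, 1, 34944⟩, .dfn))))) (.node (.node (.node (.leaf (⟨1, 1, 31984, 0, 53412, 1, 34944⟩, .mul 14 5)) (.leaf (⟨0, 0, 34944, 0, 34944, 1, 34944⟩, .dfn))) (.node (.leaf (⟨1, 1, 59621, 0, 60616, 1, 34944⟩, .mul 46 3)) (.leaf (⟨0, 0, 34944, 0, 34944, 1, 34944⟩, .dfn)))) (.node (.node (.leaf (⟨1, 1, 60608, 0, 51429, 1, 34944⟩, .mul 7 5)) (.leaf (⟨0, 0, 34944, 0, 34944, 1, 34944⟩, .dfn))) (.node (.leaf (⟨1, 1, 23688, 0, 61677, 1, 34944⟩, .mul 62 3)) (.leaf (⟨0, 0, 34944, 0, 34944, 1, 34944⟩, .dfn)))))))))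

/-- definitions -/
def defsStab0 : List (ℕ × ℕ × ℕ) := [(0, 34944, 0)]

/-- number of facts -/
def nStab0 : ℕ := 79

/-- values of the loops -/
def valsStab0 : List ℕ := [45423]

/-- witnesses of completeness -/
def coverStab0 : List (List (List (ℕ × ℕ))) := [[[(20, 0), (21, 0), (71, 0), (41, 0), (48, 0), (72, 0), (40, 0), (73, 0), (74, 0), (75, 0), (24, 0), (76, 0), (77, 0), (78, 0)],
  [(23, 1), (23, 22), (60, 25), (30, 25), (36, 25), (52, 25), (23, 25), (42, 25), (56, 25), (70, 25), (39, 25), (65, 25), (53, 25), (47, 25)]]]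

/-- the involutions in the model -/
def invStab0 : List (List ℕ) := [[9, 4, 2, 8, 24], [6, 2, 3, 26, 16]]

/-- the facts -/
def factsStabBad0 : Tree (Fct × Why) :=
  (.node (.node (.node (.leaf (⟨0, 0, 34944, 0, 34944, 1, 34944⟩, .dfn)) (.leaf (⟨1, 0, 56861, 0, 56861, 0, 34944⟩, .base))) (.node (.leaf (⟨1, 0, 34944, 0, 34944, 0, 34944⟩, .base)) (.leaf (⟨1, 0, 14196, 0, 14181, 0, 34944⟩, .close 2 3 34944 [⟨2, 0, 0⟩, ⟨3, 5, 1192⟩, ⟨3, 1, 769⟩])))) (.node (.node (.leaf (⟨0, 1, 34944, 0, 34944, 0, 34944⟩, .inv 0)) (.leaf (⟨0, 1, 14181, 0, 56861, 1, 27248⟩, .fill 2 1 2 [34944, 45390, 34944, 65536, 54904] 0 34944 [⟨2, 0, 0⟩] [⟨4, 0, 1047⟩]))) (.node (.leaf (⟨1, 1, 34944, 0, 34944, 1, 34944⟩, .unit)) (.leaf (⟨0, 0, 34944, 0, 34944, 1, 34944⟩, .dfn)))))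

/-- definitions -/
def defsStabBad0 : List (ℕ × ℕ × ℕ) := [(0, 34944, 0)]

/-- the facts -/
def factsStabBad1 : Tree (Fct × Why) :=
  (.node (.node (.node (.leaf (⟨0, 0, 34944, 0, 34944, 1, 34944⟩, .dfn)) (.leaf (⟨1, 0, 56861, 0, 56861, 0, 34944⟩, .base))) (.node (.leaf (⟨1, 0, 34944, 0, 34944, 0, 34944⟩, .base)) (.leaf (⟨1, 0, 14101, 0, 14181, 0, 34944⟩, .close 2 3 34944 [⟨2, 0, 0⟩, ⟨3, 5, 1192⟩, ⟨3, 1, 370⟩])))) (.node (.node (.leaf (⟨0, 1, 34944, 0, 34944, 0, 34944⟩, .inv 0)) (.leaf (⟨0, 1, 14181, 0, 56861, 1, 27184⟩, .fill 2 1 2 [34944, 45391, 34944, 65536, 54904] 0 34944 [⟨2, 0, 0⟩] [⟨4, 0, 1342⟩]))) (.node (.leaf (⟨1, 1, 34944, 0, 34944, 1, 34944⟩, .unit)) (.leaf (⟨0, 0, 34944, 0, 34944, 1, 34944⟩, .dfn)))))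

/-- definitions -/
def defsStabBad1 : List (ℕ × ℕ × ℕ) := [(0, 34944, 0)]

/-- the facts -/
def factsStabBad2 : Tree (Fct × Why) :=
  (.node (.node (.node (.leaf (⟨0, 0, 34944, 0, 34944, 1, 34944⟩, .dfn)) (.leaf (⟨1, 0, 56861, 0, 56861, 0, 34944⟩, .base))) (.node (.leaf (⟨1, 0, 34944, 0, 34944, 0, 34944⟩, .base)) (.leaf (⟨1, 0, 14084, 0, 14181, 0, 34944⟩, .close 2 3 34944 [⟨2, 0, 0⟩, ⟨3, 5, 1192⟩, ⟨3, 1, 193⟩])))) (.node (.node (.leaf (⟨0, 1, 34944, 0, 34944, 0, 34944⟩, .inv 0)) (.leaf (⟨0, 1, 14181, 0, 56861, 1, 27249⟩, .fill 2 1 2 [34944, 45406, 34944, 65536, 54904] 0 34944 [⟨2, 0, 0⟩] [⟨4, 0, 1353⟩]))) (.node (.leaf (⟨1, 1, 34944, 0, 34944, 1, 34944⟩, .unit)) (.leaf (⟨0, 0, 34944, 0, 34944, 1, 34944⟩, .dfn)))))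

/-- definitions -/
def defsStabBad2 : List (ℕ × ℕ × ℕ) := [(0, 34944, 0)]

/-- the facts -/
def factsStabBad3 : Tree (Fct × Why) :=
  (.node (.node (.node (.node (.node (.leaf (⟨0, 0, 34944, 0, 34944, 1, 34944⟩, .dfn)) (.leaf (⟨0, 1, 34946, 0, 31898, 1, 21723⟩, .fill 0 0 2 [51360, 34946, 65536, 34946] 0 34944 [⟨14, 0, 0⟩] [⟨15, 0, 250⟩]))) (.node (.leaf (⟨1, 1, 43140, 0, 44184, 1, 34944⟩, .mul 6 2)) (.leaf (⟨1, 1, 28849, 0, 39161, 1, 34944⟩, .mul 23 6)))) (.node (.node (.leaf (⟨1, 1, 62697, 0, 30869, 1, 34944⟩, .sync ⟨3, 0, 761⟩)) (.leaf (⟨1, 1, 54509, 0, 23693, 1, 34944⟩, .mul 8 4))) (.node (.leaf (⟨1, 1, 60669, 0, 52420, 1, 34944⟩, .mul 11 2)) (.leaf (⟨1, 1, 29825, 0, 39125, 1, 34944⟩, .mul 27 2))))) (.node (.node (.node (.leaf (⟨1, 1, 47292, 0, 21721, 1, 34944⟩, .sync ⟨1, 0, 1154⟩)) (.leaf (⟨1, 0, 56861,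 0, 56861, 0, 34944⟩, .base))) (.node (.leaf (⟨1, 1, 61597, 0, 23753, 1, 34944⟩, .mul 7 4)) (.leaf (⟨1, 1, 52448, 0, 51405, 1, 34944⟩, .mul 13 2)))) (.node (.node (.leaf (⟨1, 1, 40172, 0, 21693, 1, 34944⟩, .sync ⟨5, 0, 172⟩)) (.leaf (⟨1, 1, 21673, 0, 47357, 1, 34944⟩, .mul 10 2))) (.node (.leaf (⟨1, 0, 34944, 0, 34944, 0, 34944⟩, .base)) (.leaf (⟨0, 0, 34944, 0, 34944, 1, 34944⟩, .dfn)))))) (.node (.node (.node (.node (.leaf (⟨1, 0, 21721, 0, 21721, 0, 34944⟩, .base)) (.leaf (⟨1, 1, 34944, 0, 34944, 1, 34944⟩, .unit))) (.node (.leaf (⟨1, 1, 51361, 0, 51376, 1, 34944⟩, .mul 2 4)) (.leaf (⟨1, 1, 62668, 0, 23733, 1, 34944⟩, .mul 24 2)))) (.node (.node (.leaf (⟨1, 0, 21693, 0, 21693, 0, 34944⟩, .base)) (.leaf (⟨1, 1, 28809, 0, 47320, 1, 34944⟩, .mul 20 2))) (.node (.leaf (⟨1, 1, 22729, 0, 61584, 1, 34944⟩, .mul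 12 6)) (.leaf (⟨1, 1, 29825, 0, 39061, 1, 34944⟩, .close 2 1 34946 [⟨17, 16, 0⟩, ⟨25, 19, 754⟩, ⟨26, 19, 745⟩]))))) (.node (.node (.node (.leaf (⟨1, 0, 30869, 0, 30869, 0, 34944⟩, .base)) (.leaf (⟨0, 1, 14181, 0, 56861, 1, 27185⟩, .fill 2 1 2 [34944, 45407, 34944, 65536, 54904] 0 34944 [⟨14, 0, 0⟩] [⟨18, 0, 597⟩]))) (.node (.leaf (⟨1, 1, 30932, 0, 62617, 1, 34944⟩, .mul 9 2)) (.leaf (⟨1, 1, 53477, 0, 31872, 1, 34944⟩, .mul 21 6)))) (.node (.node (.leaf (⟨1, 1, 36037, 0, 44269, 1, 34944⟩, .mul 2 2)) (.leaf (⟨1, 1, 53460, 0, 31921, 1, 34944⟩, .mul 22 2))) (.node (.leaf (⟨1, 0, 31898, 0, 31898, 0, 34944⟩, .base)) (.leaf (⟨0, 0, 34944, 0, 34944, 1, 34944⟩, .dfn)))))))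

/-- definitions -/
def defsStabBad3 : List (ℕ × ℕ × ℕ) := [(0, 34944, 0)]

/-- the facts -/
def factsStabBad4 : Tree (Fct × Why) :=
  (.node (.node (.node (.leaf (⟨0, 0, 34944, 0, 34944, 1, 34944⟩, .dfn)) (.leaf (⟨1, 0, 56861, 0, 56861, 0, 34944⟩, .base))) (.node (.leaf (⟨1, 0, 34944, 0, 34944, 0, 34944⟩, .base)) (.leaf (⟨1, 0, 14084, 0, 14181, 0, 34944⟩, .close 2 3 34944 [⟨2, 0, 0⟩, ⟨3, 5, 1192⟩, ⟨3, 1, 193⟩])))) (.node (.node (.leaf (⟨0, 1, 34944, 0, 34944, 0, 34944⟩, .inv 0)) (.leaf (⟨0, 1, 14181, 0, 56861, 1, 27168⟩, .fill 2 1 2 [34944, 45422, 34944, 65536, 54904] 0 34944 [⟨2, 0, 0⟩] [⟨4, 0, 1229⟩]))) (.node (.leaf (⟨1, 1, 34944, 0, 34944, 1, 34944⟩, .unit)) (.leaf (⟨0, 0, 34944, 0, 34944, 1, 34944⟩, .dfn)))))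

/-- definitions -/
def defsStabBad4 : List (ℕ × ℕ × ℕ) := [(0, 34944, 0)]

/-- the facts -/
def factsStabBad5 : Tree (Fct × Why) :=
  (.node (.node (.node (.leaf (⟨0, 0, 34944, 0, 34944, 1, 34944⟩, .dfn)) (.leaf (⟨1, 0, 56861, 0, 56861, 0, 34944⟩, .base))) (.node (.leaf (⟨1, 0, 34944, 0, 34944, 0, 34944⟩, .base)) (.leaf (⟨1, 0, 14196, 0, 14181, 0, 34944⟩, .close 2 3 34944 [⟨2, 0, 0⟩, ⟨3, 5, 1192⟩, ⟨3, 1, 769⟩])))) (.node (.node (.leaf (⟨0, 1, 34944, 0, 34944, 0, 34944⟩, .inv 0)) (.leaf (⟨0, 1, 14181, 0, 56861, 1, 27169⟩, .fill 2 1 2 [34944, 45438, 34944, 65536, 54904] 0 34944 [⟨2, 0, 0⟩] [⟨4, 0, 1012⟩]))) (.node (.leaf (⟨1, 1, 34944, 0, 34944, 1, 34944⟩, .unit)) (.leaf (⟨0, 0, 34944, 0, 34944, 1, 34944⟩, .dfn)))))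

/-- definitions -/
def defsStabBad5 : List (ℕ × ℕ × ℕ) := [(0, 34944, 0)]

/-- the facts -/
def factsStabBad6 : Tree (Fct × Why) :=
  (.node (.node (.node (.leaf (⟨0, 0, 34944, 0, 34944, 1, 34944⟩, .dfn)) (.leaf (⟨1, 0, 56861, 0, 56861, 0, 34944⟩, .base))) (.node (.leaf (⟨1, 0, 34944, 0, 34944, 0, 34944⟩, .base)) (.leaf (⟨1, 0, 14101, 0, 14181, 0, 34944⟩, .close 2 3 34944 [⟨2, 0, 0⟩, ⟨3, 5, 1192⟩, ⟨3, 1, 370⟩])))) (.node (.node (.leaf (⟨0, 1, 34944, 0, 34944, 0, 34944⟩, .inv 0)) (.leaf (⟨0, 1, 14181, 0, 56861, 1, 27233⟩, .fill 2 1 2 [34944, 45439, 34944, 65536, 54904] 0 34944 [⟨2, 0, 0⟩] [⟨4, 0, 340⟩]))) (.node (.leaf (⟨1, 1, 34944, 0, 34944, 1, 34944⟩, .unit)) (.leaf (⟨0, 0, 34944, 0, 34944, 1, 34944⟩, .dfn)))))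

/-- definitions -/
def defsStabBad6 : List (ℕ × ℕ × ℕ) := [(0, 34944, 0)]

/-- refuted values -/
def badStab : List (ℕ × List (ℕ × ℕ) × Tree (Fct × Why) × ℕ × List (ℕ × ℕ × ℕ) × ℕ × ℕ) := [
  (0, [(0, 45390)], factsStabBad0, 7, defsStabBad0, 6, 6),
  (0, [(0, 45391)], factsStabBad1, 7, defsStabBad1, 6, 6),
  (0, [(0, 45406)], factsStabBad2, 7, defsStabBad2, 6, 6),
  (0, [(0, 45407)], factsStabBad3, 30, defsStabBad3, 29, 28),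
  (0, [(0, 45422)], factsStabBad4, 7, defsStabBad4, 6, 6),
  (0, [(0, 45438)], factsStabBad5, 7, defsStabBad5, 6, 6),
  (0, [(0, 45439)], factsStabBad6, 7, defsStabBad6, 6, 6)]

end CfsgLib.HeUnique
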