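import Cfsg.Agent.Lib.HeUnique.Configs

/-!
Elimination of the refuted values of a loop.
-/

set_option autoImplicit false

namespace CfsgLib.HeUnique.Conf

/-- A list of refutations. -/
abbrev Bads := List (ℕ × List (ℕ × ℕ) × Tree (Fct × Why) × ℕ × List (ℕ × ℕ × ℕ) × ℕ × ℕ)

/-- The refuted values of the loop `j`. -/
def badVals (bad : Bads) (j : ℕ) : List ℕ :=
  (bad.filter fun b => b.1 == j).map fun b => ((b.2.1.find? fun p => p.1 == j).getD (0, 0)).2

/-- The refutations for the loop `j` use the values `pre` of other loops. -/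
def shapeOK (bad : Bads) (j : ℕ) (pre : List (ℕ × ℕ)) : Bool :=
  (bad.filter fun b => b.1 == j).all fun b =>
    b.2.1 == pre ++ [(j, ((b.2.1.find? fun p => p.1 == j).getD (0, 0)).2)]

variable {K : Conf} {G : Type*} [Group G] {z : G} {ι σ : ℕ → G}

theorem Hold.elim (H : K.Hold ι σ) (R : Rep z ι) (hl : K.lettersAll = true) {bad : Bads}
    (hbad : bad.all K.badOK = true) {j : ℕ} (hj : j < K.words.length) {pre : List (ℕ × ℕ)}
    (hs : shapeOK bad j pre = true) (hlt : ∀ p ∈ pre, p.1 < K.words.length)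
    (hpre : ∀ p ∈ pre, ok p.2 = true ∧ wval ι σ (K.words.getD p.1 []) = ι p.2) {c : ℕ}
    (oc : ok c = true) (hc : wval ι σ (K.words.getD j []) = ι c) (hmem : c ∈ badVals bad j) :
    False := by
  obtain ⟨b, hb, rfl⟩ := List.mem_map.mp hmem
  have h := mem_all hs hb
  rw [beq_iff_eq] at h
  refine H.not_bad R hl hbad (List.mem_map_of_mem (List.mem_filter.mp hb).1) ?_ ?_
  · rw [h]
    intro p hp
    rcases List.mem_append.mp hp with hp | hp
    · exact hlt p hp
    · rw [List.mem_singleton] at hp; subst hp; exact hj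
  · rw [h]
    intro p hp
    rcases List.mem_append.mp hp with hp | hp
    · exact hpre p hp
    · rw [List.mem_singleton] at hp; subst hp; exact ⟨oc, hc⟩

end CfsgLib.HeUnique.Conf
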