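import Cfsg.Agent.Lib.HeUnique.Configs
import Cfsg.Agent.Lib.HeUnique.DataFive

/-!
Finite facts of one configuration.
-/

set_option autoImplicit false

namespace CfsgLib.HeUnique

/-- The configuration. -/
def confFive : Conf :=
  ⟨(phiTab 2), (thTab (phiTab 2)), [(0, qA, cubeList.getD 2 0), (1, theta qA, theta (cubeList.getD 2 0))], wordsFive, centreFive, actsFive⟩

theorem lettersFive : confFive.lettersAll = true := by decide +kernel

theorem trackFive : confFive.trackAll = true := by decide +kernel

theorem badFive_ok : badFive.all confFive.badOK = true := by decide +kernel

/-- The values not refuted for the loop `j`. -/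
def goodFive (j : ℕ) : List ℕ := ([valsFive0, valsFive1]).map fun v => v.getD j 0

theorem valsFive_ok : ((List.range wordsFive.length).all fun j =>
    loopVals (actsFive.getD j []) (goodFive j ++
      (badFive.filter fun b => b.1 == j).map fun b => ((b.2.1.find? fun p => p.1 == j).getD (0, 0)).2)) =
      true := by
  decide +kernel

/-- A derivation for the values left. -/
def certFive0 : Cert :=
  confFive.cert ((List.range wordsFive.length).zip valsFive0) factsFive0 nFive0 defsFive0

theorem factsFive0_ok : certFive0.factsOK = true := by decide +kernel

theorem coverFive0_ok : ((List.range orbFive.length).all fun k =>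
    certFive0.coverOK k ([cA, cB].getD k 0) (orbFive.getD k []) (coverFive0.getD k [])) = true := by
  decide +kernel


/-- A derivation for the values left. -/
def certFive1 : Cert :=
  confFive.cert ((List.range wordsFive.length).zip valsFive1) factsFive1 nFive1 defsFive1

theorem factsFive1_ok : certFive1.factsOK = true := by decide +kernel

theorem coverFive1_ok : ((List.range orbFive.length).all fun k =>
    certFive1.coverOK k ([cA, cB].getD k 0) (orbFive.getD k []) (coverFive1.getD k [])) = true := by
  decide +kernel


end CfsgLib.HeUnique
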