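import Cfsg.Agent.Lib.HeUnique.Facts

/-!
Coordinates on the centralizer of an involution, and the automorphisms of the model.
-/

set_option autoImplicit false

open Matrix

namespace CfsgLib.HeUnique

/-- `ι` gives coordinates on the centralizer of `z`. -/
structure Rep {G : Type*} [Group G] (z : G) (ι : ℕ → G) : Prop where
  hmul : ∀ x y, ok x = true → ok y = true → ι (cmul x y) = ι x * ι y
  hone : ι one = 1
  inj : ∀ x y, ok x = true → ok y = true → ι x = ι y → x = y
  z_eq : ι zc = z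
  surj : ∀ g : G, g * z = z * g → ∃ x, ok x = true ∧ ι x = g

theorem zc_comm {x : ℕ} (hx : ok x = true) : cmul x zc = cmul zc x := by
  obtain ⟨h1, h2⟩ := zc_parts
  simp only [List.all_eq_true, List.mem_range, Bool.and_eq_true, beq_iff_eq] at h1 h2
  obtain ⟨⟨⟨a, b⟩, c⟩, d⟩ := h1 _ (fA_lt (ok_lt hx))
  obtain ⟨e, -⟩ := h2 _ (fR_lt x)
  obtain ⟨-, g⟩ := h2 _ (fS_lt x)
  have f : fA zc = 273 ∧ fR zc = 0 ∧ fS zc = 0 ∧ fC zc = 1 := by decide
  simp only [cmul, f.1, f.2.1, f.2.2.1, f.2.2.2, a, b, c, d, e, g]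
  have hp : ∀ v : Fin 8, par (v.val.land 0) = 0 ∧ par ((0 : ℕ).land v) = 0 ∧
      (0 : ℕ).xor v.val = v.val ∧ v.val.xor 0 = v.val := by decide
  rw [(hp ⟨_, fR_lt x⟩).2.2.1, (hp ⟨_, fR_lt x⟩).2.2.2, (hp ⟨_, fR_lt x⟩).1,
    (hp ⟨_, fS_lt x⟩).2.1, (hp ⟨_, fS_lt x⟩).2.2.1, (hp ⟨_, fS_lt x⟩).2.2.2, add_comm (fC x)]

/-- The permutation matrix back to a code. -/
def codeOf (B : Matrix (Fin 5) (Fin 5) (ZMod 2)) : ℕ :=
  mk (((B 2 2).val + 2 * (B 2 3).val + 4 * (B 2 4).val) +
      8 * ((B 3 2).val + 2 * (B 3 3).val + 4 * (B 3 4).val) +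
      64 * ((B 4 2).val + 2 * (B 4 3).val + 4 * (B 4 4).val))
    ((B 0 2).val + 2 * (B 0 3).val + 4 * (B 0 4).val)
    ((B 2 1).val + 2 * (B 3 1).val + 4 * (B 4 1).val) (B 0 1).val

theorem bv_pack : ∀ a b c : ZMod 2, a.val + 2 * b.val + 4 * c.val < 8 ∧
    bv (a.val + 2 * b.val + 4 * c.val) 0 = a ∧ bv (a.val + 2 * b.val + 4 * c.val) 1 = b ∧
    bv (a.val + 2 * b.val + 4 * c.val) 2 = c := by
  decide +kernel

theorem mat_codeOf {B : Matrix (Fin 5) (Fin 5) (ZMod 2)}
    (h1 : ∀ i, i ≠ 0 → B i 0 = 0) (h2 : ∀ j, j ≠ 1 → B 1 j = 0) (h00 : B 0 0 = 1)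
    (h11 : B 1 1 = 1) : codeOf B < 65536 ∧ mat (codeOf B) = B := by
  obtain ⟨la, a0, a1, a2⟩ := bv_pack (B 2 2) (B 2 3) (B 2 4)
  obtain ⟨lb, b0, b1, b2⟩ := bv_pack (B 3 2) (B 3 3) (B 3 4)
  obtain ⟨lc, c0, c1, c2⟩ := bv_pack (B 4 2) (B 4 3) (B 4 4)
  obtain ⟨lr, r0, r1, r2⟩ := bv_pack (B 0 2) (B 0 3) (B 0 4)
  obtain ⟨ls, s0, s1, s2⟩ := bv_pack (B 2 1) (B 3 1) (B 4 1)
  obtain ⟨e0, e1, e2, e3⟩ := row_fields ⟨_, la⟩ ⟨_, lb⟩ ⟨_, lc⟩
  have hc : (B 0 1).val < 2 := ZMod.val_lt _
  have hcc : ∀ a : ZMod 2, ((a.val : ℕ) : ZMod 2) = a := by decide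
  refine ⟨mk_lt e3 lr ls hc, ?_⟩
  obtain ⟨fa, fr, fs, fc⟩ := fields (A := ((B 2 2).val + 2 * (B 2 3).val + 4 * (B 2 4).val) +
      8 * ((B 3 2).val + 2 * (B 3 3).val + 4 * (B 3 4).val) +
      64 * ((B 4 2).val + 2 * (B 4 3).val + 4 * (B 4 4).val)) lr ls hc
  have hM : ∀ i j : Fin 3, bM (fA (codeOf B)) i j = bv ((![(B 2 2).val + 2 * (B 2 3).val +
      4 * (B 2 4).val, (B 3 2).val + 2 * (B 3 3).val + 4 * (B 3 4).val,
      (B 4 2).val + 2 * (B 4 3).val + 4 * (B 4 4).val] : Fin 3 → ℕ) i) j := by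
    intro i j
    have he : ∀ i : Fin 3, rowA (fA (codeOf B)) i = (![(B 2 2).val + 2 * (B 2 3).val +
        4 * (B 2 4).val, (B 3 2).val + 2 * (B 3 3).val + 4 * (B 3 4).val,
        (B 4 2).val + 2 * (B 4 3).val + 4 * (B 4 4).val] : Fin 3 → ℕ) i := by
      intro i
      unfold codeOf
      rw [fa]
      fin_cases i
      exacts [e0, e1, e2]
    simp only [bM, bv, he]
  have hr : fR (codeOf B) = _ := fr
  have hs : fS (codeOf B) = _ := fs
  have hC : fC (codeOf B) = _ := fc
  ext i j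
  simp only [mat]
  fin_cases i <;> fin_cases j <;>
    simp [hM, hr, hs, hC, hcc, r0, r1, r2, s0, s1, s2, a0, a1, a2, b0, b1, b2, c0, c1, c2,
      h00, h11, h1 1 (by decide), h1 2 (by decide), h1 3 (by decide), h1 4 (by decide),
      h2 2 (by decide), h2 3 (by decide), h2 4 (by decide)]

/-- The matrix of a code, as an element of the special linear group. -/
def toSL (x : ℕ) : Matrix.SpecialLinearGroup (Fin 5) (ZMod 2) :=
  if h : (mat x).det = 1 then ⟨mat x, h⟩ else 1

theorem mat_toSL {x : ℕ} (hx : ok x = true) : ((toSL x : Matrix.SpecialLinearGroup (Fin 5) (ZMod 2)) :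
    Matrix (Fin 5) (Fin 5) (ZMod 2)) = mat x := by
  simp [toSL, (ok_iff.mp hx).2]

theorem exists_rep {G : Type*} [Group G] (s : Matrix.SpecialLinearGroup (Fin 5) (ZMod 2))
    (hs : (s : Matrix (Fin 5) (Fin 5) (ZMod 2)) = Matrix.transvection 0 1 1) (z : G)
    (hz : orderOf z = 2)
    (e : (Subgroup.centralizer ({z} : Set G)) ≃*
      Subgroup.centralizer ({s} : Set (Matrix.SpecialLinearGroup (Fin 5) (ZMod 2)))) :
    ∃ ι : ℕ → G, Rep z ι := by
  classical
  have hcomm : ∀ x, ok x = true → toSL x * s = s * toSL x := by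
    intro x hx
    apply Subtype.ext
    rw [Matrix.SpecialLinearGroup.coe_mul, Matrix.SpecialLinearGroup.coe_mul, mat_toSL hx, hs,
      show (Matrix.transvection 0 1 1 : Matrix (Fin 5) (Fin 5) (ZMod 2)) = mat zc by decide +kernel,
      ← mat_mul (ok_lt hx) (ok_lt ok_zc), ← mat_mul (ok_lt ok_zc) (ok_lt hx), zc_comm hx]
  let T : ℕ → Subgroup.centralizer ({s} : Set (Matrix.SpecialLinearGroup (Fin 5) (ZMod 2))) :=
    fun x => if h : ok x = true then ⟨toSL x, Subgroup.mem_centralizer_singleton_iff.mpr (hcomm x h)⟩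
      else 1
  have hT : ∀ x, ok x = true → ((T x : Matrix.SpecialLinearGroup (Fin 5) (ZMod 2)) :
      Matrix (Fin 5) (Fin 5) (ZMod 2)) = mat x := fun x hx => by
    simp only [T, dif_pos hx]
    exact mat_toSL hx
  have hTm : ∀ x y, ok x = true → ok y = true → T (cmul x y) = T x * T y := fun x y hx hy => by
    apply Subtype.ext; apply Subtype.ext
    rw [hT _ (ok_cmul hx hy), Subgroup.coe_mul, Matrix.SpecialLinearGroup.coe_mul, hT x hx, hT y hy,
      mat_mul (ok_lt hx) (ok_lt hy)]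
  have hT1 : T one = 1 := by
    apply Subtype.ext; apply Subtype.ext
    rw [hT _ ok_one, mat_one]
    simp
  have hTi : ∀ x y, ok x = true → ok y = true → T x = T y → x = y := fun x y hx hy h => by
    refine mat_inj (ok_lt hx) (ok_lt hy) ?_
    rw [← hT x hx, ← hT y hy, h]
  have hTs : ∀ a, ∃ x, ok x = true ∧ T x = a := by
    intro a
    have hc := congrArg (fun m : Matrix.SpecialLinearGroup (Fin 5) (ZMod 2) =>
      (m : Matrix (Fin 5) (Fin 5) (ZMod 2))) (Subgroup.mem_centralizer_singleton_iff.mp a.2)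
    simp only [Matrix.SpecialLinearGroup.coe_mul, hs] at hc
    generalize hB : ((a : Matrix.SpecialLinearGroup (Fin 5) (ZMod 2)) :
      Matrix (Fin 5) (Fin 5) (ZMod 2)) = B at hc
    have hd : B.det = 1 := hB ▸ (a : Matrix.SpecialLinearGroup (Fin 5) (ZMod 2)).2
    rw [Matrix.transvection, add_mul, mul_add, one_mul, mul_one, add_right_inj] at hc
    have h1 : ∀ i, i ≠ 0 → B i 0 = 0 := fun i hi => by
      have := congrFun (congrFun hc i) 1
      simpa [hi] using this
    have h2 : ∀ j, j ≠ 1 → B 1 j = 0 := fun j hj => by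
      have := congrFun (congrFun hc 0) j
      simpa [hj] using this.symm
    have h3 : B 0 0 = B 1 1 := by
      have := congrFun (congrFun hc 0) 1
      simpa using this
    have h00 : B 0 0 = 1 := by
      have : B 0 0 = 0 ∨ B 0 0 = 1 := by generalize B 0 0 = a; revert a; decide
      refine this.resolve_left fun h => ?_
      rw [Matrix.det_eq_zero_of_column_eq_zero 0 fun i => ?_] at hd
      · exact zero_ne_one hd
      · by_cases hi : i = 0
        · subst hi; exact h
        · exact h1 i hi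
    obtain ⟨hlt, hm⟩ := mat_codeOf h1 h2 h00 (h3 ▸ h00)
    have hok : ok (codeOf B) = true := ok_iff.mpr ⟨hlt, by rw [hm]; exact hd⟩
    exact ⟨_, hok, Subtype.ext (Subtype.ext (by rw [hT _ hok, hm, hB]))⟩
  refine ⟨fun x => ((e.symm (T x) : Subgroup.centralizer ({z} : Set G)) : G), ?_⟩
  have hz2 : z * z = 1 := by rw [← pow_two, ← hz]; exact pow_orderOf_eq_one z
  have hzne : z ≠ 1 := fun h => by rw [h, orderOf_one] at hz; norm_num at hz
  refine ⟨fun x y hx hy => by simp only [hTm x y hx hy, map_mul, Subgroup.coe_mul],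
    by simp only [hT1, map_one, Subgroup.coe_one],
    fun x y hx hy h => hTi x y hx hy (e.symm.injective (Subtype.ext h)), ?_, fun g hg => ?_⟩
  · -- the only central involution
    obtain ⟨x, hx, hxe⟩ := hTs (e ⟨z, Subgroup.mem_centralizer_singleton_iff.mpr rfl⟩)
    have hzz : (e.symm (T x) : G) = z := by rw [hxe, e.symm_apply_apply]
    have hcen : ∀ y, ok y = true → cmul x y = cmul y x := fun y hy => by
      apply hTi _ _ (ok_cmul hx hy) (ok_cmul hy hx)
      apply e.symm.injective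
      apply Subtype.ext
      rw [hTm x y hx hy, hTm y x hy hx, map_mul, map_mul, Subgroup.coe_mul, Subgroup.coe_mul, hzz]
      exact (Subgroup.mem_centralizer_singleton_iff.mp (e.symm (T y)).2).symm
    have hxA : x = one ∨ x = zc := by
      have hk := central_scan
      simp only [List.all_eq_true, List.mem_range] at hk
      have h512 := fA_lt (ok_lt hx)
      have := hk (fA x) h512
      have hokA : okA (fA x) = true := by
        have := hx; simp only [ok, Bool.and_eq_true] at this; exact this.2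
      rw [hokA] at this
      have hAc : centGens.all (fun g => mm (fA x) (fA g) == mm (fA g) (fA x)) = true := by
        simp only [List.all_eq_true, beq_iff_eq]
        intro g hg
        have hg' : ok g = true := List.all_eq_true.mp centGens_ok g hg
        have hfA : ∀ u v, u < 65536 → v < 65536 → fA (cmul u v) = mm (fA u) (fA v) := fun u v hu hv =>
          (fields (xor_lt (fR_lt v) (vm_lt (fR_lt u) (fA_lt hv)))
            (xor_lt (fS_lt u) (mv_lt (fS_lt v) (fA_lt hu))) (Nat.mod_lt _ (by norm_num))).1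
        rw [← hfA _ _ (ok_lt hx) (ok_lt hg'), ← hfA _ _ (ok_lt hg') (ok_lt hx), hcen g hg']
      rw [hAc] at this
      simp only [Bool.and_true, cond_true, List.all_eq_true, List.mem_range] at this
      have := this (x % 128) (Nat.mod_lt _ (by norm_num))
      have hxx : fA x * 128 + x % 128 = x := by simp only [fA]; omega
      rw [hxx] at this
      simp only [Bool.or_eq_true, beq_iff_eq, Bool.not_eq_true'] at this
      rcases this with h | h
      · exact h
      · exfalso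
        rw [← Bool.not_eq_true] at h
        exact h (List.all_eq_true.mpr fun g hg => beq_iff_eq.mpr
          (hcen g (List.all_eq_true.mp centGens_ok g hg)))
    rcases hxA with rfl | rfl
    · exfalso
      rw [hT1, map_one, Subgroup.coe_one] at hzz
      exact hzne hzz.symm
    · exact hzz
  · obtain ⟨x, hx, hxe⟩ := hTs (e ⟨g, Subgroup.mem_centralizer_singleton_iff.mpr hg⟩)
    exact ⟨x, hx, by rw [hxe, e.symm_apply_apply]⟩

end CfsgLib.HeUnique
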