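import Cfsg.Agent.Lib.HeUnique.Eval
import Cfsg.Agent.Lib.HeUnique.Rep
import Cfsg.Agent.Lib.HePres.CentMat

/-!
Packed evaluation in the special linear group of dimension five over two elements.
-/

set_option autoImplicit false
set_option maxRecDepth 8000

open CfsgLib.HePres

namespace CfsgLib.HeUnique

/-- Packing of five rows. -/
def pack5 (l : List ℕ) : ℕ :=
  l.getD 0 0 + 32 * l.getD 1 0 + 1024 * l.getD 2 0 + 32768 * l.getD 3 0 + 1048576 * l.getD 4 0

/-- The packed matrix of a code. -/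
def pk5 (x : ℕ) : ℕ :=
  pack5 [1 + 2 * fC x + 4 * fR x, 2, 2 * bit (fS x) 0 + 4 * rowA (fA x) 0,
    2 * bit (fS x) 1 + 4 * rowA (fA x) 1, 2 * bit (fS x) 2 + 4 * rowA (fA x) 2]

/-- The packing agrees with the matrix. -/
def letter5 (x : ℕ) : Bool :=
  (List.finRange 5).all fun i => (List.finRange 5).all fun j =>
    mat x i j == bitZ ((pk5 x).testBit (5 * i.val + j.val))

theorem toM5_pk5 {x : ℕ} (h : letter5 x = true) : toM5 (pk5 x) = mat x := by
  ext i j
  simp only [letter5, List.all_eq_true, List.mem_finRange, beq_iff_eq, true_implies] at h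
  exact (h i j).symm

/-- The element of a packed matrix. -/
def slOf (M : ℕ) : SL52 := if h : (toM5 M).det = 1 then ⟨toM5 M, h⟩ else 1

theorem coe_slOf {M : ℕ} (h : mul5 M M = pack5 [1, 2, 4, 8, 16]) :
    ((slOf M : SL52) : Matrix (Fin 5) (Fin 5) (ZMod 2)) = toM5 M := by
  have h1 : toM5 M * toM5 M = 1 := by
    rw [← toM5_mul, h]
    decide +kernel
  have hd : (toM5 M).det = 1 := by
    have := congrArg Matrix.det h1
    rw [Matrix.det_mul, Matrix.det_one] at this
    exact (by decide : ∀ x : ZMod 2, x * x = 1 → x = 1) _ this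
  simp [slOf, hd]

/-- Packed matrices. -/
def small5 (M : ℕ) : Bool := decide (M < 33554432)

/-- Admissible letters. -/
def letterSL (x : ℕ) : Bool := letter5 x && small5 (pk5 x)

/-- The coordinates as matrices. -/
def coeM : SL52 →* Matrix (Fin 5) (Fin 5) (ZMod 2) where
  toFun := fun t => (t : Matrix (Fin 5) (Fin 5) (ZMod 2))
  map_one' := rfl
  map_mul' := fun _ _ => rfl

theorem coeM_apply (t : SL52) : coeM t = (t : Matrix (Fin 5) (Fin 5) (ZMod 2)) := rfl

theorem letterSL_spec {t : ℕ} (ht : ok t = true) (hl : letterSL t = true) :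
    small5 (pk5 t) = true ∧
      coeM (toSL t) = toM5 (pk5 t) := by
  rw [coeM_apply]
  rw [letterSL, Bool.and_eq_true] at hl
  exact ⟨hl.2, by rw [mat_toSL ht, toM5_pk5 hl.1]⟩

theorem small5_mul (a b : ℕ) : small5 (mul5 a b) = true := by
  have := mulRow_lt a b 0; have := mulRow_lt a b 1; have := mulRow_lt a b 2
  have := mulRow_lt a b 3; have := mulRow_lt a b 4
  rw [small5, decide_eq_true_eq, mul5]
  omega

theorem toM5_inj {a b : ℕ} (ha : small5 a = true) (hb : small5 b = true)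
    (h : toM5 a = toM5 b) : (a == b) = true := by
  simp only [small5, decide_eq_true_eq] at ha hb
  rw [beq_iff_eq]
  apply Nat.eq_of_testBit_eq
  intro n
  rcases Nat.lt_or_ge n 25 with hn | hn
  · have e := congrFun (congrFun h ⟨n / 5, by omega⟩) ⟨n % 5, Nat.mod_lt _ (by norm_num)⟩
    simp only [toM5, show 5 * (n / 5) + n % 5 = n by omega] at e
    exact (by decide : ∀ u v : Bool, bitZ u = bitZ v → u = v) _ _ e
  · rw [Nat.testBit_eq_false_of_lt (lt_of_lt_of_le ha (Nat.pow_le_pow_right (by norm_num : 0 < 2) hn)),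
      Nat.testBit_eq_false_of_lt (lt_of_lt_of_le hb (Nat.pow_le_pow_right (by norm_num : 0 < 2) hn))]

theorem toSL_mul {x y : ℕ} (hx : ok x = true) (hy : ok y = true) :
    toSL (cmul x y) = toSL x * toSL y := Subtype.ext (by
  rw [Matrix.SpecialLinearGroup.coe_mul, mat_toSL hx, mat_toSL hy, mat_toSL (ok_cmul hx hy),
    mat_mul (ok_lt hx) (ok_lt hy)])

theorem toSL_one : toSL one = 1 := Subtype.ext (by rw [mat_toSL ok_one, mat_one]; rfl)

theorem e1_facts : small5 (pack5 [1, 2, 4, 8, 16]) = true ∧ toM5 (pack5 [1, 2, 4, 8, 16]) = 1 :=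
  ⟨by decide +kernel, by decide +kernel⟩

theorem slOf_spec {s0 s1 : ℕ} (h0 : mul5 s0 s0 = pack5 [1, 2, 4, 8, 16])
    (h1 : mul5 s1 s1 = pack5 [1, 2, 4, 8, 16]) (hs0 : small5 s0 = true) (hs1 : small5 s1 = true)
    (k : ℕ) : small5 (bif k == 0 then s0 else s1) = true ∧
      coeM (slOf (bif k == 0 then s0 else s1)) = toM5 (bif k == 0 then s0 else s1) := by
  rw [coeM_apply]
  cases k == 0
  · exact ⟨hs1, coe_slOf h1⟩
  · exact ⟨hs0, coe_slOf h0⟩

/-- The evaluation for given involutions. -/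
def evalSL (s0 s1 : ℕ) (h0 : mul5 s0 s0 = pack5 [1, 2, 4, 8, 16])
    (h1 : mul5 s1 s1 = pack5 [1, 2, 4, 8, 16]) (hs0 : small5 s0 = true) (hs1 : small5 s1 = true) :
    Eval SL52 (Matrix (Fin 5) (Fin 5) (ZMod 2)) where
  e := coeM
  inj := fun _ _ h => Subtype.ext h
  tr := toM5
  good := small5
  mulc := mul5
  e1 := pack5 [1, 2, 4, 8, 16]
  e1_spec := e1_facts
  mul_spec := fun a b _ _ => ⟨small5_mul a b, toM5_mul a b⟩
  same := fun a b => a == b
  same_spec := fun _ _ ha hb h => toM5_inj ha hb h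
  ι0 := toSL
  σ0 := fun k => slOf (bif k == 0 then s0 else s1)
  hmul := fun _ _ hx hy => toSL_mul hx hy
  hone := toSL_one
  pk := pk5
  sp := fun k => bif k == 0 then s0 else s1
  letter := letterSL
  letter_spec := fun _ ht hl => letterSL_spec ht hl
  sp_spec := fun k _ => slOf_spec h0 h1 hs0 hs1 k

theorem evalSL_ι (s0 s1 : ℕ) (h0 : mul5 s0 s0 = pack5 [1, 2, 4, 8, 16])
    (h1 : mul5 s1 s1 = pack5 [1, 2, 4, 8, 16]) (hs0 : small5 s0 = true) (hs1 : small5 s1 = true) :
    (evalSL s0 s1 h0 h1 hs0 hs1).ι0 = toSL := by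
  simp only [evalSL]

theorem toSL_eq_one {c : ℕ} (hc : ok c = true) (h : toSL c = 1) : c = one := by
  refine mat_inj (ok_lt hc) (ok_lt ok_one) ?_
  rw [← mat_toSL hc, h, mat_one]
  rfl

end CfsgLib.HeUnique
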