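import Cfsg.Agent.Lib.HeUnique.Covers
import Cfsg.Agent.Lib.HeUnique.ModelSL
import Cfsg.Agent.Lib.HeUnique.FactsFive
import Cfsg.Agent.Lib.Classical.Transvection

/-!
Two swaps of the linear kind give a homomorphism of the linear group of dimension five.
-/

set_option autoImplicit false
set_option maxRecDepth 8000
set_option maxHeartbeats 400000

open Cfsg CfsgLib.HePres

namespace CfsgLib.HeUnique

theorem inv5_facts (i : Fin 2) :
    let l := [invFive0, invFive1].getD i.val []
    mul5 (pack5 (l.getD 0 [])) (pack5 (l.getD 0 [])) = pack5 [1, 2, 4, 8, 16] ∧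
    mul5 (pack5 (l.getD 1 [])) (pack5 (l.getD 1 [])) = pack5 [1, 2, 4, 8, 16] ∧
    small5 (pack5 (l.getD 0 [])) = true ∧ small5 (pack5 (l.getD 1 [])) = true := by
  revert i
  decide +kernel

/-- The evaluation of one of the two derivations. -/
def evalFive (i : Fin 2) : Eval SL52 (Matrix (Fin 5) (Fin 5) (ZMod 2)) :=
  evalSL _ _ (inv5_facts i).1 (inv5_facts i).2.1 (inv5_facts i).2.2.1 (inv5_facts i).2.2.2

theorem evalFive_ι (i : Fin 2) : (evalFive i).ι0 = toSL := by
  simp only [evalFive, evalSL_ι]

/-- The matrix of an elementary transvection, packed. -/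
def tvPack (i j : ℕ) : ℕ := pack5 [1, 2, 4, 8, 16] + 2 ^ (5 * i + j)

/-- Places of the elementary transvections. -/
def tvPlaces : List (ℕ × ℕ) :=
  (List.range 5).flatMap fun i => ((List.range 5).filter fun j => !(i == j)).map fun j => (i, j)

/-- The values of one derivation, with loop numbers. -/
def valsFive (i : Fin 2) : List (ℕ × ℕ) :=
  (List.range wordsFive.length).zip ([valsFive0, valsFive1].getD i.val [])

/-- The checks in the matrix group. -/
def fiveOK (i : Fin 2) : Bool :=
  let V := evalFive i
  let gens := [genFive0, genFive1].getD i.val []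
  V.modelOK confFive 2 2 true (valsFive i) ([defsFive0, defsFive1].getD i.val []) &&
    (List.range 20).all fun n =>
      let w := gens.getD n []
      (w.all fun t => bif decide (t < 65536) then ok t else decide (t - 65536 < 2)) &&
        V.wordOK w && V.wordP w == tvPack (tvPlaces.getD n (0, 0)).1 (tvPlaces.getD n (0, 0)).2

theorem fiveOK_all : ∀ i, fiveOK i = true := by decide +kernel

theorem tvPack_spec : ∀ i j : Fin 5, i ≠ j →
    (∃ n < 20, tvPlaces.getD n (0, 0) = (i.val, j.val)) ∧
      toM5 (tvPack i.val j.val) = Matrix.transvection i j 1 := by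
  decide +kernel

theorem orbFive_cover : orbFive.length = 2 := by decide

theorem five_gen (i : Fin 2) :
    Subgroup.closure ({p : SL52 | ∃ c, ok c = true ∧ p = (evalFive i).ι0 c} ∪
      {p | ∃ k < 2, p = (evalFive i).σ0 k}) = ⊤ := by
  refine CfsgLib.Classical.eq_top_of_transvection_mem _ fun a b hab c => ?_
  rcases (by decide : ∀ c : ZMod 2, c = 0 ∨ c = 1) c with rfl | rfl
  · convert Subgroup.one_mem _
    apply Subtype.ext
    simp [Matrix.SpecialLinearGroup.transvection]
  · have h : fiveOK i = true := fiveOK_all i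
    obtain ⟨⟨n, hn, hp⟩, hm⟩ := tvPack_spec a b hab
    simp only [fiveOK, Bool.and_eq_true] at h
    have hn' := range_all h.2 hn
    simp only [Bool.and_eq_true, beq_iff_eq, hp] at hn'
    obtain ⟨⟨h1, h2⟩, h3⟩ := hn'
    have e : (evalFive i).e (Matrix.SpecialLinearGroup.transvection hab 1) =
        (evalFive i).tr (tvPack a.val b.val) := by
      show ((Matrix.SpecialLinearGroup.transvection hab 1 : SL52) :
        Matrix (Fin 5) (Fin 5) (ZMod 2)) = toM5 _
      rw [hm]
      simp [Matrix.SpecialLinearGroup.transvection]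
    rw [← h3, ← ((evalFive i).wordP_spec h2).2] at e
    rw [(evalFive i).inj e]
    refine wval_mem (nk := 2) (H := Subgroup.closure _) ?_ ?_ h1
    · exact fun c hc => Subgroup.subset_closure (Or.inl ⟨c, hc, rfl⟩)
    · exact fun k hk => Subgroup.subset_closure (Or.inr ⟨k, hk, rfl⟩)

variable {G : Type*} [Group G] [Finite G] {z : G} {ι : ℕ → G}

theorem five_of_values (R : Rep z ι) {σ : ℕ → G} (H : confFive.Hold ι σ) (i : Fin 2)
    {f : Tree (Fct × Why)} {n : ℕ} {wit : List (List (List (ℕ × ℕ)))}
    (hf : (confFive.cert (valsFive i) f n ([defsFive0, defsFive1].getD i.val [])).factsOK = true)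
    (hcov : ((List.range orbFive.length).all fun k =>
      (confFive.cert (valsFive i) f n ([defsFive0, defsFive1].getD i.val [])).coverOK k
        ([cA, cB].getD k 0) (orbFive.getD k []) (wit.getD k [])) = true)
    (hv : ∀ p ∈ valsFive i, ok p.2 = true ∧
      wval ι σ (confFive.words.getD p.1 []) = ι p.2) :
    ∃ φ : SL52 →* G, φ (toSL zc) = z ∧ ∀ k < 2, σ k ∈ φ.range := by
  have h : fiveOK i = true := fiveOK_all i
  simp only [fiveOK, Bool.and_eq_true] at h
  obtain ⟨S0, hsep⟩ := (evalFive i).model_spec (K := confFive) (f := f) (n := n)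
    (by norm_num) (by norm_num) rfl rfl lettersFive h.1
  have hlt : ∀ p ∈ valsFive i, p.1 < confFive.words.length := fun p hp =>
    List.mem_range.mp (List.of_mem_zip hp).1
  have S := H.sound R lettersFive hlt hv (f := f) (n := n) (d := [defsFive0, defsFive1].getD i.val [])
  have hcov' : ∀ k < 2, (confFive.cert (valsFive i) f n ([defsFive0, defsFive1].getD i.val [])).coverOK k
      ([cA, cB].getD k 0) (orbFive.getD k []) (wit.getD k []) = true := fun k hk => range_all hcov (by rw [orbFive_cover]; omega)
  have horb : ∀ k < 2, ∀ x, ok x = true → conj x ([cA, cB].getD k 0) ∈ orbFive.getD k [] := fun k hk x hx => by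
      interval_cases k
      exacts [(orb_spec hx).1, (orb_spec hx).2]
  have hK : ∀ k < 2, ∀ x, ok x = true → cmul x ([cA, cB].getD k 0) = cmul ([cA, cB].getD k 0) x →
      ∃ m < (confFive.cert (valsFive i) f n ([defsFive0, defsFive1].getD i.val [])).tn, ((confFive.cert (valsFive i) f n ([defsFive0, defsFive1].getD i.val [])).ent k m).1 = x ∧ ok ((confFive.cert (valsFive i) f n ([defsFive0, defsFive1].getD i.val [])).ent k m).2 = true := fun k hk x hx hc => by
      interval_cases k
      exacts [tab_cover (i := 2) (by norm_num) hx hc, tab_cover_theta (i := 2) (by norm_num) hx hc]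
  obtain ⟨φ, hφ, hσ⟩ := exists_hom_of_cert R S S0 hf (nk := 2) le_rfl
    [cA, cB] orbFive wit (fun k hk => by
      interval_cases k
      exacts [gensK_facts.1, theta_cA.2]) hcov' horb hK
    (five_gen i) hsep (fun c hc h => toSL_eq_one hc ((congrFun (evalFive_ι i) c).symm.trans h))
  rw [evalFive_ι] at hφ
  exact ⟨φ, (hφ zc ok_zc).trans R.z_eq, fun k hk => ⟨_, hσ k hk⟩⟩

theorem five_values_ok : (goodFive 0 == [valsFive0.getD 0 0, valsFive0.getD 0 0] &&
    goodFive 1 == [valsFive0.getD 1 0, valsFive0.getD 1 0] &&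
    goodFive 2 == [valsFive0.getD 2 0, valsFive1.getD 2 0] &&
    valsFive1.getD 0 0 == valsFive0.getD 0 0 && valsFive1.getD 1 0 == valsFive0.getD 1 0 &&
    valsFive0.length == 3 && valsFive1.length == 3 &&
    badFive.all fun b => (bif b.1 == 0 then b.2.1.map (fun p => p.1) == [0]
      else bif b.1 == 1 then b.2.1.map (fun p => p.1) == [1]
      else b.1 == 2 && b.2.1.map (fun p => p.1) == [0, 1, 2] &&
        (b.2.1.getD 0 (0, 0)).2 == valsFive0.getD 0 0 &&
          (b.2.1.getD 1 (0, 0)).2 == valsFive0.getD 1 0)) = true := by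
  decide +kernel

theorem five_hold (R : Rep z ι) {sA sB : G} (hA : Good ι 2 sA)
    (hB : Good (fun x => ι (theta x)) 2 sB) : confFive.Hold ι (pairFn sA sB) := by
  refine ⟨fun k hk => ?_, hA.tabAct (by norm_num), hB.tabActTheta (by norm_num), fun e he => ?_⟩
  · interval_cases k
    exacts [hA.sq, hB.sq]
  · have oc : ok (cubeList.getD 2 0) = true := by decide +kernel
    simp only [confFive, List.mem_cons, List.not_mem_nil, or_false] at he
    rcases he with rfl | rfl
    · exact Good.cubeW_eq (σ := pairFn sA sB) R (i := 2) hA oc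
    · exact Good.cubeW_theta_eq (σ := pairFn sA sB) R (i := 2) (k := 1) hB oc

/-- Two swaps of the linear kind give the linear group. -/
theorem five_hom (R : Rep z ι) {sA sB : G} (hA : Good ι 2 sA)
    (hB : Good (fun x => ι (theta x)) 2 sB) : ∃ φ : SL52 →* G, φ (toSL zc) = z ∧ sA ∈ φ.range ∧ sB ∈ φ.range := by
  suffices key : ∃ φ : SL52 →* G, φ (toSL zc) = z ∧ ∀ k < 2, pairFn sA sB k ∈ φ.range by
    obtain ⟨φ, h1, h2⟩ := key
    exact ⟨φ, h1, by simpa [pairFn] using h2 0 (by norm_num), by simpa [pairFn] using h2 1 (by norm_num)⟩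
  have H := five_hold R hA hB
  have hlen : confFive.words.length = 3 := rfl
  have hok := five_values_ok
  simp only [Bool.and_eq_true, beq_iff_eq] at hok
  obtain ⟨⟨⟨⟨⟨⟨⟨g0, g1⟩, g2⟩, e0⟩, e1⟩, l0⟩, l1⟩, hbad⟩ := hok
  have hget := fun (j : ℕ) (hj : j < 3) =>
    H.value R trackFive (j := j) (by rw [hlen]; exact hj) (range_all valsFive_ok hj)
  -- the first loop
  obtain ⟨c0, m0, o0, v0⟩ := hget 0 (by norm_num)
  obtain ⟨c1, m1, o1, v1⟩ := hget 1 (by norm_num)
  obtain ⟨c2, m2, o2, v2⟩ := hget 2 (by norm_num)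
  have elim1 : ∀ (j : ℕ) (c : ℕ), j < 2 → ok c = true →
      wval ι (pairFn sA sB) (confFive.words.getD j []) = ι c →
      c ∈ ((badFive.filter fun b => b.1 == j).map fun b =>
        ((b.2.1.find? fun p => p.1 == j).getD (0, 0)).2) → False := by
    intro j c hj oc hc hmem
    obtain ⟨b, hb, rfl⟩ := List.mem_map.mp hmem
    simp only [List.mem_filter, beq_iff_eq] at hb
    have hs := mem_all hbad hb.1
    have hshape : b.2.1.map (fun p => p.1) = [j] := by
      interval_cases j <;> simpa [hb.2] using hs
    obtain ⟨p, hp⟩ : ∃ p, b.2.1 = [p] := by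
      refine List.length_eq_one_iff.mp ?_
      simpa using congrArg List.length hshape
    rw [hp] at hshape hc oc
    simp only [List.map_cons, List.map_nil, List.cons.injEq, and_true] at hshape
    simp only [hshape, List.find?_cons_of_pos, beq_self_eq_true, Option.getD_some] at hc oc
    refine H.not_bad R lettersFive badFive_ok (List.mem_map_of_mem hb.1) ?_ ?_
    · rw [hp]; intro q hq; simp only [List.mem_singleton] at hq; subst hq
      rw [hshape, hlen]; omega
    · rw [hp]; intro q hq; simp only [List.mem_singleton] at hq; subst hq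
      rw [hshape]; exact ⟨oc, hc⟩
  simp only [List.mem_append] at m0 m1 m2
  have hc0 : c0 = valsFive0.getD 0 0 := by
    rcases m0 with m0 | m0
    · rw [g0] at m0; simpa using m0
    · exact (elim1 0 c0 (by norm_num) o0 v0 m0).elim
  have hc1 : c1 = valsFive0.getD 1 0 := by
    rcases m1 with m1 | m1
    · rw [g1] at m1; simpa using m1
    · exact (elim1 1 c1 (by norm_num) o1 v1 m1).elim
  subst hc0; subst hc1
  rcases m2 with m2 | m2
  · rw [g2] at m2
    simp only [List.mem_cons, List.not_mem_nil, or_false] at m2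
    rcases m2 with rfl | rfl
    · refine five_of_values R H 0 factsFive0_ok coverFive0_ok ?_
      intro p hp
      obtain ⟨a, b, c, hl⟩ := List.length_eq_three.mp l0
      have hz : valsFive 0 = [(0, valsFive0.getD 0 0), (1, valsFive0.getD 1 0),
          (2, valsFive0.getD 2 0)] := by decide +kernel
      rw [hz] at hp
      simp only [List.mem_cons, List.not_mem_nil, or_false] at hp
      rcases hp with rfl | rfl | rfl
      exacts [⟨o0, v0⟩, ⟨o1, v1⟩, ⟨o2, v2⟩]
    · refine five_of_values R H 1 factsFive1_ok coverFive1_ok ?_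
      intro p hp
      have hz : valsFive 1 = [(0, valsFive0.getD 0 0), (1, valsFive0.getD 1 0),
          (2, valsFive1.getD 2 0)] := by decide +kernel
      rw [hz] at hp
      simp only [List.mem_cons, List.not_mem_nil, or_false] at hp
      rcases hp with rfl | rfl | rfl
      exacts [⟨o0, v0⟩, ⟨o1, v1⟩, ⟨o2, v2⟩]
  · exfalso
    obtain ⟨b, hb, hbe⟩ := List.mem_map.mp m2
    simp only [List.mem_filter, beq_iff_eq] at hb
    have hs := mem_all hbad hb.1
    simp only [hb.2, show ((2 : ℕ) == 0) = false from rfl, show ((2 : ℕ) == 1) = false from rfl,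
      cond_false, Bool.and_eq_true, beq_iff_eq, true_and] at hs
    obtain ⟨⟨hmap, p0⟩, p1⟩ := hs
    obtain ⟨q0, q1, q2, hq⟩ := List.length_eq_three.mp (show b.2.1.length = 3 by
      simpa using congrArg List.length hmap)
    rw [hq] at hmap hbe p0 p1
    simp only [List.map_cons, List.map_nil, List.cons.injEq, and_true] at hmap
    obtain ⟨a0, a1, a2⟩ := hmap
    simp only [List.getD_cons_zero, List.getD_cons_succ] at p0 p1
    simp [a0, a1, a2] at hbe
    refine H.not_bad R lettersFive badFive_ok (List.mem_map_of_mem hb.1) ?_ ?_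
    · rw [hq]; intro q hq'
      simp only [List.mem_cons, List.not_mem_nil, or_false] at hq'
      rcases hq' with rfl | rfl | rfl <;> omega
    · rw [hq]; intro q hq'
      simp only [List.mem_cons, List.not_mem_nil, or_false] at hq'
      rcases hq' with rfl | rfl | rfl
      · rw [a0, p0]; exact ⟨o0, v0⟩
      · rw [a1, p1]; exact ⟨o1, v1⟩
      · rw [a2, hbe]; exact ⟨o2, v2⟩

end CfsgLib.HeUnique
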