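import Cfsg.Agent.Lib.HeUnique.Configs
import Cfsg.Agent.Lib.HeUnique.DataMix

/-!
Finite facts of one configuration.
-/

set_option autoImplicit false

namespace CfsgLib.HeUnique

/-- The configuration. -/
def confMix : Conf :=
  ⟨(phiTab 0), (thTab (phiTab 2)), [(0, qA, cubeList.getD 0 0), (1, theta qA, theta (cubeList.getD 2 0))], wordsMix, centreMix, actsMix⟩

theorem lettersMix : confMix.lettersAll = true := by decide +kernel

theorem trackMix : confMix.trackAll = true := by decide +kernel

theorem badMix_ok : badMix.all confMix.badOK = true := by decide +kernel

/-- The values not refuted for the loop `j`. -/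
def goodMix (j : ℕ) : List ℕ := ([valsMix0, valsMix1]).map fun v => v.getD j 0

theorem valsMix_ok : ((List.range wordsMix.length).all fun j =>
    loopVals (actsMix.getD j []) (goodMix j ++
      (badMix.filter fun b => b.1 == j).map fun b => ((b.2.1.find? fun p => p.1 == j).getD (0, 0)).2)) =
      true := by
  decide +kernel

/-- A derivation for the values left. -/
def certMix0 : Cert :=
  confMix.cert ((List.range wordsMix.length).zip valsMix0) factsMix0 nMix0 defsMix0

theorem factsMix0_ok : certMix0.factsOK = true := by decide +kernel

theorem coverMix0_ok : ((List.range orbMix.length).all fun k =>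
    certMix0.coverOK k ([cA, cB].getD k 0) (orbMix.getD k []) (coverMix0.getD k [])) = true := by
  decide +kernel

/-- A derivation for the values left. -/
def certMix1 : Cert :=
  confMix.cert ((List.range wordsMix.length).zip valsMix1) factsMix1 nMix1 defsMix1

theorem factsMix1_ok : certMix1.factsOK = true := by decide +kernel

theorem coverMix1_ok : ((List.range orbMix.length).all fun k =>
    certMix1.coverOK k ([cA, cB].getD k 0) (orbMix.getD k []) (coverMix1.getD k [])) = true := by
  decide +kernel

end CfsgLib.HeUnique
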