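import Cfsg.Agent.Lib.HeUnique.Eval
import Cfsg.Agent.Lib.HeUnique.DataMix
import Cfsg.Agent.Lib.Golay.M24

/-!
The centralizer of an involution of the Mathieu group on 24 points, in packed form.
-/

set_option autoImplicit false
set_option maxRecDepth 8000

open Cfsg CfsgLib.Golay

namespace CfsgLib.HeUnique

/-- Column and corner part. -/
def pS (i : ℕ) : ℕ := permS.getD i 0
/-- Matrix part. -/
def pL (A : ℕ) : ℕ := permL.get A
/-- Row part. -/
def pR (r : ℕ) : ℕ := permR.getD r 0

/-- The packed permutation of a code. -/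
def pkM (x : ℕ) : ℕ := mulP (pS (x % 16)) (mulP (pL (fA x)) (pR (fR x)))

theorem part_valid : ((List.range 16).all fun i => inM24 (pS i)) = true ∧
    ((List.range 512).all fun A => inM24 (pL A)) = true ∧
    ((List.range 8).all fun r => inM24 (pR r)) = true := by
  decide +kernel

theorem rel_SS : ((List.range 16).all fun i => (List.range 16).all fun j =>
    mulP (pS i) (pS j) == pS ((i / 2).xor (j / 2) * 2 + (i + j) % 2)) = true := by
  decide +kernel

theorem rel_RS : ((List.range 8).all fun r => (List.range 16).all fun i =>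
    mulP (pR r) (pS i) == mulP (pS (i / 2 * 2 + (i + par (r.land (i / 2))) % 2)) (pR r)) = true := by
  decide +kernel

theorem rel_RR : ((List.range 8).all fun r => (List.range 8).all fun t =>
    mulP (pR r) (pR t) == pR (r.xor t)) = true := by
  decide +kernel

theorem rel_LS : ((List.range 512).all fun A => bif okA A then (List.range 16).all fun i =>
    mulP (pL A) (pS i) == mulP (pS (mv A (i / 2) * 2 + i % 2)) (pL A) else true) = true := by
  decide +kernel

theorem rel_RL : ((List.range 512).all fun A => bif okA A then (List.range 8).all fun r =>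
    mulP (pR r) (pL A) == mulP (pL A) (pR (vm r A)) else true) = true := by
  decide +kernel

theorem pkM_one : pkM one = mulP (pS 0) (mulP (pL 273) (pR 0)) ∧
    (List.range 24).all (fun i => ap (pkM one) i == i) = true := by
  decide +kernel

theorem pkM_facts {x : ℕ} (hx : x < 65536) : validP (pkM x) = true ∧
    toPerm (pkM x) = toPerm (pS (x % 16)) * (toPerm (pL (fA x)) * toPerm (pR (fR x))) ∧
    toPerm (pkM x) ∈ M24 := by
  have h16 : x % 16 < 16 := Nat.mod_lt _ (by norm_num)
  obtain ⟨a, b, c⟩ := part_valid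
  have v1 : inM24 (pS (x % 16)) = true := range_all a h16
  have v3 : inM24 (pR (fR x)) = true := range_all c (fR_lt x)
  have w1 : validP (pS (x % 16)) = true := by simp only [inM24, Bool.and_eq_true] at v1; exact v1.1
  have w3 : validP (pR (fR x)) = true := by simp only [inM24, Bool.and_eq_true] at v3; exact v3.1
  have v2 : inM24 (pL (fA x)) = true := range_all b (fA_lt hx)
  have w2 : validP (pL (fA x)) = true := by simp only [inM24, Bool.and_eq_true] at v2; exact v2.1
  refine ⟨validP_mulP w1 (validP_mulP w2 w3), ?_, ?_⟩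
  · rw [pkM, toPerm_mulP w1 (validP_mulP w2 w3), toPerm_mulP w2 w3]
  · rw [pkM, toPerm_mulP w1 (validP_mulP w2 w3), toPerm_mulP w2 w3]
    exact mul_mem (toPerm_mem_M24 v1)
      (mul_mem (toPerm_mem_M24 v2) (toPerm_mem_M24 v3))

/-- generators of the matrix group -/
def glGens : List ℕ := [84, 94]

/-- The matrices: each one, the index of its parent, and the index of a generator. -/
def glTab : List (ℕ × ℕ × ℕ) := [(273, 0, 0), (84, 0, 0), (94, 0, 1), (409, 1, 1), (307, 2, 0), (426, 2, 1), (244, 3, 0), (174, 3, 1), (85, 4, 1), (234, 5, 0), (187, 5, 1), (337, 6, 1), (171, 7, 0), (250, 7, 1), (277, 8, 0), (415, 8, 1), (379, 9, 1), (190, 10, 0), (229, 10, 1), (340, 11, 0), (478, 11, 1), (253, 12, 1), (442, 13, 0), (355, 13, 1), (95, 14, 1), (247, 15, 0), (172, 15, 1), (382, 16, 0), (485, 16, 1), (226, 17, 1), (397, 18, 0), (335, 18, 1), (473, 19, 1), (499, 20, 0), (298, 20, 1), (445, 21, 0), (359, 21, 1), (163, 22, 1), (334, 23, 0), (461, 23, 1), (311, 24, 0), (428, 24, 1), (169, 26, 0), (249,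 26, 1), (482, 27, 1), (271, 28, 1), (394, 29, 0), (331, 29, 1), (183, 30, 1), (500, 31, 1), (302, 32, 1), (106, 34, 0), (123, 34, 1), (167, 35, 1), (460, 36, 1), (142, 37, 0), (205, 37, 1), (498, 38, 1), (233, 41, 0), (185, 41, 1), (254, 42, 1), (444, 43, 0), (358, 43, 1), (458, 44, 0), (267, 44, 1), (103, 45, 0), (116, 45, 1), (179, 46, 1), (501, 47, 1), (159, 48, 0), (212, 48, 1), (107, 50, 0), (122, 50, 1), (443, 51, 1), (318, 52, 0), (421, 52, 1), (143, 53, 0), (204, 53, 1), (481, 54, 0), (305, 54, 1), (242, 55, 1), (375, 56, 1), (474, 57, 0), (275, 57, 1), (188, 59, 0), (230, 59, 1), (354, 60, 1), (161, 61, 1), (102, 64, 0), (117, 64, 1), (396, 65, 1), (281, 66, 0), (401, 66, 1), (158, 67, 0), (213, 67, 1), (477, 68, 0), (279, 68, 1), (236, 69, 1), (345, 70, 1), (314, 72, 0), (419, 72, 1), (165, 73, 1), (98, 74, 1), (417, 77, 0), (369, 77, 1), (270, 78, 1), (92, 79, 0), (86, 79, 1), (410, 80, 0), (339, 80, 1), (351, 81, 0), (468, 81, 1), (299, 82, 1), (93, 83, 1), (225, 84, 1), (395, 85,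 0), (330, 85, 1), (459, 86, 1), (140, 87, 0), (206, 87, 1), (285, 89, 0), (407, 89, 1), (177, 90, 1), (110, 91, 1), (405, 94, 0), (303, 95, 1), (87, 96, 0), (425, 97, 0), (377, 97, 1), (372, 98, 0), (494, 98, 1), (99, 99, 1), (141, 100, 1), (207, 101, 1), (266, 102, 0), (348, 104, 0), (470, 104, 1), (114, 105, 1), (342, 109, 0), (492, 110, 1), (465, 111, 0), (125, 112, 1), (309, 113, 0), (431, 113, 1), (181, 115, 1), (486, 117, 0), (241, 118, 1), (370, 119, 1), (111, 120, 1), (215, 121, 0), (156, 121, 1), (214, 122, 1), (124, 125, 1), (412, 126, 1), (380, 128, 0), (491, 130, 0), (423, 133, 0), (115, 134, 1), (489, 135, 1), (467, 136, 0), (282, 136, 1), (403, 137, 1), (313, 139, 1), (286, 140, 1), (317, 141, 0), (239, 143, 0), (157, 144, 0), (346, 147, 0)]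

theorem rel_LG : ((List.range 512).all fun A => bif okA A then glGens.all fun g =>
    mulP (pL A) (pL g) == pL (mm A g) && okA (mm A g) else true) = true := by
  decide +kernel

theorem gl_ok : ((List.range glTab.length).all fun i =>
    let e := glTab.getD i (0, 0, 0)
    bif i == 0 then e.1 == 273 else
      decide (e.2.1 < i) && decide (e.2.2 < glGens.length) &&
        e.1 == mm (glTab.getD e.2.1 (0, 0, 0)).1 (glGens.getD e.2.2 0)) = true ∧
    ((List.range 512).all fun B => bif okA B then (glTab.map fun e => e.1).contains B else true) = true ∧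
    glGens.all (fun g => decide (g < 512)) = true ∧ pL 273 = pkM one ∧
    ((List.range 512).all fun A => mm A 273 == A) = true := by
  decide +kernel

theorem gl_okA : ((List.range glTab.length).all fun i => okA (glTab.getD i (0, 0, 0)).1) = true := by
  decide +kernel

theorem bM_inj : ∀ A B : Fin 512, bM A = bM B → A = B := by
  have hbit : ∀ u v : Fin 8, (∀ j : Fin 3, bv u j = bv v j) → u = v := by decide +kernel
  have hm : ∀ A : Fin 512, A.val = rowA A 0 + 8 * rowA A 1 + 64 * rowA A 2 := by decide +kernel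
  intro A B h
  have hr : ∀ i : Fin 3, rowA A i = rowA B i := fun i => congrArg Fin.val
    (hbit ⟨_, rowA_lt A i⟩ ⟨_, rowA_lt B i⟩ fun j => congrFun (congrFun h i) j)
  have := hr 0; have := hr 1; have := hr 2
  have := hm A; have := hm B
  simp only [Fin.val_zero, Fin.val_one, Fin.val_two] at *
  exact Fin.ext (by omega)

theorem LL_mul {A : ℕ} (hA : A < 512) (oA : okA A = true) : ∀ i, i < glTab.length →
    (glTab.getD i (0, 0, 0)).1 < 512 ∧ okA (mm A (glTab.getD i (0, 0, 0)).1) = true ∧
    toPerm (pL A) * toPerm (pL (glTab.getD i (0, 0, 0)).1) =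
      toPerm (pL (mm A (glTab.getD i (0, 0, 0)).1)) := by
  obtain ⟨ht, -, hg, h1, hA1⟩ := gl_ok
  obtain ⟨va, vb, vc⟩ := part_valid
  have VL : ∀ {B : ℕ}, B < 512 → validP (pL B) = true := fun h => by
    have := range_all vb h
    simp only [inM24, Bool.and_eq_true] at this
    exact this.1
  intro i
  induction i using Nat.strong_induction_on with
  | _ i ih =>
    intro hi
    have h := range_all ht hi
    rcases Nat.eq_zero_or_pos i with rfl | hpos
    · simp only [beq_self_eq_true, cond_true, beq_iff_eq] at h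
      have e1 : toPerm (pL 273) = 1 := by
        rw [h1]
        refine (eq_toPerm (pkM_facts (ok_lt ok_one)).1 1 fun p => ?_).symm
        have := range_all pkM_one.2 (idx_lt p)
        rw [beq_iff_eq] at this
        rw [Equiv.Perm.one_apply, this]
      have hAA := range_all hA1 hA
      rw [beq_iff_eq] at hAA
      rw [h, e1, mul_one, hAA]
      exact ⟨by norm_num, oA, rfl⟩
    · rw [beq_eq_false_iff_ne.mpr (by omega : i ≠ 0)] at h
      simp only [cond_false, Bool.and_eq_true, decide_eq_true_eq, beq_iff_eq] at h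
      obtain ⟨⟨hp, hj⟩, e⟩ := h
      obtain ⟨lp, okp, ep⟩ := ih _ hp (hp.trans hi)
      have lg : glGens.getD (glTab.getD i (0, 0, 0)).2.2 0 < 512 := by
        rw [List.getD_eq_getElem _ _ hj]
        simpa using mem_all hg (List.getElem_mem hj)
      have hmem : glGens.getD (glTab.getD i (0, 0, 0)).2.2 0 ∈ glGens := by
        rw [List.getD_eq_getElem _ _ hj]; exact List.getElem_mem hj
      set P := (glTab.getD (glTab.getD i (0, 0, 0)).2.1 (0, 0, 0)).1 with hP
      set g := glGens.getD (glTab.getD i (0, 0, 0)).2.2 0 with hg'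
      have assoc : mm (mm A P) g = mm A (mm P g) := by
        obtain ⟨l1, f1⟩ := mm_facts hA lp
        obtain ⟨l2, f2⟩ := mm_facts lp lg
        obtain ⟨l3, f3⟩ := mm_facts l1 lg
        obtain ⟨l4, f4⟩ := mm_facts hA l2
        have := bM_inj ⟨_, l3⟩ ⟨_, l4⟩ (by rw [f3, f4, f1, f2, mul_assoc])
        exact congrArg Fin.val this
      have step : ∀ {B : ℕ}, B < 512 → okA B = true →
          okA (mm B g) = true ∧ toPerm (pL B) * toPerm (pL g) = toPerm (pL (mm B g)) := by
        intro B hB oB
        have h := range_all rel_LG hB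
        rw [oB, cond_true] at h
        have h' := mem_all h hmem
        rw [Bool.and_eq_true, beq_iff_eq] at h'
        exact ⟨h'.2, by rw [← toPerm_mulP (VL hB) (VL lg), h'.1]⟩
      rw [e]
      obtain ⟨ok2, e2⟩ := step (mm_facts hA lp).1 okp
      refine ⟨(mm_facts lp lg).1, assoc ▸ ok2, ?_⟩
      have okP : okA P = true := range_all gl_okA (hp.trans hi)
      rw [← (step lp okP).2, ← assoc, ← e2, ← ep, mul_assoc]

/-- The coordinates. -/
noncomputable def ιM (x : ℕ) : M24 :=
  if h : toPerm (pkM x) ∈ M24 then ⟨toPerm (pkM x), h⟩ else 1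

theorem coe_ιM {x : ℕ} (hx : x < 65536) : ((ιM x : M24) : Equiv.Perm GolayPt) = toPerm (pkM x) := by
  simp [ιM, (pkM_facts hx).2.2]

theorem pkM_mul {x y : ℕ} (hx : ok x = true) (hy : ok y = true) :
    toPerm (pkM (cmul x y)) = toPerm (pkM x) * toPerm (pkM y) := by
  have hA := fA_lt (ok_lt hx)
  have hB := fA_lt (ok_lt hy)
  have oA := okA_of hx
  have oB := okA_of hy
  obtain ⟨va, vb, vc⟩ := part_valid
  have V : ∀ {P : ℕ}, inM24 P = true → validP P = true := fun h => by
    simp only [inM24, Bool.and_eq_true] at h; exact h.1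
  have VS : ∀ {i : ℕ}, i < 16 → validP (pS i) = true := fun h => V (range_all va h)
  have VL : ∀ {A : ℕ}, A < 512 → validP (pL A) = true := fun h => V (range_all vb h)
  have VR : ∀ {r : ℕ}, r < 8 → validP (pR r) = true := fun h => V (range_all vc h)
  -- the relations between the parts
  have mod_parts : ∀ {s c : ℕ}, c < 2 → (s * 2 + c) / 2 = s ∧ (s * 2 + c) % 2 = c := fun h => by
    omega
  have hS : ∀ {i j : ℕ}, i < 16 → j < 16 → toPerm (pS i) * toPerm (pS j) =
      toPerm (pS ((i / 2).xor (j / 2) * 2 + (i + j) % 2)) := fun hi hj => by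
    rw [← toPerm_mulP (VS hi) (VS hj)]
    have := range_all (range_all rel_SS hi) hj
    rw [beq_iff_eq] at this
    rw [this]
  set s1 := fS x with hs1
  set c1 := fC x with hc1
  set s2 := fS y with hs2
  set c2 := fC y with hc2
  set r1 := fR x with hr1
  set r2 := fR y with hr2
  have l1 : s1 < 8 := fS_lt x
  have l2 : s2 < 8 := fS_lt y
  have l3 : c1 < 2 := fC_lt x
  have l4 : c2 < 2 := fC_lt y
  have hx16 : x % 16 = s1 * 2 + c1 := by simp only [hs1, hc1, fS, fC]; omega
  have hy16 : y % 16 = s2 * 2 + c2 := by simp only [hs2, hc2, fS, fC]; omega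
  set c' := (c2 + par (r1.land s2)) % 2 with hc'
  have l5 : c' < 2 := Nat.mod_lt _ (by norm_num)
  have e1 : toPerm (pR r1) * toPerm (pS (s2 * 2 + c2)) =
      toPerm (pS (s2 * 2 + c')) * toPerm (pR r1) := by
    rw [← toPerm_mulP (VR (fR_lt x)) (VS (by omega)), ← toPerm_mulP (VS (by omega)) (VR (fR_lt x))]
    have := range_all (range_all rel_RS (fR_lt x)) (show s2 * 2 + c2 < 16 by omega)
    rw [beq_iff_eq, (mod_parts l4).1] at this
    rw [this, show (s2 * 2 + c2 + par (r1.land s2)) % 2 = c' by rw [hc']; omega]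
  have lm : mv (fA x) s2 < 8 := mv_lt l2 hA
  have e2 : toPerm (pL (fA x)) * toPerm (pS (s2 * 2 + c')) =
      toPerm (pS (mv (fA x) s2 * 2 + c')) * toPerm (pL (fA x)) := by
    rw [← toPerm_mulP (VL hA) (VS (by omega)), ← toPerm_mulP (VS (by omega)) (VL hA)]
    have h := range_all rel_LS hA
    rw [oA, cond_true] at h
    have := range_all h (show s2 * 2 + c' < 16 by omega)
    rw [beq_iff_eq, (mod_parts l5).1, (mod_parts l5).2] at this
    rw [this]
  have lv : vm r1 (fA y) < 8 := vm_lt (fR_lt x) hB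
  have e3 : toPerm (pR r1) * toPerm (pL (fA y)) =
      toPerm (pL (fA y)) * toPerm (pR (vm r1 (fA y))) := by
    rw [← toPerm_mulP (VR (fR_lt x)) (VL hB), ← toPerm_mulP (VL hB) (VR lv)]
    have h := range_all rel_RL hB
    rw [oB, cond_true] at h
    have := range_all h (fR_lt x)
    rw [beq_iff_eq] at this
    rw [this]
  have lA : mm (fA x) (fA y) < 512 := (mm_facts hA hB).1
  have e4 : toPerm (pL (fA x)) * toPerm (pL (fA y)) = toPerm (pL (mm (fA x) (fA y))) := by
    obtain ⟨-, hin, -, -, -⟩ := gl_ok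
    have hc := range_all hin hB
    rw [oB, cond_true, List.contains_iff_mem, List.mem_map] at hc
    obtain ⟨t, ht, hty⟩ := hc
    obtain ⟨i, hi, rfl⟩ := List.getElem_of_mem ht
    have := (LL_mul hA oA i hi).2.2
    rw [List.getD_eq_getElem _ _ hi, hty] at this
    exact this
  have e5 : toPerm (pR (vm r1 (fA y))) * toPerm (pR r2) = toPerm (pR (r2.xor (vm r1 (fA y)))) := by
    rw [← toPerm_mulP (VR lv) (VR (fR_lt y))]
    have := range_all (range_all rel_RR lv) (fR_lt y)
    rw [beq_iff_eq] at this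
    rw [this, show (vm r1 (fA y)).xor r2 = r2.xor (vm r1 (fA y)) from Nat.xor_comm _ _]
  have e6 : toPerm (pS (s1 * 2 + c1)) * toPerm (pS (mv (fA x) s2 * 2 + c')) =
      toPerm (pS (s1.xor (mv (fA x) s2) * 2 + (c1 + c2 + par (r1.land s2)) % 2)) := by
    rw [hS (by omega) (by omega), (mod_parts l3).1, (mod_parts l5).1,
      show (s1 * 2 + c1 + (mv (fA x) s2 * 2 + c')) % 2 = (c1 + c2 + par (r1.land s2)) % 2 by
        rw [hc']; omega]
  obtain ⟨fa, fr, fs, fc⟩ := fields (A := mm (fA x) (fA y))
    (xor_lt (fR_lt y) (vm_lt (fR_lt x) hB)) (xor_lt (fS_lt x) (mv_lt (fS_lt y) hA))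
    (Nat.mod_lt (fC x + fC y + par ((fR x).land (fS y))) (by norm_num : 2 > 0))
  have h16 : cmul x y % 16 =
      s1.xor (mv (fA x) s2) * 2 + (c1 + c2 + par (r1.land s2)) % 2 := by
    have h1 : fS (cmul x y) = s1.xor (mv (fA x) s2) := fs
    have h2 : fC (cmul x y) = (c1 + c2 + par (r1.land s2)) % 2 := fc
    rw [← h1, ← h2]; simp only [fS, fC]; omega
  rw [(pkM_facts (ok_lt (ok_cmul hx hy))).2.1, (pkM_facts (ok_lt hx)).2.1, (pkM_facts (ok_lt hy)).2.1, h16, hx16, hy16,
    show fA (cmul x y) = mm (fA x) (fA y) from fa, show fR (cmul x y) = r2.xor (vm r1 (fA y)) from fr,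
    ← e6, ← e4, ← e5]
  symm
  calc toPerm (pS (s1 * 2 + c1)) * (toPerm (pL (fA x)) * toPerm (pR r1)) *
        (toPerm (pS (s2 * 2 + c2)) * (toPerm (pL (fA y)) * toPerm (pR r2)))
      = toPerm (pS (s1 * 2 + c1)) * (toPerm (pL (fA x)) *
          (toPerm (pR r1) * toPerm (pS (s2 * 2 + c2))) * (toPerm (pL (fA y)) * toPerm (pR r2))) := by
        group
    _ = toPerm (pS (s1 * 2 + c1)) * ((toPerm (pL (fA x)) * toPerm (pS (s2 * 2 + c'))) *
          (toPerm (pR r1) * toPerm (pL (fA y))) * toPerm (pR r2)) := by rw [e1]; group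
    _ = _ := by rw [e2, e3]; group

end CfsgLib.HeUnique
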