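import Cfsg.Agent.Lib.HeUnique.Covers
import Cfsg.Agent.Lib.HeUnique.Elim
import Cfsg.Agent.Lib.HeUnique.ModelM24
import Cfsg.Agent.Lib.HeUnique.FactsMix

/-!
Two swaps of different kinds give a homomorphism of the Mathieu group on 24 points.
-/

set_option autoImplicit false
set_option maxRecDepth 8000
set_option maxHeartbeats 800000

open Cfsg CfsgLib.Golay

namespace CfsgLib.HeUnique

/-- The packed involution. -/
def spMix (i : Fin 2) (k : ℕ) : ℕ :=
  ([invMix0, invMix1].getD i.val []).getD (bif k == 0 then 0 else 1) 0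

theorem spMix_ok : ∀ i : Fin 2, ∀ k : Fin 2, inM24 (spMix i k) = true := by decide +kernel

/-- The involution in the Mathieu group. -/
noncomputable def sigM (i : Fin 2) (k : ℕ) : M24 :=
  if h : toPerm (spMix i k) ∈ M24 then ⟨toPerm (spMix i k), h⟩ else 1

theorem sigM_spec (i : Fin 2) {k : ℕ} (hk : k < 2) :
    validP (spMix i k) = true ∧ M24.subtype (sigM i k) = toPerm (spMix i k) := by
  have h := spMix_ok i ⟨k, hk⟩
  have hm := toPerm_mem_M24 h
  simp only [inM24, Bool.and_eq_true] at h
  exact ⟨h.1, by simp [sigM, hm]⟩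

theorem id_facts : validP (pkM one) = true ∧ toPerm (pkM one) = 1 := by
  refine ⟨(pkM_facts (ok_lt ok_one)).1, (eq_toPerm (pkM_facts (ok_lt ok_one)).1 1 fun p => ?_).symm⟩
  have := range_all pkM_one.2 (idx_lt p)
  rw [beq_iff_eq] at this
  rw [Equiv.Perm.one_apply, this]

theorem ιM_mul {x y : ℕ} (hx : ok x = true) (hy : ok y = true) :
    ιM (cmul x y) = ιM x * ιM y := by
  apply Subtype.ext
  rw [Subgroup.coe_mul, coe_ιM (ok_lt hx), coe_ιM (ok_lt hy), coe_ιM (ok_lt (ok_cmul hx hy)),
    pkM_mul hx hy]

theorem ιM_one : ιM one = 1 := by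
  apply Subtype.ext
  rw [coe_ιM (ok_lt ok_one), id_facts.2]
  rfl

theorem ιM_letter {t : ℕ} (ht : ok t = true) :
    validP (pkM t) = true ∧ M24.subtype (ιM t) = toPerm (pkM t) :=
  ⟨(pkM_facts (ok_lt ht)).1, coe_ιM (ok_lt ht)⟩

theorem perm_same {a b : ℕ} (ha : validP a = true) (hb : validP b = true)
    (h : toPerm a = toPerm b) : ((List.range 24).all fun i => ap a i == ap b i) = true := by
  simp only [List.all_eq_true, List.mem_range, beq_iff_eq]
  intro i hi
  have e := congrArg (fun g => idx (g (pt i))) h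
  simp only [idx_toPerm ha, idx_toPerm hb, idx_pt i hi] at e
  exact e

/-- The evaluation of one of the two derivations. -/
noncomputable def evalMix (i : Fin 2) : Eval M24 (Equiv.Perm GolayPt) where
  e := M24.subtype
  inj := Subtype.val_injective
  tr := toPerm
  good := validP
  mulc := mulP
  e1 := pkM one
  e1_spec := id_facts
  mul_spec := fun a b ha hb => ⟨validP_mulP ha hb, toPerm_mulP ha hb⟩
  same := fun a b => (List.range 24).all fun n => ap a n == ap b n
  same_spec := fun _ _ ha hb h => perm_same ha hb h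
  ι0 := ιM
  σ0 := sigM i
  hmul := fun _ _ hx hy => ιM_mul hx hy
  hone := ιM_one
  pk := pkM
  sp := spMix i
  letter := fun _ => true
  letter_spec := fun _ ht _ => ιM_letter ht
  sp_spec := fun _ hk => sigM_spec i hk

/-- The packed generators of the Mathieu group. -/
def gensM24 : List ℕ := [shiftP, invP, twistP]

/-- The values of one derivation, with loop numbers. -/
def valsMix (i : Fin 2) : List (ℕ × ℕ) :=
  (List.range wordsMix.length).zip ([valsMix0, valsMix1].getD i.val [])

/-- The checks in the Mathieu group. -/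
noncomputable def mixOK (i : Fin 2) : Bool :=
  let V := evalMix i
  V.modelOK confMix 0 2 true (valsMix i) ([defsMix0, defsMix1].getD i.val []) &&
  (List.range 3).all fun n =>
    let w := ([genMix0, genMix1].getD i.val []).getD n []
    (w.all fun t => bif decide (t < 65536) then ok t else decide (t - 65536 < 2)) &&
      V.wordOK w && validP (gensM24.getD n 0) && V.same (V.wordP w) (gensM24.getD n 0)

theorem mixOK_all : ∀ i, mixOK i = true := by decide +kernel

theorem evalMix_fields (i : Fin 2) : (evalMix i).e = M24.subtype ∧ (evalMix i).tr = toPerm ∧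
    (evalMix i).good = validP ∧
    (evalMix i).same = fun a b => (List.range 24).all fun n => ap a n == ap b n := by
  simp only [evalMix, and_self]

theorem orbMix_eq : orbMix = orbFive ∧ orbMix.length = 2 := by decide +kernel

theorem mix_gen (i : Fin 2) :
    Subgroup.closure ({p : M24 | ∃ c, ok c = true ∧ p = (evalMix i).ι0 c} ∪
      {p | ∃ k < 2, p = (evalMix i).σ0 k}) = ⊤ := by
  set H := Subgroup.closure ({p : M24 | ∃ c, ok c = true ∧ p = (evalMix i).ι0 c} ∪
      {p | ∃ k < 2, p = (evalMix i).σ0 k}) with hH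
  rw [eq_top_iff]
  intro g _
  have hg : (g : Equiv.Perm GolayPt) ∈ H.map M24.subtype := by
    have hle : Subgroup.closure {Equiv.optionCongr (Equiv.addRight (1 : ZMod 23)), projInv, cubeTwist}
        ≤ H.map M24.subtype := by
      rw [Subgroup.closure_le]
      have h := mixOK_all i
      simp only [mixOK, Bool.and_eq_true] at h
      obtain ⟨fe, ft, fg, fs⟩ := evalMix_fields i
      have key : ∀ n < 3, toPerm (gensM24.getD n 0) ∈ H.map M24.subtype := by
        intro n hn
        have hn' := range_all h.2 hn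
        simp only [Bool.and_eq_true] at hn'
        obtain ⟨⟨⟨h1, h2⟩, h3⟩, h4⟩ := hn'
        generalize ([genMix0, genMix1].getD i.val []).getD n [] = w at h1 h2 h4
        obtain ⟨gw, ew⟩ := (evalMix i).wordP_spec h2
        rw [fg] at gw
        rw [fe, ft] at ew
        rw [fs] at h4
        refine ⟨wval (evalMix i).ι0 (evalMix i).σ0 w,
          wval_mem (ι0 := (evalMix i).ι0) (σ0 := (evalMix i).σ0) (nk := 2) (H := H) ?_ ?_ h1, ?_⟩
        · exact fun c hc => Subgroup.subset_closure (Or.inl ⟨c, hc, rfl⟩)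
        · exact fun k hk => Subgroup.subset_closure (Or.inr ⟨k, hk, rfl⟩)
        · rw [ew]
          exact Equiv.ext fun p => idx_injective (by
            rw [idx_toPerm gw, idx_toPerm h3]
            have := range_all h4 (idx_lt p)
            rwa [beq_iff_eq] at this)
      rintro p (rfl | rfl | rfl)
      · rw [shift_eq]; exact key 0 (by norm_num)
      · rw [projInv_eq]; exact key 1 (by norm_num)
      · rw [cubeTwist_eq]; exact key 2 (by norm_num)
    rw [closure_eq_M24] at hle
    exact hle g.2
  obtain ⟨x, hx, hxe⟩ := hg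
  rwa [Subtype.ext hxe] at hx

/-- The image of a point under the permutation of a code. -/
def apM (x n : ℕ) : ℕ := ap (pS (x % 16)) (ap (pL (fA x)) (ap (pR (fR x)) n))

theorem ap_pkM {x n : ℕ} (hx : x < 65536) (hn : n < 24) : ap (pkM x) n = apM x n := by
  have _hx := hx
  rw [pkM, mulP, ap_mulAux _ 24 _ _ hn, mulP, ap_mulAux _ 24 _ _ hn, apM]

theorem ιM_inj_scan : ((List.range 512).all fun A => bif okA A then
    (List.range 128).all fun l => (A * 128 + l == one) ||
      !([23, 0, 1, 2, 3, 4, 5].all fun n => apM (A * 128 + l) n == n) else true) = true := by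
  decide +kernel

theorem ιM_eq_one {c : ℕ} (hc : ok c = true) (h : ιM c = 1) : c = one := by
  have hs := range_all ιM_inj_scan (fA_lt (ok_lt hc))
  rw [okA_of hc, cond_true] at hs
  replace hs := range_all hs (show c % 128 < 128 from Nat.mod_lt _ (by norm_num))
  rw [show fA c * 128 + c % 128 = c by simp only [fA]; omega] at hs
  simp only [Bool.or_eq_true, beq_iff_eq, Bool.not_eq_true'] at hs
  rcases hs with hs | hs
  · exact hs
  · exfalso
    have e := congrArg (fun g : M24 => (g : Equiv.Perm GolayPt)) h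
    simp only [coe_ιM (ok_lt hc), OneMemClass.coe_one, ← id_facts.2] at e
    have hh := perm_same (pkM_facts (ok_lt hc)).1 id_facts.1 e
    rw [← Bool.not_eq_true] at hs
    refine hs ?_
    simp only [List.all_eq_true, List.mem_range, beq_iff_eq] at hh ⊢
    intro n hn'
    have hn : n < 24 := by
      simp only [List.mem_cons, List.not_mem_nil, or_false] at hn'
      omega
    rw [← ap_pkM (ok_lt hc) hn, hh n hn]
    simpa using range_all pkM_one.2 hn

variable {G : Type*} [Group G] [Finite G] {z : G} {ι : ℕ → G}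

theorem evalMix_ι (i : Fin 2) : (evalMix i).ι0 = ιM := by simp only [evalMix]

theorem mix_of_values (R : Rep z ι) {σ : ℕ → G} (H : confMix.Hold ι σ) (i : Fin 2)
    {f : Tree (Fct × Why)} {n : ℕ} {wit : List (List (List (ℕ × ℕ)))}
    (hf : (confMix.cert (valsMix i) f n ([defsMix0, defsMix1].getD i.val [])).factsOK = true)
    (hcov : ((List.range orbMix.length).all fun k =>
      (confMix.cert (valsMix i) f n ([defsMix0, defsMix1].getD i.val [])).coverOK k
        ([cA, cB].getD k 0) (orbMix.getD k []) (wit.getD k [])) = true)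
    (hv : ∀ p ∈ valsMix i, ok p.2 = true ∧
      wval ι σ (confMix.words.getD p.1 []) = ι p.2) :
    ∃ φ : M24 →* G, φ (ιM zc) = z ∧ ∀ k < 2, σ k ∈ φ.range := by
  obtain ⟨S0, hsep⟩ := (evalMix i).model_spec (K := confMix) (f := f) (n := n)
    (i0 := 0) (i1 := 2) (th1 := true) (v := valsMix i) (defs := [defsMix0, defsMix1].getD i.val [])
    (by norm_num) (by norm_num) rfl rfl lettersMix (by
      have h := mixOK_all i
      simp only [mixOK, Bool.and_eq_true] at h
      exact h.1)
  have hlt : ∀ p ∈ valsMix i, p.1 < confMix.words.length := fun p hp =>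
    List.mem_range.mp (List.of_mem_zip hp).1
  have S := H.sound R lettersMix hlt hv (f := f) (n := n)
    (d := [defsMix0, defsMix1].getD i.val [])
  have hcov' : ∀ k < 2, (confMix.cert (valsMix i) f n ([defsMix0, defsMix1].getD i.val [])).coverOK k
      ([cA, cB].getD k 0) (orbMix.getD k []) (wit.getD k []) = true := fun k hk =>
    range_all hcov (by rw [orbMix_eq.2]; omega)
  have horb : ∀ k < 2, ∀ x, ok x = true → conj x ([cA, cB].getD k 0) ∈ orbMix.getD k [] :=
    fun k hk x hx => by
      rw [orbMix_eq.1]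
      interval_cases k
      exacts [(orb_spec hx).1, (orb_spec hx).2]
  have hK : ∀ k < 2, ∀ x, ok x = true → cmul x ([cA, cB].getD k 0) = cmul ([cA, cB].getD k 0) x →
      ∃ m < (confMix.cert (valsMix i) f n ([defsMix0, defsMix1].getD i.val [])).tn,
        ((confMix.cert (valsMix i) f n ([defsMix0, defsMix1].getD i.val [])).ent k m).1 = x ∧
        ok ((confMix.cert (valsMix i) f n ([defsMix0, defsMix1].getD i.val [])).ent k m).2 = true :=
    fun k hk x hx hc => by
      interval_cases k
      exacts [tab_cover (i := 0) (by norm_num) hx hc, tab_cover_theta (i := 2) (by norm_num) hx hc]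
  obtain ⟨φ, hφ, hσ⟩ := exists_hom_of_cert R S S0 hf (nk := 2) le_rfl
    [cA, cB] orbMix wit (fun k hk => by
      interval_cases k
      exacts [gensK_facts.1, theta_cA.2]) hcov' horb hK
    (mix_gen i) hsep (fun c hc h => ιM_eq_one hc ((congrFun (evalMix_ι i) c).symm.trans h))
  rw [evalMix_ι] at hφ
  exact ⟨φ, (hφ zc ok_zc).trans R.z_eq, fun k hk => ⟨_, hσ k hk⟩⟩

theorem mix_values_ok : (goodMix 0 == [valsMix0.getD 0 0, valsMix0.getD 0 0] &&
    goodMix 1 == [valsMix0.getD 1 0, valsMix1.getD 1 0] &&
    valsMix 0 == [(0, valsMix0.getD 0 0), (1, valsMix0.getD 1 0)] &&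
    valsMix 1 == [(0, valsMix0.getD 0 0), (1, valsMix1.getD 1 0)] &&
    Conf.shapeOK badMix 0 [] && Conf.shapeOK badMix 1 [(0, valsMix0.getD 0 0)]) = true := by
  decide +kernel

theorem mix_hold (R : Rep z ι) {sA sB : G} (hA : Good ι 0 sA)
    (hB : Good (fun x => ι (theta x)) 2 sB) : confMix.Hold ι (pairFn sA sB) := by
  refine ⟨fun k hk => ?_, hA.tabAct (by norm_num), hB.tabActTheta (by norm_num), fun e he => ?_⟩
  · interval_cases k
    exacts [hA.sq, hB.sq]
  · have oc : ok (cubeList.getD 2 0) = true ∧ ok (cubeList.getD 0 0) = true := by decide +kernel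
    simp only [confMix, List.mem_cons, List.not_mem_nil, or_false] at he
    rcases he with rfl | rfl
    · exact Good.cubeW_eq (σ := pairFn sA sB) R (i := 0) hA oc.2
    · exact Good.cubeW_theta_eq (σ := pairFn sA sB) R (i := 2) (k := 1) hB oc.1

/-- Two swaps of different kinds give the Mathieu group. -/
theorem mix_hom (R : Rep z ι) {sA sB : G} (hA : Good ι 0 sA)
    (hB : Good (fun x => ι (theta x)) 2 sB) : ∃ φ : M24 →* G, φ (ιM zc) = z ∧ sA ∈ φ.range ∧ sB ∈ φ.range := by
  suffices key : ∃ φ : M24 →* G, φ (ιM zc) = z ∧ ∀ k < 2, pairFn sA sB k ∈ φ.range by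
    obtain ⟨φ, h1, h2⟩ := key
    exact ⟨φ, h1, by simpa [pairFn] using h2 0 (by norm_num), by simpa [pairFn] using h2 1 (by norm_num)⟩
  have H := mix_hold R hA hB
  have hlen : confMix.words.length = 2 := rfl
  have hok := mix_values_ok
  simp only [Bool.and_eq_true, beq_iff_eq] at hok
  obtain ⟨⟨⟨⟨⟨g0, g1⟩, hz0⟩, hz1⟩, s0⟩, s1⟩ := hok
  have hget := fun (j : ℕ) (hj : j < 2) =>
    H.value R trackMix (j := j) (by rw [hlen]; exact hj) (range_all valsMix_ok hj)
  obtain ⟨c0, m0, o0, v0⟩ := hget 0 (by norm_num)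
  obtain ⟨c1, m1, o1, v1⟩ := hget 1 (by norm_num)
  have hc0 : c0 = valsMix0.getD 0 0 := by
    rcases List.mem_append.mp m0 with m0 | m0
    · rw [g0] at m0; simpa using m0
    · exact (H.elim R lettersMix badMix_ok (by rw [hlen]; norm_num) s0 (by simp) (by simp)
        o0 v0 m0).elim
  subst hc0
  rcases List.mem_append.mp m1 with m1 | m1
  · rw [g1] at m1
    simp only [List.mem_cons, List.not_mem_nil, or_false] at m1
    rcases m1 with rfl | rfl
    · refine mix_of_values R H 0 factsMix0_ok coverMix0_ok ?_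
      rw [hz0]
      simp only [List.mem_cons, List.not_mem_nil, or_false, forall_eq_or_imp, forall_eq]
      exact ⟨⟨o0, v0⟩, ⟨o1, v1⟩⟩
    · refine mix_of_values R H 1 factsMix1_ok coverMix1_ok ?_
      rw [hz1]
      simp only [List.mem_cons, List.not_mem_nil, or_false, forall_eq_or_imp, forall_eq]
      exact ⟨⟨o0, v0⟩, ⟨o1, v1⟩⟩
  · exfalso
    refine H.elim R lettersMix badMix_ok (by rw [hlen]; norm_num) s1 ?_ ?_ o1 v1 m1
    · simp [hlen]
    · simp only [List.mem_cons, List.not_mem_nil, or_false, forall_eq]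
      exact ⟨o0, v0⟩

end CfsgLib.HeUnique
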