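import Cfsg.Agent.Lib.HeUnique.Configs
import Cfsg.Agent.Lib.HeUnique.DataStab

/-!
Finite facts of one configuration.
-/

set_option autoImplicit false

namespace CfsgLib.HeUnique

/-- The configuration. -/
def confStab : Conf :=
  ⟨(phiTab 2), (phiTab 2), [(0, qA, cubeList.getD 2 0)], wordsStab, centreStab, actsStab⟩

theorem lettersStab : confStab.lettersAll = true := by decide +kernel

theorem trackStab : confStab.trackAll = true := by decide +kernel

theorem badStab_ok : badStab.all confStab.badOK = true := by decide +kernel

/-- The values not refuted for the loop `j`. -/
def goodStab (j : ℕ) : List ℕ := ([valsStab0]).map fun v => v.getD j 0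

theorem valsStab_ok : ((List.range wordsStab.length).all fun j =>
    loopVals (actsStab.getD j []) (goodStab j ++
      (badStab.filter fun b => b.1 == j).map fun b => ((b.2.1.find? fun p => p.1 == j).getD (0, 0)).2)) =
      true := by
  decide +kernel

/-- A derivation for the values left. -/
def certStab0 : Cert :=
  confStab.cert ((List.range wordsStab.length).zip valsStab0) factsStab0 nStab0 defsStab0

theorem factsStab0_ok : certStab0.factsOK = true := by decide +kernel

theorem coverStab0_ok : ((List.range orbStab.length).all fun k =>
    certStab0.coverOK k ([cA, cB].getD k 0) (orbStab.getD k []) (coverStab0.getD k [])) = true := by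
  decide +kernel

end CfsgLib.HeUnique
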