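import Cfsg.Agent.Lib.HeUnique.Covers
import Cfsg.Agent.Lib.HeUnique.Elim
import Cfsg.Agent.Lib.HeUnique.ModelSL
import Cfsg.Agent.Lib.HeUnique.FactsStab

/-!
One swap of the linear kind gives a homomorphism of the stabiliser of a vector.
-/

set_option autoImplicit false
set_option maxRecDepth 8000
set_option maxHeartbeats 400000

open Cfsg CfsgLib.HePres

namespace CfsgLib.HeUnique

/-- The fixed vector. -/
def vec0 : Fin 5 → ZMod 2 := Pi.single 0 1

/-- The stabiliser. -/
abbrev StabGrp : Subgroup SL52 := MulAction.stabilizer SL52 vec0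

theorem mem_stabGrp {t : SL52} : t ∈ StabGrp ↔
    ∀ i, (t : Matrix (Fin 5) (Fin 5) (ZMod 2)) i 0 = if i = 0 then 1 else 0 := by
  rw [MulAction.mem_stabilizer_iff, Matrix.SpecialLinearGroup.smul_def, funext_iff]
  refine forall_congr' fun i => ?_
  simp [vec0, Pi.single_apply]

/-- The packed involution. -/
def spStab : ℕ := pack5 (invStab0.getD 0 [])

theorem spStab_ok : mul5 spStab spStab = pack5 [1, 2, 4, 8, 16] ∧ small5 spStab = true ∧
    ∀ i : Fin 5, toM5 spStab i 0 = if i = 0 then 1 else 0 := by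
  decide +kernel

/-- The evaluation. -/
def evalStab : Eval SL52 (Matrix (Fin 5) (Fin 5) (ZMod 2)) :=
  evalSL spStab spStab spStab_ok.1 spStab_ok.1 spStab_ok.2.1 spStab_ok.2.1

theorem evalStab_ι : evalStab.ι0 = toSL := by simp only [evalStab, evalSL_ι]

theorem evalStab_e : evalStab.e = coeM := by simp only [evalStab, evalSL]

theorem evalStab_tr : evalStab.tr = toM5 ∧ ∀ k, evalStab.sp k = spStab := by
  simp only [evalStab, evalSL, Bool.cond_self, implies_true, and_self]

/-- The values, with loop numbers. -/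
def valsStab : List (ℕ × ℕ) := (List.range wordsStab.length).zip valsStab0

theorem stabOK : evalStab.modelOK confStab 2 2 false valsStab defsStab0 = true ∧
    evalStab.eqW [65536, zc, 65536] [cA] = true ∧
    evalStab.eqW [65537] [65536] = true := by
  decide +kernel

theorem toSL_mem {x : ℕ} (hx : ok x = true) : toSL x ∈ StabGrp := by
  rw [mem_stabGrp]
  intro i
  rw [mat_toSL hx]
  fin_cases i <;> simp [mat]

theorem sigma_mem {k : ℕ} (hk : k < 2) : evalStab.σ0 k ∈ StabGrp := by
  obtain ⟨-, e⟩ := evalStab.sp_spec k hk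
  rw [evalStab_e, evalStab_tr.1, evalStab_tr.2 k, coeM_apply] at e
  rw [mem_stabGrp]
  intro i
  rw [e]
  exact spStab_ok.2.2 i

/-- The coordinates in the stabiliser. -/
def ιS (x : ℕ) : StabGrp := if h : ok x = true then ⟨toSL x, toSL_mem h⟩ else 1

/-- The involution in the stabiliser. -/
def σS (k : ℕ) : StabGrp := if h : k < 2 then ⟨evalStab.σ0 k, sigma_mem h⟩ else 1

theorem coe_ιS {x : ℕ} (hx : ok x = true) : ((ιS x : StabGrp) : SL52) = evalStab.ι0 x := by
  rw [ιS, dif_pos hx, evalStab_ι]

theorem coe_σS {k : ℕ} (hk : k < 2) : ((σS k : StabGrp) : SL52) = evalStab.σ0 k := by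
  rw [σS, dif_pos hk]

theorem coe_wval : ∀ {w : List ℕ}, lettersOK w = true →
    ((wval ιS σS w : StabGrp) : SL52) = wval evalStab.ι0 evalStab.σ0 w
  | [], _ => by simp [wval]
  | t :: ts, h => by
    simp only [lettersOK, List.all_cons, Bool.and_eq_true] at h
    have ih := coe_wval (w := ts) h.2
    rw [show wval ιS σS (t :: ts) = val ιS σS t * wval ιS σS ts by simp [wval],
      show wval evalStab.ι0 evalStab.σ0 (t :: ts) =
        val evalStab.ι0 evalStab.σ0 t * wval evalStab.ι0 evalStab.σ0 ts by simp [wval],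
      Subgroup.coe_mul, ih]
    congr 1
    by_cases ht : t < 65536
    · have h1 := h.1
      rw [decide_eq_true ht, cond_true] at h1
      simp only [val, ht, if_true]
      exact coe_ιS h1
    · have h1 := h.1
      rw [decide_eq_false ht, cond_false, decide_eq_true_eq] at h1
      simp only [val, ht, if_false]
      exact coe_σS h1

/-- Transvections with the fixed centre, each with a conjugating code. -/
def centreList : List (ℕ × ℕ) :=
  [(34960, 34944), (34961, 34946), (34976, 34048), (34977, 34052), (34992, 36096), (34993, 36098),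
    (35008, 12544), (35009, 12552), (35024, 28928), (35025, 28930), (35040, 45312), (35041, 45316),
    (35056, 61696), (35057, 61698)]

theorem centre_facts : centreList.all (fun p => ok p.2 && conj p.2 cA == p.1) = true ∧
    ((List.range 8).all fun r => (List.range 2).all fun c => (r == 0 && c == 0) ||
      (ok (mk 273 r 0 c) && (mk 273 r 0 c == zc ||
        (centreList.map fun p => p.1).contains (mk 273 r 0 c)))) = true ∧
    mat zc = Matrix.transvection 0 1 1 := by
  decide +kernel

theorem centralizer_code {u : SL52} (hu : u ∈ StabGrp) (hc : u * toSL zc = toSL zc * u) :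
    ∃ x, ok x = true ∧ toSL x = u := by
  have h := congrArg (fun m : SL52 => (m : Matrix (Fin 5) (Fin 5) (ZMod 2))) hc
  simp only [Matrix.SpecialLinearGroup.coe_mul, mat_toSL ok_zc, centre_facts.2.2,
    Matrix.transvection, add_mul, mul_add, one_mul, mul_one, add_right_inj] at h
  rw [mem_stabGrp] at hu
  set B := (u : Matrix (Fin 5) (Fin 5) (ZMod 2)) with hB
  have h2 : ∀ j, j ≠ 1 → B 1 j = 0 := fun j hj => by
    have := congrFun (congrFun h 0) j
    simpa [hj] using this.symm
  have h3 : B 0 0 = B 1 1 := by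
    have := congrFun (congrFun h 0) 1
    simpa using this
  obtain ⟨hlt, hm⟩ := mat_codeOf (fun i hi => by rw [hu i, if_neg hi]) h2 (by rw [hu 0, if_pos rfl])
    (by rw [← h3, hu 0, if_pos rfl])
  have hok : ok (codeOf B) = true := ok_iff.mpr ⟨hlt, by rw [hm]; exact u.2⟩
  exact ⟨_, hok, Subtype.ext (by rw [mat_toSL hok, hm])⟩

theorem code_of_centre {f : Fin 5 → ZMod 2} (h0 : f 0 = 0) (hne : f ≠ 0) :
    ∃ y, ok y = true ∧ (y = zc ∨ ∃ p ∈ centreList, p.1 = y) ∧
      mat y = 1 + Matrix.of (fun i j : Fin 5 => if i = 0 then f j else 0) := by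
  obtain ⟨la, a0, a1, a2⟩ := bv_pack (f 2) (f 3) (f 4)
  have hc : (f 1).val < 2 := ZMod.val_lt _
  have hcc : ∀ a : ZMod 2, ((a.val : ℕ) : ZMod 2) = a := by decide
  have hz : ∀ a : ZMod 2, a.val = 0 → a = 0 := by decide
  obtain ⟨fa, fr, fs, fc⟩ := fields (A := 273) la (show 0 < 8 by norm_num) hc
  have hi := range_all (range_all centre_facts.2.1 la) hc
  simp only [Bool.or_eq_true, Bool.and_eq_true, beq_iff_eq, List.contains_iff_mem,
    List.mem_map] at hi
  rcases hi with ⟨hr, hcz⟩ | ⟨oy, hy⟩
  · exfalso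
    apply hne
    funext i
    have e2 : f 2 = 0 := hz _ (by omega)
    have e3 : f 3 = 0 := hz _ (by omega)
    have e4 : f 4 = 0 := hz _ (by omega)
    fin_cases i
    exacts [h0, hz _ hcz, e2, e3, e4]
  · refine ⟨_, oy, ?_, ?_⟩
    · rcases hy with hy | ⟨p, hp, e⟩
      exacts [Or.inl hy, Or.inr ⟨p, hp, e⟩]
    · have hid : bM 273 = 1 := by decide +kernel
      have hz0 : ∀ j, bv 0 j = 0 := by decide +kernel
      ext i j
      simp only [mat, fa, fr, fs, fc, hid, hz0, a0, a1, a2, hcc]
      fin_cases i <;> fin_cases j <;> simp [h0, Matrix.one_apply]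

theorem single_sandwich (B D : Matrix (Fin 5) (Fin 5) (ZMod 2))
    (hB : ∀ i, B i 0 = if i = 0 then 1 else 0) :
    B * Matrix.single 0 1 1 * D = Matrix.of (fun i j : Fin 5 => if i = 0 then D 1 j else 0) := by
  ext i j
  rw [Matrix.mul_apply, Finset.sum_eq_single (1 : Fin 5)]
  · rw [Matrix.mul_single_apply_same, hB i, mul_one, Matrix.of_apply]
    split <;> simp
  · intro b _ hb
    rw [Matrix.mul_single_apply_of_ne (hbj := hb), zero_mul]
  · intro h
    exact absurd (Finset.mem_univ _) h

theorem stab_conj {t : SL52} (ht : t ∈ StabGrp) :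
    ∃ y, ok y = true ∧ (y = zc ∨ ∃ p ∈ centreList, p.1 = y) ∧ t * toSL zc * t⁻¹ = toSL y := by
  set B := (t : Matrix (Fin 5) (Fin 5) (ZMod 2)) with hB
  set D := ((t⁻¹ : SL52) : Matrix (Fin 5) (Fin 5) (ZMod 2)) with hD
  have hBD : B * D = 1 := by
    rw [hB, hD, ← Matrix.SpecialLinearGroup.coe_mul, mul_inv_cancel]; rfl
  have hDB : D * B = 1 := by
    rw [hB, hD, ← Matrix.SpecialLinearGroup.coe_mul, inv_mul_cancel]; rfl
  have hcol := mem_stabGrp.mp ht
  have hcolD := mem_stabGrp.mp (inv_mem ht)
  have hne : D 1 ≠ 0 := by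
    intro h
    have e := congrFun (congrFun hDB 1) 1
    simp [Matrix.mul_apply, h] at e
  obtain ⟨y, oy, hy, hm⟩ := code_of_centre (f := D 1) (by rw [hD]; exact (hcolD 1).trans (if_neg (by decide))) hne
  refine ⟨y, oy, hy, ?_⟩
  apply Subtype.ext
  rw [Matrix.SpecialLinearGroup.coe_mul, Matrix.SpecialLinearGroup.coe_mul, mat_toSL ok_zc,
    mat_toSL oy, hm, centre_facts.2.2, ← hB, ← hD, Matrix.transvection, mul_add, mul_one, add_mul,
    hBD]
  rw [single_sandwich B D hcol]

theorem stab_gen : Subgroup.closure ({p : StabGrp | ∃ c, ok c = true ∧ p = ιS c} ∪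
    {p | ∃ k < 1, p = σS k}) = ⊤ := by
  set H := Subgroup.closure ({p : StabGrp | ∃ c, ok c = true ∧ p = ιS c} ∪
    {p | ∃ k < 1, p = σS k}) with hH
  have hι : ∀ c, ok c = true → ιS c ∈ H := fun c hc =>
    Subgroup.subset_closure (Or.inl ⟨c, hc, rfl⟩)
  have hσ : σS 0 ∈ H := Subgroup.subset_closure (Or.inr ⟨0, one_pos, rfl⟩)
  have oA := gensK_facts.1
  have hs : evalStab.σ0 0 * toSL zc * (evalStab.σ0 0)⁻¹ = toSL cA := by
    have h0 : evalStab.σ0 0 * evalStab.σ0 0 = 1 := by
      have h := stabOK.1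
      simp only [Eval.modelOK, Bool.and_eq_true] at h
      have := evalStab.eqW_spec (range_all h.1.1.1.1.1 (show 0 < 2 by norm_num))
      simpa [wval, val] using this
    have := evalStab.eqW_spec stabOK.2.1
    rw [inv_eq_of_mul_eq_one_right h0]
    simpa [wval, val, show zc < 65536 by decide, show cA < 65536 by decide, evalStab_ι,
      mul_assoc] using this
  rw [eq_top_iff]
  rintro ⟨t, ht⟩ -
  obtain ⟨y, oy, hy, he⟩ := stab_conj ht
  -- an element of the subgroup with the same image of the centre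
  obtain ⟨u, hu, hue⟩ : ∃ u : StabGrp, u ∈ H ∧ (u : SL52) * toSL zc * (u : SL52)⁻¹ = toSL y := by
    rcases hy with rfl | ⟨p, hp, rfl⟩
    · exact ⟨1, one_mem H, by simp⟩
    · have h := mem_all centre_facts.1 hp
      simp only [Bool.and_eq_true, beq_iff_eq] at h
      refine ⟨ιS p.2 * σS 0, mul_mem (hι _ h.1) hσ, ?_⟩
      rw [Subgroup.coe_mul, coe_ιS h.1, coe_σS (by norm_num), evalStab_ι]
      calc toSL p.2 * evalStab.σ0 0 * toSL zc * (toSL p.2 * evalStab.σ0 0)⁻¹
          = toSL p.2 * (evalStab.σ0 0 * toSL zc * (evalStab.σ0 0)⁻¹) * (toSL p.2)⁻¹ := by group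
        _ = toSL p.2 * toSL cA * (toSL p.2)⁻¹ := by rw [hs]
        _ = toSL p.1 := by
          have hm : ∀ {a b : ℕ}, ok a = true → ok b = true → toSL (cmul a b) = toSL a * toSL b :=
            fun ha hb => toSL_mul ha hb
          have hi : (toSL p.2)⁻¹ = toSL (cinv p.2) := inv_eq_of_mul_eq_one_right (by
            rw [← hm h.1 (inv_facts h.1).1, (inv_facts h.1).2, toSL_one])
          rw [hi, ← hm h.1 oA, ← hm (ok_cmul h.1 oA) (inv_facts h.1).1, ← h.2]
          rfl
  have hcomm : ((u : SL52)⁻¹ * t) * toSL zc = toSL zc * ((u : SL52)⁻¹ * t) := by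
    calc ((u : SL52)⁻¹ * t) * toSL zc
        = (u : SL52)⁻¹ * (t * toSL zc * t⁻¹) * t := by group
      _ = (u : SL52)⁻¹ * ((u : SL52) * toSL zc * (u : SL52)⁻¹) * t := by rw [he, hue]
      _ = _ := by group
  obtain ⟨x, ox, hx⟩ := centralizer_code (mul_mem (inv_mem u.2) ht) hcomm
  have e : (⟨t, ht⟩ : StabGrp) = u * ιS x := by
    apply Subtype.ext
    rw [Subgroup.coe_mul, coe_ιS ox, evalStab_ι, hx]
    group
  rw [e]
  exact mul_mem hu (hι x ox)

theorem ιS_mul {x y : ℕ} (hx : ok x = true) (hy : ok y = true) : ιS (cmul x y) = ιS x * ιS y :=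
  Subtype.ext (by
    rw [Subgroup.coe_mul, coe_ιS hx, coe_ιS hy, coe_ιS (ok_cmul hx hy), evalStab.hmul x y hx hy])

theorem stab_sound {f : Tree (Fct × Why)} {n : ℕ} :
    Sound ιS σS (confStab.cert valsStab f n defsStab0) ∧
      ∀ i ≤ defsStab0.length, i ≠ 0 → (wl ιS σS defsStab0).getD i 1 * ιS zc ≠
        ιS zc * (wl ιS σS defsStab0).getD i 1 := by
  obtain ⟨S0, hsep⟩ := evalStab.model_spec (K := confStab) (f := f) (n := n) (i0 := 2) (i1 := 2)
    (th1 := false) (v := valsStab) (defs := defsStab0) (by norm_num) (by norm_num) rfl rfl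
    lettersStab stabOK.1
  have htab : ∀ m < 1536, ok ((phiTab 2).get m).1 = true ∧ ok ((phiTab 2).get m).2 = true :=
    fun m hm => ⟨by rw [(tab_step (by norm_num) hm).1]; exact (kEl_facts hm).1,
      phiTab_ok (by norm_num) hm⟩
  have hdefs : (defsStab0.all fun d => decide (d.2.1 < 65536)) = true ∧
      ((List.range (defsStab0.length + 1)).all fun i => lettersOK ((Eval.wlW defsStab0).getD i [])) =
        true ∧
      (confStab.cert valsStab f n defsStab0).rels.all lettersOK = true := by
    refine ⟨by decide +kernel, by decide +kernel, ?_⟩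
    show (withInv (baseW confStab.cubes (confStab.loopsV valsStab))).all lettersOK = true
    decide +kernel
  refine ⟨⟨fun x y hx hy => ιS_mul hx hy, Subtype.ext (by rw [coe_ιS ok_one, evalStab.hone]; rfl),
    fun k hk => Subtype.ext (by rw [Subgroup.coe_mul, coe_σS hk, S0.hsq k hk]; rfl),
    fun k hk m hm => Subtype.ext ?_, fun r hr => Subtype.ext ?_⟩, fun i hi hi0 he => ?_⟩
  · have e : (confStab.cert valsStab f n defsStab0).ent k m = (phiTab 2).get m := by
      interval_cases k <;> rfl
    obtain ⟨o1, o2⟩ := htab m hm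
    have := S0.htab k hk m hm
    rw [e] at this ⊢
    rw [Subgroup.coe_mul, Subgroup.coe_mul, coe_σS hk, coe_ιS o1, coe_ιS o2]
    exact this
  · have hl := mem_all hdefs.2.2 (List.getElem_mem hr)
    rw [← List.getD_eq_getElem _ [] hr] at hl
    rw [coe_wval hl, S0.hrel r hr]
    rfl
  · refine hsep i hi hi0 ?_
    have hl := range_all hdefs.2.1 (show i < defsStab0.length + 1 by omega)
    have e1 := congrArg (fun p : StabGrp => (p : SL52)) he
    rw [Eval.wlW_spec _ _ _ hdefs.1, List.getD_eq_getElem _ _ (by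
      rw [List.length_map, Eval.wlW_length]; omega), List.getElem_map] at e1
    rw [Eval.wlW_spec _ _ _ hdefs.1, List.getD_eq_getElem _ _ (by
      rw [List.length_map, Eval.wlW_length]; omega), List.getElem_map]
    rw [List.getD_eq_getElem _ _ (by rw [Eval.wlW_length]; omega)] at hl
    simpa only [Subgroup.coe_mul, coe_ιS ok_zc, coe_wval hl] using e1

theorem ιS_eq_one {c : ℕ} (hc : ok c = true) (h : ιS c = 1) : c = one := by
  have e := congrArg (fun p : StabGrp => (p : SL52)) h
  simp only [coe_ιS hc, evalStab_ι, OneMemClass.coe_one] at e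
  exact toSL_eq_one hc e

theorem orbStab_facts : orbStab.getD 0 [] = orbFive.getD 0 [] ∧ orbStab.length = 1 ∧
    goodStab 0 = [valsStab0.getD 0 0] ∧ valsStab = [(0, valsStab0.getD 0 0)] ∧
    Conf.shapeOK badStab 0 [] = true := by
  decide +kernel

variable {G : Type*} [Group G] {z : G} {ι : ℕ → G}

theorem stab_hold (R : Rep z ι) {s : G} (h : Good ι 2 s) :
    confStab.Hold ι (pairFn s s) := by
  refine ⟨fun k hk => ?_, h.tabAct (by norm_num), h.tabAct (by norm_num), fun e he => ?_⟩
  · interval_cases k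
    exacts [h.sq, h.sq]
  · simp only [confStab, List.mem_cons, List.not_mem_nil, or_false] at he
    subst he
    exact Good.cubeW_eq (σ := pairFn s s) R (i := 2) (k := 0) h (by decide +kernel)

/-- One swap of the linear kind gives the stabiliser of a vector. -/
theorem stab_hom [Finite G] (R : Rep z ι) {s : G} (h : Good ι 2 s) :
    ∃ φ : StabGrp →* G, (∀ c, ok c = true → φ (ιS c) = ι c) ∧ φ (σS 0) = s := by
  have H := stab_hold R h
  have hlen : confStab.words.length = 1 := rfl
  obtain ⟨horbA, horbl, hg, hvs, hsh⟩ := orbStab_facts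
  obtain ⟨c0, m0, o0, v0⟩ := H.value R trackStab (j := 0) (by rw [hlen]; norm_num)
    (range_all valsStab_ok (show 0 < wordsStab.length by decide))
  have hc0 : c0 = valsStab0.getD 0 0 := by
    rcases List.mem_append.mp m0 with m0 | m0
    · rw [hg] at m0; simpa using m0
    · exact (H.elim R lettersStab badStab_ok (by rw [hlen]; norm_num) hsh (by simp) (by simp)
        o0 v0 m0).elim
  subst hc0
  obtain ⟨S0, hsep⟩ := stab_sound (f := factsStab0) (n := nStab0)
  have S := H.sound R lettersStab (v := valsStab) (f := factsStab0) (n := nStab0) (d := defsStab0)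
    (by rw [hvs]; simp [hlen]) (by
      rw [hvs]
      simp only [List.mem_cons, List.not_mem_nil, or_false, forall_eq]
      exact ⟨o0, v0⟩)
  obtain ⟨φ, hφ, hσ⟩ := exists_hom_of_cert R S S0 factsStab0_ok (nk := 1) (by norm_num)
    [cA, cB] orbStab coverStab0 (fun k hk => by
      interval_cases k
      exact gensK_facts.1)
    (fun k hk => range_all coverStab0_ok (by rw [horbl]; omega))
    (fun k hk x hx => by
      interval_cases k
      rw [horbA]
      exact (orb_spec hx).1)
    (fun k hk x hx hc => by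
      interval_cases k
      exact tab_cover (i := 2) (by norm_num) hx hc)
    stab_gen hsep (fun c hc h => ιS_eq_one hc h)
  exact ⟨φ, hφ, by simpa [pairFn] using hσ 0 one_pos⟩

end CfsgLib.HeUnique
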