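import Cfsg.Agent.Lib.HeUnique.Held
import Cfsg.Agent.Lib.HeUnique.FiveHom
import Cfsg.Agent.Lib.HeUnique.MixHom
import Cfsg.Agent.Lib.HeUnique.StabHom
import Cfsg.Agent.Lib.HePres.Cent
import Cfsg.Agent.Lib.Classical.Card
import Cfsg.Agent.Lib.Golay.MathieuFacts
import Cfsg.Agent.Lib.Golay.M24

/-!
The four possibilities when the first class is fused to the central involution.
-/

set_option autoImplicit false
set_option maxRecDepth 8000

open Cfsg Cfsg.Spor CfsgLib.HePres

namespace CfsgLib.HeUnique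

/-- The involutory check of one code. -/
def thetaSqOK (x : ℕ) : Bool := bif decide (x < 65536) && ok x then theta (theta x) == x else true

theorem theta_sq_scan_0 : CosetEnum.allUp thetaSqOK 13 0 = true := by decide +kernel

theorem theta_sq_scan_1 : CosetEnum.allUp thetaSqOK 13 8192 = true := by decide +kernel

theorem theta_sq_scan_2 : CosetEnum.allUp thetaSqOK 13 16384 = true := by decide +kernel

theorem theta_sq_scan_3 : CosetEnum.allUp thetaSqOK 13 24576 = true := by decide +kernel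

theorem theta_sq_scan_4 : CosetEnum.allUp thetaSqOK 13 32768 = true := by decide +kernel

theorem theta_sq_scan_5 : CosetEnum.allUp thetaSqOK 13 40960 = true := by decide +kernel

theorem theta_sq_scan_6 : CosetEnum.allUp thetaSqOK 13 49152 = true := by decide +kernel

theorem theta_sq_scan_7 : CosetEnum.allUp thetaSqOK 13 57344 = true := by decide +kernel

theorem theta_sq_scan : CosetEnum.allUp thetaSqOK 16 0 = true :=
  (allUp_join (allUp_join (allUp_join theta_sq_scan_0 theta_sq_scan_1 (by norm_num)) (allUp_join theta_sq_scan_2 theta_sq_scan_3 (by norm_num)) (by norm_num)) (allUp_join (allUp_join theta_sq_scan_4 theta_sq_scan_5 (by norm_num)) (allUp_join theta_sq_scan_6 theta_sq_scan_7 (by norm_num)) (by norm_num)) (by norm_num))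

theorem theta_theta {x : ℕ} (hx : ok x = true) : theta (theta x) = x := by
  have h := CosetEnum.allUp_spec theta_sq_scan x (Nat.zero_le _) (by
    have := ok_lt hx; norm_num; omega)
  simpa only [thetaSqOK, hx, decide_eq_true (ok_lt hx), Bool.and_self, cond_true, beq_iff_eq] using h

variable {G : Type*} [Group G] {z : G} {ι : ℕ → G}

theorem Good.congr {κ : ℕ → G} (h : ∀ x, ok x = true → κ x = ι x) {i : ℕ} (hi : i < 4) {s : G}
    (hs : Good ι i s) : Good κ i s := by
  refine ⟨hs.sq, fun m hm => ?_, ?_⟩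
  · rw [h _ (kEl_facts hm).1, h _ (phiTab_ok hi hm)]
    exact hs.act m hm
  · have oc : ∀ i : Fin 4, ok (cubeList.getD i.val 0) = true := by decide +kernel
    rw [h _ gensK_facts.2.2.2.2.2.2.2.2.1, h _ (oc ⟨i, hi⟩)]
    exact hs.cube

/-- An injective homomorphism covering the model covers the centralizer. -/
theorem range_of_model (R : Rep z ι) {T : Type*} [Group T] (φ : T →* G)
    (hφ : Function.Injective φ) {κ : ℕ → T}
    (hinj : ∀ x y, ok x = true → ok y = true → κ x = κ y → x = y)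
    (hc : ∀ x, ok x = true → φ (κ x) * z = z * φ (κ x)) :
    ∀ g : G, g * z = z * g → g ∈ φ.range := by
  classical
  let S := {x : Fin 65536 // ok x.val = true}
  have key : ∀ x : S, ∃ y : S, ι y.1.val = φ (κ x.1.val) := by
    intro x
    obtain ⟨y, oy, hy⟩ := R.surj _ (hc _ x.2)
    exact ⟨⟨⟨y, ok_lt oy⟩, oy⟩, hy⟩
  choose f hf using key
  have hf1 : Function.Injective f := by
    intro a b e
    have h := hf a
    rw [e, hf b] at h
    exact Subtype.ext (Fin.ext (hinj _ _ a.2 b.2 (hφ h).symm))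
  intro g hg
  obtain ⟨x, ox, rfl⟩ := R.surj g hg
  obtain ⟨a, ha⟩ := Finite.surjective_of_injective hf1 ⟨⟨x, ok_lt ox⟩, ox⟩
  exact ⟨κ a.1.val, by rw [← hf a, ha]⟩

theorem injective_of_simple {T : Type*} [Group T] [IsSimpleGroup T] (φ : T →* G) {t : T}
    (h : φ t ≠ 1) : Function.Injective φ := by
  rw [← MonoidHom.ker_eq_bot_iff]
  rcases φ.normal_ker.eq_bot_or_eq_top with h' | h'
  · exact h'
  · exact absurd (MonoidHom.mem_ker.mp (h' ▸ Subgroup.mem_top t)) h

theorem Rep.z_ne_one (R : Rep z ι) : z ≠ 1 := by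
  intro h
  rw [← R.z_eq, ← R.hone] at h
  exact absurd (R.inj _ _ ok_zc ok_one h) (by decide)

theorem simple_SL52 : IsSimpleGroup SL52 := by
  haveI : Fact (Nat.Prime 2) := ⟨Nat.prime_two⟩
  haveI : IsSimpleGroup (Matrix.ProjectiveSpecialLinearGroup (Fin 5) (ZMod 2)) :=
    CfsgLib.Classical.isSimpleGroup_PSL (by simp)
  have hz : Subgroup.center SL52 = ⊥ := by
    refine Subgroup.eq_bot_of_card_eq _ ?_
    rw [CfsgLib.Classical.card_center_SL, Nat.card_zmod]
    rfl
  let e : Matrix.ProjectiveSpecialLinearGroup (Fin 5) (ZMod 2) ≃* SL52 :=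
    (QuotientGroup.quotientMulEquivOfEq hz).trans QuotientGroup.quotientBot
  exact e.symm.isSimpleGroup

/-- What one knows in each case. -/
def CaseHe (z : G) : Prop :=
  ∃ φ : He →* G, Function.Injective φ ∧ φ zEl = z ∧ ∀ g : G, g * z = z * g → g ∈ φ.range

/-- The Mathieu case. -/
def CaseM24 (z : G) : Prop :=
  ∃ φ : M24 →* G, Function.Injective φ ∧ φ (ιM zc) = z ∧ ∀ g : G, g * z = z * g → g ∈ φ.range

/-- The linear case. -/
def CaseSL (z : G) : Prop :=
  ∃ φ : SL52 →* G, Function.Injective φ ∧ φ (toSL zc) = z ∧ ∀ g : G, g * z = z * g → g ∈ φ.range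

/-- The case of the stabilizer. -/
def CaseStab (z : G) (ι : ℕ → G) : Prop :=
  ¬ IsConj z (ι cB) ∧ ∃ φ : StabGrp →* G, Function.Injective φ ∧
    (∀ c, ok c = true → φ (ιS c) = ι c) ∧ ∀ g : G, g * z = z * g → g ∈ φ.range

theorem caseHe_of_hom (R : Rep z ι) (φ : He →* G) (h : φ (PresentedGroup.of He.Gen.e) = z) :
    CaseHe z := by
  haveI := isHe.1
  have hz : zEl = PresentedGroup.of He.Gen.e := rfl
  rw [← hz] at h
  have hφ : Function.Injective φ := injective_of_simple φ (t := zEl) (h ▸ R.z_ne_one)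
  obtain ⟨κ, Rκ⟩ := exists_rep transv rfl zEl zEl_order
    (((MulEquiv.subgroupCongr cent_eq).trans
      (MonoidHom.ofInjective projHe_injective).symm).trans (MulEquiv.ofBijective projT projT_bijective))
  refine ⟨φ, hφ, h, range_of_model R φ hφ (κ := κ) Rκ.inj fun x hx => ?_⟩
  rw [← h, ← map_mul, ← map_mul, Rκ.comm hx]

theorem caseM24_of_hom (R : Rep z ι) (φ : M24 →* G) (h : φ (ιM zc) = z) : CaseM24 z := by
  haveI : IsSimpleGroup M24 := CfsgLib.Golay.isSimpleGroup_M24
  have hφ : Function.Injective φ := injective_of_simple φ (t := ιM zc) (h ▸ R.z_ne_one)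
  refine ⟨φ, hφ, h, range_of_model R φ hφ (κ := ιM) (fun x y hx hy e => ?_) (fun x hx => ?_)⟩
  · have h1 : ιM (cmul x (cinv y)) = 1 := by
      rw [ιM_mul hx (inv_facts hy).1, e, ← ιM_mul hy (inv_facts hy).1, (inv_facts hy).2, ιM_one]
    have := congrArg (fun w => cmul w y) (ιM_eq_one (ok_cmul hx (inv_facts hy).1) h1)
    simpa [cmul_assoc hx (inv_facts hy).1 hy, cinv_mul hy, (cmul_one hx).1, (cmul_one hy).2]
      using this
  · rw [← h, ← map_mul, ← map_mul, ← ιM_mul hx ok_zc, ← ιM_mul ok_zc hx, zc_comm hx]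

theorem caseSL_of_hom (R : Rep z ι) (φ : SL52 →* G) (h : φ (toSL zc) = z) : CaseSL z := by
  haveI := simple_SL52
  have hφ : Function.Injective φ := injective_of_simple φ (t := toSL zc) (h ▸ R.z_ne_one)
  refine ⟨φ, hφ, h, range_of_model R φ hφ (κ := toSL) (fun x y hx hy e => ?_) (fun x hx => ?_)⟩
  · refine mat_inj (ok_lt hx) (ok_lt hy) ?_
    rw [← mat_toSL hx, ← mat_toSL hy, e]
  · rw [← h, ← map_mul, ← map_mul, ← toSL_mul hx ok_zc, ← toSL_mul ok_zc hx, zc_comm hx]

theorem sigma_conj : σS 0 * ιS zc * (σS 0)⁻¹ = ιS cA ∧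
    ιS qA * ιS cA * (ιS qA)⁻¹ = ιS cA * ιS zc := by
  obtain ⟨oA, -, -, -, -, -, -, -, oq, -, -, hqA, -⟩ := gensK_facts
  refine ⟨Subtype.ext ?_, ?_⟩
  · have h0 : evalStab.σ0 0 * evalStab.σ0 0 = 1 := by
      have h := stabOK.1
      simp only [Eval.modelOK, Bool.and_eq_true] at h
      have := evalStab.eqW_spec (range_all h.1.1.1.1.1 (show 0 < 2 by norm_num))
      simpa [wval, val] using this
    have := evalStab.eqW_spec stabOK.2.1
    rw [Subgroup.coe_mul, Subgroup.coe_mul, Subgroup.coe_inv, coe_σS (by norm_num), coe_ιS ok_zc,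
      coe_ιS oA, inv_eq_of_mul_eq_one_right h0]
    simpa [wval, val, show zc < 65536 by decide, show cA < 65536 by decide, evalStab_ι,
      mul_assoc] using this
  · rw [mul_inv_eq_iff_eq_mul, ← ιS_mul oq oA, ← ιS_mul oA ok_zc, ← ιS_mul (ok_cmul oA ok_zc) oq,
      ← hqA]
    unfold conj
    rw [cmul_assoc (ok_cmul oq oA) (inv_facts oq).1 oq, cinv_mul oq, (cmul_one (ok_cmul oq oA)).1]

/-- A normal subgroup on which an involution has no fixed point is inverted. -/
theorem inverts_of_fpf {T : Type*} [Group T] [Finite T] {N : Subgroup T} [N.Normal] {t : T}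
    (ht : t * t = 1) (h : ∀ n ∈ N, n * t = t * n → n = 1) {n : T} (hn : n ∈ N) :
    t * n * t⁻¹ = n⁻¹ := by
  let f : N →* N :=
    { toFun := fun n => ⟨t * n * t⁻¹, ‹N.Normal›.conj_mem _ n.2 t⟩
      map_one' := Subtype.ext (by simp)
      map_mul' := fun a b => Subtype.ext (by simp [mul_assoc]) }
  have hfp : MonoidHom.FixedPointFree f := by
    intro a ha
    refine Subtype.ext (h a a.2 ?_)
    have := congrArg Subtype.val ha
    simp only [f, MonoidHom.coe_mk, OneHom.coe_mk] at this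
    exact (mul_inv_eq_iff_eq_mul.mp this).symm
  have hsq : ⇑f ∘ ⇑f = id := by
    funext a
    apply Subtype.ext
    show t * (t * a * t⁻¹) * t⁻¹ = a
    rw [← mul_assoc, ← mul_assoc, ht, one_mul, mul_assoc, ← mul_inv_rev, ht, inv_one, mul_one]
  have := congrFun (hfp.coe_eq_inv_of_involutive (fun a => congrFun hsq a)) ⟨n, hn⟩
  exact congrArg Subtype.val this

theorem stab_injective [Finite G] (R : Rep z ι) (φ : StabGrp →* G)
    (hφ : ∀ c, ok c = true → φ (ιS c) = ι c) : Function.Injective φ := by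
  rw [← MonoidHom.ker_eq_bot_iff, Subgroup.eq_bot_iff_forall]
  obtain ⟨hu, hq⟩ := sigma_conj
  obtain ⟨oA, -, -, -, -, -, -, -, -, -, -, -, -⟩ := gensK_facts
  have sq : ∀ {x : ℕ}, ok x = true → cmul x x = one → ιS x * ιS x = 1 := fun hx h2 => by
    rw [← ιS_mul hx hx, h2]
    exact Subtype.ext (by rw [coe_ιS ok_one, evalStab.hone]; rfl)
  have base : ∀ n ∈ φ.ker, n * ιS zc = ιS zc * n → n = 1 := by
    intro n hn hc
    have hc' := congrArg (fun p : StabGrp => (p : SL52)) hc
    simp only [Subgroup.coe_mul, coe_ιS ok_zc, evalStab_ι] at hc'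
    obtain ⟨x, ox, hx⟩ := centralizer_code n.2 hc'
    have e : n = ιS x := Subtype.ext (by rw [coe_ιS ox, evalStab_ι, hx])
    rw [MonoidHom.mem_ker, e, hφ x ox] at hn
    rw [e, R.inj x one ox ok_one (hn.trans R.hone.symm)]
    exact Subtype.ext (by rw [coe_ιS ok_one, evalStab.hone]; rfl)
  have moved : ∀ (u t : StabGrp), (∀ n ∈ φ.ker, n * t = t * n → n = 1) →
      ∀ n ∈ φ.ker, n * (u * t * u⁻¹) = u * t * u⁻¹ * n → n = 1 := by
    intro u t ht n hn hc
    have h1 := ht _ (φ.normal_ker.conj_mem n hn u⁻¹) (by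
      calc u⁻¹ * n * u⁻¹⁻¹ * t = u⁻¹ * (n * (u * t * u⁻¹)) * u := by group
        _ = u⁻¹ * (u * t * u⁻¹ * n) * u := by rw [hc]
        _ = _ := by group)
    calc n = u * (u⁻¹ * n * u⁻¹⁻¹) * u⁻¹ := by group
      _ = 1 := by rw [h1]; group
  intro n hn
  set t := ιS zc
  set a := ιS cA
  have ha := moved (σS 0) t base
  rw [hu] at ha
  have hab := moved (ιS qA) a ha
  rw [hq] at hab
  have t2 : t * t = 1 := sq ok_zc (by decide +kernel)
  have a2 : a * a = 1 := sq oA (by decide +kernel)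
  have hat : a * t = t * a := by
    show ιS cA * ιS zc = ιS zc * ιS cA
    rw [← ιS_mul oA ok_zc, ← ιS_mul ok_zc oA, zc_comm oA]
  have b2 : a * t * (a * t) = 1 := by
    calc a * t * (a * t) = a * (t * a) * t := by group
      _ = a * a * (t * t) := by rw [← hat]; group
      _ = 1 := by rw [a2, t2, one_mul]
  have i1 := inverts_of_fpf t2 base hn
  have i2 := inverts_of_fpf a2 ha (φ.ker.inv_mem hn)
  have i3 := inverts_of_fpf b2 hab hn
  have hfix : a * t * n * (a * t)⁻¹ = n := by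
    calc a * t * n * (a * t)⁻¹ = a * (t * n * t⁻¹) * a⁻¹ := by group
      _ = n := by rw [i1, i2, inv_inv]
  have hn2 : n⁻¹ = n := i3.symm.trans hfix
  refine base n hn ?_
  rw [hn2] at i1
  exact (mul_inv_eq_iff_eq_mul.mp i1).symm

theorem caseStab_of_hom [Finite G] (R : Rep z ι) (hB : ¬ IsConj z (ι cB)) {s : G}
    (hs : Good ι 2 s) : CaseStab z ι := by
  obtain ⟨φ, hφ, hσ⟩ := stab_hom R hs
  have hinj : Function.Injective φ := stab_injective R φ hφ
  refine ⟨hB, φ, hinj, hφ, fun g hg => ?_⟩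
  obtain ⟨x, ox, rfl⟩ := R.surj g hg
  exact ⟨ιS x, hφ x ox⟩

/-- The four possibilities. -/
theorem four_cases [Finite G] (R : Rep z ι) (hA : IsConj z (ι cA)) :
    CaseHe z ∨ CaseM24 z ∨ CaseSL z ∨ CaseStab z ι := by
  obtain ⟨i, hi, sA, hgA⟩ := exists_good R hA
  by_cases hB : IsConj z (ι cB)
  · have hA' : IsConj z ((fun x => ι (theta x)) cA) := by
      show IsConj z (ι (theta cA))
      rwa [theta_cA.1]
    obtain ⟨j, hj, sB, hgB⟩ := exists_good R.theta' hA'
    rcases hi with rfl | rfl <;> rcases hj with rfl | rfl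
    · obtain ⟨φ, hφ, -, -⟩ := held_hom R hgA hgB
      exact Or.inl (caseHe_of_hom R φ hφ)
    · obtain ⟨φ, hφ, -, -⟩ := mix_hom R hgA hgB
      exact Or.inr (Or.inl (caseM24_of_hom R φ hφ))
    · have hgA' : Good (fun x => (fun x => ι (theta x)) (theta x)) 2 sA :=
        hgA.congr (fun x hx => by show ι (theta (theta x)) = ι x; rw [theta_theta hx]) (by norm_num)
      obtain ⟨φ, hφ, -, -⟩ := mix_hom R.theta' hgB hgA'
      exact Or.inr (Or.inl (caseM24_of_hom R φ hφ))
    · obtain ⟨φ, hφ, -, -⟩ := five_hom R hgA hgB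
      exact Or.inr (Or.inr (Or.inl (caseSL_of_hom R φ hφ)))
  · rcases hi with rfl | rfl
    · exact absurd (fused_cB R hgA hA) hB
    · exact Or.inr (Or.inr (Or.inr (caseStab_of_hom R hB hgA)))

end CfsgLib.HeUnique
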