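import Cfsg.Agent.Lib.HeUnique.Configs

/-!
Packed evaluation of words in a concrete group, and models of the configurations.
-/

set_option autoImplicit false

namespace CfsgLib.HeUnique

/-- Packed representation of a concrete group with coordinates. -/
structure Eval (T Mo : Type*) [Group T] [Monoid Mo] where
  /-- embedding -/
  e : T →* Mo
  inj : Function.Injective e
  /-- decoding -/
  tr : ℕ → Mo
  /-- admissible packed elements -/
  good : ℕ → Bool
  /-- product -/
  mulc : ℕ → ℕ → ℕ
  /-- identity -/
  e1 : ℕ
  e1_spec : good e1 = true ∧ tr e1 = 1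
  mul_spec : ∀ a b, good a = true → good b = true →
    good (mulc a b) = true ∧ tr (mulc a b) = tr a * tr b
  /-- equality test -/
  same : ℕ → ℕ → Bool
  same_spec : ∀ a b, good a = true → good b = true → tr a = tr b → same a b = true
  /-- coordinates -/
  ι0 : ℕ → T
  /-- involutions -/
  σ0 : ℕ → T
  hmul : ∀ x y, ok x = true → ok y = true → ι0 (cmul x y) = ι0 x * ι0 y
  hone : ι0 one = 1
  /-- packed coordinate -/
  pk : ℕ → ℕ
  /-- packed involution -/
  sp : ℕ → ℕ
  /-- admissible letters -/
  letter : ℕ → Bool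
  letter_spec : ∀ t, ok t = true → letter t = true → good (pk t) = true ∧ e (ι0 t) = tr (pk t)
  sp_spec : ∀ k < 2, good (sp k) = true ∧ e (σ0 k) = tr (sp k)

namespace Eval

variable {T Mo : Type*} [Group T] [Monoid Mo] (V : Eval T Mo)

/-- Admissible words. -/
def wordOK (w : List ℕ) : Bool :=
  w.all fun t => bif decide (t < 65536) then ok t && V.letter t else decide (t - 65536 < 2)

/-- A packed letter. -/
def packL (t : ℕ) : ℕ := bif decide (t < 65536) then V.pk t else V.sp (t - 65536)

/-- A packed word. -/
def wordP : List ℕ → ℕ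
  | [] => V.e1
  | t :: ts => V.mulc (V.packL t) (wordP ts)

theorem wordP_spec : ∀ {w : List ℕ}, V.wordOK w = true →
    V.good (V.wordP w) = true ∧ V.e (wval V.ι0 V.σ0 w) = V.tr (V.wordP w)
  | [], _ => ⟨V.e1_spec.1, by simp [wval, wordP, V.e1_spec.2]⟩
  | t :: ts, h => by
    simp only [wordOK, List.all_cons, Bool.and_eq_true] at h
    obtain ⟨g2, e2⟩ := wordP_spec (w := ts) h.2
    have ht : V.good (V.packL t) = true ∧ V.e (val V.ι0 V.σ0 t) = V.tr (V.packL t) := by
      by_cases hlt : t < 65536
      · have h1 := h.1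
        rw [decide_eq_true hlt, cond_true, Bool.and_eq_true] at h1
        simpa [packL, val, hlt] using V.letter_spec t h1.1 h1.2
      · have h1 := h.1
        rw [decide_eq_false hlt, cond_false, decide_eq_true_eq] at h1
        simpa [packL, val, hlt] using V.sp_spec _ h1
    obtain ⟨g3, e3⟩ := V.mul_spec _ _ ht.1 g2
    refine ⟨g3, ?_⟩
    rw [show wval V.ι0 V.σ0 (t :: ts) = val V.ι0 V.σ0 t * wval V.ι0 V.σ0 ts by simp [wval],
      map_mul, ht.2, e2]
    exact e3.symm

/-- Check of an equation between two words. -/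
def eqW (w v : List ℕ) : Bool := V.wordOK w && V.wordOK v && (V.wordP w == V.wordP v)

/-- Check of an inequation. -/
def neW (w v : List ℕ) : Bool := V.wordOK w && V.wordOK v && !V.same (V.wordP w) (V.wordP v)

theorem eqW_spec {w v : List ℕ} (h : V.eqW w v = true) :
    wval V.ι0 V.σ0 w = wval V.ι0 V.σ0 v := by
  simp only [eqW, Bool.and_eq_true, beq_iff_eq] at h
  apply V.inj
  rw [(V.wordP_spec h.1.1).2, (V.wordP_spec h.1.2).2, h.2]

theorem neW_spec {w v : List ℕ} (h : V.neW w v = true) :
    wval V.ι0 V.σ0 w ≠ wval V.ι0 V.σ0 v := by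
  simp only [neW, Bool.and_eq_true, Bool.not_eq_true'] at h
  intro e
  obtain ⟨g1, e1⟩ := V.wordP_spec h.1.1
  obtain ⟨g2, e2⟩ := V.wordP_spec h.1.2
  rw [e, e2] at e1
  rw [V.same_spec _ _ g1 g2 e1.symm] at h
  exact Bool.noConfusion h.2

/-- The representatives as words. -/
def wlW (defs : List (ℕ × ℕ × ℕ)) : List (List ℕ) :=
  defs.foldl (fun l d => l ++ [l.getD d.1 [] ++ [d.2.1, 65536 + d.2.2]]) [[]]

theorem wlW_spec {G : Type*} [Group G] (ι σ : ℕ → G) (defs : List (ℕ × ℕ × ℕ))
    (h : defs.all (fun d => decide (d.2.1 < 65536)) = true) :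
    wl ι σ defs = (wlW defs).map (wval ι σ) := by
  induction defs using List.reverseRecOn with
  | nil => simp [wl, wlW, wval]
  | append_singleton l d ih =>
    simp only [List.all_append, List.all_cons, List.all_nil, Bool.and_true, Bool.and_eq_true,
      decide_eq_true_eq] at h
    have e : wlW (l ++ [d]) = wlW l ++ [(wlW l).getD d.1 [] ++ [d.2.1, 65536 + d.2.2]] := by
      simp [wlW]
    rw [wl_concat, ih h.1, e, List.map_append]
    congr 1
    rw [show (1 : G) = wval ι σ [] by simp [wval], List.getD_map]
    simp [wval, val, h.2, mul_assoc, -List.getD_eq_getElem?_getD]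

/-- The relations, the actions and the separation of a derivation hold in the model. -/
def modelOK (K : Conf) (i0 i1 : ℕ) (th1 : Bool) (v : List (ℕ × ℕ)) (defs : List (ℕ × ℕ × ℕ)) :
    Bool :=
  ((List.range 2).all fun k => V.eqW [65536 + k, 65536 + k] []) &&
    ((List.range 3).all fun j =>
      V.eqW [gensK.getD j one, 65536] [65536, (phiGens.getD i0 []).getD j one] &&
      bif th1 then V.eqW [theta (gensK.getD j one), 65537]
          [65537, theta ((phiGens.getD i1 []).getD j one)]
        else V.eqW [gensK.getD j one, 65537] [65537, (phiGens.getD i1 []).getD j one]) &&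
    (K.cubes.all fun e => V.eqW (cubeW e.1 e.2.1 e.2.2) []) &&
    (v.all fun p => ok p.2 && decide (p.1 < K.words.length) && V.eqW (K.words.getD p.1 []) [p.2]) &&
    defs.all (fun d => decide (d.2.1 < 65536)) &&
    (List.range (defs.length + 1)).all fun i =>
      i == 0 || V.neW ((wlW defs).getD i [] ++ [zc]) (zc :: (wlW defs).getD i [])

theorem wlW_length (defs : List (ℕ × ℕ × ℕ)) : (wlW defs).length = defs.length + 1 := by
  induction defs using List.reverseRecOn with
  | nil => rfl
  | append_singleton l d ih =>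
    rw [show wlW (l ++ [d]) = wlW l ++ [(wlW l).getD d.1 [] ++ [d.2.1, 65536 + d.2.2]] by
      simp [wlW]]
    simp [ih]

theorem model_spec {K : Conf} {i0 i1 : ℕ} {th1 : Bool} {v : List (ℕ × ℕ)}
    {defs : List (ℕ × ℕ × ℕ)} (hi0 : i0 < 4) (hi1 : i1 < 4) (ht0 : K.t0 = phiTab i0)
    (ht1 : K.t1 = bif th1 then thTab (phiTab i1) else phiTab i1) (hl : K.lettersAll = true)
    (h : V.modelOK K i0 i1 th1 v defs = true) {f : Tree (Fct × Why)} {n : ℕ} :
    Sound V.ι0 V.σ0 (K.cert v f n defs) ∧
      ∀ i ≤ defs.length, i ≠ 0 → (wl V.ι0 V.σ0 defs).getD i 1 * V.ι0 zc ≠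
        V.ι0 zc * (wl V.ι0 V.σ0 defs).getD i 1 := by
  simp only [modelOK, Bool.and_eq_true, List.all_eq_true (l := K.cubes),
    List.all_eq_true (l := v)] at h
  obtain ⟨⟨⟨⟨⟨hsq, htab⟩, hcube⟩, hloop⟩, hdef⟩, hsep⟩ := h
  have hv1 : ∀ c, c < 65536 → val V.ι0 V.σ0 c = V.ι0 c := fun c hc => by simp [val, hc]
  have hs : ∀ k, val V.ι0 V.σ0 (65536 + k) = V.σ0 k := fun k => by simp [val]
  have hsq' : ∀ k < 2, V.σ0 k * V.σ0 k = 1 := fun k hk => by
    have := V.eqW_spec (range_all hsq hk)
    simpa [wval, hs] using this
  simp only [Conf.lettersAll, Bool.and_eq_true, List.all_eq_true] at hl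
  refine ⟨sound_mk V.hmul V.hone hsq' (fun k hk m hm => ?_) (cubes := K.cubes)
    (loops := K.loopsV v) rfl ?_ (fun e he => ?_) ?_, fun i hi hi0 => ?_⟩
  · interval_cases k
    · show V.ι0 (K.t0.get m).1 * V.σ0 0 = V.σ0 0 * V.ι0 (K.t0.get m).2
      rw [ht0]
      refine tab_of_gens V.hmul V.hone hi0 (fun j hj => ?_) m hm
      have := range_all htab hj
      simp only [Bool.and_eq_true] at this
      have e := V.eqW_spec this.1
      have o1 := ok_lt (gensK_ok hj).1
      have o2 : (phiGens.getD i0 []).getD j one < 65536 := by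
        have : ((List.range 4).all fun i => (List.range 3).all fun j =>
            decide ((phiGens.getD i []).getD j one < 65536)) = true := by decide +kernel
        simpa using range_all (range_all this hi0) hj
      simpa [wval, val, o1, o2, -List.getD_eq_getElem?_getD] using e
    · show V.ι0 (K.t1.get m).1 * V.σ0 1 = V.σ0 1 * V.ι0 (K.t1.get m).2
      rw [ht1]
      have htj := fun (j : ℕ) (hj : j < 3) => range_all htab hj
      simp only [Bool.and_eq_true] at htj
      have o1 : ∀ j < 3, gensK.getD j one < 65536 ∧ theta (gensK.getD j one) < 65536 ∧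
          (phiGens.getD i1 []).getD j one < 65536 ∧
          theta ((phiGens.getD i1 []).getD j one) < 65536 := by
        intro j hj
        have : ((List.range 4).all fun i => (List.range 3).all fun j =>
            decide (gensK.getD j one < 65536) && decide (theta (gensK.getD j one) < 65536) &&
            decide ((phiGens.getD i []).getD j one < 65536) &&
            decide (theta ((phiGens.getD i []).getD j one) < 65536)) = true := by decide +kernel
        simpa [and_assoc, -List.getD_eq_getElem?_getD] using range_all (range_all this hi1) hj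
      cases th1 with
      | true =>
        refine tabTh_of_gens V.hmul V.hone hi1 (fun j hj => ?_) m hm
        have e := V.eqW_spec (htj j hj).2
        obtain ⟨-, a, -, b⟩ := o1 j hj
        simpa [wval, val, a, b, -List.getD_eq_getElem?_getD] using e
      | false =>
        refine tab_of_gens V.hmul V.hone hi1 (fun j hj => ?_) m hm
        have e := V.eqW_spec (htj j hj).2
        obtain ⟨a, -, b, -⟩ := o1 j hj
        simpa [wval, val, a, b, -List.getD_eq_getElem?_getD] using e
  · intro w hw
    rw [baseW, List.mem_append, List.mem_map, List.mem_map] at hw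
    rcases hw with ⟨e, he, rfl⟩ | ⟨e, he, rfl⟩
    · exact (hl.2 e he).2
    · simp only [Conf.loopsV, List.mem_map] at he
      obtain ⟨p, hp, rfl⟩ := he
      have := hloop p hp
      simp only [Bool.and_eq_true, decide_eq_true_eq] at this
      have hw' : lettersOK (K.words.getD p.1 []) = true := by
        rw [List.getD_eq_getElem _ _ this.1.2]
        exact hl.1 _ (List.getElem_mem _)
      obtain ⟨oi, -⟩ := inv_facts this.1.1
      simp only [lettersOK, List.all_append, Bool.and_eq_true] at hw' ⊢
      exact ⟨hw', by simp [ok_lt oi, oi]⟩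
  · simpa [wval] using V.eqW_spec (hcube e he)
  · intro e he
    simp only [Conf.loopsV, List.mem_map] at he
    obtain ⟨p, hp, rfl⟩ := he
    have := hloop p hp
    simp only [Bool.and_eq_true, decide_eq_true_eq] at this
    refine ⟨this.1.1, ?_⟩
    rw [V.eqW_spec this.2]
    simp [wval, val, ok_lt this.1.1]
  · have h := range_all hsep (show i < defs.length + 1 by omega)
    simp only [Bool.or_eq_true, beq_iff_eq, hi0, false_or] at h
    have e := V.neW_spec h
    rw [wlW_spec _ _ _ hdef]
    rw [List.getD_eq_getElem _ _ (by rw [wlW_length]; omega)] at e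
    rw [List.getD_eq_getElem _ _ (by rw [List.length_map, wlW_length]; omega), List.getElem_map]
    simpa [wval, val, show zc < 65536 by decide] using e

end Eval

end CfsgLib.HeUnique
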