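import Cfsg.Agent.Lib.HeUnique.FactsDefs

/-!
Finite facts about automorphisms of the centralizer of two involutions.
-/

set_option autoImplicit false

namespace CfsgLib.HeUnique

theorem phi_tabs : ((List.range 4).all fun i =>
    (phiPairs i).length == 3 && CosetEnum.allUp
      (fun m => bif decide (m < 1536) then
        tabStep (phiPairs i) (phiTab i) parA m && ((phiTab i).get m).1 == kEl m
      else true) 11 0) = true := by
  decide +kernel

theorem phi_zero : phiPairs 0 = gensA ∧ cubeList.getD 0 0 = cubeA := by decide +kernel

theorem conj_three : CosetEnum.allUp (fun m => bif decide (m < 1536) then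
    (let x := kEl m
     !(cmul x (cmul x x) == one) || x == one ||
      (decide (conjThree.get m < 1536) && conj (kEl (conjThree.get m)) x == gensK.getD 0 0))
    else true) 11 0 = true := by
  decide +kernel

theorem rels_base : relsHold relsTwo gensK = true ∧ relsHold relsThree gensK = true := by
  decide +kernel

theorem pair_scan : CosetEnum.allUp (fun m => bif decide (m < 1536) then
    (let t := [gensK.getD 0 0, kEl m]
     bif evW zWord t == cA && evW aWord t == zc && relsHold relsTwo t then
       pairCands.contains (kEl m) else true)
    else true) 11 0 = true := by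
  decide +kernel

/-- The check of one triple. -/
def tripleScanOK (x m : ℕ) : Bool := bif decide (m < 1536) then
    (bif relsHold relsThree [gensK.getD 0 0, x, kEl m] then
      tripleCands.any fun e => e.1 == x && e.2.1 == kEl m else true)
    else true

theorem triple_scan_0 : (pairCands.all fun x => CosetEnum.allUp (tripleScanOK x) 9 0) = true := by
  decide +kernel

theorem triple_scan_1 : (pairCands.all fun x => CosetEnum.allUp (tripleScanOK x) 9 512) = true := by
  decide +kernel

theorem triple_scan_2 : (pairCands.all fun x => CosetEnum.allUp (tripleScanOK x) 9 1024) = true := by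
  decide +kernel

theorem triple_scan_3 : (pairCands.all fun x => CosetEnum.allUp (tripleScanOK x) 9 1536) = true := by
  decide +kernel

theorem triple_scan : (pairCands.all fun x => CosetEnum.allUp (tripleScanOK x) 11 0) = true := by
  rw [List.all_eq_true]
  intro x hx
  exact allUp_join (allUp_join (List.all_eq_true.mp triple_scan_0 x hx)
      (List.all_eq_true.mp triple_scan_1 x hx) (by norm_num))
    (allUp_join (List.all_eq_true.mp triple_scan_2 x hx) (List.all_eq_true.mp triple_scan_3 x hx)
      (by norm_num)) (by norm_num)

theorem triples_ok : tripleCands.all tripleOK = true := by decide +kernel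

theorem chain_one : ∃ ch c, chainOK 1 ch c cA = true :=
  ⟨(chains.getD 0 (0, [], 0)).2.1, (chains.getD 0 (0, [], 0)).2.2, by decide +kernel⟩

theorem cube_values : ((List.range 4).all fun i =>
    CosetEnum.allUp (fun m => bif decide (m < 1536) then
      (let c := kEl m
       bif conj qA c == kEl (revA.get ((fA (conj qA c) / 8) * 128 + conj qA c % 128)) &&
          ((phiTab i).get (revA.get ((fA (conj qA c) / 8) * 128 + conj qA c % 128))).2 == c then
        (bif ((phiPairs i).all fun g =>
            let a1 := conj qA g.1
            let b1 := ((phiTab i).get (revA.get ((fA a1 / 8) * 128 + a1 % 128))).2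
            let a2 := conj qA b1
            let b2 := ((phiTab i).get (revA.get ((fA a2 / 8) * 128 + a2 % 128))).2
            let a3 := conj qA b2
            let b3 := ((phiTab i).get (revA.get ((fA a3 / 8) * 128 + a3 % 128))).2
            cmul c g.1 == cmul b3 c) then c == cubeList.getD i 0 else true)
       else true)
    else true) 11 0) = true := by
  decide +kernel

theorem words_two : (zWord.all (fun i => decide (i < 2))) = true ∧
    (aWord.all (fun i => decide (i < 2))) = true ∧
    (relsTwo.all fun r => r.1.all (fun i => decide (i < 2)) && r.2.all (fun i => decide (i < 2))) =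
      true ∧ cmul (gensK.getD 0 0) (cmul (gensK.getD 0 0) (gensK.getD 0 0)) = one ∧
    !(gensK.getD 0 0 == one) = true := by
  decide +kernel

theorem square_values : ([0, 2].all fun i => CosetEnum.allUp (fun m => bif decide (m < 1536) then
    (let c := kEl m
     bif gensK.all (fun g => cmul c g == cmul g c) && ((phiTab i).get m).2 == c then
       c == one || c == cmul zc cA else true)
    else true) 11 0) = true := by
  decide +kernel

theorem phi_invol : ([0, 2].all fun i => (phiPairs i).all fun g =>
    let m := revA.get ((fA g.2 / 8) * 128 + g.2 % 128)
    decide (m < 1536) && kEl m == g.2 && ((phiTab i).get m).2 == g.1) = true := by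
  decide +kernel

theorem phi_za : ((List.range 4).all fun i =>
    let mz := revA.get ((fA zc / 8) * 128 + zc % 128)
    let ma := revA.get ((fA cA / 8) * 128 + cA % 128)
    ((phiTab i).get mz).2 == cA && ((phiTab i).get ma).2 == zc) = true := by
  decide +kernel

theorem zc_cA : ok (cmul zc cA) = true ∧ cmul (cmul zc cA) (cmul zc cA) = one := by decide +kernel

end CfsgLib.HeUnique
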