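import Cfsg.Agent.Lib.HeUnique.FactsDefs

/-!
Finite facts about the loops.
-/

set_option autoImplicit false

namespace CfsgLib.HeUnique

theorem loop_track : track tabA tabB loopW centreLoop zc = some zc ∧
    (trackLoop.all fun e => ok e.1 && track tabA tabB loopW e.2.2 e.1 == some e.2.1) = true := by
  decide +kernel

/-- The values the loop can have. -/
theorem loop_values : ((List.range 512).all fun A =>
    bif okA A && trackLoop.all (fun e => mm A (fA e.1) == mm (fA e.2.1) A) then
      (List.range 128).all fun l => let c := A * 128 + l
        bif trackLoop.all (fun e => cmul c e.1 == cmul e.2.1 c) then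
          c == loopC || c == 15983 || badList.any (fun b => b.1 == c) else true
    else true) = true := by
  decide +kernel

theorem three_track : track tabPhi3 tabPhi3 loopThree centreThree zc = some zc ∧
    (trackThree.all fun e => ok e.1 && track tabPhi3 tabPhi3 loopThree e.2.2 e.1 == some e.2.1) =
      true ∧
    loopThree.all (fun t => decide (t < 65536) || decide (t = 65536)) = true := by
  decide +kernel

theorem three_none : ((List.range 512).all fun A =>
    bif okA A && trackThree.all (fun e => mm A (fA e.1) == mm (fA e.2.1) A) then
      (List.range 128).all fun l => let c := A * 128 + l
        !(trackThree.all (fun e => cmul c e.1 == cmul e.2.1 c))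
    else true) = true := by
  decide +kernel

end CfsgLib.HeUnique
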