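import Cfsg.Agent.Lib.HeUnique.FactsInvol
import Cfsg.Agent.Lib.HeUnique.FactsAut
import Cfsg.Agent.Lib.HeUnique.FactsLoop
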