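import Cfsg.Agent.Lib.HeUnique.Checks
import Cfsg.Agent.Lib.HeUnique.DataPhi
import Cfsg.Agent.Lib.HeUnique.DataInv


/-!
Definitions used in the finite checks about the model.
-/

set_option autoImplicit false

namespace CfsgLib.HeUnique

/-- Two halves of a scan. -/
theorem allUp_join {f : ℕ → Bool} {k b c : ℕ} (h1 : CosetEnum.allUp f k b = true)
    (h2 : CosetEnum.allUp f k c = true) (hc : c = b + 2 ^ k) :
    CosetEnum.allUp f (k + 1) b = true := by
  subst hc
  show CosetEnum.strict b (fun b => CosetEnum.band (CosetEnum.allUp f k b)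
    (CosetEnum.allUp f k (b + 2 ^ k))) = true
  rw [CosetEnum.strict_eq, CosetEnum.band_eq_true]
  exact ⟨h1, h2⟩

/-- Representative of the first class. -/
def cA : ℕ := 34960
/-- Representative of the second class. -/
def cB : ℕ := 34946
/-- Representative of the third class. -/
def cAB : ℕ := 34964

/-- Conjugation. -/
def conj (c x : ℕ) : ℕ := cmul (cmul c x) (cinv c)

/-- Evaluation of a word at a tuple. -/
def evW (w t : List ℕ) : ℕ := w.foldl (fun r i => cmul r (t.getD i one)) one

/-- The tables of the candidates. -/
def phiTab (i : ℕ) : Tree (ℕ × ℕ) := [tabA, tabPhi1, tabPhi2, tabPhi3].getD i tabA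

/-- Element `m` of the centralizer of the first representative. -/
def kEl (m : ℕ) : ℕ := (tabA.get m).1

/-- The generators with the images under a candidate. -/
def phiPairs (i : ℕ) : List (ℕ × ℕ) := gensK.zip (phiGens.getD i [])

/-- Elements of the three-by-three group. -/
def okA (A : ℕ) : Bool := par ((rowA A 0).land (cross (rowA A 1) (rowA A 2))) == 1

/-- The square roots of a code. -/
def roots (y : ℕ) : List ℕ :=
  ((List.range 512).filter fun A => okA A && mm A A == fA y).flatMap fun A =>
    ((List.range 128).map fun l => A * 128 + l).filter fun x => ok x && cmul x x == y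

/-- Relators hold at a tuple. -/
def relsHold (rs : List (List ℕ × List ℕ)) (t : List ℕ) : Bool :=
  rs.all fun r => evW r.1 t == evW r.2 t

/-- The check of a possible image. -/
noncomputable def tripleOK (e : ℕ × ℕ × ℕ × ℕ × List ℕ × List ℕ) : Bool :=
  let t := [gensK.getD 0 0, e.1, e.2.1]
  bif decide (e.2.2.1 < 4) then
    decide (e.2.2.2.1 < 1536) && (phiGens.getD e.2.2.1 []).map (conj (kEl e.2.2.2.1)) == t
  else
    evW e.2.2.2.2.1 gensK == e.1 && evW e.2.2.2.2.2 gensK == e.2.1 &&
      CosetEnum.allUp (fun m => bif decide (m < 1536) then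
        !(gensK.map (conj (kEl m)) ==
          [gensK.getD 0 0, evW e.2.2.2.2.1 t, evW e.2.2.2.2.2 t]) else true) 11 0

/-- The check of a path to the third class. -/
def chainOK (i : ℕ) : List (ℕ × ℕ) → ℕ → ℕ → Bool
  | [], c, y => ok c && ok y && conj c y == cAB
  | s :: ss, c, y => ok s.1 && decide (s.2 < 1536) && conj s.1 y == kEl s.2 &&
      chainOK i ss c ((phiTab i).get s.2).2

/-- Image of a code under conjugation by a word, read from the right. -/
def trackRev (t0 t1 : Tree (ℕ × ℕ)) : List ℕ → List ℕ → ℕ → Option ℕ
  | [], [], x => some x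
  | [], _ :: _, _ => none
  | t :: ts, ws, x =>
    bif decide (t < 65536) then (bif ok t then trackRev t0 t1 ts ws (conj t x) else none) else
      match ws with
      | [] => none
      | w :: ws =>
        let p := bif t - 65536 == 0 then t0.get w else t1.get w
        bif decide (t - 65536 < 2) && decide (w < 1536) && p.1 == x then trackRev t0 t1 ts ws p.2
        else none

/-- Image of a code under conjugation by a word. -/
def track (t0 t1 : Tree (ℕ × ℕ)) (w wit : List ℕ) (x : ℕ) : Option ℕ :=
  trackRev t0 t1 w.reverse wit x

end CfsgLib.HeUnique
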