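import Cfsg.Agent.Lib.HeUnique.FactsDefs
import Cfsg.Agent.Lib.HeUnique.DataHeld

/-!
Finite facts for the identification.
-/

set_option autoImplicit false

namespace CfsgLib.HeUnique

/-- The derivation for the other value of the loop. -/
def certAlt : Cert := ⟨factsAlt, nAlt, defsAlt, tabA, tabB, 1536, relsW loopAlt⟩

/-- The images of the seven generators for the other value. -/
def imgWAlt : List (List ℕ) :=
  [[sixW.getD 0 0], [sixW.getD 1 0], [sixW.getD 2 0], dWAlt, [sixW.getD 3 0], [sixW.getD 4 0],
    [sixW.getD 5 0]]

/-- Expansion for the other value. -/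
def expandAlt (w : List ℕ) : List ℕ := w.flatMap fun i => imgWAlt.getD i []

theorem alt_value : loopAlt = 15983 := by decide

theorem alt_facts : certAlt.factsOK = true := by decide +kernel

theorem alt_targets : ((List.range 10).all fun i =>
    certAlt.evalOK (expandAlt (targets.getD i ([], 0)).1) (witAlt.getD i [])
      (targets.getD i ([], 0)).2) = true := by decide +kernel

theorem pathB_ok : ∃ last, ok last = true ∧
    (pathB.foldl (fun acc p => bif ok p.1 && decide (p.2 < 1536) && conj p.1 acc == kEl p.2 then
      (tabA.get p.2).2 else one) cA) = last ∧ ok pathEnd = true ∧ conj pathEnd last = cB ∧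
    last ≠ one :=
  ⟨(pathB.foldl (fun acc p => bif ok p.1 && decide (p.2 < 1536) && conj p.1 acc == kEl p.2 then
      (tabA.get p.2).2 else one) cA), by decide +kernel⟩

theorem tabB_theta : CosetEnum.allUp (fun m => bif decide (m < 1536) then
    (tabB.get m).1 == theta (tabA.get m).1 && (tabB.get m).2 == theta (tabA.get m).2
    else true) 11 0 = true := by
  decide +kernel

theorem cWords_gen : cWords.length = 2 ∧
    (cWords.all fun p => ok p.2 && p.1.all fun i => decide (i < 7)) = true ∧
    (sixW.all ok) = true ∧ sixW.length = 6 := by
  decide +kernel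

end CfsgLib.HeUnique
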