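import Cfsg.Agent.Lib.HeUnique.FactsDefs

/-!
Finite facts about involutions of the model.
-/

set_option autoImplicit false

namespace CfsgLib.HeUnique

theorem gensK_facts : ok cA = true ∧ ok cB = true ∧ ok cAB = true ∧ cB = theta cA ∧
    theta zc = zc ∧ evW zWord gensK = zc ∧ evW aWord gensK = cA ∧
    (gensK.all fun g => ok g && cmul g cA == cmul cA g) = true ∧ ok qA = true ∧
    cmul qA qA = one ∧ conj qA zc = zc ∧ conj qA cA = cmul cA zc ∧ gensK.length = 3 := by
  decide +kernel

theorem zc_parts : ((List.range 512).all fun A =>
    mm A 273 == A && mm 273 A == A && mv A 0 == 0 && vm 0 A == 0) = true ∧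
    ((List.range 8).all fun v => vm v 273 == v && mv 273 v == v) = true := by
  decide +kernel

theorem revA_ok : CosetEnum.allUp (fun i =>
    let x := ((i / 128) * 8 + 1) * 128 + i % 128
    bif ok x && cmul x cA == cmul cA x then decide (revA.get i < 1536) && kEl (revA.get i) == x
    else true) 13 0 = true := by
  decide +kernel

theorem invol_three : ((List.range 512).all fun A =>
    bif okA A && mm A A == 273 then
      A == 273 || (List.range 512).all fun B =>
        bif okA B && mm B (mm B B) == 273 then B == 273 || !(mm A B == mm B A) else true
    else true) = true := by
  decide +kernel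

theorem q_three : ((List.range 128).all fun lo => let x := 273 * 128 + lo
    !(cmul x (cmul x x) == one) || x == one) = true := by
  decide +kernel

theorem q_swap : ((List.range 128).all fun lo => let y := 273 * 128 + lo
    y == one || y == zc ||
      (List.range 128).any fun l => let q := 273 * 128 + l
        conj q y == cmul y zc && cmul q q == one) = true := by
  decide +kernel

theorem ab_three : ((List.range 512).all fun B =>
    bif okA B && mm B (mm B B) == 273 then B == 273 || !(vm 1 B == 1 && mv B 2 == 2)
    else true) = true := by
  decide +kernel

theorem invMats_all : ((List.range 512).all fun A =>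
    bif okA A && mm A A == 273 then invMats.contains A else true) = true := by
  decide +kernel

theorem invol_class : CosetEnum.allUp (fun i =>
    let x := invMats.getD (i / 128) 273 * 128 + i % 128
    bif ok x && cmul x x == one && !(x == one) && !(x == zc) then
      decide ((invWit.get i).1 < 7) && ok (invWit.get i).2 &&
        conj (invWit.get i).2 (invReps.getD (invWit.get i).1 0) == x
    else true) 12 0 = true := by
  decide +kernel

theorem invReps_head : invReps.getD 0 0 = cA ∧ invReps.getD 1 0 = cB ∧ invReps.getD 2 0 = cAB ∧
    invReps.length = 7 ∧ (invReps.all fun y => ok y) = true := by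
  decide +kernel

theorem roots_small : ((List.range 7).all fun i =>
    decide (i < 2) || decide ((roots (invReps.getD i 0)).length ≤ 16)) = true := by
  decide +kernel

theorem zRoots_facts : zRoots.length = 32 ∧ zRoots.Nodup ∧ (zRoots.all fun x =>
    ok x && cmul x cAB == cmul cAB x && cmul x x == zc) = true := by
  decide +kernel

/-- generators of the model -/
def centGens : List ℕ := [13813, 52187]

theorem centGens_ok : centGens.all ok = true := by decide +kernel

theorem central_scan : ((List.range 512).all fun A =>
    bif okA A && centGens.all (fun g => mm A (fA g) == mm (fA g) A) then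
      (List.range 128).all fun l => let x := A * 128 + l
        (x == one || x == zc) || !(centGens.all fun g => cmul x g == cmul g x)
    else true) = true := by
  decide +kernel

end CfsgLib.HeUnique
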