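import Cfsg.Agent.Lib.HeUnique.Track

/-!
Normalized swaps: involutions acting as one of the two remaining candidates, with known cube.
-/

set_option autoImplicit false

namespace CfsgLib.HeUnique

variable {G : Type*} [Group G] {z : G} {ι : ℕ → G}

/-- An involution acting as candidate `i`, with the value of its cube with the moving element. -/
structure Good (ι : ℕ → G) (i : ℕ) (s : G) : Prop where
  sq : s * s = 1
  act : Act ι i s
  cube : s * ι qA * (s * ι qA) * (s * ι qA) = ι (cubeList.getD i 0)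

theorem qA_conj_K (R : Rep z ι) {x : ℕ} (hx : ok x = true) (hc : cmul x cA = cmul cA x) :
    ok (conj qA x) = true ∧ cmul (conj qA x) cA = cmul cA (conj qA x) := by
  obtain ⟨oA, -, -, -, -, -, -, -, oq, hqq, -, hqA, -⟩ := gensK_facts
  have o := ok_conj oq hx
  refine ⟨o, ?_⟩
  rw [R.commute_iff o oA, R.conj_eq oq hx]
  have e := congrArg ι hqA
  rw [R.conj_eq oq oA, R.hmul _ _ oA ok_zc, R.z_eq] at e
  have hi : (ι qA)⁻¹ = ι qA :=
    inv_eq_of_mul_eq_one_right (by rw [← R.hmul _ _ oq oq, hqq, R.hone])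
  rw [hi] at e ⊢
  have hca := (R.commute_iff hx oA).mp hc
  have hq2 : ι qA * ι qA = 1 := by rw [← R.hmul _ _ oq oq, hqq, R.hone]
  have hqz := R.comm oq
  have e2 : ι qA * (ι cA * z) * ι qA = ι cA := by
    rw [← e]
    calc _ = (ι qA * ι qA) * ι cA * (ι qA * ι qA) := by group
      _ = ι cA := by rw [hq2, one_mul, mul_one]
  calc ι qA * ι x * ι qA * ι cA = ι qA * ι x * (ι qA * ι cA * ι qA) * ι qA := by
        calc _ = ι qA * ι x * ι qA * ι cA * 1 := (mul_one _).symm
          _ = _ := by rw [← hq2]; group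
    _ = ι qA * (ι x * (ι cA * z)) * ι qA := by rw [e]; group
    _ = ι qA * ((ι cA * z) * ι x) * ι qA := by
        rw [← mul_assoc (ι x), hca, mul_assoc (ι cA), R.comm hx, ← mul_assoc (ι cA)]
    _ = (ι qA * (ι cA * z) * ι qA) * (ι qA * ι x * ι qA) := by
        calc _ = ι qA * (ι cA * z) * 1 * ι x * ι qA := by group
          _ = _ := by rw [← hq2]; group
    _ = _ := by rw [e2]

theorem gens_commute (R : Rep z ι) {c : ℕ} (oc : ok c = true)
    (h : ∀ j < 3, ι c * ι (gensK.getD j one) = ι (gensK.getD j one) * ι c) :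
    gensK.all (fun g => cmul c g == cmul g c) = true := by
  simp only [List.all_eq_true, beq_iff_eq]
  intro g hg
  obtain ⟨j, hj, rfl⟩ := List.getElem_of_mem hg
  have hj3 : j < 3 := by
    have := gensK_facts.2.2.2.2.2.2.2.2.2.2.2.2
    omega
  rw [R.commute_iff oc (gensK_mem_ok _ (List.getElem_mem _)), ← List.getD_eq_getElem _ one hj]
  exact h j hj3

theorem exists_invol (R : Rep z ι) {i : ℕ} (hi : i = 0 ∨ i = 2) {s : G} (h : Act ι i s) :
    ∃ t : G, t * t = 1 ∧ Act ι i t := by
  have hi4 : i < 4 := by omega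
  obtain ⟨hz, hA⟩ := h.center R hi4
  obtain ⟨oA, -, -, -, -, hzw, haw, -, -, -, -, -, -⟩ := gensK_facts
  have hsq : s * s * z = z * (s * s) := by
    calc s * s * z = s * (s * z * s⁻¹) * s⁻¹ * (s * s) := by group
      _ = (s * ι cA * s⁻¹) * (s * s) := by rw [hz]
      _ = z * (s * s) := by rw [hA]
  obtain ⟨c, oc, hc⟩ := R.surj _ hsq
  have hcA : cmul c cA = cmul cA c := by
    rw [R.commute_iff oc oA, hc]
    calc s * s * ι cA = s * (s * ι cA * s⁻¹) * s⁻¹ * (s * s) := by group
      _ = (s * z * s⁻¹) * (s * s) := by rw [hA]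
      _ = _ := by rw [hz]
  obtain ⟨l1, l2⟩ := kIdx_spec oc hcA
  have hmem : [0, 2].contains i = true := by rcases hi with rfl | rfl <;> rfl
  rw [List.contains_iff_mem] at hmem
  have hinv := mem_all phi_invol hmem
  have hcomm : ∀ j < 3, ι c * ι (gensK.getD j one) = ι (gensK.getD j one) * ι c := by
    intro j hj
    obtain ⟨og, cg⟩ := gensK_ok hj
    obtain ⟨p1, p2⟩ := phiPairs_getD hi4 hj
    have hl := phiPairs_length hi4
    have hg := mem_all hinv (List.getElem_mem (h := (by omega : j < (phiPairs i).length)))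
    rw [← List.getD_eq_getElem _ (0, 0)] at hg
    simp only [Bool.and_eq_true, decide_eq_true_eq, beq_iff_eq, p1, p2] at hg
    obtain ⟨⟨g1, g2⟩, g3⟩ := hg
    have e1 : s * ι (gensK.getD j one) * s⁻¹ = ι ((phiGens.getD i []).getD j one) := by
      obtain ⟨k1, k2⟩ := kIdx_spec og cg
      have e := h.apply og cg
      obtain ⟨q1, hs⟩ := tab_step hi4 k1
      rw [e]
      have hh : ∀ j < 3, ((phiTab i).get (kIdx (gensK.getD j one))).2 =
          (phiGens.getD i []).getD j one := by
        have : ([0, 2].all fun i => (List.range 3).all fun j =>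
            ((phiTab i).get (kIdx (gensK.getD j one))).2 == (phiGens.getD i []).getD j one) = true := by
          decide +kernel
        intro j hj
        simpa using range_all (mem_all this hmem) hj
      rw [hh j hj]
    have e2 := h _ g1
    rw [g2, g3] at e2
    rw [hc]
    calc s * s * ι (gensK.getD j one) = s * (s * ι (gensK.getD j one) * s⁻¹) * s⁻¹ * (s * s) := by
          group
      _ = ι (gensK.getD j one) * (s * s) := by rw [e1, e2]
  have hv := up_spec (mem_all square_values hmem) (by norm_num) l1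
  rw [l2] at hv
  have hfix : ((phiTab i).get (kIdx c)).2 = c := by
    apply R.inj _ _ (phiTab_ok hi4 l1) oc
    rw [← h _ l1, l2, hc]
    group
  simp only [gens_commute R oc hcomm, hfix, beq_self_eq_true, Bool.and_self, cond_true,
    Bool.or_eq_true, beq_iff_eq] at hv
  rcases hv with rfl | rfl
  · exact ⟨s, by rw [← hc, R.hone], h⟩
  · have hzA : ι (cmul zc cA) = z * ι cA := by rw [R.hmul _ _ ok_zc oA, R.z_eq]
    refine ⟨s * z, ?_, fun m hm => ?_⟩
    · calc s * z * (s * z) = (s * z * s⁻¹) * (s * s) * z := by group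
        _ = ι cA * (z * ι cA) * z := by rw [hz, ← hc, hzA]
        _ = 1 := by
          rw [← mul_assoc (ι cA), R.comm oA, mul_assoc z (ι cA), ← R.hmul _ _ oA oA,
            show cmul cA cA = one from by decide +kernel, R.hone, mul_one, z_sq R]
    · rw [← h m hm]
      calc s * z * ι (kEl m) * (s * z)⁻¹ = s * (z * ι (kEl m) * z⁻¹) * s⁻¹ := by group
        _ = _ := by rw [← R.comm (kEl_facts hm).1]; group

theorem cube_of (R : Rep z ι) {i : ℕ} (hi4 : i < 4) {t : G} (ht : Act ι i t) (h2 : t * t = 1) :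
    t * ι qA * (t * ι qA) * (t * ι qA) = ι (cubeList.getD i 0) := by
  obtain ⟨hz, hA⟩ := ht.center R hi4
  obtain ⟨oA, -, -, -, -, -, -, -, oq, hqq, -, hqA, -⟩ := gensK_facts
  have hti : t⁻¹ = t := inv_eq_of_mul_eq_one_right h2
  set u := t * ι qA with hu
  have hq2 : ι qA * ι qA = 1 := by rw [← R.hmul _ _ oq oq, hqq, R.hone]
  have hqi : (ι qA)⁻¹ = ι qA := inv_eq_of_mul_eq_one_right hq2
  have hqa : ι qA * ι cA * ι qA = ι cA * z := by
    have e := congrArg ι hqA
    rw [R.conj_eq oq oA, R.hmul _ _ oA ok_zc, R.z_eq, hqi] at e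
    exact e
  have hui : u⁻¹ = ι qA * t := by rw [hu, mul_inv_rev, hqi, hti]
  have hzA : u * z * u⁻¹ = ι cA := by
    rw [hui, hu]
    calc t * ι qA * z * (ι qA * t) = t * ((ι qA * z) * ι qA) * t := by group
      _ = t * z * t⁻¹ := by rw [R.comm oq, mul_assoc z, hq2, mul_one, hti]
      _ = ι cA := hz
  have hAz : u * ι cA * u⁻¹ = z * ι cA := by
    rw [hui, hu]
    calc t * ι qA * ι cA * (ι qA * t) = t * (ι qA * ι cA * ι qA) * t⁻¹ := by rw [hti]; group
      _ = (t * ι cA * t⁻¹) * (t * z * t⁻¹) := by rw [hqa]; group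
      _ = z * ι cA := by rw [hA, hz]
  have h3z : u * u * u * z = z * (u * u * u) := by
    calc u * u * u * z = u * (u * (u * z * u⁻¹) * u⁻¹) * u⁻¹ * (u * u * u) := by group
      _ = u * (z * ι cA) * u⁻¹ * (u * u * u) := by rw [hzA, hAz]
      _ = (u * z * u⁻¹) * (u * ι cA * u⁻¹) * (u * u * u) := by group
      _ = z * (u * u * u) := by
          rw [hzA, hAz, ← mul_assoc (ι cA), R.comm oA, mul_assoc z (ι cA), ← R.hmul _ _ oA oA,
            show cmul cA cA = one from by decide +kernel, R.hone, mul_one]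
  obtain ⟨c, oc, hc⟩ := R.surj _ h3z
  have hcA : cmul c cA = cmul cA c := by
    rw [R.commute_iff oc oA, hc]
    calc u * u * u * ι cA = u * (u * (u * ι cA * u⁻¹) * u⁻¹) * u⁻¹ * (u * u * u) := by group
      _ = u * ((u * z * u⁻¹) * (u * ι cA * u⁻¹)) * u⁻¹ * (u * u * u) := by
          nth_rewrite 1 [hAz]; group
      _ = u * (ι cA * (z * ι cA)) * u⁻¹ * (u * u * u) := by rw [hzA, hAz]
      _ = ι cA * (u * u * u) := by
          rw [← mul_assoc (ι cA), R.comm oA, mul_assoc z (ι cA), ← R.hmul _ _ oA oA,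
            show cmul cA cA = one from by decide +kernel, R.hone, mul_one, hzA]
  obtain ⟨l1, l2⟩ := kIdx_spec oc hcA
  have hv := up_spec (range_all cube_values hi4) (by norm_num) l1
  rw [l2] at hv
  have step : ∀ {x : ℕ}, ok x = true → cmul x cA = cmul cA x →
      u * ι x * u⁻¹ = ι ((phiTab i).get (kIdx (conj qA x))).2 ∧
        ok ((phiTab i).get (kIdx (conj qA x))).2 = true ∧
        cmul ((phiTab i).get (kIdx (conj qA x))).2 cA =
          cmul cA ((phiTab i).get (kIdx (conj qA x))).2 := by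
    intro x ox cx
    obtain ⟨o1, c1⟩ := qA_conj_K R ox cx
    obtain ⟨k1, -⟩ := kIdx_spec o1 c1
    have e : u * ι x * u⁻¹ = ι ((phiTab i).get (kIdx (conj qA x))).2 := by
      rw [← ht.apply o1 c1, R.conj_eq oq ox, hu]
      group
    refine ⟨e, phiTab_ok hi4 k1, ?_⟩
    rw [R.commute_iff (phiTab_ok hi4 k1) oA, ← e, ← hzA]
    calc u * ι x * u⁻¹ * (u * z * u⁻¹) = u * (ι x * z) * u⁻¹ := by group
      _ = u * (z * ι x) * u⁻¹ := by rw [R.comm ox]
      _ = _ := by group
  obtain ⟨oq1, cq1⟩ := qA_conj_K R oc hcA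
  obtain ⟨k1, k2⟩ := kIdx_spec oq1 cq1
  have hk : kEl (revA.get (fA (conj qA c) / 8 * 128 + conj qA c % 128)) = conj qA c := k2
  have hfix : ((phiTab i).get (revA.get (fA (conj qA c) / 8 * 128 + conj qA c % 128))).2 = c := by
    show ((phiTab i).get (kIdx (conj qA c))).2 = c
    apply R.inj _ _ (phiTab_ok hi4 k1) oc
    rw [← (step oc hcA).1, hc]
    group
  simp only [hk, hfix, beq_self_eq_true, Bool.and_self, cond_true] at hv
  have hact : (phiPairs i).all (fun g =>
      let a1 := conj qA g.1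
      let b1 := ((phiTab i).get (revA.get ((fA a1 / 8) * 128 + a1 % 128))).2
      let a2 := conj qA b1
      let b2 := ((phiTab i).get (revA.get ((fA a2 / 8) * 128 + a2 % 128))).2
      let a3 := conj qA b2
      let b3 := ((phiTab i).get (revA.get ((fA a3 / 8) * 128 + a3 % 128))).2
      cmul c g.1 == cmul b3 c) = true := by
    simp only [List.all_eq_true, beq_iff_eq]
    intro g hg
    obtain ⟨j, hj, rfl⟩ := List.getElem_of_mem hg
    have hj3 : j < 3 := by rw [phiPairs_length hi4] at hj; exact hj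
    rw [← List.getD_eq_getElem _ (0, 0) hj, (phiPairs_getD hi4 hj3).1]
    obtain ⟨og, cg⟩ := gensK_ok hj3
    obtain ⟨e1, o1, c1⟩ := step og cg
    obtain ⟨e2, o2, c2⟩ := step o1 c1
    obtain ⟨e3, o3, -⟩ := step o2 c2
    apply R.inj _ _ (ok_cmul oc og) (ok_cmul o3 oc)
    show ι (cmul c (gensK.getD j one)) = ι (cmul ((phiTab i).get (kIdx (conj qA
      ((phiTab i).get (kIdx (conj qA ((phiTab i).get (kIdx (conj qA (gensK.getD j one)))).2))).2))).2 c)
    rw [R.hmul _ _ oc og, R.hmul _ _ o3 oc, ← e3, ← e2, ← e1, hc]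
    group
  rw [hact, cond_true, beq_iff_eq] at hv
  rw [← hv, hc]

/-- A swap of one of the two remaining kinds exists. -/
theorem exists_good (R : Rep z ι) (hA : IsConj z (ι cA)) :
    ∃ i, (i = 0 ∨ i = 2) ∧ ∃ t : G, Good ι i t := by
  obtain ⟨i, hi, s, hs⟩ := exists_act R hA
  have hi2 : i = 0 ∨ i = 2 := by
    interval_cases i
    · exact Or.inl rfl
    · exact (act_ne_one R hA hs).elim
    · exact Or.inr rfl
    · exact (act_ne_three R hs).elim
  obtain ⟨t, h2, ht⟩ := exists_invol R hi2 hs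
  exact ⟨i, hi2, t, h2, ht, cube_of R hi ht h2⟩

end CfsgLib.HeUnique
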