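import Cfsg.Agent.Lib.HeUnique.Good
import Cfsg.Agent.Lib.HeUnique.FactsHeld
import Cfsg.Agent.Lib.HePres.Main

/-!
A homomorphism of the presented group from seven elements satisfying the relations.
-/

set_option autoImplicit false

open Cfsg.Spor

namespace CfsgLib.HeUnique

variable {G : Type*} [Group G] {z : G} {ι : ℕ → G}

/-- Position of a generator. -/
def genIx : He.Gen → ℕ
  | .b => 0
  | .a => 1
  | .c => 2
  | .d => 3
  | .e => 4
  | .f => 5
  | .g => 6

/-- The code of a generator other than the fourth. -/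
def genCode (i : ℕ) : ℕ := sixW.getD (bif decide (i < 3) then i else i - 1) one

theorem genCode_facts : (List.range 7).all (fun i => ok (genCode i)) = true ∧ genCode 4 = zc ∧
    imgW = (List.range 7).map (fun i => bif i == 3 then dW else [genCode i]) ∧
    imgWAlt = (List.range 7).map (fun i => bif i == 3 then dWAlt else [genCode i]) := by
  decide +kernel

/-- A power of a code. -/
def powC (x : ℕ) : ℕ → ℕ
  | 0 => one
  | n + 1 => cmul (powC x n) x

theorem powC_spec (R : Rep z ι) {x : ℕ} (hx : ok x = true) :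
    ∀ n, ok (powC x n) = true ∧ ι (powC x n) = ι x ^ n
  | 0 => ⟨ok_one, by simp [powC, R.hone]⟩
  | n + 1 => by
    obtain ⟨h1, h2⟩ := powC_spec R hx n
    exact ⟨ok_cmul h1 hx, by rw [powC, R.hmul _ _ h1 hx, h2, pow_succ]⟩

theorem pair_relators : ∀ x y : He.Gen, x = .d ∨ y = .d ∨
    powC (cmul (genCode (genIx x)) (genCode (genIx y))) (coxLabel He.edges x y) = one := by
  intro x y
  cases x <;> cases y <;> decide +kernel

theorem extra_codes :
    cmul (genCode 4) (powC (cmul (genCode 5) (genCode 6)) 2) = one ∧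
      cmul (genCode 4) (powC (cmul (cmul (genCode 1) (genCode 0)) (genCode 2)) 3) = one ∧
      powC (cmul (genCode 5) (genCode 6)) 4 = one ∧
      powC (cmul (cmul (genCode 1) (genCode 0)) (genCode 2)) 6 = one := by
  decide +kernel

theorem sq_swap {u v : G} {n : ℕ} (h : (u * v) ^ n = 1) : (v * u) ^ n = 1 := by
  calc (v * u) ^ n = (u⁻¹ * (u * v) * u) ^ n := by group
    _ = 1 := by rw [show u⁻¹ * (u * v) * u = u⁻¹ * (u * v) * (u⁻¹)⁻¹ by group, conj_pow, h]; group

/-- The homomorphism. -/
theorem exists_hom (R : Rep z ι) (F : ℕ → G) (hF : ∀ i < 7, i ≠ 3 → F i = ι (genCode i))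
    (h0 : F 3 * F 3 = 1) (ha : F 3 * F 1 * (F 3 * F 1) = 1) (hb : F 3 * F 0 * (F 3 * F 0) = 1)
    (he : F 3 * F 4 * (F 3 * F 4) * (F 3 * F 4) = 1) (hf : F 3 * F 5 * (F 3 * F 5) * (F 3 * F 5) = 1)
    (hg : F 3 * F 6 * (F 3 * F 6) * (F 3 * F 6) = 1)
    (hcd : (F 2 * F 3) ^ 5 * F 1 = 1) (hcdfg : (F 2 * F 3 * F 5 * F 6) ^ 4 = 1) :
    ∃ φ : He →* G, φ (PresentedGroup.of He.Gen.e) = z ∧
      φ (PresentedGroup.of He.Gen.f) = ι (genCode 5) ∧
      φ (PresentedGroup.of He.Gen.g) = ι (genCode 6) := by
  have hok : ∀ i < 7, ok (genCode i) = true := fun i hi => range_all genCode_facts.1 hi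
  have hix : ∀ x, genIx x < 7 := by intro x; cases x <;> decide
  have hval : ∀ x, x ≠ He.Gen.d → F (genIx x) = ι (genCode (genIx x)) := by
    intro x hx
    refine hF _ (hix x) ?_
    cases x <;> first | exact absurd rfl hx | decide
  have ha1 : F 1 * F 1 = 1 := by
    rw [hF 1 (by norm_num) (by norm_num), ← R.hmul _ _ (hok 1 (by norm_num)) (hok 1 (by norm_num)),
      show cmul (genCode 1) (genCode 1) = one from by decide +kernel, R.hone]
  have hd : ∀ y, (F 3 * F (genIx y)) ^ coxLabel He.edges He.Gen.d y = 1 := by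
    intro y
    cases y
    case a => rw [show coxLabel He.edges He.Gen.d He.Gen.a = 2 from by decide, pow_two]; exact ha
    case b => rw [show coxLabel He.edges He.Gen.d He.Gen.b = 2 from by decide, pow_two]; exact hb
    case c =>
      rw [show coxLabel He.edges He.Gen.d He.Gen.c = 10 from by decide]
      apply sq_swap
      show (F 2 * F 3) ^ 10 = 1
      rw [show 10 = 5 + 5 from rfl, pow_add, eq_inv_of_mul_eq_one_left hcd, ← mul_inv_rev, ha1,
        inv_one]
    case d => rw [show coxLabel He.edges He.Gen.d He.Gen.d = 1 from by decide, pow_one]; exact h0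
    case e =>
      rw [show coxLabel He.edges He.Gen.d He.Gen.e = 3 from by decide, pow_succ, pow_two]; exact he
    case f =>
      rw [show coxLabel He.edges He.Gen.d He.Gen.f = 3 from by decide, pow_succ, pow_two]; exact hf
    case g =>
      rw [show coxLabel He.edges He.Gen.d He.Gen.g = 3 from by decide, pow_succ, pow_two]; exact hg
  have hsym : ∀ x, coxLabel He.edges x He.Gen.d = coxLabel He.edges He.Gen.d x := by
    intro x; cases x <;> decide
  have hrel : ∀ r ∈ coxRelators He.edges ∪ {r | r ∈ He.extra},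
      FreeGroup.lift (fun x => F (genIx x)) r = 1 := by
    rintro r (⟨x, -, y, -, rfl⟩ | hr)
    · simp only [map_pow, map_mul, FreeGroup.lift_apply_of]
      by_cases hx : x = He.Gen.d
      · subst hx; exact hd y
      by_cases hy : y = He.Gen.d
      · subst hy
        rw [hsym]
        exact sq_swap (hd x)
      rcases pair_relators x y with h | h | h
      · exact absurd h hx
      · exact absurd h hy
      have ox := hok _ (hix x); have oy := hok _ (hix y)
      rw [hval x hx, hval y hy, ← R.hmul _ _ ox oy, ← (powC_spec R (ok_cmul ox oy) _).2, h, R.hone]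
    · obtain ⟨e1, e2, e3, e4⟩ := extra_codes
      have o := fun i (hi : i < 7) => hok i hi
      have p1 := powC_spec R (ok_cmul (o 5 (by norm_num)) (o 6 (by norm_num))) 2
      have p2 := powC_spec R (ok_cmul (ok_cmul (o 1 (by norm_num)) (o 0 (by norm_num)))
        (o 2 (by norm_num))) 3
      have q1 := congrArg ι e1
      rw [R.hmul _ _ (o 4 (by norm_num)) p1.1, p1.2, R.hmul _ _ (o 5 (by norm_num))
        (o 6 (by norm_num)), R.hone] at q1
      have q2 := congrArg ι e2
      rw [R.hmul _ _ (o 4 (by norm_num)) p2.1, p2.2,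
        R.hmul _ _ (ok_cmul (o 1 (by norm_num)) (o 0 (by norm_num))) (o 2 (by norm_num)),
        R.hmul _ _ (o 1 (by norm_num)) (o 0 (by norm_num)), R.hone] at q2
      have r1 := congrArg ι e3
      rw [(powC_spec R (ok_cmul (o 5 (by norm_num)) (o 6 (by norm_num))) 4).2,
        R.hmul _ _ (o 5 (by norm_num)) (o 6 (by norm_num)), R.hone] at r1
      have r2 := congrArg ι e4
      rw [(powC_spec R (ok_cmul (ok_cmul (o 1 (by norm_num)) (o 0 (by norm_num))) (o 2 (by norm_num))) 6).2,
        R.hmul _ _ (ok_cmul (o 1 (by norm_num)) (o 0 (by norm_num))) (o 2 (by norm_num)),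
        R.hmul _ _ (o 1 (by norm_num)) (o 0 (by norm_num)), R.hone] at r2
      have f0 := hF 0 (by norm_num) (by norm_num); have f1 := hF 1 (by norm_num) (by norm_num)
      have f2 := hF 2 (by norm_num) (by norm_num); have f4 := hF 4 (by norm_num) (by norm_num)
      have f5 := hF 5 (by norm_num) (by norm_num); have f6 := hF 6 (by norm_num) (by norm_num)
      simp only [He.extra, List.mem_cons, List.not_mem_nil, or_false, Set.mem_setOf_eq] at hr
      rcases hr with rfl | rfl | rfl | rfl <;>
        simp only [map_mul, map_inv, map_pow, He.a, He.b, He.c, He.d, He.e, He.f, He.g,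
          FreeGroup.lift_apply_of, genIx]
      · rw [f4, f5, f6]
        have : ((ι (genCode 5) * ι (genCode 6)) ^ 2)⁻¹ = (ι (genCode 5) * ι (genCode 6)) ^ 2 :=
          inv_eq_of_mul_eq_one_right (by rw [← pow_add, r1])
        rw [this]
        exact q1
      · rw [f4, f1, f0, f2]
        have : ((ι (genCode 1) * ι (genCode 0) * ι (genCode 2)) ^ 3)⁻¹ =
            (ι (genCode 1) * ι (genCode 0) * ι (genCode 2)) ^ 3 :=
          inv_eq_of_mul_eq_one_right (by rw [← pow_add, r2])
        rw [this]
        exact q2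
      · rw [eq_inv_of_mul_eq_one_left hcd, inv_inv, ha1]
      · exact hcdfg
  refine ⟨PresentedGroup.toGroup (f := fun x => F (genIx x)) hrel, ?_, ?_, ?_⟩
  rotate_left
  · rw [PresentedGroup.toGroup.of]
    exact hF 5 (by norm_num) (by norm_num)
  · rw [PresentedGroup.toGroup.of]
    exact hF 6 (by norm_num) (by norm_num)
  rw [PresentedGroup.toGroup.of]
  show F 4 = z
  rw [hF 4 (by norm_num) (by norm_num), genCode_facts.2.1, R.z_eq]

end CfsgLib.HeUnique
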