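import Cfsg.Agent.Lib.HeUnique.Basic

/-!
Involutions of the centralizer: the third class in the extraspecial part is not fused to the
central involution.
-/

set_option autoImplicit false

namespace CfsgLib.HeUnique

theorem bits_facts : ∀ r v : Fin 8, ((1 : ℕ).xor r = r.val.xor v → v.val = 1) ∧
    (r.val.xor v = (2 : ℕ).xor r → v.val = 2) ∧ vm r.val 273 = r.val ∧ mv 273 r.val = r.val := by
  decide +kernel

/-- Commuting with the third representative. -/
theorem comm_cAB {x : ℕ} (hx : ok x = true) (h : cmul x cAB = cmul cAB x) :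
    vm 1 (fA x) = 1 ∧ mv (fA x) 2 = 2 := by
  have a := ok_lt hx; have b := ok_lt gensK_facts.2.2.1
  have hf : fA cAB = 273 ∧ fR cAB = 1 ∧ fS cAB = 2 := by decide
  have h1 := congrArg fR h
  rw [fR_cmul a b, fR_cmul b a, hf.2.1, hf.1] at h1
  have h2 := congrArg fS h
  rw [fS_cmul a b, fS_cmul b a, hf.2.2, hf.1] at h2
  have hr := bits_facts ⟨_, fR_lt x⟩ ⟨vm 1 (fA x), vm_lt (by norm_num) (fA_lt a)⟩
  have hs := bits_facts ⟨_, fS_lt x⟩ ⟨mv (fA x) 2, mv_lt (by norm_num) (fA_lt a)⟩
  rw [hr.2.2.1] at h1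
  rw [hs.2.2.2] at h2
  exact ⟨hr.1 h1, hs.2.1 h2⟩

/-- An involution centralized by an element of order three lies in the extraspecial part. -/
theorem fA_of_three {y t : ℕ} (hy : ok y = true) (ht : ok t = true) (hy2 : cmul y y = one)
    (ht3 : cmul t (cmul t t) = one) (ht1 : t ≠ one) (hc : cmul y t = cmul t y) : fA y = 273 := by
  by_contra hne
  have a := ok_lt hy; have b := ok_lt ht
  have h1 : fA one = 273 := by decide
  have hA : mm (fA y) (fA y) = 273 := by rw [← fA_cmul a a, hy2, h1]
  have hB : mm (fA t) (mm (fA t) (fA t)) = 273 := by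
    rw [← fA_cmul b b, ← fA_cmul b (cmul_lt b b), ht3, h1]
  have hAB : mm (fA y) (fA t) = mm (fA t) (fA y) := by rw [← fA_cmul a b, ← fA_cmul b a, hc]
  have hs := range_all invol_three (fA_lt a)
  simp only [okA_of hy, hA, beq_self_eq_true, Bool.and_self, cond_true, Bool.or_eq_true,
    beq_iff_eq, hne, false_or] at hs
  have hs' := range_all hs (fA_lt b)
  simp only [okA_of ht, hB, beq_self_eq_true, Bool.and_self, cond_true, Bool.or_eq_true,
    beq_iff_eq, Bool.not_eq_true', hAB, Bool.true_eq_false, or_false] at hs'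
  have hq := range_all q_three (show t % 128 < 128 from Nat.mod_lt _ (by norm_num))
  have htt : 273 * 128 + t % 128 = t := by rw [← hs']; simp only [fA]; omega
  simp only [htt, ht3, beq_self_eq_true, Bool.not_true, Bool.false_or, beq_iff_eq] at hq
  exact ht1 hq

/-- A noncentral involution centralized by an element of order three is moved by the center. -/
theorem exists_move {y t : ℕ} (hy : ok y = true) (ht : ok t = true) (hy2 : cmul y y = one)
    (ht3 : cmul t (cmul t t) = one) (ht1 : t ≠ one) (hc : cmul y t = cmul t y) (hy1 : y ≠ one)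
    (hyz : y ≠ zc) : ∃ q, ok q = true ∧ cmul q q = one ∧ conj q y = cmul y zc := by
  have hA := fA_of_three hy ht hy2 ht3 ht1 hc
  have hyy : 273 * 128 + y % 128 = y := by rw [← hA]; simp only [fA]; omega
  have h := range_all q_swap (show y % 128 < 128 from Nat.mod_lt _ (by norm_num))
  simp only [hyy, Bool.or_eq_true, beq_iff_eq, hy1, hyz, false_or, List.any_eq_true,
    List.mem_range, Bool.and_eq_true] at h
  obtain ⟨l, hl, h1, h2⟩ := h
  refine ⟨273 * 128 + l, ?_, h2, h1⟩
  have hfA : fA (273 * 128 + l) = 273 := by simp only [fA]; omega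
  unfold ok
  rw [hfA, decide_eq_true (by omega : 273 * 128 + l < 65536)]
  decide

theorem invol_rep {x : ℕ} (hx : ok x = true) (h2 : cmul x x = one) (h1 : x ≠ one) (hz : x ≠ zc) :
    ∃ ri c, ri < 7 ∧ ok c = true ∧ conj c (invReps.getD ri 0) = x := by
  have hA : mm (fA x) (fA x) = 273 := by
    rw [← fA_cmul (ok_lt hx) (ok_lt hx), h2]; decide
  have hm := range_all invMats_all (fA_lt (ok_lt hx))
  simp only [okA_of hx, hA, beq_self_eq_true, Bool.and_self, cond_true, List.contains_iff_mem] at hm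
  obtain ⟨j, hj, hje⟩ := List.getElem_of_mem hm
  have hl : invMats.length = 22 := by decide
  have h := CosetEnum.allUp_spec invol_class (j * 128 + x % 128) (Nat.zero_le _) (by norm_num; omega)
  have e1 : (j * 128 + x % 128) / 128 = j := by omega
  have e2 : (j * 128 + x % 128) % 128 = x % 128 := by omega
  rw [e1, e2, List.getD_eq_getElem _ _ hj, hje,
    show fA x * 128 + x % 128 = x by simp only [fA]; omega] at h
  simp only [hx, h2, beq_self_eq_true, beq_eq_false_iff_ne.mpr h1, beq_eq_false_iff_ne.mpr hz,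
    Bool.not_false, Bool.and_self, cond_true, Bool.and_eq_true, decide_eq_true_eq, beq_iff_eq] at h
  exact ⟨_, _, h.1.1, h.1.2, h.2⟩

theorem mem_roots {x y : ℕ} (hx : ok x = true) (hy : y < 65536) (h : cmul x x = y) : x ∈ roots y := by
  have _hy := hy
  simp only [roots, List.mem_flatMap, List.mem_filter, List.mem_range, Bool.and_eq_true,
    beq_iff_eq, List.mem_map]
  refine ⟨fA x, ⟨fA_lt (ok_lt hx), okA_of hx, ?_⟩, ⟨x % 128, Nat.mod_lt _ (by norm_num), ?_⟩, hx, h⟩
  · rw [← fA_cmul (ok_lt hx) (ok_lt hx), h]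
  · simp only [fA]; omega

theorem three_reps : ∀ ri < 2, ∃ t, ok t = true ∧ cmul t (cmul t t) = one ∧ t ≠ one ∧
    cmul t (invReps.getD ri 0) = cmul (invReps.getD ri 0) t := by
  intro ri hri
  have h : ([gensK.getD 0 0, theta (gensK.getD 0 0)].zip [0, 1]).all (fun p =>
      ok p.1 && cmul p.1 (cmul p.1 p.1) == one && !(p.1 == one) &&
        cmul p.1 (invReps.getD p.2 0) == cmul (invReps.getD p.2 0) p.1) = true := by decide +kernel
  simp only [List.zip_cons_cons, List.zip_nil_left, List.all_cons, List.all_nil, Bool.and_true,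
    Bool.and_eq_true, beq_iff_eq, Bool.not_eq_true', beq_eq_false_iff_ne] at h
  interval_cases ri
  · exact ⟨_, h.1.1.1.1, h.1.1.1.2, h.1.1.2, h.1.2⟩
  · exact ⟨_, h.2.1.1.1, h.2.1.1.2, h.2.1.2, h.2.2⟩

variable {G : Type*} [Group G] {z : G} {ι : ℕ → G}

/-- The third class is not fused to the central involution. -/
theorem not_fused_cAB (R : Rep z ι) : ¬ IsConj z (ι cAB) := by
  intro hc
  obtain ⟨g, hg⟩ := isConj_iff.mp hc
  have oAB := gensK_facts.2.2.1
  have hbz : ι cAB * z = z * ι cAB := R.comm oAB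
  have hy0 : g⁻¹ * z * g * z = z * (g⁻¹ * z * g) := by
    calc g⁻¹ * z * g * z = g⁻¹ * (z * (g * z * g⁻¹)) * g := by group
      _ = g⁻¹ * ((g * z * g⁻¹) * z) * g := by rw [hg, hbz]
      _ = z * (g⁻¹ * z * g) := by group
  obtain ⟨y, oy, hy⟩ := R.surj _ hy0
  have hz2 : z * z = 1 := by
    rw [← R.z_eq, ← R.hmul _ _ ok_zc ok_zc, show cmul zc zc = one from by decide +kernel, R.hone]
  have hy2 : cmul y y = one := by
    apply R.inj _ _ (ok_cmul oy oy) ok_one
    rw [R.hmul _ _ oy oy, hy, R.hone]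
    calc g⁻¹ * z * g * (g⁻¹ * z * g) = g⁻¹ * (z * z) * g := by group
      _ = 1 := by rw [hz2]; group
  have hy1 : y ≠ one := by
    intro h
    rw [h, R.hone] at hy
    have hz1 : z = 1 := by rw [show z = g * (g⁻¹ * z * g) * g⁻¹ by group, ← hy]; group
    rw [← R.z_eq, ← R.hone] at hz1
    exact absurd (R.inj _ _ ok_zc ok_one hz1) (by decide)
  have hyz : y ≠ zc := by
    intro h
    rw [h, R.z_eq] at hy
    have : g * z * g⁻¹ = z := by nth_rewrite 1 [hy]; group
    rw [hg, ← R.z_eq] at this
    exact absurd (R.inj _ _ oAB ok_zc this) (by decide)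
  obtain ⟨ri, c, hri, oc, hcy⟩ := invol_rep oy hy2 hy1 hyz
  have orep : ok (invReps.getD ri 0) = true := by
    obtain ⟨-, -, -, hl, hall⟩ := invReps_head
    rw [List.getD_eq_getElem _ _ (by omega)]
    exact mem_all hall (List.getElem_mem _)
  -- transport of elements centralizing the two involutions
  have back : ∀ x, ok x = true → cmul x cAB = cmul cAB x →
      ∃ x', ok x' = true ∧ ι x' = g⁻¹ * ι x * g := by
    intro x hx hxc
    refine (R.surj _ ?_).imp fun _ h => h
    calc g⁻¹ * ι x * g * z = g⁻¹ * (ι x * (g * z * g⁻¹)) * g := by group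
      _ = g⁻¹ * ((g * z * g⁻¹) * ι x) * g := by rw [hg, ← (R.commute_iff hx oAB).mp hxc]
      _ = z * (g⁻¹ * ι x * g) := by group
  by_cases h2 : ri < 2
  · obtain ⟨t, ot, t3, t1, tc⟩ := three_reps ri h2
    have oct := ok_conj oc ot
    have htz : ι (conj c t) * z = z * ι (conj c t) := R.comm oct
    have hty : ι (conj c t) * ι y = ι y * ι (conj c t) := by
      rw [← hcy, R.conj_eq oc ot, R.conj_eq oc orep]
      calc _ = ι c * (ι t * ι (invReps.getD ri 0)) * (ι c)⁻¹ := by group
        _ = ι c * (ι (invReps.getD ri 0) * ι t) * (ι c)⁻¹ := by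
          rw [(R.commute_iff ot orep).mp tc]
        _ = _ := by group
    obtain ⟨x, ox, hx⟩ := R.surj (g * ι (conj c t) * g⁻¹) (by
      rw [hy] at hty
      calc g * ι (conj c t) * g⁻¹ * z = g * (ι (conj c t) * (g⁻¹ * z * g)) * g⁻¹ := by group
        _ = g * ((g⁻¹ * z * g) * ι (conj c t)) * g⁻¹ := by rw [hty]
        _ = _ := by group)
    have hxAB : cmul x cAB = cmul cAB x := by
      rw [R.commute_iff ox oAB, hx, ← hg]
      calc g * ι (conj c t) * g⁻¹ * (g * z * g⁻¹) = g * (ι (conj c t) * z) * g⁻¹ := by group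
        _ = g * (z * ι (conj c t)) * g⁻¹ := by rw [htz]
        _ = _ := by group
    have hx3 : cmul x (cmul x x) = one := by
      apply R.inj _ _ (ok_cmul ox (ok_cmul ox ox)) ok_one
      have e := congrArg ι t3
      rw [R.hmul _ _ ot (ok_cmul ot ot), R.hmul _ _ ot ot, R.hone] at e
      rw [R.hmul _ _ ox (ok_cmul ox ox), R.hmul _ _ ox ox, R.hone, hx, R.conj_eq oc ot]
      calc _ = g * ι c * (ι t * (ι t * ι t)) * (ι c)⁻¹ * g⁻¹ := by group
        _ = 1 := by rw [e]; group
    have hB := range_all ab_three (fA_lt (ok_lt ox))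
    have h1' : fA one = 273 := by decide
    have h3' : mm (fA x) (mm (fA x) (fA x)) = 273 := by
      rw [← fA_cmul (ok_lt ox) (ok_lt ox), ← fA_cmul (ok_lt ox) (cmul_lt (ok_lt ox) (ok_lt ox)), hx3,
        h1']
    obtain ⟨hv1, hv2⟩ := comm_cAB ox hxAB
    simp only [okA_of ox, h3', hv1, hv2, beq_self_eq_true, Bool.and_self, cond_true,
      Bool.not_true, Bool.or_false, beq_iff_eq] at hB
    have hq := range_all q_three (show x % 128 < 128 from Nat.mod_lt _ (by norm_num))
    have hxx : 273 * 128 + x % 128 = x := by rw [← hB]; simp only [fA]; omega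
    simp only [hxx, hx3, beq_self_eq_true, Bool.not_true, Bool.false_or, beq_iff_eq] at hq
    rw [hq, R.hone, R.conj_eq oc ot] at hx
    refine t1 (R.inj _ _ ot ok_one ?_)
    rw [R.hone, show ι t = (ι c)⁻¹ * g⁻¹ * (g * (ι c * ι t * (ι c)⁻¹) * g⁻¹) * g * ι c by group,
      ← hx]
    group
  · obtain ⟨hzl, hznd, hzall⟩ := zRoots_facts
    have hs := range_all roots_small hri
    simp only [Bool.or_eq_true, decide_eq_true_eq, h2, false_or] at hs
    have hf : ∀ x ∈ zRoots, ∃ x', ok x' = true ∧ ι x' = (ι c)⁻¹ * (g⁻¹ * ι x * g) * ι c ∧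
        x' ∈ roots (invReps.getD ri 0) := by
      intro x hx
      have h := mem_all hzall hx
      simp only [Bool.and_eq_true, beq_iff_eq] at h
      obtain ⟨x', ox', hx'⟩ := back x h.1.1 h.1.2
      have oo := ok_conj (inv_facts oc).1 ox'
      have he : ι (conj (cinv c) x') = (ι c)⁻¹ * (g⁻¹ * ι x * g) * ι c := by
        rw [R.conj_eq (inv_facts oc).1 ox', R.inv oc, inv_inv, hx']
      refine ⟨_, oo, he, mem_roots oo (ok_lt orep) ?_⟩
      apply R.inj _ _ (ok_cmul oo oo) orep
      rw [R.hmul _ _ oo oo, he]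
      have hsq := congrArg ι h.2
      rw [R.hmul _ _ h.1.1 h.1.1, R.z_eq] at hsq
      have e := congrArg ι hcy
      rw [R.conj_eq oc orep, hy] at e
      calc _ = (ι c)⁻¹ * (g⁻¹ * (ι x * ι x) * g) * ι c := by group
        _ = (ι c)⁻¹ * (ι c * ι (invReps.getD ri 0) * (ι c)⁻¹) * ι c := by rw [hsq, e]
        _ = ι (invReps.getD ri 0) := by group
    choose f hf1 hf2 hf3 using hf
    have hmap : (zRoots.attach.map fun x => f x.1 x.2).Nodup := by
      refine (List.nodup_attach.mpr hznd).map ?_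
      intro a b hab
      apply Subtype.ext
      have ha := mem_all hzall a.2
      have hb := mem_all hzall b.2
      simp only [Bool.and_eq_true] at ha hb
      apply R.inj _ _ ha.1.1 hb.1.1
      simp only at hab
      have e := hf2 a.1 a.2
      rw [hab, hf2 b.1 b.2] at e
      exact (mul_left_cancel (mul_right_cancel (mul_left_cancel (mul_right_cancel e)))).symm
    have hle := (hmap.subperm fun x hx => by
      obtain ⟨a, -, rfl⟩ := List.mem_map.mp hx
      exact hf3 a.1 a.2 : List.Subperm _ (roots (invReps.getD ri 0))).length_le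
    rw [List.length_map, List.length_attach, hzl] at hle
    omega

end CfsgLib.HeUnique
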