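import Cfsg.Agent.Lib.HeUnique.Invol

/-!
The centralizer of two commuting involutions and the candidate automorphisms.
-/

set_option autoImplicit false

namespace CfsgLib.HeUnique

/-- Position of an element in the table. -/
def kIdx (x : ℕ) : ℕ := revA.get ((fA x / 8) * 128 + x % 128)

theorem row_facts : ∀ A : Fin 512, (vm 1 A = 1 → A.val % 8 = 1) ∧ ∀ r : Fin 8,
    (1 : ℕ).xor (vm r.val 273) = r.val.xor (vm 1 A) → vm 1 A = 1 := by
  decide +kernel

theorem kIdx_spec {x : ℕ} (hx : ok x = true) (h : cmul x cA = cmul cA x) :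
    kIdx x < 1536 ∧ kEl (kIdx x) = x := by
  have hA := fA_lt (ok_lt hx)
  have oA := gensK_facts.1
  have hf : fA cA = 273 ∧ fR cA = 1 := by decide
  have h1 := congrArg fR h
  rw [fR_cmul (ok_lt hx) (ok_lt oA), fR_cmul (ok_lt oA) (ok_lt hx), hf.1, hf.2] at h1
  have h8 := (row_facts ⟨_, hA⟩).1 ((row_facts ⟨_, hA⟩).2 ⟨_, fR_lt x⟩ h1)
  simp only at h8
  have hs := CosetEnum.allUp_spec revA_ok ((fA x / 8) * 128 + x % 128) (Nat.zero_le _)
    (by norm_num; omega)
  rw [show ((fA x / 8 * 128 + x % 128) / 128 * 8 + 1) * 128 + (fA x / 8 * 128 + x % 128) % 128 = x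
    by simp only [fA] at h8 ⊢; omega] at hs
  simp only [hx, h, beq_self_eq_true, Bool.and_self, cond_true, Bool.and_eq_true,
    decide_eq_true_eq, beq_iff_eq] at hs
  exact hs

theorem phiPairs_length {i : ℕ} (hi : i < 4) : (phiPairs i).length = 3 := by
  have h := range_all phi_tabs hi
  simp only [Bool.and_eq_true, beq_iff_eq] at h
  exact h.1

theorem tab_step {i : ℕ} (hi : i < 4) {m : ℕ} (hm : m < 1536) :
    ((phiTab i).get m).1 = kEl m ∧ tabStep (phiPairs i) (phiTab i) parA m = true := by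
  have h := range_all phi_tabs hi
  simp only [Bool.and_eq_true, beq_iff_eq] at h
  have h' := up_spec h.2 (by norm_num) hm
  simp only [Bool.and_eq_true, beq_iff_eq] at h'
  exact ⟨h'.2, h'.1⟩

theorem phiPairs_getD {i j : ℕ} (hi : i < 4) (hj : j < 3) :
    ((phiPairs i).getD j (0, 0)).1 = gensK.getD j one ∧
      ((phiPairs i).getD j (0, 0)).2 = (phiGens.getD i []).getD j one := by
  interval_cases i <;> interval_cases j <;> decide +kernel

theorem gensK_ok {j : ℕ} (hj : j < 3) : ok (gensK.getD j one) = true ∧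
    cmul (gensK.getD j one) cA = cmul cA (gensK.getD j one) := by
  obtain ⟨-, -, -, -, -, -, -, h, -, -, -, -, hl⟩ := gensK_facts
  rw [List.getD_eq_getElem _ _ (by omega)]
  have h' := mem_all h (List.getElem_mem (h := (by omega : j < gensK.length)))
  simpa only [Bool.and_eq_true, beq_iff_eq] using h'

theorem gensK_mem_ok : ∀ g ∈ gensK, ok g = true := fun g hg => by
  have h := mem_all gensK_facts.2.2.2.2.2.2.2.1 hg
  simp only [Bool.and_eq_true] at h
  exact h.1

theorem kEl_facts {m : ℕ} (hm : m < 1536) : ok (kEl m) = true ∧ cmul (kEl m) cA = cmul cA (kEl m) := by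
  induction m using Nat.strong_induction_on with
  | _ m ih =>
    obtain ⟨-, hs⟩ := tab_step (show 0 < 4 by norm_num) hm
    unfold tabStep at hs
    rcases Nat.eq_zero_or_pos m with rfl | hpos
    · simp only [beq_self_eq_true, cond_true, Bool.and_eq_true, beq_iff_eq] at hs
      rw [show kEl 0 = one from hs.1]
      exact ⟨ok_one, by rw [(cmul_one gensK_facts.1).1, (cmul_one gensK_facts.1).2]⟩
    · rw [beq_eq_false_iff_ne.mpr (by omega : m ≠ 0)] at hs
      simp only [cond_false, Bool.and_eq_true, decide_eq_true_eq, beq_iff_eq,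
        phiPairs_length (show 0 < 4 by norm_num)] at hs
      obtain ⟨⟨⟨⟨⟨hp, hj⟩, ho⟩, -⟩, h1⟩, -⟩ := hs
      obtain ⟨op, cp⟩ := ih _ hp (hp.trans hm)
      obtain ⟨og, cg⟩ := gensK_ok hj
      rw [(phiPairs_getD (show 0 < 4 by norm_num) hj).1] at h1
      refine ⟨ho, ?_⟩
      show cmul ((phiTab 0).get m).1 cA = cmul cA ((phiTab 0).get m).1
      rw [h1]
      show cmul (cmul (kEl _) _) cA = cmul cA (cmul (kEl _) _)
      rw [cmul_assoc op og gensK_facts.1, cg, ← cmul_assoc op gensK_facts.1 og, cp,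
        cmul_assoc gensK_facts.1 op og]

variable {G : Type*} [Group G] {z : G} {ι : ℕ → G}

/-- An element acting on the centralizer as candidate `i`. -/
def Act (ι : ℕ → G) (i : ℕ) (s : G) : Prop :=
  ∀ m < 1536, s * ι (kEl m) * s⁻¹ = ι ((phiTab i).get m).2

theorem act_of_gens (R : Rep z ι) {i : ℕ} (hi : i < 4) {s : G}
    (h : ∀ j < 3, s * ι (gensK.getD j one) * s⁻¹ = ι ((phiGens.getD i []).getD j one)) :
    Act ι i s := by
  intro m hm
  induction m using Nat.strong_induction_on with
  | _ m ih =>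
    obtain ⟨h1, hs⟩ := tab_step hi hm
    unfold tabStep at hs
    rcases Nat.eq_zero_or_pos m with rfl | hpos
    · simp only [beq_self_eq_true, cond_true, Bool.and_eq_true, beq_iff_eq] at hs
      rw [← h1, hs.1, hs.2, R.hone]
      group
    · rw [beq_eq_false_iff_ne.mpr (by omega : m ≠ 0)] at hs
      simp only [cond_false, Bool.and_eq_true, decide_eq_true_eq, beq_iff_eq,
        phiPairs_length hi] at hs
      obtain ⟨⟨⟨⟨⟨hp, hj⟩, -⟩, -⟩, e1⟩, e2⟩ := hs
      obtain ⟨p1, p2⟩ := phiPairs_getD hi hj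
      obtain ⟨q1, -⟩ := tab_step hi (hp.trans hm)
      have oimg : ∀ n < 1536, ok ((phiTab i).get n).2 = true := by
        intro n hn
        obtain ⟨-, hn'⟩ := tab_step hi hn
        unfold tabStep at hn'
        rcases Nat.eq_zero_or_pos n with rfl | hn0
        · simp only [beq_self_eq_true, cond_true, Bool.and_eq_true, beq_iff_eq] at hn'
          rw [hn'.2]; exact ok_one
        · rw [beq_eq_false_iff_ne.mpr (by omega : n ≠ 0)] at hn'
          simp only [cond_false, Bool.and_eq_true] at hn'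
          exact hn'.1.1.2
      have og : ok ((phiGens.getD i []).getD ((parA.get m).2) one) = true := by
        have : ((List.range 4).all fun i => (List.range 3).all fun j =>
            ok ((phiGens.getD i []).getD j one)) = true := by decide +kernel
        exact range_all (range_all this hi) hj
      rw [← h1, e1, e2, p1, p2, q1,
        R.hmul _ _ (kEl_facts (hp.trans hm)).1 (gensK_ok hj).1, R.hmul _ _ (oimg _ (hp.trans hm)) og,
        ← ih _ hp (hp.trans hm), ← h _ hj]
      group

theorem Act.apply {i : ℕ} {s : G} (h : Act ι i s) {x : ℕ} (hx : ok x = true)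
    (hc : cmul x cA = cmul cA x) : s * ι x * s⁻¹ = ι ((phiTab i).get (kIdx x)).2 := by
  obtain ⟨h1, h2⟩ := kIdx_spec hx hc
  have := h _ h1
  rwa [h2] at this

theorem Act.center (R : Rep z ι) {i : ℕ} (hi : i < 4) {s : G} (h : Act ι i s) :
    s * z * s⁻¹ = ι cA ∧ s * ι cA * s⁻¹ = z := by
  have hf := range_all phi_za hi
  simp only [Bool.and_eq_true, beq_iff_eq] at hf
  obtain ⟨oA, -, -, -, -⟩ := gensK_facts
  have hz := h.apply ok_zc (by rw [zc_comm oA])
  rw [show ((phiTab i).get (kIdx zc)).2 = cA from hf.1, R.z_eq] at hz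
  have ha := h.apply oA rfl
  rw [show ((phiTab i).get (kIdx cA)).2 = zc from hf.2, R.z_eq] at ha
  exact ⟨hz, ha⟩

end CfsgLib.HeUnique
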