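import Cfsg.Agent.Lib.HeUnique.Good
import Cfsg.Agent.Lib.HeUnique.Checks

/-!
Relators from cubes and loops, and the possible values of a loop.
-/

set_option autoImplicit false

namespace CfsgLib.HeUnique

/-- The map of a tree. -/
def Tree.mapT {α β : Type} (f : α → β) : Tree α → Tree β
  | .leaf a => .leaf (f a)
  | .node l r => .node (Tree.mapT f l) (Tree.mapT f r)

theorem Tree.get_mapT {α β : Type} (f : α → β) : ∀ (t : Tree α) (i : ℕ),
    (t.mapT f).get i = f (t.get i)
  | .leaf a, _ => rfl
  | .node l r, i => by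
    cases h : i % 2 == 0 <;> simp [Tree.get, Tree.mapT, h, Tree.get_mapT f l, Tree.get_mapT f r]

/-- The image of a table under the outer automorphism. -/
def thTab (t : Tree (ℕ × ℕ)) : Tree (ℕ × ℕ) := t.mapT fun p => (theta p.1, theta p.2)

/-- The base words: cubes, then loops with values. -/
def baseW (cubes : List (ℕ × ℕ × ℕ)) (loops : List (List ℕ × ℕ)) : List (List ℕ) :=
  (cubes.map fun e => cubeW e.1 e.2.1 e.2.2) ++ loops.map fun e => e.1 ++ [cinv e.2]

/-- Each word and its inverse. -/
def withInv : List (List ℕ) → List (List ℕ)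
  | [] => []
  | r :: rs => r :: invW r :: withInv rs

theorem mem_withInv {rs : List (List ℕ)} {w : List ℕ} (h : w ∈ withInv rs) :
    ∃ r ∈ rs, w = r ∨ w = invW r := by
  induction rs with
  | nil => simp [withInv] at h
  | cons r rs ih =>
    simp only [withInv, List.mem_cons] at h
    rcases h with rfl | rfl | h
    · exact ⟨_, List.mem_cons_self, Or.inl rfl⟩
    · exact ⟨_, List.mem_cons_self, Or.inr rfl⟩
    · obtain ⟨r', hr, e⟩ := ih h
      exact ⟨r', List.mem_cons_of_mem _ hr, e⟩

/-- The letters are codes or involutions. -/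
def lettersOK (w : List ℕ) : Bool :=
  w.all fun t => bif decide (t < 65536) then ok t else decide (t - 65536 < 2)

variable {G : Type*} [Group G] {ι σ : ℕ → G}

theorem val_inv_letter (hmul : ∀ x y, ok x = true → ok y = true → ι (cmul x y) = ι x * ι y)
    (hone : ι one = 1) (hsq : ∀ k < 2, σ k * σ k = 1) {t : ℕ}
    (h : (bif decide (t < 65536) then ok t else decide (t - 65536 < 2)) = true) :
    val ι σ (bif decide (t < 65536) then cinv t else t) = (val ι σ t)⁻¹ := by
  by_cases ht : t < 65536
  · rw [decide_eq_true ht, cond_true] at h ⊢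
    have e : ι t * ι (cinv t) = 1 := by rw [← hmul _ _ h (inv_facts h).1, (inv_facts h).2, hone]
    simp [val, ht, ok_lt (inv_facts h).1, eq_inv_of_mul_eq_one_right e]
  · rw [decide_eq_false ht, cond_false] at h ⊢
    simp only [decide_eq_true_eq] at h
    simp [val, ht, inv_eq_of_mul_eq_one_right (hsq _ h)]

theorem wval_invW (hmul : ∀ x y, ok x = true → ok y = true → ι (cmul x y) = ι x * ι y)
    (hone : ι one = 1) (hsq : ∀ k < 2, σ k * σ k = 1) :
    ∀ {w : List ℕ}, lettersOK w = true → wval ι σ (invW w) = (wval ι σ w)⁻¹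
  | [], _ => by simp [invW, wval]
  | t :: ts, h => by
    simp only [lettersOK, List.all_cons, Bool.and_eq_true] at h
    have ih := wval_invW hmul hone hsq (w := ts) h.2
    simp only [invW, wval, List.reverse_cons, List.map_append, List.map_cons, List.map_nil,
      List.prod_append, List.prod_cons, List.prod_nil, mul_one, mul_inv_rev] at ih ⊢
    rw [ih, val_inv_letter hmul hone hsq h.1]

/-- Soundness from the cubes and the loops. -/
theorem sound_mk {C : Cert} (hmul : ∀ x y, ok x = true → ok y = true → ι (cmul x y) = ι x * ι y)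
    (hone : ι one = 1) (hsq : ∀ k < 2, σ k * σ k = 1)
    (htab : ∀ k < 2, ∀ m < C.tn, ι (C.ent k m).1 * σ k = σ k * ι (C.ent k m).2)
    {cubes : List (ℕ × ℕ × ℕ)} {loops : List (List ℕ × ℕ)} (hC : C.rels = withInv (baseW cubes loops))
    (hok : ∀ w ∈ baseW cubes loops, lettersOK w = true)
    (hcube : ∀ e ∈ cubes, wval ι σ (cubeW e.1 e.2.1 e.2.2) = 1)
    (hloop : ∀ e ∈ loops, ok e.2 = true ∧ wval ι σ e.1 = ι e.2) : Sound ι σ C := by
  refine ⟨hmul, hone, hsq, htab, fun r hr => ?_⟩
  rw [List.getD_eq_getElem _ _ hr]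
  have hm := List.getElem_mem hr
  simp only [hC] at hm ⊢
  obtain ⟨w, hw, hval⟩ := mem_withInv hm
  have h1 : wval ι σ w = 1 := by
    rw [baseW, List.mem_append, List.mem_map, List.mem_map] at hw
    rcases hw with ⟨e, he, rfl⟩ | ⟨e, he, rfl⟩
    · exact hcube e he
    · obtain ⟨oe, hv⟩ := hloop e he
      have hi := (inv_facts oe)
      have : wval ι σ (e.1 ++ [cinv e.2]) = wval ι σ e.1 * ι (cinv e.2) := by
        simp [wval, val, ok_lt hi.1]
      rw [this, hv, ← hmul _ _ oe hi.1, hi.2, hone]
  rcases hval with e | e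
  · rw [e, h1]
  · rw [e, wval_invW hmul hone hsq (hok w hw), h1, inv_one]

/-- The values of a loop compatible with the tracked elements are in a list. -/
def loopVals (acts : List (ℕ × ℕ × List ℕ)) (allowed : List ℕ) : Bool :=
  (List.range 512).all fun A =>
    bif okA A && acts.all (fun e => mm A (fA e.1) == mm (fA e.2.1) A) then
      (List.range 128).all fun l => let c := A * 128 + l
        bif acts.all (fun e => cmul c e.1 == cmul e.2.1 c) then allowed.contains c else true
    else true

theorem loop_cases {z : G} (R : Rep z ι) {t0 t1 : Tree (ℕ × ℕ)} (h0 : TabAct ι t0 (σ 0))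
    (h1 : TabAct ι t1 (σ 1)) {w wit : List ℕ} {acts : List (ℕ × ℕ × List ℕ)}
    (hz : track t0 t1 w wit zc = some zc)
    (hacts : (acts.all fun e => ok e.1 && track t0 t1 w e.2.2 e.1 == some e.2.1) = true)
    {allowed : List ℕ} (hv : loopVals acts allowed = true) :
    ∃ c ∈ allowed, ok c = true ∧ wval ι σ w = ι c := by
  obtain ⟨c, oc, hc, hcomm⟩ := loop_element (σ := σ) R h0 h1 hz hacts
  have hv := range_all hv (fA_lt (ok_lt oc))
  have hall : acts.all (fun e => mm (fA c) (fA e.1) == mm (fA e.2.1) (fA c)) = true := by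
    simp only [List.all_eq_true, beq_iff_eq]
    intro e he
    have h2 := mem_all hacts he
    simp only [Bool.and_eq_true, beq_iff_eq] at h2
    have o2 := (trackRev_spec (σ := σ) R h0 h1 _ _ h2.1 h2.2).1
    rw [← fA_cmul (ok_lt oc) (ok_lt h2.1), ← fA_cmul (ok_lt o2) (ok_lt oc), hcomm e he]
  simp only [okA_of oc, hall, Bool.and_self, cond_true] at hv
  have hv' := range_all hv (show c % 128 < 128 from Nat.mod_lt _ (by norm_num))
  rw [show fA c * 128 + c % 128 = c by simp only [fA]; omega] at hv'
  have hall2 : acts.all (fun e => cmul c e.1 == cmul e.2.1 c) = true := by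
    simp only [List.all_eq_true, beq_iff_eq]
    exact hcomm
  simp only [hall2, cond_true, List.contains_iff_mem] at hv'
  exact ⟨c, hv', oc, hc.symm⟩

/-- A table with its generators: the action of an element follows from the generators. -/
theorem tab_of_gens (hmul : ∀ x y, ok x = true → ok y = true → ι (cmul x y) = ι x * ι y)
    (hone : ι one = 1) {i : ℕ} (hi : i < 4) {s : G}
    (h : ∀ j < 3, ι (gensK.getD j one) * s = s * ι ((phiGens.getD i []).getD j one)) :
    ∀ m < 1536, ι ((phiTab i).get m).1 * s = s * ι ((phiTab i).get m).2 := by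
  intro m hm
  induction m using Nat.strong_induction_on with
  | _ m ih =>
    obtain ⟨h1, hs⟩ := tab_step hi hm
    unfold tabStep at hs
    rcases Nat.eq_zero_or_pos m with rfl | hpos
    · simp only [beq_self_eq_true, cond_true, Bool.and_eq_true, beq_iff_eq] at hs
      rw [hs.1, hs.2, hone, one_mul, mul_one]
    · rw [beq_eq_false_iff_ne.mpr (by omega : m ≠ 0)] at hs
      simp only [cond_false, Bool.and_eq_true, decide_eq_true_eq, beq_iff_eq,
        phiPairs_length hi] at hs
      obtain ⟨⟨⟨⟨⟨hp, hj⟩, -⟩, -⟩, e1⟩, e2⟩ := hs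
      obtain ⟨p1, p2⟩ := phiPairs_getD hi hj
      obtain ⟨q1, -⟩ := tab_step hi (hp.trans hm)
      have og : ok ((phiGens.getD i []).getD ((parA.get m).2) one) = true := by
        have : ((List.range 4).all fun i => (List.range 3).all fun j =>
            ok ((phiGens.getD i []).getD j one)) = true := by decide +kernel
        exact range_all (range_all this hi) hj
      have o1 : ok ((phiTab i).get (parA.get m).1).1 = true := by
        rw [q1]; exact (kEl_facts (hp.trans hm)).1
      rw [e1, e2, p1, p2, hmul _ _ o1 (gensK_ok hj).1, hmul _ _ (phiTab_ok hi (hp.trans hm)) og,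
        mul_assoc, h _ hj, ← mul_assoc, ih _ hp (hp.trans hm), mul_assoc]

theorem tabTh_of_gens (hmul : ∀ x y, ok x = true → ok y = true → ι (cmul x y) = ι x * ι y)
    (hone : ι one = 1) {i : ℕ} (hi : i < 4) {s : G}
    (h : ∀ j < 3, ι (theta (gensK.getD j one)) * s =
      s * ι (theta ((phiGens.getD i []).getD j one))) :
    ∀ m < 1536, ι ((thTab (phiTab i)).get m).1 * s = s * ι ((thTab (phiTab i)).get m).2 := by
  intro m hm
  rw [thTab, Tree.get_mapT]
  refine tab_of_gens (ι := fun x => ι (theta x)) (fun x y hx hy => ?_) ?_ hi h m hm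
  · show ι (theta (cmul x y)) = _
    rw [(theta_cmul hx hy).2, hmul _ _ (theta_cmul hx hy).1 (theta_cmul hy hy).1]
  · show ι (theta one) = 1
    rw [show theta one = one from by decide +kernel, hone]

theorem Good.tabAct {i : ℕ} {s : G} (h : Good ι i s) (hi : i < 4) : TabAct ι (phiTab i) s :=
  h.act.tabAct hi

theorem Good.tabActTheta {i : ℕ} {s : G} (h : Good (fun x => ι (theta x)) i s) (hi : i < 4) :
    TabAct ι (thTab (phiTab i)) s := by
  intro m hm
  obtain ⟨o, ha⟩ := h.act.tabAct hi m hm
  rw [thTab, Tree.get_mapT]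
  exact ⟨(theta_cmul o o).1, ha⟩

theorem htab_of_tabAct {t : Tree (ℕ × ℕ)} {s : G} (hs : s * s = 1) (h : TabAct ι t s) :
    ∀ m < 1536, ι (t.get m).1 * s = s * ι (t.get m).2 := by
  intro m hm
  obtain ⟨-, e⟩ := h m hm
  rw [← e, inv_eq_of_mul_eq_one_right hs, ← mul_assoc, ← mul_assoc, hs, one_mul]

theorem Good.cubeW_eq {z : G} (R : Rep z ι) {i k : ℕ} {σ : ℕ → G} (h : Good ι i (σ k))
    (oc : ok (cubeList.getD i 0) = true) :
    wval ι σ (cubeW k qA (cubeList.getD i 0)) = 1 := by
  obtain ⟨-, -, -, -, -, -, -, -, oq, -, -, -, -⟩ := gensK_facts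
  simp [cubeW, wval, val, ok_lt oq, ok_lt (inv_facts oc).1, R.inv oc, ← h.cube, mul_assoc,
    -List.getD_eq_getElem?_getD]

theorem Good.cubeW_theta_eq {z : G} (R : Rep z ι) {i k : ℕ} {σ : ℕ → G}
    (h : Good (fun x => ι (theta x)) i (σ k)) (oc : ok (cubeList.getD i 0) = true) :
    wval ι σ (cubeW k (theta qA) (theta (cubeList.getD i 0))) = 1 := by
  obtain ⟨-, -, -, -, -, -, -, -, oq, -, -, -, -⟩ := gensK_facts
  have h1 := (theta_cmul oq oq).1
  have h2 := (theta_cmul oc oc).1
  simp [cubeW, wval, val, ok_lt h1, ok_lt (inv_facts h2).1, R.inv h2, ← h.cube, mul_assoc,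
    -List.getD_eq_getElem?_getD]

end CfsgLib.HeUnique
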