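import Mathlib

/-!
A coded model of the centralizer of a transvection of the group of invertible five-by-five
matrices over the field of two elements.

A code is `A·128 + r·16 + s·2 + c` with `A` a three-by-three matrix in nine bits (row by row),
`r` a row vector, `s` a column vector and `c` the corner.
-/

set_option autoImplicit false

namespace CfsgLib.HeUnique

/-- The matrix field of a code. -/
def fA (x : ℕ) : ℕ := x / 128
/-- The row field of a code. -/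
def fR (x : ℕ) : ℕ := x / 16 % 8
/-- The column field of a code. -/
def fS (x : ℕ) : ℕ := x / 2 % 8
/-- The corner field of a code. -/
def fC (x : ℕ) : ℕ := x % 2

/-- A code from its fields. -/
def mk (A r s c : ℕ) : ℕ := A * 128 + r * 16 + s * 2 + c

/-- Row `i` of a matrix. -/
def rowA (A i : ℕ) : ℕ := A / 8 ^ i % 8

/-- Bit `i`. -/
def bit (v i : ℕ) : ℕ := v / 2 ^ i % 2

/-- Parity of a number below eight. -/
def par (v : ℕ) : ℕ := (bit v 0 + bit v 1 + bit v 2) % 2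

/-- A row vector times a matrix. -/
def vm (v A : ℕ) : ℕ :=
  (bit v 0 * rowA A 0).xor ((bit v 1 * rowA A 1).xor (bit v 2 * rowA A 2))

/-- A matrix times a column vector. -/
def mv (A s : ℕ) : ℕ :=
  par ((rowA A 0).land s) + 2 * par ((rowA A 1).land s) + 4 * par ((rowA A 2).land s)

/-- The product of two matrices. -/
def mm (A B : ℕ) : ℕ := vm (rowA A 0) B + 8 * vm (rowA A 1) B + 64 * vm (rowA A 2) B

/-- The product of two codes. -/
def cmul (x y : ℕ) : ℕ :=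
  mk (mm (fA x) (fA y)) ((fR y).xor (vm (fR x) (fA y))) ((fS x).xor (mv (fA x) (fS y)))
    ((fC x + fC y + par ((fR x).land (fS y))) % 2)

/-- The code of the identity. -/
def one : ℕ := 34944
/-- The code of the central involution. -/
def zc : ℕ := 34945

/-- The transpose of a matrix. -/
def trA (A : ℕ) : ℕ :=
  bit A 0 + 2 * bit A 3 + 4 * bit A 6 + 8 * bit A 1 + 16 * bit A 4 + 32 * bit A 7 + 64 * bit A 2 +
    128 * bit A 5 + 256 * bit A 8

/-- The cross product of two rows. -/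
def cross (u v : ℕ) : ℕ :=
  (bit u 1 * bit v 2 + bit u 2 * bit v 1) % 2 + 2 * ((bit u 2 * bit v 0 + bit u 0 * bit v 2) % 2) +
    4 * ((bit u 0 * bit v 1 + bit u 1 * bit v 0) % 2)

/-- The inverse of an invertible matrix. -/
def invA (A : ℕ) : ℕ :=
  trA (cross (rowA A 1) (rowA A 2) + 8 * cross (rowA A 2) (rowA A 0) +
    64 * cross (rowA A 0) (rowA A 1))

/-- The inverse of a code. -/
def cinv (x : ℕ) : ℕ :=
  mk (invA (fA x)) (vm (fR x) (invA (fA x))) (mv (invA (fA x)) (fS x))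
    ((fC x + par ((vm (fR x) (invA (fA x))).land (fS x))) % 2)

/-- The anti-automorphism exchanging rows and columns. -/
def tau (x : ℕ) : ℕ := mk (trA (fA x)) (fS x) (fR x) (fC x)

/-- The outer automorphism. -/
def theta (x : ℕ) : ℕ := cinv (tau x)

/-- Codes of elements. -/
def ok (x : ℕ) : Bool :=
  decide (x < 65536) && (par ((rowA (fA x) 0).land (cross (rowA (fA x) 1) (rowA (fA x) 2))) == 1)

/-! ### Matrices -/

/-- A vector from bits. -/
def bv (v : ℕ) : Fin 3 → ZMod 2 := fun j => (bit v j.val : ℕ)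

/-- A matrix from bits. -/
def bM (A : ℕ) : Matrix (Fin 3) (Fin 3) (ZMod 2) := fun i j => (bit (rowA A i.val) j.val : ℕ)

/-- The matrix of a code. -/
def mat (x : ℕ) : Matrix (Fin 5) (Fin 5) (ZMod 2) :=
  ![![1, (fC x : ℕ), bv (fR x) 0, bv (fR x) 1, bv (fR x) 2],
    ![0, 1, 0, 0, 0],
    ![0, bv (fS x) 0, bM (fA x) 0 0, bM (fA x) 0 1, bM (fA x) 0 2],
    ![0, bv (fS x) 1, bM (fA x) 1 0, bM (fA x) 1 1, bM (fA x) 1 2],
    ![0, bv (fS x) 2, bM (fA x) 2 0, bM (fA x) 2 1, bM (fA x) 2 2]]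

theorem fields {A r s c : ℕ} (hr : r < 8) (hs : s < 8) (hc : c < 2) :
    fA (mk A r s c) = A ∧ fR (mk A r s c) = r ∧ fS (mk A r s c) = s ∧ fC (mk A r s c) = c := by
  simp only [fA, fR, fS, fC, mk]
  omega

theorem mk_fields (x : ℕ) : mk (fA x) (fR x) (fS x) (fC x) = x := by
  simp only [fA, fR, fS, fC, mk]
  omega

theorem mk_lt {A r s c : ℕ} (hA : A < 512) (hr : r < 8) (hs : s < 8) (hc : c < 2) :
    mk A r s c < 65536 := by
  simp only [mk]
  omega

theorem fA_lt {x : ℕ} (hx : x < 65536) : fA x < 512 := by simp only [fA]; omega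
theorem fR_lt (x : ℕ) : fR x < 8 := Nat.mod_lt _ (by norm_num)
theorem fS_lt (x : ℕ) : fS x < 8 := Nat.mod_lt _ (by norm_num)
theorem fC_lt (x : ℕ) : fC x < 2 := Nat.mod_lt _ (by norm_num)
theorem rowA_lt (A i : ℕ) : rowA A i < 8 := Nat.mod_lt _ (by norm_num)

theorem vm_facts : ∀ v : Fin 8, ∀ A : Fin 512, vm v A < 8 ∧ mv A v < 8 ∧
    ∀ j : Fin 3, bv (vm v A) j = bv v 0 * bM A 0 j + bv v 1 * bM A 1 j + bv v 2 * bM A 2 j ∧
      bv (mv A v) j = bM A j 0 * bv v 0 + bM A j 1 * bv v 1 + bM A j 2 * bv v 2 := by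
  decide +kernel

theorem xor_facts : ∀ u v : Fin 8, u.val.xor v < 8 ∧ par (u.val.land v) < 2 ∧
    (∀ j : Fin 3, bv (u.val.xor v) j = bv u j + bv v j) ∧
    ((par (u.val.land v) : ℕ) : ZMod 2) = bv u 0 * bv v 0 + bv u 1 * bv v 1 + bv u 2 * bv v 2 := by
  decide +kernel

theorem row_fields : ∀ a b c : Fin 8, rowA (a.val + 8 * b + 64 * c) 0 = a ∧
    rowA (a.val + 8 * b + 64 * c) 1 = b ∧ rowA (a.val + 8 * b + 64 * c) 2 = c ∧
    a.val + 8 * b.val + 64 * c.val < 512 := by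
  decide +kernel

theorem vm_lt {v A : ℕ} (hv : v < 8) (hA : A < 512) : vm v A < 8 :=
  (vm_facts ⟨v, hv⟩ ⟨A, hA⟩).1

theorem mv_lt {v A : ℕ} (hv : v < 8) (hA : A < 512) : mv A v < 8 :=
  (vm_facts ⟨v, hv⟩ ⟨A, hA⟩).2.1

theorem xor_lt {u v : ℕ} (hu : u < 8) (hv : v < 8) : u.xor v < 8 :=
  (xor_facts ⟨u, hu⟩ ⟨v, hv⟩).1

theorem mm_facts {A B : ℕ} (hA : A < 512) (hB : B < 512) :
    mm A B < 512 ∧ bM (mm A B) = bM A * bM B := by
  have _hA := hA
  have h0 : vm (rowA A 0) B < 8 := vm_lt (rowA_lt _ _) hB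
  have h1 : vm (rowA A 1) B < 8 := vm_lt (rowA_lt _ _) hB
  have h2 : vm (rowA A 2) B < 8 := vm_lt (rowA_lt _ _) hB
  obtain ⟨e0, e1, e2, e3⟩ := row_fields ⟨_, h0⟩ ⟨_, h1⟩ ⟨_, h2⟩
  refine ⟨e3, ?_⟩
  ext i j
  have hr : ∀ i : Fin 3, rowA (mm A B) i = vm (rowA A i) B := by
    intro i
    fin_cases i
    exacts [e0, e1, e2]
  have hk := ((vm_facts ⟨_, rowA_lt A i⟩ ⟨B, hB⟩).2.2 j).1
  rw [Matrix.mul_apply, Fin.sum_univ_three]
  show ((bit (rowA (mm A B) i) j : ℕ) : ZMod 2) = _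
  rw [hr]
  exact hk

theorem cmul_lt {x y : ℕ} (hx : x < 65536) (hy : y < 65536) : cmul x y < 65536 :=
  mk_lt (mm_facts (fA_lt hx) (fA_lt hy)).1 (xor_lt (fR_lt _) (vm_lt (fR_lt _) (fA_lt hy)))
    (xor_lt (fS_lt _) (mv_lt (fS_lt _) (fA_lt hx))) (Nat.mod_lt _ (by norm_num))

theorem mat_mul {x y : ℕ} (hx : x < 65536) (hy : y < 65536) :
    mat (cmul x y) = mat x * mat y := by
  obtain ⟨eA, eR, eS, eC⟩ := fields (A := mm (fA x) (fA y))
    (xor_lt (fR_lt y) (vm_lt (fR_lt x) (fA_lt hy)))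
    (xor_lt (fS_lt x) (mv_lt (fS_lt y) (fA_lt hx)))
    (Nat.mod_lt (fC x + fC y + par ((fR x).land (fS y))) (by norm_num : 2 > 0))
  have hR : ∀ j, bv (fR (cmul x y)) j = bv (fR y) j +
      (bv (fR x) 0 * bM (fA y) 0 j + bv (fR x) 1 * bM (fA y) 1 j + bv (fR x) 2 * bM (fA y) 2 j) :=
    fun j => by
      unfold cmul
      rw [eR]
      exact ((xor_facts ⟨_, fR_lt y⟩ ⟨_, vm_lt (fR_lt x) (fA_lt hy)⟩).2.2.1 j).trans
        (by rw [← ((vm_facts ⟨_, fR_lt x⟩ ⟨_, fA_lt hy⟩).2.2 j).1])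
  have hS : ∀ j, bv (fS (cmul x y)) j = bv (fS x) j +
      (bM (fA x) j 0 * bv (fS y) 0 + bM (fA x) j 1 * bv (fS y) 1 + bM (fA x) j 2 * bv (fS y) 2) :=
    fun j => by
      unfold cmul
      rw [eS]
      exact ((xor_facts ⟨_, fS_lt x⟩ ⟨_, mv_lt (fS_lt y) (fA_lt hx)⟩).2.2.1 j).trans
        (by rw [← ((vm_facts ⟨_, fS_lt y⟩ ⟨_, fA_lt hx⟩).2.2 j).2])
  have hC : ((fC (cmul x y) : ℕ) : ZMod 2) = (fC x : ℕ) + (fC y : ℕ) +
      (bv (fR x) 0 * bv (fS y) 0 + bv (fR x) 1 * bv (fS y) 1 + bv (fR x) 2 * bv (fS y) 2) := by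
    unfold cmul
    rw [eC, ZMod.natCast_mod, Nat.cast_add, Nat.cast_add,
      (xor_facts ⟨_, fR_lt x⟩ ⟨_, fS_lt y⟩).2.2.2]
  have hA : bM (fA (cmul x y)) = bM (fA x) * bM (fA y) := by
    unfold cmul
    rw [eA]
    exact (mm_facts (fA_lt hx) (fA_lt hy)).2
  ext i j
  rw [Matrix.mul_apply, Fin.sum_univ_five]
  fin_cases i <;> fin_cases j <;>
    simp [mat, hA, hR, hS, hC, Matrix.mul_apply, Fin.sum_univ_three] <;> ring

theorem mat_inj {x y : ℕ} (hx : x < 65536) (hy : y < 65536) (h : mat x = mat y) : x = y := by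
  have hbit : ∀ u v : Fin 8, (∀ j : Fin 3, bv u j = bv v j) → u = v := by decide +kernel
  have hm : ∀ A : Fin 512, A.val = rowA A 0 + 8 * rowA A 1 + 64 * rowA A 2 := by decide +kernel
  have hrow : ∀ i : Fin 3, rowA (fA x) i = rowA (fA y) i := fun i => by
    have := hbit ⟨_, rowA_lt (fA x) i⟩ ⟨_, rowA_lt (fA y) i⟩ fun j => by
      have e : mat x (Fin.succ (Fin.succ i)) (Fin.succ (Fin.succ j)) =
          mat y (Fin.succ (Fin.succ i)) (Fin.succ (Fin.succ j)) := by rw [h]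
      fin_cases i <;> fin_cases j <;> exact e
    exact congrArg Fin.val this
  have hA : fA x = fA y := by
    have e1 := hm ⟨_, fA_lt hx⟩
    have e2 := hm ⟨_, fA_lt hy⟩
    have := hrow 0; have := hrow 1; have := hrow 2
    simp only [Fin.val_zero, Fin.val_one, Fin.val_two] at *
    omega
  have hr : fR x = fR y := congrArg Fin.val (hbit ⟨_, fR_lt x⟩ ⟨_, fR_lt y⟩ fun j => by
    have e : mat x 0 (Fin.succ (Fin.succ j)) = mat y 0 (Fin.succ (Fin.succ j)) := by rw [h]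
    fin_cases j <;> exact e)
  have hs : fS x = fS y := congrArg Fin.val (hbit ⟨_, fS_lt x⟩ ⟨_, fS_lt y⟩ fun j => by
    have e : mat x (Fin.succ (Fin.succ j)) 1 = mat y (Fin.succ (Fin.succ j)) 1 := by rw [h]
    fin_cases j <;> exact e)
  have hc : fC x = fC y := by
    have e : mat x 0 1 = mat y 0 1 := by rw [h]
    have hc2 : ∀ a b : Fin 2, ((a.val : ℕ) : ZMod 2) = ((b.val : ℕ) : ZMod 2) → a = b := by decide
    exact congrArg Fin.val (hc2 ⟨_, fC_lt x⟩ ⟨_, fC_lt y⟩ e)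
  rw [← mk_fields x, ← mk_fields y, hA, hr, hs, hc]

theorem det_mat (x : ℕ) : (mat x).det = (bM (fA x)).det := by
  rw [Matrix.det_succ_column_zero]
  simp [mat, Fin.sum_univ_succ, Matrix.det_succ_row_zero (n := 3), Matrix.det_fin_three, Fin.succAbove,
    Matrix.submatrix]

theorem det_facts : ∀ A : Fin 512, ((bM A).det = 1 ↔
    (par ((rowA A 0).land (cross (rowA A 1) (rowA A 2))) == 1) = true) ∧ invA A < 512 ∧ trA A < 512 ∧
    (bM A.val).transpose = bM (trA A) ∧ ((bM A).det = 1 → mm A (invA A) = 273) := by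
  decide +kernel

theorem ok_iff {x : ℕ} : ok x = true ↔ x < 65536 ∧ (mat x).det = 1 := by
  rw [ok, Bool.and_eq_true, decide_eq_true_eq, det_mat]
  exact and_congr_right fun h => ((det_facts ⟨_, fA_lt h⟩).1).symm

theorem ok_lt {x : ℕ} (h : ok x = true) : x < 65536 := (ok_iff.mp h).1

theorem ok_one : ok one = true := by decide +kernel

theorem ok_zc : ok zc = true := by decide +kernel

theorem mat_one : mat one = 1 := by decide +kernel

theorem ok_cmul {x y : ℕ} (hx : ok x = true) (hy : ok y = true) : ok (cmul x y) = true := by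
  rw [ok_iff] at *
  refine ⟨cmul_lt hx.1 hy.1, ?_⟩
  rw [mat_mul hx.1 hy.1, Matrix.det_mul, hx.2, hy.2, one_mul]

theorem inv_facts {x : ℕ} (hx : ok x = true) : ok (cinv x) = true ∧ cmul x (cinv x) = one := by
  obtain ⟨hlt, hd⟩ := ok_iff.mp hx
  rw [det_mat] at hd
  obtain ⟨-, hI, -, -, hI2⟩ := det_facts ⟨_, fA_lt hlt⟩
  have hprod := hI2 hd
  set B := invA (fA x) with hB
  have hrB : vm (fR x) B < 8 := vm_lt (fR_lt _) hI
  have hsB : mv B (fS x) < 8 := mv_lt (fS_lt _) hI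
  obtain ⟨eA, eR, eS, eC⟩ := fields (A := B) hrB hsB
    (Nat.mod_lt (fC x + par ((vm (fR x) B).land (fS x))) (by norm_num : 2 > 0))
  have hlt' : cinv x < 65536 := mk_lt hI hrB hsB (Nat.mod_lt _ (by norm_num))
  have hself : ∀ v : Fin 8, v.val.xor v = 0 := by decide
  have hmv : ∀ A B : Fin 512, mm A B = 273 → ∀ r s : Fin 8, mv A (mv B s) = s ∧
      par (r.val.land (mv B s)) = par ((vm r B).land s) := by
    intro A B hAB r s
    obtain ⟨-, hm⟩ := mm_facts A.2 B.2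
    rw [hAB] at hm
    have hbit : ∀ u v : Fin 8, (∀ j : Fin 3, bv u j = bv v j) → u = v := by decide +kernel
    have hid : bM 273 = 1 := by decide +kernel
    have hcast : ∀ a b : Fin 2, ((a.val : ℕ) : ZMod 2) = ((b.val : ℕ) : ZMod 2) → a = b := by decide
    have h1 := (vm_facts s B).2.2
    have hl1 : mv B s < 8 := (vm_facts s B).2.1
    have hl2 : vm r B < 8 := (vm_facts r B).1
    refine ⟨congrArg Fin.val (hbit ⟨_, (vm_facts ⟨_, hl1⟩ A).2.1⟩ s fun j => ?_),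
      congrArg Fin.val (hcast ⟨_, (xor_facts r ⟨_, hl1⟩).2.1⟩ ⟨_, (xor_facts ⟨_, hl2⟩ s).2.1⟩ ?_)⟩
    · have e := congrFun (congrFun hm j)
      rw [((vm_facts ⟨_, hl1⟩ A).2.2 j).2, (h1 0).2, (h1 1).2, (h1 2).2]
      have e0 := e 0; have e1 := e 1; have e2 := e 2
      rw [Matrix.mul_apply, Fin.sum_univ_three, hid] at e0 e1 e2
      have : bv s j = (1 : Matrix (Fin 3) (Fin 3) (ZMod 2)) j 0 * bv s 0 +
          (1 : Matrix (Fin 3) (Fin 3) (ZMod 2)) j 1 * bv s 1 +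
          (1 : Matrix (Fin 3) (Fin 3) (ZMod 2)) j 2 * bv s 2 := by
        fin_cases j <;> simp [Matrix.one_apply]
      rw [this, e0, e1, e2]
      ring
    · rw [(xor_facts r ⟨_, hl1⟩).2.2.2, (xor_facts ⟨_, hl2⟩ s).2.2.2, (h1 0).2, (h1 1).2, (h1 2).2,
        ((vm_facts r B).2.2 0).1, ((vm_facts r B).2.2 1).1, ((vm_facts r B).2.2 2).1]
      ring
  obtain ⟨-, h2⟩ := hmv ⟨_, fA_lt hlt⟩ ⟨_, hI⟩ hprod ⟨_, fR_lt x⟩ ⟨_, fS_lt x⟩
  obtain ⟨h1, -⟩ := hmv ⟨_, fA_lt hlt⟩ ⟨_, hI⟩ hprod ⟨_, fR_lt x⟩ ⟨_, fS_lt x⟩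
  have hone : cmul x (cinv x) = one := by
    unfold cmul cinv
    rw [eA, eR, eS, eC]
    simp only at h1 h2 hprod
    rw [hprod, h1, hself ⟨_, hrB⟩, hself ⟨_, fS_lt x⟩, h2]
    have := fC_lt x
    simp only [mk, one]
    omega
  refine ⟨ok_iff.mpr ⟨hlt', ?_⟩, hone⟩
  have e := congrArg (fun m => Matrix.det m) (mat_mul hlt hlt')
  simp only [hone, mat_one, Matrix.det_one, Matrix.det_mul, det_mat x, hd, one_mul] at e
  exact e.symm

theorem mat_inv {x : ℕ} (hx : ok x = true) : mat x * mat (cinv x) = 1 := by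
  rw [← mat_mul (ok_lt hx) (ok_lt (inv_facts hx).1), (inv_facts hx).2, mat_one]

theorem cinv_mul {x : ℕ} (hx : ok x = true) : cmul (cinv x) x = one := by
  refine mat_inj (cmul_lt (ok_lt (inv_facts hx).1) (ok_lt hx)) (by decide) ?_
  rw [mat_mul (ok_lt (inv_facts hx).1) (ok_lt hx), mat_one]
  exact mul_eq_one_comm.mp (mat_inv hx)

/-- The permutation of coordinates used by the anti-automorphism. -/
def flipI : Fin 5 → Fin 5 := ![1, 0, 2, 3, 4]

theorem tau_facts {x : ℕ} (hx : x < 65536) :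
    tau x < 65536 ∧ mat (tau x) = ((mat x).submatrix flipI flipI).transpose := by
  obtain ⟨-, -, ht, htr, -⟩ := det_facts ⟨_, fA_lt hx⟩
  obtain ⟨eA, eR, eS, eC⟩ := fields (A := trA (fA x)) (fS_lt x) (fR_lt x) (fC_lt x)
  refine ⟨mk_lt ht (fS_lt x) (fR_lt x) (fC_lt x), ?_⟩
  have hT : ∀ i j, bM (trA (fA x)) i j = bM (fA x) j i := fun i j =>
    (congrFun (congrFun htr i) j).symm
  ext i j
  unfold tau
  fin_cases i <;> fin_cases j <;> simp [mat, flipI, eA, eR, eS, eC, hT, Matrix.submatrix, Matrix.transpose]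

theorem ok_tau {x : ℕ} (hx : ok x = true) : ok (tau x) = true := by
  obtain ⟨hlt, hd⟩ := ok_iff.mp hx
  refine ok_iff.mpr ⟨(tau_facts hlt).1, ?_⟩
  rw [(tau_facts hlt).2, Matrix.det_transpose,
    show flipI = (Equiv.swap (0 : Fin 5) 1 : Fin 5 → Fin 5) from by decide,
    Matrix.det_submatrix_equiv_self, hd]

theorem tau_cmul {x y : ℕ} (hx : x < 65536) (hy : y < 65536) :
    tau (cmul x y) = cmul (tau y) (tau x) := by
  refine mat_inj (tau_facts (cmul_lt hx hy)).1 (cmul_lt (tau_facts hy).1 (tau_facts hx).1) ?_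
  rw [(tau_facts (cmul_lt hx hy)).2, mat_mul (tau_facts hy).1 (tau_facts hx).1, (tau_facts hx).2,
    (tau_facts hy).2, mat_mul hx hy, ← Matrix.transpose_mul,
    show flipI = (Equiv.swap (0 : Fin 5) 1 : Fin 5 → Fin 5) from by decide,
    Matrix.submatrix_mul_equiv]

theorem cinv_cmul {x y : ℕ} (hx : ok x = true) (hy : ok y = true) :
    cinv (cmul x y) = cmul (cinv y) (cinv x) := by
  have hxy := ok_cmul hx hy
  have hi := ok_cmul (inv_facts hy).1 (inv_facts hx).1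
  refine mat_inj (ok_lt (inv_facts hxy).1) (ok_lt hi) ?_
  have e1 := mat_inv hxy
  have e2 : mat (cmul x y) * mat (cmul (cinv y) (cinv x)) = 1 := by
    rw [mat_mul (ok_lt hx) (ok_lt hy), mat_mul (ok_lt (inv_facts hy).1) (ok_lt (inv_facts hx).1),
      mul_assoc, ← mul_assoc (mat y), mat_inv hy, one_mul, mat_inv hx]
  calc mat (cinv (cmul x y))
      = (mat (cmul (cinv y) (cinv x)) * mat (cmul x y)) * mat (cinv (cmul x y)) := by
        rw [mul_eq_one_comm.mp e2, one_mul]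
    _ = mat (cmul (cinv y) (cinv x)) := by rw [mul_assoc, e1, mul_one]

theorem theta_cmul {x y : ℕ} (hx : ok x = true) (hy : ok y = true) :
    ok (theta x) = true ∧ theta (cmul x y) = cmul (theta x) (theta y) :=
  ⟨(inv_facts (ok_tau hx)).1, by
    unfold theta
    rw [tau_cmul (ok_lt hx) (ok_lt hy), cinv_cmul (ok_tau hy) (ok_tau hx)]⟩

end CfsgLib.HeUnique
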