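import Cfsg.Agent.Lib.HeUnique.KGroup

/-!
An involution exchanging the central involution with a fused involution of the first class.
-/

set_option autoImplicit false

namespace CfsgLib.HeUnique

variable {G : Type*} [Group G] {z : G} {ι : ℕ → G}

theorem z_sq (R : Rep z ι) : z * z = 1 := by
  rw [← R.z_eq, ← R.hmul _ _ ok_zc ok_zc, show cmul zc zc = one from by decide +kernel, R.hone]

/-- An involution exchanging the two involutions. -/
theorem exists_flip (R : Rep z ι) (hc : IsConj z (ι cA)) :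
    ∃ s : G, s * s = 1 ∧ s * z * s = ι cA ∧ s * ι cA * s = z := by
  obtain ⟨oA, -, -, -, -, -, -, -, oq, hqq, hqz, hqA, -⟩ := gensK_facts
  obtain ⟨g, hg⟩ := isConj_iff.mp hc
  obtain ⟨w2, a2, -, ht3, ht1⟩ := words_two
  obtain ⟨ot, htc⟩ := gensK_ok (show 0 < 3 by norm_num)
  rw [show gensK.getD 0 one = gensK.getD 0 0 from rfl] at ot htc
  have haz : ι cA * z = z * ι cA := R.comm oA
  have hy0 : g⁻¹ * z * g * z = z * (g⁻¹ * z * g) := by
    calc g⁻¹ * z * g * z = g⁻¹ * (z * (g * z * g⁻¹)) * g := by group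
      _ = g⁻¹ * ((g * z * g⁻¹) * z) * g := by rw [hg, haz]
      _ = z * (g⁻¹ * z * g) := by group
  obtain ⟨y, oy, hy⟩ := R.surj _ hy0
  obtain ⟨t, otp, htp⟩ := R.surj (g⁻¹ * ι (gensK.getD 0 0) * g) (by
    calc g⁻¹ * ι (gensK.getD 0 0) * g * z
        = g⁻¹ * (ι (gensK.getD 0 0) * (g * z * g⁻¹)) * g := by group
      _ = g⁻¹ * ((g * z * g⁻¹) * ι (gensK.getD 0 0)) * g := by
        rw [hg, (R.commute_iff ot oA).mp htc]
      _ = z * (g⁻¹ * ι (gensK.getD 0 0) * g) := by group)
  have hy2 : cmul y y = one := by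
    apply R.inj _ _ (ok_cmul oy oy) ok_one
    rw [R.hmul _ _ oy oy, hy, R.hone]
    calc g⁻¹ * z * g * (g⁻¹ * z * g) = g⁻¹ * (z * z) * g := by group
      _ = 1 := by rw [z_sq R]; group
  have hy1 : y ≠ one := by
    intro h
    rw [h, R.hone] at hy
    have hz1 : z = 1 := by rw [show z = g * (g⁻¹ * z * g) * g⁻¹ by group, ← hy]; group
    rw [← R.z_eq, ← R.hone] at hz1
    exact absurd (R.inj _ _ ok_zc ok_one hz1) (by decide)
  have hyz : y ≠ zc := by
    intro h
    rw [h, R.z_eq] at hy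
    have : g * z * g⁻¹ = z := by nth_rewrite 1 [hy]; group
    rw [hg, ← R.z_eq] at this
    exact absurd (R.inj _ _ oA ok_zc this) (by decide)
  have htp3 : cmul t (cmul t t) = one := by
    apply R.inj _ _ (ok_cmul otp (ok_cmul otp otp)) ok_one
    have e := congrArg ι ht3
    rw [R.hmul _ _ ot (ok_cmul ot ot), R.hmul _ _ ot ot, R.hone] at e
    rw [R.hmul _ _ otp (ok_cmul otp otp), R.hmul _ _ otp otp, R.hone, htp]
    calc _ = g⁻¹ * (ι (gensK.getD 0 0) * (ι (gensK.getD 0 0) * ι (gensK.getD 0 0))) * g := by group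
      _ = 1 := by rw [e]; group
  have htp1 : t ≠ one := by
    intro h
    rw [h, R.hone] at htp
    simp only [beq_iff_eq, Bool.not_eq_true', decide_eq_false_iff_not] at ht1
    refine ht1 (R.inj _ _ ot ok_one ?_)
    rw [R.hone, show ι (gensK.getD 0 0) = g * (g⁻¹ * ι (gensK.getD 0 0) * g) * g⁻¹ by group, ← htp]
    group
  have hyt : cmul y t = cmul t y := by
    rw [R.commute_iff oy otp, hy, htp]
    calc g⁻¹ * z * g * (g⁻¹ * ι (gensK.getD 0 0) * g) = g⁻¹ * (z * ι (gensK.getD 0 0)) * g := by group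
      _ = g⁻¹ * (ι (gensK.getD 0 0) * z) * g := by rw [R.comm ot]
      _ = _ := by group
  obtain ⟨q, oq', hq2, hqy⟩ := exists_move oy otp hy2 htp3 htp1 hyt hy1 hyz
  have hQA : ι qA * ι cA * (ι qA)⁻¹ = ι cA * z := by
    rw [← R.conj_eq oq oA, hqA, R.hmul _ _ oA ok_zc, R.z_eq]
  have hQ2 : ι qA * ι qA = 1 := by rw [← R.hmul _ _ oq oq, hqq, R.hone]
  have hQi : (ι qA)⁻¹ = ι qA := inv_eq_of_mul_eq_one_right hQ2
  have hq2' : ι q * ι q = 1 := by rw [← R.hmul _ _ oq' oq', hq2, R.hone]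
  have hqy' : ι q * (g⁻¹ * z * g) * ι q = g⁻¹ * z * g * z := by
    have e := congrArg ι hqy
    rw [R.conj_eq oq' oy, R.hmul _ _ oy ok_zc, R.z_eq, hy, inv_eq_of_mul_eq_one_right hq2'] at e
    exact e
  have hqz' : ι q * z * ι q = z := by
    rw [R.comm oq', mul_assoc, hq2', mul_one]
  set h := g * ι q * g⁻¹ with hh
  have hh2 : h * h = 1 := by
    calc h * h = g * (ι q * ι q) * g⁻¹ := by rw [hh]; group
      _ = 1 := by rw [hq2']; group
  have hhA : h * ι cA * h = ι cA := by
    calc h * ι cA * h = g * (ι q * z * ι q) * g⁻¹ := by rw [hh, ← hg]; group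
      _ = ι cA := by rw [hqz', hg]
  have hhz : h * z * h = z * ι cA := by
    calc h * z * h = g * (ι q * (g⁻¹ * z * g) * ι q) * g⁻¹ := by rw [hh]; group
      _ = z * (g * z * g⁻¹) := by rw [hqy']; group
      _ = z * ι cA := by rw [hg]
  have hA2 : ι cA * ι cA = 1 := by
    rw [← R.hmul _ _ oA oA, show cmul cA cA = one from by decide +kernel, R.hone]
  rw [hQi] at hQA
  have hQz : ι qA * z * ι qA = z := by rw [R.comm oq, mul_assoc, hQ2, mul_one]
  refine ⟨ι qA * h * ι qA, ?_, ?_, ?_⟩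
  · calc ι qA * h * ι qA * (ι qA * h * ι qA) = ι qA * (h * (ι qA * ι qA) * h) * ι qA := by group
      _ = 1 := by rw [hQ2, mul_one, hh2, mul_one, hQ2]
  · calc ι qA * h * ι qA * z * (ι qA * h * ι qA)
        = ι qA * (h * (ι qA * z * ι qA) * h) * ι qA := by group
      _ = (ι qA * z * ι qA) * (ι qA * ι cA * ι qA) := by
        rw [hQz, hhz, show ι qA * (z * ι cA) * ι qA = (ι qA * z) * ι cA * ι qA by group]
        calc ι qA * z * ι cA * ι qA = ι qA * z * 1 * ι cA * ι qA := by group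
          _ = ι qA * z * (ι qA * ι qA) * ι cA * ι qA := by rw [hQ2]
          _ = (ι qA * z * ι qA) * (ι qA * ι cA * ι qA) := by group
          _ = z * (ι qA * ι cA * ι qA) := by rw [hQz]
      _ = ι cA := by
        rw [hQz, hQA, haz, ← mul_assoc, z_sq R, one_mul]
  · calc ι qA * h * ι qA * ι cA * (ι qA * h * ι qA)
        = ι qA * (h * (ι qA * ι cA * ι qA) * h) * ι qA := by group
      _ = ι qA * (h * ι cA * (h * h) * z * h) * ι qA := by rw [hQA, hh2, mul_one]; group
      _ = ι qA * ((h * ι cA * h) * (h * z * h)) * ι qA := by group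
      _ = ι qA * (ι cA * (z * ι cA)) * ι qA := by rw [hhA, hhz]
      _ = z := by rw [← haz, ← mul_assoc (ι cA) (ι cA), hA2, one_mul, hQz]

/-- The map induced on the centralizer of the two involutions. -/
theorem flip_image (R : Rep z ι) {s : G} (hz : s * z * s⁻¹ = ι cA) (hA : s * ι cA * s⁻¹ = z)
    {x : ℕ} (hx : ok x = true) (hc : cmul x cA = cmul cA x) :
    ∃ m < 1536, s * ι x * s⁻¹ = ι (kEl m) := by
  have oA := gensK_facts.1
  have h1 : s * ι x * s⁻¹ * z = z * (s * ι x * s⁻¹) := by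
    calc s * ι x * s⁻¹ * z = s * (ι x * ι cA) * s⁻¹ := by rw [← hA]; group
      _ = s * (ι cA * ι x) * s⁻¹ := by rw [(R.commute_iff hx oA).mp hc]
      _ = _ := by rw [← hA]; group
  obtain ⟨w, ow, hw⟩ := R.surj _ h1
  have h2 : cmul w cA = cmul cA w := by
    rw [R.commute_iff ow oA, hw, ← hz]
    calc s * ι x * s⁻¹ * (s * z * s⁻¹) = s * (ι x * z) * s⁻¹ := by group
      _ = s * (z * ι x) * s⁻¹ := by rw [R.comm hx]
      _ = _ := by group
  obtain ⟨l1, l2⟩ := kIdx_spec ow h2
  exact ⟨_, l1, by rw [l2, hw]⟩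

theorem gensK_list : gensK = [gensK.getD 0 one, gensK.getD 1 one, gensK.getD 2 one] := by
  decide +kernel

/-- Some element acts as one of the four candidates. -/
theorem exists_act (R : Rep z ι) (hc : IsConj z (ι cA)) :
    ∃ i < 4, ∃ s : G, Act ι i s := by
  obtain ⟨oA, -, -, -, -, hzw, haw, -, -, -, -, -, -⟩ := gensK_facts
  obtain ⟨wz2, wa2, wr2, ht3, ht1⟩ := words_two
  obtain ⟨s0, hs2, hsz, hsA⟩ := exists_flip R hc
  have hsi : s0⁻¹ = s0 := inv_eq_of_mul_eq_one_right hs2
  have hz0 : s0 * z * s0⁻¹ = ι cA := by rw [hsi]; exact hsz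
  have hA0 : s0 * ι cA * s0⁻¹ = z := by rw [hsi]; exact hsA
  obtain ⟨ot, htc⟩ := gensK_ok (show 0 < 3 by norm_num)
  obtain ⟨m0, hm0, e0⟩ := flip_image R hz0 hA0 ot htc
  obtain ⟨ok0, c0⟩ := kEl_facts hm0
  have h3 := up_spec conj_three (by norm_num) hm0
  have e03 : cmul (kEl m0) (cmul (kEl m0) (kEl m0)) = one := by
    apply R.inj _ _ (ok_cmul ok0 (ok_cmul ok0 ok0)) ok_one
    have e := congrArg ι ht3
    rw [show gensK.getD 0 0 = gensK.getD 0 one from rfl, R.hmul _ _ ot (ok_cmul ot ot),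
      R.hmul _ _ ot ot, R.hone] at e
    rw [R.hmul _ _ ok0 (ok_cmul ok0 ok0), R.hmul _ _ ok0 ok0, R.hone, ← e0]
    calc _ = s0 * (ι (gensK.getD 0 one) * (ι (gensK.getD 0 one) * ι (gensK.getD 0 one))) * s0⁻¹ := by
          group
      _ = 1 := by rw [e]; group
  have e01 : kEl m0 ≠ one := by
    intro h
    simp only [beq_iff_eq, Bool.not_eq_true', decide_eq_false_iff_not] at ht1
    rw [h, R.hone] at e0
    refine ht1 (R.inj _ _ ot ok_one ?_)
    rw [R.hone, show gensK.getD 0 0 = gensK.getD 0 one from rfl,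
      show ι (gensK.getD 0 one) = s0⁻¹ * (s0 * ι (gensK.getD 0 one) * s0⁻¹) * s0 by group, e0]
    group
  simp only [e03, beq_self_eq_true, Bool.not_true, Bool.false_or, Bool.or_eq_true, beq_iff_eq,
    e01, false_or, Bool.and_eq_true, decide_eq_true_eq] at h3
  obtain ⟨hk, hkt⟩ := h3
  obtain ⟨okk, ck⟩ := kEl_facts hk
  set s1 := ι (kEl (conjThree.get m0)) * s0 with hs1
  have hz1 : s1 * z * s1⁻¹ = ι cA := by
    calc _ = ι (kEl (conjThree.get m0)) * (s0 * z * s0⁻¹) * (ι (kEl (conjThree.get m0)))⁻¹ := by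
          rw [hs1]; group
      _ = ι cA := by rw [hz0, (R.commute_iff okk oA).mp ck]; group
  have hA1 : s1 * ι cA * s1⁻¹ = z := by
    calc _ = ι (kEl (conjThree.get m0)) * (s0 * ι cA * s0⁻¹) * (ι (kEl (conjThree.get m0)))⁻¹ := by
          rw [hs1]; group
      _ = z := by rw [hA0, R.comm okk]; group
  have h10 : s1 * ι (gensK.getD 0 one) * s1⁻¹ = ι (gensK.getD 0 one) := by
    calc _ = ι (kEl (conjThree.get m0)) * (s0 * ι (gensK.getD 0 one) * s0⁻¹) *
          (ι (kEl (conjThree.get m0)))⁻¹ := by rw [hs1]; group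
      _ = ι (gensK.getD 0 one) := by
        rw [e0, ← R.conj_eq okk ok0, hkt]
        rfl
  obtain ⟨m1, hm1, e1⟩ := flip_image R hz1 hA1 (gensK_ok (show 1 < 3 by norm_num)).1
    (gensK_ok (show 1 < 3 by norm_num)).2
  obtain ⟨m2, hm2, e2⟩ := flip_image R hz1 hA1 (gensK_ok (show 2 < 3 by norm_num)).1
    (gensK_ok (show 2 < 3 by norm_num)).2
  set t' := [gensK.getD 0 0, kEl m1, kEl m2] with ht'
  have ht'ok : ∀ g ∈ t', ok g = true := by
    intro g hg
    simp only [ht', List.mem_cons, List.not_mem_nil, or_false] at hg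
    rcases hg with rfl | rfl | rfl
    exacts [ot, (kEl_facts hm1).1, (kEl_facts hm2).1]
  have himg : ∀ w, s1 * ι (evW w gensK) * s1⁻¹ = ι (evW w t') := by
    refine evW_map R (by rw [gensK_list]; rfl) gensK_mem_ok ht'ok fun i hi => ?_
    rw [gensK_facts.2.2.2.2.2.2.2.2.2.2.2.2] at hi
    interval_cases i
    exacts [h10, e1, e2]
  have hpair : evW zWord [gensK.getD 0 0, kEl m1] = cA ∧ evW aWord [gensK.getD 0 0, kEl m1] = zc ∧
      relsHold relsTwo [gensK.getD 0 0, kEl m1] = true := by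
    have h2 : ∀ {w : List ℕ}, w.all (fun i => decide (i < 2)) = true →
        evW w [gensK.getD 0 0, kEl m1] = evW w t' := by
      intro w hw
      refine evW_congr fun i hi => ?_
      have := mem_all hw hi
      simp only [decide_eq_true_eq] at this
      interval_cases i <;> rfl
    refine ⟨?_, ?_, ?_⟩
    · rw [h2 wz2]
      apply R.inj _ _ (evW_ok ht'ok _) oA
      rw [← himg, hzw, R.z_eq, hz1]
    · rw [h2 wa2]
      apply R.inj _ _ (evW_ok ht'ok _) ok_zc
      rw [← himg, haw, R.z_eq, hA1]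
    · simp only [relsHold, List.all_eq_true, beq_iff_eq]
      intro r hr
      have hr2 := mem_all wr2 hr
      simp only [Bool.and_eq_true] at hr2
      rw [h2 hr2.1, h2 hr2.2]
      apply R.inj _ _ (evW_ok ht'ok _) (evW_ok ht'ok _)
      rw [← himg, ← himg]
      have hb := mem_all rels_base.1 hr
      simp only [beq_iff_eq] at hb
      rw [hb]
  have hp := up_spec pair_scan (by norm_num) hm1
  simp only [hpair.1, hpair.2.1, hpair.2.2, beq_self_eq_true, Bool.and_self, cond_true,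
    List.contains_iff_mem] at hp
  have htri : relsHold relsThree [gensK.getD 0 0, kEl m1, kEl m2] = true := by
    simp only [relsHold, List.all_eq_true, beq_iff_eq]
    intro r hr
    rw [← ht']
    apply R.inj _ _ (evW_ok ht'ok _) (evW_ok ht'ok _)
    rw [← himg, ← himg]
    have hb := mem_all rels_base.2 hr
    simp only [beq_iff_eq] at hb
    rw [hb]
  have ht := up_spec (mem_all triple_scan hp) (by norm_num) hm2
  simp only [tripleScanOK, hm2, decide_true, htri, cond_true, List.any_eq_true, Bool.and_eq_true, beq_iff_eq] at ht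
  obtain ⟨e, he, he1, he2⟩ := ht
  have hchk := mem_all triples_ok he
  unfold tripleOK at hchk
  simp only [he1, he2] at hchk
  rw [← ht'] at hchk
  by_cases hi : e.2.2.1 < 4
  · simp only [hi, decide_true, cond_true, Bool.and_eq_true, decide_eq_true_eq, beq_iff_eq] at hchk
    obtain ⟨hk', hmap⟩ := hchk
    obtain ⟨okk', -⟩ := kEl_facts hk'
    refine ⟨_, hi, (ι (kEl e.2.2.2.1))⁻¹ * s1, act_of_gens R hi fun j hj => ?_⟩
    have hog : ok ((phiGens.getD e.2.2.1 []).getD j one) = true := by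
      have : ((List.range 4).all fun i => (List.range 3).all fun j =>
          ok ((phiGens.getD i []).getD j one)) = true := by decide +kernel
      exact range_all (range_all this hi) hj
    have hlen : (phiGens.getD e.2.2.1 []).length = 3 := by
      have := congrArg List.length hmap
      rw [List.length_map] at this
      exact this
    have hj' : s1 * ι (gensK.getD j one) * s1⁻¹ = ι (t'.getD j one) := by
      interval_cases j
      exacts [h10, e1, e2]
    have hval : t'.getD j one = conj (kEl e.2.2.2.1) ((phiGens.getD e.2.2.1 []).getD j one) := by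
      generalize phiGens.getD e.2.2.1 [] = L at hmap hlen ⊢
      rw [← hmap, List.getD_eq_getElem?_getD, List.getD_eq_getElem?_getD, List.getElem?_map,
        List.getElem?_eq_getElem (show j < L.length by omega)]
      rfl
    rw [hval, R.conj_eq okk' hog] at hj'
    calc _ = (ι (kEl e.2.2.2.1))⁻¹ * (s1 * ι (gensK.getD j one) * s1⁻¹) * ι (kEl e.2.2.2.1) := by
          group
      _ = _ := by rw [hj']; group
  · exfalso
    simp only [hi, decide_false, cond_false, Bool.and_eq_true, beq_iff_eq] at hchk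
    obtain ⟨⟨hw1, hw2⟩, hall⟩ := hchk
    have hsq1 : s1 * s1 * z = z * (s1 * s1) := by
      calc s1 * s1 * z = s1 * (s1 * z * s1⁻¹) * s1⁻¹ * (s1 * s1) := by group
        _ = (s1 * ι cA * s1⁻¹) * (s1 * s1) := by rw [hz1]
        _ = z * (s1 * s1) := by rw [hA1]
    obtain ⟨c, oc, hcc⟩ := R.surj _ hsq1
    have hcA : cmul c cA = cmul cA c := by
      rw [R.commute_iff oc oA, hcc]
      calc s1 * s1 * ι cA = s1 * (s1 * ι cA * s1⁻¹) * s1⁻¹ * (s1 * s1) := by group
        _ = (s1 * z * s1⁻¹) * (s1 * s1) := by rw [hA1]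
        _ = _ := by rw [hz1]
    obtain ⟨l1, l2⟩ := kIdx_spec oc hcA
    have hm := up_spec hall (by norm_num) l1
    rw [Bool.not_eq_true', beq_eq_false_iff_ne] at hm
    apply hm
    have hstep : ∀ {w : List ℕ} {x : ℕ}, ok x = true → x = evW w gensK → ∀ {x'}, ok x' = true →
        s1 * ι x' * s1⁻¹ = ι x → conj c x' = evW w t' := by
      intro w x ox hx x' ox' hxx
      apply R.inj _ _ (ok_conj oc ox') (evW_ok ht'ok _)
      rw [R.conj_eq oc ox', hcc, ← himg, ← hx, ← hxx]
      group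
    rw [l2]
    rw [gensK_list]
    simp only [List.map_cons, List.map_nil]
    have q0 : conj c (gensK.getD 0 one) = gensK.getD 0 0 := by
      apply R.inj _ _ (ok_conj oc ot) ot
      rw [R.conj_eq oc ot, hcc]
      calc _ = s1 * (s1 * ι (gensK.getD 0 one) * s1⁻¹) * s1⁻¹ := by group
        _ = _ := by rw [h10, h10]
    rw [q0, hstep (kEl_facts hm1).1 hw1.symm (gensK_ok (show 1 < 3 by norm_num)).1 e1,
      hstep (kEl_facts hm2).1 hw2.symm (gensK_ok (show 2 < 3 by norm_num)).1 e2]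
    rfl

end CfsgLib.HeUnique
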