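import Cfsg.Agent.Lib.HeUnique.Swap

/-!
Tracking conjugation along words; two of the candidates do not occur.
-/

set_option autoImplicit false

namespace CfsgLib.HeUnique

variable {G : Type*} [Group G] {z : G} {ι : ℕ → G}

/-- A table describes the action of an element. -/
def TabAct (ι : ℕ → G) (t : Tree (ℕ × ℕ)) (s : G) : Prop :=
  ∀ m < 1536, ok (t.get m).2 = true ∧ s * ι (t.get m).1 * s⁻¹ = ι (t.get m).2

theorem phiTab_ok {i : ℕ} (hi : i < 4) {m : ℕ} (hm : m < 1536) :
    ok ((phiTab i).get m).2 = true := by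
  obtain ⟨-, hn'⟩ := tab_step hi hm
  unfold tabStep at hn'
  rcases Nat.eq_zero_or_pos m with rfl | hn0
  · simp only [beq_self_eq_true, cond_true, Bool.and_eq_true, beq_iff_eq] at hn'
    rw [hn'.2]; exact ok_one
  · rw [beq_eq_false_iff_ne.mpr (by omega : m ≠ 0)] at hn'
    simp only [cond_false, Bool.and_eq_true] at hn'
    exact hn'.1.1.2

theorem Act.tabAct {i : ℕ} {s : G} (h : Act ι i s) (hi : i < 4) : TabAct ι (phiTab i) s := by
  intro m hm
  refine ⟨phiTab_ok hi hm, ?_⟩
  rw [(tab_step hi hm).1]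
  exact h m hm

theorem trackRev_spec (R : Rep z ι) {t0 t1 : Tree (ℕ × ℕ)} {σ : ℕ → G} (h0 : TabAct ι t0 (σ 0))
    (h1 : TabAct ι t1 (σ 1)) : ∀ (ts ws : List ℕ) {x y : ℕ}, ok x = true →
    trackRev t0 t1 ts ws x = some y →
    ok y = true ∧ wval ι σ ts.reverse * ι x * (wval ι σ ts.reverse)⁻¹ = ι y
  | [], [], x, y, hx, h => by
    simp only [trackRev, Option.some.injEq] at h
    subst h
    exact ⟨hx, by simp [wval]⟩
  | [], _ :: _, x, y, _, h => by simp [trackRev] at h
  | t :: ts, ws, x, y, hx, h => by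
    have hval : wval ι σ (t :: ts).reverse = wval ι σ ts.reverse * val ι σ t := by
      simp [wval]
    rw [trackRev.eq_def] at h
    simp only at h
    by_cases ht : t < 65536
    · rw [decide_eq_true ht, cond_true] at h
      cases hot : ok t with
      | false => simp [hot] at h
      | true =>
        rw [hot, cond_true] at h
        obtain ⟨oy, e⟩ := trackRev_spec R h0 h1 ts ws (ok_conj hot hx) h
        refine ⟨oy, ?_⟩
        rw [← e, hval, R.conj_eq hot hx, show val ι σ t = ι t by simp [val, ht]]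
        group
    · rw [decide_eq_false ht, cond_false] at h
      cases ws with
      | nil => simp at h
      | cons w ws =>
        simp only at h
        have hσ : val ι σ t = σ (t - 65536) := by simp [val, ht]
        generalize hk : t - 65536 = k at h hσ
        cases hb : (decide (k < 2) && decide (w < 1536) &&
            (bif k == 0 then t0.get w else t1.get w).1 == x) with
        | false => rw [hb] at h; simp at h
        | true =>
          rw [hb, cond_true] at h
          simp only [Bool.and_eq_true, decide_eq_true_eq, beq_iff_eq] at hb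
          obtain ⟨⟨hk2, hw⟩, hx'⟩ := hb
          have hstep : ok (bif k == 0 then t0.get w else t1.get w).2 = true ∧
              σ k * ι x * (σ k)⁻¹ = ι (bif k == 0 then t0.get w else t1.get w).2 := by
            rw [← hx']
            interval_cases k
            exacts [h0 w hw, h1 w hw]
          obtain ⟨oy, e⟩ := trackRev_spec R h0 h1 ts ws hstep.1 h
          refine ⟨oy, ?_⟩
          rw [← e, hval, hσ, ← hstep.2]
          group

theorem track_spec (R : Rep z ι) {t0 t1 : Tree (ℕ × ℕ)} {σ : ℕ → G} (h0 : TabAct ι t0 (σ 0))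
    (h1 : TabAct ι t1 (σ 1)) {w wit : List ℕ} {x y : ℕ} (hx : ok x = true)
    (h : track t0 t1 w wit x = some y) :
    wval ι σ w * ι x * (wval ι σ w)⁻¹ = ι y := by
  have := (trackRev_spec R h0 h1 w.reverse wit hx h).2
  rwa [List.reverse_reverse] at this

/-- A word fixing the center gives an element of the model with the tracked action. -/
theorem loop_element (R : Rep z ι) {t0 t1 : Tree (ℕ × ℕ)} {σ : ℕ → G} (h0 : TabAct ι t0 (σ 0))
    (h1 : TabAct ι t1 (σ 1)) {w wit : List ℕ} {acts : List (ℕ × ℕ × List ℕ)}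
    (hz : track t0 t1 w wit zc = some zc)
    (hacts : (acts.all fun e => ok e.1 && track t0 t1 w e.2.2 e.1 == some e.2.1) = true) :
    ∃ c, ok c = true ∧ ι c = wval ι σ w ∧ ∀ e ∈ acts, cmul c e.1 = cmul e.2.1 c := by
  have e := track_spec R h0 h1 ok_zc hz
  rw [R.z_eq] at e
  obtain ⟨c, oc, hc⟩ := R.surj (wval ι σ w) (by
    calc wval ι σ w * z = wval ι σ w * z * (wval ι σ w)⁻¹ * wval ι σ w := by group
      _ = z * wval ι σ w := by rw [e])
  refine ⟨c, oc, hc, fun p hp => ?_⟩
  have h := mem_all hacts hp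
  simp only [Bool.and_eq_true, beq_iff_eq] at h
  obtain ⟨oy, ey⟩ := trackRev_spec R h0 h1 w.reverse p.2.2 h.1 h.2
  rw [List.reverse_reverse] at ey
  apply R.inj _ _ (ok_cmul oc h.1) (ok_cmul oy oc)
  rw [R.hmul _ _ oc h.1, R.hmul _ _ oy oc, hc, ← ey]
  group

theorem Act.fused {i : ℕ} {s : G} (h : Act ι i s) {m : ℕ} (hm : m < 1536)
    (hc : IsConj z (ι (kEl m))) : IsConj z (ι ((phiTab i).get m).2) :=
  hc.trans (isConj_iff.mpr ⟨s, h m hm⟩)

theorem chain_false (R : Rep z ι) {i : ℕ} (hi : i < 4) {s : G} (h : Act ι i s) :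
    ∀ (ch : List (ℕ × ℕ)) (c : ℕ) {y : ℕ}, ok y = true → IsConj z (ι y) →
      chainOK i ch c y = true → False
  | [], c, y, _, hy, hc => by
    simp only [chainOK, Bool.and_eq_true, beq_iff_eq] at hc
    have := R.isConj_conj hc.1.1 hc.1.2 hy
    rw [hc.2] at this
    exact not_fused_cAB R this
  | p :: ps, c, y, oy, hy, hc => by
    simp only [chainOK, Bool.and_eq_true, beq_iff_eq, decide_eq_true_eq] at hc
    obtain ⟨⟨⟨o1, hm⟩, he⟩, hrest⟩ := hc
    have := R.isConj_conj o1 oy hy
    rw [he] at this
    exact chain_false R hi h ps c (phiTab_ok hi hm) (h.fused hm this) hrest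

theorem act_ne_one (R : Rep z ι) (hA : IsConj z (ι cA)) {s : G} (h : Act ι 1 s) : False := by
  obtain ⟨ch, c, hc⟩ := chain_one
  exact chain_false R (by norm_num) h ch c gensK_facts.1 hA hc

theorem act_ne_three (R : Rep z ι) {s : G} (h : Act ι 3 s) : False := by
  obtain ⟨hz, hacts, -⟩ := three_track
  have ht : TabAct ι tabPhi3 s := h.tabAct (by norm_num)
  obtain ⟨c, oc, -, hc⟩ := loop_element (σ := fun _ => s) R ht ht hz hacts
  have hlt := fA_lt (ok_lt oc)
  have hn := range_all three_none hlt
  have hA : trackThree.all (fun e => mm (fA c) (fA e.1) == mm (fA e.2.1) (fA c)) = true := by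
    simp only [List.all_eq_true, beq_iff_eq]
    intro e he
    have h1 := mem_all hacts he
    simp only [Bool.and_eq_true, beq_iff_eq] at h1
    have o2 := (trackRev_spec (σ := fun _ => s) R ht ht _ _ h1.1 h1.2).1
    rw [← fA_cmul (ok_lt oc) (ok_lt h1.1), ← fA_cmul (ok_lt o2) (ok_lt oc), hc e he]
  simp only [okA_of oc, hA, Bool.and_self, cond_true] at hn
  have := range_all hn (show c % 128 < 128 from Nat.mod_lt _ (by norm_num))
  rw [show fA c * 128 + c % 128 = c by simp only [fA]; omega] at this
  simp only [Bool.not_eq_true'] at this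
  rw [← Bool.not_eq_true] at this
  exact this (by simpa only [List.all_eq_true, beq_iff_eq] using hc)

end CfsgLib.HeUnique
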